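import Cfsg.Agent.Lib.IcosianGroup.GTwoIndex
import Cfsg.Agent.Lib.CosetEnum.Orbit

/-!
# `G₂(4)` on 416 points: masks of point sets

* `smul_eq_one` : the action is faithful
* `setOf`, `img`, `setOf_img` : point sets as packed vectors, moved by words through the networks
* `count`, `card_setOf` : their sizes
* `BTree`, `MOrb` : orbits of point sets from certificates
-/

set_option autoImplicit false
set_option maxRecDepth 100000

namespace Cfsg.Agent.SuzRankThree

open MulAction Cfsg.Agent.StabCert Cfsg.Agent.CosetEnum Cfsg.Agent.JTwoInGTwo Cfsg.Agent.SuzGTwo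
open scoped Pointwise

/-- The action on the points. -/
noncomputable abbrev rho : GSix →* Equiv.Perm Pt := tableHom

theorem mkPt_injOn : Set.InjOn mkPt {i | i < 416} := by
  intro i hi j hj e
  have := congrArg Fin.val e
  simpa [mkPt, Nat.mod_eq_of_lt (show i < 416 from hi), Nat.mod_eq_of_lt (show j < 416 from hj)] using this

theorem val_lt (p : Pt) : p.val < 416 := p.isLt

theorem letterTab_ok : ((List.range 6).all fun a => (List.range 416).all fun i =>
    Nat.blt (look 9 (letterTab.getD a 0) i) 416) = true := by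
  decide +kernel

theorem sound : TablesSound rho letterEl mkPt 9 416 6 letterTab := by
  intro k hk i hi
  have h := List.all_eq_true.1 (List.all_eq_true.1 letterTab_ok k (List.mem_range.2 hk)) i (List.mem_range.2 hi)
  rw [Nat.blt_eq] at h
  refine ⟨h, ?_⟩
  show letterEl k • mkPt i = _
  refine Fin.ext ?_
  rw [letter_smul hk]
  simp only [mkPt, Nat.mod_eq_of_lt hi]
  exact (Nat.mod_eq_of_lt h).symm

theorem ev_smul {w : List ℕ} (hw : ∀ a ∈ w, a < 6) {i : ℕ} (hi : i < 416) :
    StabCert.ev 9 letterTab w i < 416 ∧ wordEl letterEl w • mkPt i = mkPt (StabCert.ev 9 letterTab w i) :=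
  ev_spec sound w hw i hi

theorem letter_sq {a : ℕ} (ha : a < 6) : letterEl a * letterEl a = 1 := by
  have h : sixSetup.el (suz_lvl0.invl a) * sixSetup.el a = 1 :=
    Setup.el_inv table.gens table.letters a (show a < suz_lvl0.k from ha)
  have e : suz_lvl0.invl a = a := by interval_cases a <;> rfl
  rw [e] at h
  exact h

theorem word_inv : ∀ {w : List ℕ}, (∀ a ∈ w, a < 6) →
    wordEl letterEl w.reverse = (wordEl letterEl w)⁻¹
  | [], _ => by simp [wordEl]
  | a :: w, hw => by
    rw [List.reverse_cons, wordEl_append, word_inv fun b hb => hw b (List.mem_cons_of_mem a hb)]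
    have h := letter_sq (hw a List.mem_cons_self)
    simp only [wordEl, List.map_cons, List.prod_cons, List.map_nil, List.prod_nil, mul_one, mul_inv_rev]
    rw [inv_eq_of_mul_eq_one_right h]

theorem isSimpleGroup_base : IsSimpleGroup base := by
  obtain ⟨e⟩ := nonempty_base_equiv
  have := JTwoPerm.isSimpleGroup_jTwo
  exact (e.trans IcoGroup.equivJTwo).isSimpleGroup

/-- The action is faithful. -/
theorem smul_eq_one {g : GSix} (hg : ∀ p : Pt, g • p = p) : g = 1 := by
  have hk : ∀ x ∈ rho.ker, ∀ p : Pt, x • p = p := fun x hx p => by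
    show rho x p = p
    rw [MonoidHom.mem_ker.1 hx, Equiv.Perm.one_apply]
  have hgk : g ∈ rho.ker := MonoidHom.mem_ker.2 (Equiv.ext hg)
  have hle : rho.ker ≤ base := fun x hx => stab_eq ▸ mem_stabilizer_iff.2 (hk x hx _)
  have := isSimpleGroup_base
  rcases IsSimpleGroup.eq_bot_or_eq_top_of_normal (rho.ker.subgroupOf base) inferInstance with h | h
  · have : (⟨g, hle hgk⟩ : base) ∈ (⊥ : Subgroup base) := h ▸ hgk
    exact congrArg Subtype.val (Subgroup.mem_bot.1 this)
  · exfalso
    have hb : base ≤ rho.ker := Subgroup.subgroupOf_eq_top.1 h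
    obtain ⟨x, hx⟩ := exists_smul_eq GSix (mkPt 0) (mkPt 1)
    have hmem : letterEl 1 ∈ rho.ker := hb (by rw [base_eq]; exact Subgroup.subset_closure ⟨1, by simp, rfl⟩)
    have h1 : ∀ p : Pt, look 9 (letterTab.getD 1 0) p.val = p.val := fun p => by
      rw [← letter_smul (by norm_num), hk _ hmem]
    have hex : ((List.range 416).all fun i => Nat.beq (look 9 (letterTab.getD 1 0) i) i) = false := by
      decide +kernel
    rw [List.all_eq_false] at hex
    obtain ⟨i, hi, hne⟩ := hex
    apply hne
    rw [Nat.beq_eq]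
    exact h1 ⟨i, List.mem_range.1 hi⟩

/-! ### Point sets -/

/-- A mask bit. -/
noncomputable def bitP (m i : ℕ) : Bool := Nat.beq (lane 10 m i) 1

/-- A mask has only zeroes and ones in the first 416 lanes. -/
noncomputable def valid (m : ℕ) : Bool := Nat.beq (Nat.land m (below 10 416 suz_lvl0.one)) m

/-- The point set of a mask. -/
noncomputable def setOf (m : ℕ) : Finset Pt := Finset.univ.filter fun p => bitP m p.val = true

theorem mem_setOf {m : ℕ} {p : Pt} : p ∈ setOf m ↔ lane 10 m p.val = 1 := by
  simp [setOf, bitP]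

theorem pack_setOf {m : ℕ} (h : valid m = true) :
    m = pack 10 512 (fun i => if i < 416 ∧ lane 10 m i = 1 then 1 else 0) := by
  rw [valid, Nat.beq_eq] at h
  have hone : suz_lvl0.one = pack 10 512 (fun _ => 1) := rep_eq 10 9
  have hb : below 10 416 suz_lvl0.one = pack 10 512 (fun i => if i < 416 then 1 else 0) := by
    rw [hone]; exact below_eq (by norm_num) 416
  change m &&& below 10 416 suz_lvl0.one = m at h
  rw [hb] at h
  have hlt : m < 2 ^ (512 * 10) := by
    rw [← h]; exact Nat.and_lt_two_pow _ (pack_lt fun i _ => by split <;> norm_num)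
  have hp := pack_lane (B := 10) (N := 512) (by norm_num) hlt
  refine hp.symm.trans (pack_congr fun i hi => ?_)
  have h2 : pack 10 512 (fun i => lane 10 m i &&& if i < 416 then 1 else 0) = pack 10 512 (lane 10 m) := by
    rw [← pack_land (by norm_num) (fun i _ => lane_lt 10 m i) (fun i _ => by split <;> norm_num), hp, h]
  have h3 := pack_inj (by norm_num) (fun i _ => lt_of_le_of_lt Nat.and_le_left (lane_lt 10 m i))
    (fun i _ => lane_lt 10 m i) h2 i hi
  by_cases h4 : i < 416
  · rw [if_pos h4, Nat.and_one_is_mod] at h3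
    rcases (show lane 10 m i = 0 ∨ lane 10 m i = 1 by omega) with h5 | h5 <;> simp [h4, h5]
  · rw [if_neg h4, Nat.and_zero] at h3
    simp [h4, h3.symm]

theorem setOf_injective {m m' : ℕ} (h : valid m = true) (h' : valid m' = true) (e : setOf m = setOf m') :
    m = m' := by
  rw [pack_setOf h, pack_setOf h']
  refine pack_congr fun i _ => ?_
  by_cases hi : i < 416
  · have := Finset.ext_iff.1 e ⟨i, hi⟩
    simp only [mem_setOf] at this
    simp [hi, this]
  · simp [hi]

/-- The mask moved by a word, the last letter first. -/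
noncomputable def img : List ℕ → ℕ → ℕ
  | [], m => m
  | a :: w, m => force (img w m) fun v => applyNet 10 (suz_lvl0.net a) v

theorem act_eq {a i : ℕ} (ha : a < 6) (hi : i < 416) :
    suz_lvl0.act a i = look 9 (letterTab.getD a 0) i := by
  have h := List.all_eq_true.1 (List.all_eq_true.1 act_ok a (List.mem_range.2 ha)) i (List.mem_range.2 hi)
  rwa [Nat.beq_eq] at h

theorem img_letter {a : ℕ} (ha : a < 6) {m : ℕ} (h : valid m = true) :
    valid (applyNet 10 (suz_lvl0.net a) m) = true ∧
      setOf (applyNet 10 (suz_lvl0.net a) m) = letterEl a • setOf m := by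
  have hp := table.perm
  set f : ℕ → ℕ := fun i => if i < 416 ∧ lane 10 m i = 1 then 1 else 0 with hf
  have hfb : ∀ i < 512, f i < 2 ^ 10 := fun i _ => by simp only [hf]; split <;> norm_num
  have hinv : suz_lvl0.invl a = a := by interval_cases a <;> rfl
  have hsq : ∀ i < 512, suz_lvl0.act a (suz_lvl0.act a i) = i := fun i hi => by
    have := hp.inv_act a ha i hi
    rwa [hinv] at this
  have e : applyNet 10 (suz_lvl0.net a) m = pack 10 512 (fun i => f (suz_lvl0.act a i)) := by
    conv_lhs => rw [pack_setOf h]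
    exact hp.net_eq a ha f hfb
  have hfa : ∀ i < 512, f (suz_lvl0.act a i) < 2 ^ 10 := fun i hi => hfb _ (hp.act_lt a ha i hi)
  have hlane : ∀ i < 512, lane 10 (applyNet 10 (suz_lvl0.net a) m) i = f (suz_lvl0.act a i) := fun i hi => by
    rw [e]; exact lane_pack (by norm_num) hfa hi
  have hhi : ∀ i < 512, 416 ≤ i → f (suz_lvl0.act a i) = 0 := fun i hi h4 => by
    have : ¬ suz_lvl0.act a i < 416 := fun hlt => by
      have h5 := hp.act_lt_n a ha _ hlt
      rw [hsq i hi] at h5
      change i < 416 at h5
      omega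
    simp [hf, this]
  refine ⟨?_, ?_⟩
  · rw [valid, Nat.beq_eq]
    have hone : suz_lvl0.one = pack 10 512 (fun _ => 1) := rep_eq 10 9
    rw [e, hone, below_eq (by norm_num) 416]
    show ((pack 10 512 fun i => f (suz_lvl0.act a i)) &&& pack 10 512 fun i => if i < 416 then 1 else 0 : ℕ) = _
    rw [pack_land (by norm_num) hfa (fun i _ => by split <;> norm_num)]
    refine pack_congr fun i hi => ?_
    by_cases h4 : i < 416
    · simp only [h4, if_true, hf]; split <;> simp
    · simp [h4, hhi i hi (by omega)]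
  · ext p
    rw [mem_setOf, hlane _ (by have := val_lt p; omega), ← Finset.inv_smul_mem_iff,
      inv_eq_of_mul_eq_one_right (letter_sq ha), mem_setOf, letter_smul ha, ← act_eq ha p.isLt]
    have := hp.act_lt_n a ha _ p.isLt
    change suz_lvl0.act a p.val < 416 at this
    simp [hf, this]

theorem img_spec : ∀ {w : List ℕ}, (∀ a ∈ w, a < 6) → ∀ {m : ℕ}, valid m = true →
    valid (img w m) = true ∧ setOf (img w m) = wordEl letterEl w • setOf m
  | [], _, m, h => ⟨h, by simp [img, wordEl]⟩
  | a :: w, hw, m, h => by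
    obtain ⟨h1, h2⟩ := img_spec (fun b hb => hw b (List.mem_cons_of_mem a hb)) h
    obtain ⟨h3, h4⟩ := img_letter (hw a List.mem_cons_self) h1
    rw [show img (a :: w) m = applyNet 10 (suz_lvl0.net a) (img w m) from force_eq _ _]
    refine ⟨h3, ?_⟩
    rw [h4, h2, show wordEl letterEl (a :: w) = letterEl a * wordEl letterEl w from by simp [wordEl], mul_smul]

/-- The number of points of a mask. -/
noncomputable def count (m : ℕ) : ℕ := laneSum 10 9 m

theorem card_setOf {m : ℕ} (h : valid m = true) : (setOf m).card = count m := by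
  set f : ℕ → ℕ := fun i => if i < 416 ∧ lane 10 m i = 1 then 1 else 0 with hf
  have hs : (∑ i ∈ Finset.range 512, f i) = (setOf m).card := by
    simp only [hf]
    rw [← Finset.card_filter]
    refine (Finset.card_bij (fun p _ => p.val) (fun p hp => ?_) (fun p _ q _ e => Fin.ext e) fun i hi => ?_).symm
    · simp only [Finset.mem_filter, Finset.mem_range]
      exact ⟨by have := val_lt p; omega, val_lt p, mem_setOf.1 hp⟩
    · simp only [Finset.mem_filter, Finset.mem_range] at hi
      exact ⟨⟨i, hi.2.1⟩, mem_setOf.2 hi.2.2, rfl⟩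
  have hlt : (∑ i ∈ Finset.range (2 ^ 9), f i) < 2 ^ 10 := by
    have := (setOf m).card_le_univ
    rw [Fintype.card_fin, table_n] at this
    norm_num
    omega
  rw [← hs]
  show _ = laneSum 10 9 m
  conv_rhs => rw [pack_setOf h]
  exact (laneSum_eq 9 f hlt).symm

theorem setOf_land (m m' : ℕ) (h : valid m = true) (h' : valid m' = true) :
    valid (Nat.land m m') = true ∧ setOf (Nat.land m m') = setOf m ∩ setOf m' := by
  refine ⟨?_, ?_⟩
  · rw [valid, Nat.beq_eq] at h' ⊢
    show (m &&& m') &&& below 10 416 suz_lvl0.one = m &&& m'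
    change m' &&& below 10 416 suz_lvl0.one = m' at h'
    rw [Nat.and_assoc, h']
  · ext p
    rw [Finset.mem_inter, mem_setOf, mem_setOf, mem_setOf]
    have hp : p.val < 512 := by have := val_lt p; omega
    have e : lane 10 (m &&& m') p.val = lane 10 m p.val &&& lane 10 m' p.val := by
      rw [lane_def, lane_def, lane_def]
      refine Nat.eq_of_testBit_eq fun k => ?_
      simp only [Nat.testBit_land, Nat.testBit_shiftRight]
      cases Nat.testBit m (p.val * 10 + k) <;> cases Nat.testBit m' (p.val * 10 + k) <;> simp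
    show lane 10 (m &&& m') p.val = 1 ↔ _
    rw [e]
    have h1 : lane 10 m p.val = 0 ∨ lane 10 m p.val = 1 := by
      rw [pack_setOf h, lane_pack (by norm_num) (fun i _ => by split <;> norm_num) hp]; split <;> simp
    have h2 : lane 10 m' p.val = 0 ∨ lane 10 m' p.val = 1 := by
      rw [pack_setOf h', lane_pack (by norm_num) (fun i _ => by split <;> norm_num) hp]; split <;> simp
    rcases h1 with h1 | h1 <;> rcases h2 with h2 | h2 <;> simp [h1, h2]

/-- A bounded check made in chunks. -/
theorem of_chunks {f : ℕ → Bool} {c K n : ℕ} (hn : n ≤ K * c)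
    (h : ∀ k < K, ((List.range' (k * c) c).all fun x => Nat.ble n x || f x) = true) :
    ∀ x < n, f x = true := by
  intro x hx
  have hc : 0 < c := Nat.pos_of_ne_zero fun e => by rw [e, Nat.mul_zero] at hn; omega
  have hk : x / c < K := (Nat.div_lt_iff_lt_mul hc).2 (lt_of_lt_of_le hx hn)
  have h1 := List.all_eq_true.1 (h _ hk) x (List.mem_range'_1.2 ⟨Nat.div_mul_le_self x c,
    Nat.lt_div_mul_add hc⟩)
  simpa [Nat.ble_eq, Nat.not_le.2 hx] using h1

/-! ### Orbits of point sets -/

/-- Binary trees with values at the leaves, split by parity. -/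
inductive BTree
  | leaf (v : ℕ)
  | node (l r : BTree)

/-- Lookup. -/
noncomputable def BTree.get (t : BTree) : ℕ → ℕ :=
  BTree.rec (motive := fun _ => ℕ → ℕ) (fun v _ => v)
    (fun _ _ hl hr i => Bool.rec (hr (Nat.div i 2)) (hl (Nat.div i 2)) (Nat.beq (Nat.mod i 2) 0)) t

/-- An orbit of point sets: masks, parents, images under the six letters, increasing order. -/
structure MOrb where
  n : ℕ
  masks : BTree
  par : BTree
  nxt : List BTree
  srt : BTree
  pos : BTree

/-- The mask with number `i`. -/
noncomputable def MOrb.mask (O : MOrb) (i : ℕ) : ℕ := O.masks.get i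

/-- The image of number `i` under a letter. -/
noncomputable def MOrb.next (O : MOrb) (a i : ℕ) : ℕ := (O.nxt.getD a (.leaf 0)).get i

/-- The image of number `i` under a word. -/
noncomputable def MOrb.idx (O : MOrb) : List ℕ → ℕ → ℕ
  | [], i => i
  | a :: w, i => force (O.idx w i) fun j => O.next a j

/-- Each number is reached. -/
noncomputable def MOrb.reachStep (O : MOrb) (i : ℕ) : Bool :=
  force (O.par.get i) fun p => Nat.blt (Nat.mod p 8) 6 &&
    (Nat.blt (Nat.div p 8) i && Nat.beq (img [Nat.mod p 8] (O.mask (Nat.div p 8))) (O.mask i))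

/-- The images stay inside. -/
noncomputable def MOrb.closeStep (O : MOrb) (i : ℕ) : Bool :=
  (List.range 6).all fun a =>
    Nat.blt (O.next a i) O.n && Nat.beq (img [a] (O.mask i)) (O.mask (O.next a i))

/-- Position in the increasing order. -/
noncomputable def MOrb.srtStep (O : MOrb) (i : ℕ) : Bool :=
  Nat.blt (O.pos.get i) O.n && (Nat.beq (O.srt.get (O.pos.get i)) i &&
    (Nat.ble O.n (Nat.succ i) || Nat.blt (O.mask (O.srt.get i)) (O.mask (O.srt.get (Nat.succ i)))))

variable {O : MOrb}

/-- The facts from reaching and distinctness. -/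
theorem MOrb.reach_spec (h0 : valid (O.mask 0) = true) (hr : ∀ i, 0 < i → i < O.n → O.reachStep i = true) :
    ∀ i < O.n, valid (O.mask i) = true ∧ setOf (O.mask i) ∈ orbit GSix (setOf (O.mask 0)) := by
  intro i
  induction i using Nat.strong_induction_on with
  | _ i ih =>
    intro hi
    rcases Nat.eq_zero_or_pos i with rfl | hpos
    · exact ⟨h0, mem_orbit_self _⟩
    · have h := hr i hpos hi
      rw [MOrb.reachStep, force_eq] at h
      simp only [Bool.and_eq_true, Nat.blt_eq, Nat.beq_eq] at h
      obtain ⟨ha, hp, he⟩ := h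
      obtain ⟨hv, g, hg⟩ := ih _ hp (hp.trans hi)
      obtain ⟨h1, h2⟩ := img_spec (w := [O.par.get i % 8]) (fun b hb => by rw [List.mem_singleton.1 hb]; exact ha) hv
      change img [O.par.get i % 8] (O.mask ((O.par.get i).div 8)) = O.mask i at he
      rw [he] at h1 h2
      refine ⟨h1, wordEl letterEl [O.par.get i % 8] * g, ?_⟩
      show (_ * g) • setOf (O.mask 0) = _
      rw [mul_smul, h2]
      exact congrArg _ hg

theorem MOrb.mask_injOn (hs : ∀ i < O.n, O.srtStep i = true) : Set.InjOn O.mask {i | i < O.n} := by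
  have key : ∀ i < O.n, O.pos.get i < O.n ∧ O.srt.get (O.pos.get i) = i ∧
      (O.n ≤ i + 1 ∨ O.mask (O.srt.get i) < O.mask (O.srt.get (i + 1))) := by
    intro i hi
    have h := hs i hi
    simp only [MOrb.srtStep, Bool.and_eq_true, Bool.or_eq_true, Nat.blt_eq, Nat.beq_eq, Nat.ble_eq] at h
    exact h
  have hmono : ∀ d i, i + (d + 1) < O.n → O.mask (O.srt.get i) < O.mask (O.srt.get (i + (d + 1))) := by
    intro d
    induction d with
    | zero => exact fun i hi => ((key i (by omega)).2.2.resolve_left (by omega))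
    | succ d ih =>
      intro i hi
      exact (ih i (by omega)).trans ((key (i + (d + 1)) (by omega)).2.2.resolve_left (by omega))
  intro i hi j hj e
  obtain ⟨p1, q1, -⟩ := key i hi
  obtain ⟨p2, q2, -⟩ := key j hj
  rcases lt_trichotomy (O.pos.get i) (O.pos.get j) with h | h | h
  · have := hmono (O.pos.get j - O.pos.get i - 1) (O.pos.get i) (by omega)
    rw [show O.pos.get i + (O.pos.get j - O.pos.get i - 1 + 1) = O.pos.get j by omega, q1, q2] at this
    exact absurd e this.ne
  · rw [← q1, ← q2, h]
  · have := hmono (O.pos.get i - O.pos.get j - 1) (O.pos.get j) (by omega)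
    rw [show O.pos.get j + (O.pos.get i - O.pos.get j - 1 + 1) = O.pos.get i by omega, q1, q2] at this
    exact absurd e this.ne'

theorem MOrb.setOf_injOn (h0 : valid (O.mask 0) = true)
    (hr : ∀ i, 0 < i → i < O.n → O.reachStep i = true) (hs : ∀ i < O.n, O.srtStep i = true) {i j : ℕ}
    (hi : i < O.n) (hj : j < O.n) (e : setOf (O.mask i) = setOf (O.mask j)) : i = j :=
  O.mask_injOn hs hi hj (setOf_injective (O.reach_spec h0 hr i hi).1 (O.reach_spec h0 hr j hj).1 e)

theorem MOrb.le_card_orbit (h0 : valid (O.mask 0) = true)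
    (hr : ∀ i, 0 < i → i < O.n → O.reachStep i = true) (hs : ∀ i < O.n, O.srtStep i = true) :
    O.n ≤ Nat.card (orbit GSix (setOf (O.mask 0))) := by
  refine le_trans (le_of_eq (Nat.card_fin O.n).symm) (Nat.card_le_card_of_injective
    (fun i : Fin O.n => (⟨_, (O.reach_spec h0 hr i i.isLt).2⟩ : orbit GSix (setOf (O.mask 0)))) ?_)
  exact fun i j e => Fin.ext (O.setOf_injOn h0 hr hs i.isLt j.isLt (congrArg Subtype.val e))

theorem MOrb.next_spec (h0 : valid (O.mask 0) = true)
    (hr : ∀ i, 0 < i → i < O.n → O.reachStep i = true) (hc : ∀ i < O.n, O.closeStep i = true) :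
    ∀ {w : List ℕ}, (∀ a ∈ w, a < 6) → ∀ {i : ℕ}, i < O.n →
      O.idx w i < O.n ∧ wordEl letterEl w • setOf (O.mask i) = setOf (O.mask (O.idx w i))
  | [], _, i, hi => ⟨hi, by simp [MOrb.idx, wordEl]⟩
  | a :: w, hw, i, hi => by
    obtain ⟨h1, h2⟩ := MOrb.next_spec h0 hr hc (fun b hb => hw b (List.mem_cons_of_mem a hb)) hi
    have ha := hw a List.mem_cons_self
    have h := hc _ h1
    simp only [MOrb.closeStep, List.all_eq_true, List.mem_range, Bool.and_eq_true, Nat.blt_eq, Nat.beq_eq] at h
    obtain ⟨h3, h4⟩ := h a ha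
    rw [show O.idx (a :: w) i = O.next a (O.idx w i) from force_eq _ _]
    refine ⟨h3, ?_⟩
    rw [show wordEl letterEl (a :: w) = letterEl a * wordEl letterEl w from by simp [wordEl], mul_smul, h2]
    rw [← h4, (img_spec (w := [a]) (fun b hb => by rw [List.mem_singleton.1 hb]; exact ha)
      (O.reach_spec h0 hr _ h1).1).2]
    simp [wordEl]

theorem letters_gen : Subgroup.closure (letterEl '' {a | a < 6}) = ⊤ := by
  rw [← top_le_iff, ← PresentedGroup.closure_range_of]
  refine Subgroup.closure_mono ?_
  rintro g ⟨x, rfl⟩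
  refine ⟨x.num, (show x.num < 6 by cases x <;> decide), ?_⟩
  cases x <;> rfl

theorem MOrb.mem_orbit_iff (h0 : valid (O.mask 0) = true) (hn : 0 < O.n)
    (hr : ∀ i, 0 < i → i < O.n → O.reachStep i = true) (hc : ∀ i < O.n, O.closeStep i = true)
    {s : Finset Pt} : s ∈ orbit GSix (setOf (O.mask 0)) ↔ ∃ i < O.n, s = setOf (O.mask i) := by
  constructor
  · rintro ⟨g, rfl⟩
    have : Finite GSix := finite_six
    have hg : g ∈ Subgroup.closure (letterEl '' {a | a < 6}) := letters_gen ▸ Subgroup.mem_top g
    rw [← Subgroup.mem_toSubmonoid, Subgroup.closure_toSubmonoid_of_finite] at hg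
    induction hg using Submonoid.closure_induction_left with
    | one => exact ⟨0, hn, one_smul _ _⟩
    | mul_left x hx y _ ih =>
      obtain ⟨a, ha, rfl⟩ := hx
      obtain ⟨i, hi, e⟩ := ih
      obtain ⟨h1, h2⟩ := O.next_spec h0 hr hc (w := [a]) (fun b hb => by rw [List.mem_singleton.1 hb]; exact ha) hi
      refine ⟨_, h1, ?_⟩
      change (letterEl a * y) • setOf (O.mask 0) = _
      change y • setOf (O.mask 0) = _ at e
      rw [mul_smul, e, ← h2]
      simp [wordEl]
  · rintro ⟨i, hi, rfl⟩
    exact (O.reach_spec h0 hr i hi).2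

theorem MOrb.card_orbit (h0 : valid (O.mask 0) = true) (hn : 0 < O.n)
    (hr : ∀ i, 0 < i → i < O.n → O.reachStep i = true) (hc : ∀ i < O.n, O.closeStep i = true)
    (hs : ∀ i < O.n, O.srtStep i = true) : Nat.card (orbit GSix (setOf (O.mask 0))) = O.n := by
  refine le_antisymm ?_ (O.le_card_orbit h0 hr hs)
  refine le_trans (Nat.card_le_card_of_surjective
    (fun i : Fin O.n => (⟨_, (O.reach_spec h0 hr i i.isLt).2⟩ : orbit GSix (setOf (O.mask 0)))) ?_) (Nat.card_fin O.n).le
  rintro ⟨s, hs⟩
  obtain ⟨i, hi, rfl⟩ := (O.mem_orbit_iff h0 hn hr hc).1 hs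
  exact ⟨⟨i, hi⟩, rfl⟩

end Cfsg.Agent.SuzRankThree
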