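import Cfsg.Agent.Lib.SuzRankThree.Basic

/-!
# Tables: a Sylow 5-subgroup and a Sylow 2-subgroup
-/

set_option autoImplicit false
set_option maxRecDepth 100000
set_option maxHeartbeats 400000

namespace Cfsg.Agent.SuzRankThree

open Cfsg.Agent.CosetEnum

/-- Words of the elements. -/
def fiveWords : List (List ℕ) :=
  [[1, 0, 2],
   [3, 1, 2, 3, 4, 1, 2, 3, 4, 3]]

/-- Their tables. -/
def fiveTab : List ℕ :=
  [0xcd676b989964632d8ac8c2e2f3799d09cd6569642b797aa66d91696267ec193abc66c350604ed6d777ce36fd879cde1bb66c629f293fb4286529b905c19d28c14412f95c2e7b098b8ecd30d1b49672274b7d41a43635dbfe02b79953ea5598439f07555e502fb7c78c91836fb6a52e34d862ca4a8a7a3629574c0bcf30876fb811731b74c2d546a3ae289437443ed748b94713188b15598b5d39ac7335868abacf5e46ddab4b3653dafed05eb269345822e926f8752429cf5c0416a6dbbdabce13d7ebbf24eb555062507804f14069975ce74a838e3d0135341d4ef2f7823d5a5e3ca75b2dab61f14514664792d5fc7454ed0d9c546230e6ade913026b239fd167bc2586543740e7d0abca124f752e39172f2969fd4aed27189c2e58fd30f5226e378d72a66b5ce8cf65b4ec83f2c30a4cec36aadd2bf5f0e8f13622b51c6a4364acfc5356298c26591a08aaee2ec68ae854aa6932277e3ed0c5646278b49f1720dc451268e446484417d60b4319ed8ec6350f8e43d54ad478340e28c861b3219c66140a8a938501b12458312919922260b965027d0f96c204615930940b0c9006e3b10910341e3792c9e0c069808441178c82247140905a0e100d44a07030a412300e80c70120b04c100f110043005020280400,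
   0xac44da392b552eef6da04e5979e4ecf6de61a29f61d4636ca6850121c51b4d6c42a1195f36461b90c3d313344d5998ca1509454ec584b04e26706a5585278b722dc46976a5657e8f903eda0a2bb3c71399b4b8dc08695d37051d79cca799ccb57a392e0bd8d3f3b9bdc6eb85c9bd636eaaeaf2f2b8cebda218035bf67e2e4a5d17b706399f03541ddcafd94a0ab26ae77cb1a9151a6215db08c7106f9156455d5c6e7916e878692cc1070bbf9c63c686f8fa3225a940a9f8f66339044f50a1da55ca7401e8477c2c307090abfd54c19a5a28f0570c1097661fe28693e0e269caafc895d4872ab5f61aca90960ed6b1c51133249359e24364261dba563aa418020b719964a74c4bdf92acfc58584422bea74eb83b6c79495da2c4d27bdd69147f5ae60d44a64e5ca75506c6aca7062de23eba6bbb1dede7f150ef0a201554ab11c9655664784b426b6770e9cc5d231d336a9c8631007c7133cf2814f4c512521798a076c022f80d955a170549c019e12311961fae64e289bd3632063dc0ae86987f1b171486c621e0c5e8162d13a9946cd1a8f51c0a6c039aa4cadc8c6ead2f8666c16490a1405a32a58490f00d9184302f1ec101234c8910210830c3473243a41ed904908048d5c9803a114a8505633248880e00]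

/-- A level. -/
def fiveLev0 : StabCert.Lev where
  b := 1
  gens := [0, 1]
  words := [[],
    [0],
    [1],
    [0, 0],
    [1, 0],
    [1, 1],
    [0, 0, 0],
    [1, 0, 0],
    [1, 1, 0],
    [1, 1, 1],
    [0, 0, 0, 0],
    [1, 0, 0, 0],
    [1, 1, 0, 0],
    [1, 1, 1, 0],
    [1, 1, 1, 1],
    [1, 0, 0, 0, 0],
    [1, 1, 0, 0, 0],
    [1, 1, 1, 0, 0],
    [1, 1, 1, 1, 0],
    [1, 1, 0, 0, 0, 0],
    [1, 1, 1, 0, 0, 0],
    [1, 1, 1, 1, 0, 0],
    [1, 1, 1, 0, 0, 0, 0],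
    [1, 1, 1, 1, 0, 0, 0],
    [1, 1, 1, 1, 0, 0, 0, 0]]
  cert := [(1, []),
    (3, []),
    (4, []),
    (6, []),
    (7, []),
    (8, []),
    (10, []),
    (11, []),
    (12, []),
    (13, []),
    (0, []),
    (15, []),
    (16, []),
    (17, []),
    (18, []),
    (2, []),
    (19, []),
    (20, []),
    (21, []),
    (5, []),
    (22, []),
    (23, []),
    (9, []),
    (24, []),
    (14, []),
    (2, []),
    (4, []),
    (5, []),
    (7, []),
    (8, []),
    (9, []),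
    (11, []),
    (12, []),
    (13, []),
    (14, []),
    (15, []),
    (16, []),
    (17, []),
    (18, []),
    (0, []),
    (19, []),
    (20, []),
    (21, []),
    (1, []),
    (22, []),
    (23, []),
    (3, []),
    (24, []),
    (6, []),
    (10, [])]

/-- Words of the elements. -/
def twoWords : List (List ℕ) :=
  [[1, 4],
   [3, 5, 2, 1, 0, 3, 5, 2, 1, 0, 3, 5, 2, 1, 0],
   [0, 1, 2, 5, 3, 1, 4, 3, 5, 2, 1, 0, 3, 5, 2, 1, 0, 3, 5, 2, 1, 0, 1, 4, 3, 5, 2, 1, 0],
   [0, 1, 2, 5, 3, 1, 4, 0, 1, 2, 5, 3, 1, 4, 3, 5, 2, 1, 0, 1, 4, 0, 1, 2, 5, 3, 1, 4, 3, 5, 2, 1, 0, 1, 4, 3, 5, 2, 1, 0],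
   [0, 1, 2, 5, 3, 1, 4, 0, 1, 2, 5, 3, 1, 4, 3, 5, 2, 1, 0, 3, 5, 2, 1, 0, 3, 5, 2, 1, 0, 1, 4, 3, 5, 2, 1, 0, 1, 4, 3, 5, 2, 1, 0],
   [0, 1, 2, 5, 3, 0, 1, 2, 5, 3, 0, 1, 2, 5, 3, 0, 1, 2, 5, 3, 1, 4, 3, 5, 2, 1, 0, 3, 5, 2, 1, 0, 3, 5, 2, 1, 0, 1, 4, 3, 5, 2, 1, 0, 3, 5, 2, 1, 0, 3, 5, 2, 1, 0, 3, 5, 2, 1, 0],
   [4, 1, 0, 1, 2, 5, 3, 4, 1, 0, 1, 2, 5, 3, 0, 1, 2, 5, 3, 0, 1, 2, 5, 3, 0, 1, 2, 5, 3, 1, 4, 3, 5, 2, 1, 0, 3, 5, 2, 1, 0, 3, 5, 2, 1, 0, 1, 4, 3, 5, 2, 1, 0, 1, 4, 1, 4, 3, 5, 2, 1, 0, 3, 5, 2, 1, 0, 3, 5, 2, 1, 0, 1, 4, 3, 5, 2, 1, 0, 1, 4],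
   [0, 1, 2, 5, 3, 4, 1, 0, 1, 2, 5, 3, 4, 1, 0, 1, 2, 5, 3, 0, 1, 2, 5, 3, 0, 1, 2, 5, 3, 4, 1, 3, 5, 2, 1, 0, 4, 1, 3, 5, 2, 1, 0, 4, 1, 0, 1, 2, 5, 3, 1, 4, 3, 5, 2, 1, 0, 3, 5, 2, 1, 0, 3, 5, 2, 1, 0, 1, 4, 3, 5, 2, 1, 0, 3, 5, 2, 1, 0, 3, 5, 2, 1, 0, 3, 5, 2, 1, 0, 1, 4],
   [4, 1, 0, 1, 2, 5, 3, 4, 1, 0, 1, 2, 5, 3, 4, 1, 3, 5, 2, 1, 0, 4, 1, 0, 1, 2, 5, 3, 4, 1, 3, 5, 2, 1, 0, 4, 1, 4, 1, 0, 1, 2, 5, 3, 4, 1, 0, 1, 2, 5, 3, 0, 1, 2, 5, 3, 1, 4, 0, 1, 2, 5, 3, 1, 4, 3, 5, 2, 1, 0, 1, 4, 3, 5, 2, 1, 0, 1, 4, 3, 5, 2, 1, 0, 3, 5, 2, 1, 0, 3, 5, 2, 1, 0]]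

/-- Their tables. -/
def twoTab : List ℕ :=
  [0xcb627399db0e673593b067f2142cc4df0b9597c5ef18bc66133d5fbd42f238a905d25901b65f2fb7ebde1eef8dbcd6dd182aa5ba4929a05ca7f7fabda99946b359ec965733233797c4315955abb572274bb5af60b735dbfea151a753dd4d1ac44a914961da16d3b9ee51836fb6bd6873ca22c96726c94c15d1998bf66736c7aa1c78153b62e1286ace219716eb6df58350a62391d86bfa6915c72b63108acd2a21117c24a3725c33d937148341eab038225b008da946a649449c85ef0f7cc2a7cf179bbde8a079225cec974d35d77576d8d08e096b7cfce47135a46d29135d632a6d37a4e796037298d06733d756939d75d9625c2debcc2a3b1282d33a9d2acb9a9b3578c763514e0af9cce9b2695a4d62caa38ab0c52e95a954ca43d28a3ef03e2753c5e84a3d1d1e4ac092efc7dc3914764d266005742a45dc874415516e52893900813fb84909f3ba8da8783da417ebe659b556b51f960e464351ad60651b8f0d06c19aa4c06122a70b45c15974a86e4612d0c591c89d064c1220892502b07c9a7d14878be1b2110c60193789874661a8f4a614338847632318d05e41188b45c102d8a08e2a290f8184f1108c6c0b25118221a22070800e0b05c2438098543a2c048600e25100181e08068280604028040400,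
   0x3d4bad57b7e9feacb0822e48f62bea6d3f8a36638f71045642015c45de6763d98a70e1719acf32671ce5170d4b799a29ef67c9e700d3b7d0df0e58a6751d187bc8e6c2383e51060d223fd9d8890d0634fb65664b13d3b521e28dbabc13cc4bc09d855267ba6f463b70dab5334a976a97ec2995a25f1f596fea1a02d7072c2a67a5b3071caa5296848b22f19b3276b71d0aa12411c5d5664968929ba156b519a8a58c643014aa729c564e66b1af10b978193d5389af37b3656ac2cae76db3dd080afbbb72a34e1d25d0c4d2ab1e8cbb2f35ad8b495a4cea5720bf8e6f25c26958925b398c2cbb813a726fa3d750e806a55d210f7516c414c5bd24f90e5f9a4a1067446f2cdb61b5e64e43ebe929987a1691ed91faaa028c8629a1a74898e2683bc8d364582c93688c67774a27eb17136086c956da6a0a8c3e2c388866bb60b1eb085c3ccccd02566c1c6e7ee4591754dc2a46e8c6f98168458558f254497d764c4227404a2009aa2f9c39e7c25632b8f155703f1d72f85c4444bd81349d800259ac6a0bcaa64695f4887dbef555cdf082b503bc10a20cd0892450d8c8e40a301dc0d261e1b42c26a50a0b80cb214434c5212042489198846e18410a63e130a07402100703ec024240c0fc39018b40a6403988224c,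
   0x72b5b74d78e67354925432da1a68c76583a6241d96a598d09698557a1b10f2355dca3587cdf2737e4ec5a2a30c1201630220dc90849213ef2ae21e31d985cb38b6ca63948f5163e419d0b66e40a341f8067cf0ae735f812a2d73f45f386c2d00f30648a3ce76e08f62a6431640742b56a2a3afb128daa0c47b14507168f1027e27915da8ec65e441c86b242e8e1f4d554d0f24529bab0f296a75eaf34796ce0640714ae44f968542e06c3c73860a9184dd1ba2252301fae6b7486fe9700891ea44a361336d30e05ca6090605072d812bf1ca7064db20d440129e0221ceb68f4e8a81d640197805b26bdabadc8769c68adc73fb5198a98f842c182fea9921a056958be1c13672d56d893c266eac2c399f3d1a002823f366f0ab18ff952786eaa9728af608229f1640a7c4609c4d49a420892984eab48cb097c6d2735e183771af91eb77638d3cb29a9a36632b32012dad5eaa498fee41fd700b4c43e0c166557318d148b24d4680d454a24768aed2cfa23aaaf09ec576c73024c2aa5528503b65ee0be4107936f466dbee67737d82c56b0c641d32250a264a6119c4681785d0bacc266529a1f33868b1cef62c401b92f0811a7cef42e51a83b7734a7aea5c018221face7cc0eb34a61d89c88048db52a537deeab,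
   0x3c8aaf61395e6734be60cbac50f32395148905c7a70aec391d0e45c593e4d429ade608095fdf2737ecec83049175a396a3902c42386e0e8c842903f8e2d346250406911ad655722d8952186e39d58e97299e33a6e9b458128042704f53d4cac8c2935e655a1b0a358e107d519faea9d578bd6efb8daac97070c8b07c6efe61658ba6dcd81ab12857e166c274a274cb7a1463919714246635029dccc4a2b2c57ec972ca3e60b3412219065b5b02a1b8165c6092fc524c0590006bea1c296b15462de7993924400d3712c8dbbae0a6150616b24d9ae2ece14f25bd192ee63b35c94517bdd52c054320fac655d59b44681d1dbad26db418a69aecbf2ed4bfe607801714fac2ea0041eeaa53c206862093e30d49a679edaad30118968ffa2051109f50536445eaa2b1007a0e3b5052330bc6f16c1ddd9d91da9e4720a1c4c28ad1b84a556499b5849a20e552633eb31a9103659391cccce11fdc2585433ab58868359c6439330299266320a725a5c84398e91329215ec6c7495c064cc33c846506fd9e0248c5333107608d40bef037d042ebd478eae96a988d8ef6503db9eb4a6b89ac0fd8a679f11f920ba2b0b2683edab09907ade973abbc30191e859d0a2ce1f88766111f1f6e7c7c1b000819caae75228a9d78b7,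
   0x7e20d1cb28b32074d14887eba66244cf226fa917c830d83cf10aa8c3c61e357948903780bfb4984367d4d8bc797b0505408310283a9053d9a29540d5a6d453a5db8dd648951de818afafb2b51a6ad81c5dc20a6836c17e3eb95084b4eb664b381ce854b1031fa58a1aaeaa721f8b5eb8a463a8d32d1dde86ef9c94ca552e59cc270af744c7071526984925a91a653c313b819370c25b84cf865de6e516d3558dbc8700043191c738969eeec59d5c82758a705cda5810a8b9f425ee68b7185de7b6175b3b0ad85ec20b86d79ce89f2b85959bb051aaa6348d6fc45ca2b40401acf031b646802a75fb304e4bbc8d6b85085d259a32a08b27810df4e03206d79de0f8baa8a4cc7c568469a97e7206ff960055a7aa12e9c588b79f8940b450799660224848d028ead2441167a18e2050ab272f7045e75c13b47a8c98098825b12fbcf31870db0e298d8513dab2f0c48f8fa0d49205012ac1c8595d87d66c4e72138ce518f4c6bdce4ca0c75e6b0ed1ec918b442bb987348b42e4f81674b424e898da964b931e2744c9f01bfb1a739f9d8b6479be64aa819adf1c6d51130240f7a9c067c286e5d6ac2c8211615825a8cd8604cb28ae27fc0dac336065141277634049310e5e5657f46525c91174a5479282021b515d0f,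
   0x56645d522cddf2fd4921b002f84688d33c366258d42039c3bca31641c2af594450e5691e01666739a4f615daae74ce8120c9ac91f74e0fa11dd6c67ae0cb2808cf91955c7084882f579d1873b592d5b3431e1fec91f25811fb414a5c0706c05297306465020dc23ac072a02669599ba71ae5dafb8b06cdae6193935e249f1023d46ad4844e0f68818a1e172036703c9baa600c3113003a322524e20a62b954c6390d4ab7a20fe43619105b94bf0666b93bac2ae452432a306b8919be477b93c5c8b4e069e325c55b6f2b181676eee34b385270074389cc587cc3a7a3d0a306b2c9991588a7b1acff26abb5b1894681bd1db01609b38a98faeac1b5963b1200075490f94f6a33236b5813c56dd8c2afde2599f680ece6a85c9b694ff96a771a18985ed44f390269025a4139e1f4f72aed0f2b972016d657a60c750948c2d0b6ec3a5d328eab134b27c6a03cf2b33bafd795e54cce7822285154d4c8217c16cc182ded3482b9063b1b35170245e84260fae031b5848c58a8cb126f7b0a4fc3fa9b362ebe7c3e9ab61cb840c440262e9b95755227054d65e41a792829485867b03d43a318a0149d2603d023055a21c2c52fb7c845b420dbca68a0cab2202db63976ce423d46a6f7434d2eeb4613c8c5552c65fc02bd,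
   0x13a7d015b9b5b72b482b02732bd62a4260c37fa80047ab031b13167a3b6f4003002302845085c40ee2361614674e36d804f3dc92b12693c7b347787995702508976a35a0c0febf8bb09b06d3bce59295712725d6a73952c2ca58538a10274a5d64c9980b0e4dd327d999c0d3158482af8ae0525e2f2fe6da8418bd107d919cab4ec8f1a54c7718b7dc0597216ac944e354db9242a45442332899e2216d225ae80b1ab59341cec8ade4203a552460ae10f955ba70c7ac51887a1a786f3c7b831cb8774aad5031675f30d0c12239e69b2e1adea22901020941659fa0250bb3694a451190d9335a0450a81a4abbcea136fb21aaca3462b26a4c80118375519f7284a30c4929690e15eaab434c89fd52220c25c077941e3ef1a7949b2c45fc86ff8ecf3e83d77741f07098ab1799eb9174760d92963a8c6fd41c6cb6427e14c3780459fe9b9d413797c9ab9e30f20bb64b59b4caa1248f001ed14655e7303566c7bc50ad5494686577839ba5acce74496891505b65e04d143298a2dcba55e1c2189af0e45938dedb0af6b22268e2b14c4de2994c228c997cd744d2b199b5e0ae9c24e47259fc70794ecf8d6d0eb6bb90997d81a740cb742b40c563bf51e7b3a664facf0901c34d4f63c02b2d825607622c207e340384,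
   0x64ad642cc5462a852f9340ccd083c246b4d05f4deb0265fe68a3852c42f105b1dba568cb7d870c8ef9d458a6671ca7adf74090440456babe58ce21ea669b6892352cb30068f264a3a2549e54509e45e18d108593f5498d7aa2f41935ad2c2050c441394ba72b95f50e651603389ec2ad2375ee9076c73c4ba1d66d86a764cc15c5e8d7e0f8c1286065db367311a33b0d8f8de084d83ba233183ade9daf85d12cfc9b378aa4109c321a19948da40671dcb409bb003ea21fb2bbfb6edd147bbd9cb50045766d59be33a2a107587b051a73aedeae4075b124834201602cf7d3064aac225384f6607cf167906e3ba679cc020b3e7f595b416480d531b527c5e3c74497344d4c810bab73d8168b1c846c118c16cd81b229539b36ae45859b0202865faadd91d4688216d45aa3a58a05217387250631a76588ca0aa800fe1a42934df7032970a264445fe1b9f0d4f393204e22e043992a7e7087ced4eb030860a922bc654717d47c8cd7295017a6a5cc22614987975c0aa69bca53129527932384e891c978c4158500ed7142c40c7714caad762c1af6ee658f2acf48782d3e94ae96a4c32a523c387e436ae304a245788aaf4904baa697e3e30c5a6a5bd5a7a46addcee4ec69b8ec60c62d2c3ef322905bc74a05c40289,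
   0xacd0e755b543cb093943e2c017e610a2b0ce3ec72b510cb57703882ebcf0b9953c57132caae52921a90deaeeaebcba85ee7705ca612b96cb956e20b1957055b3bd2a20288cf03a09031a7155cce6373f919f8f6fe7384952cad43024102782d09efb2f87a1a8a41cf16cf720aba2dbb629de7730c026bc4b1328ecd21971a45badf80b804064243b0d1b12457acaf74054ab6678e4a1ea32eb4945b0429213fac78ca397c073104272a61c29359b4cd5f8942a705f44918564fa74ae3f7b9785d66c366a6cc961b41d23e8c5d9da35ba2f1262269db0eb73319aa7a7f4741559250cc186350718f160ee64642081346a55e0cf340d8085977e4c673881bfc2ee624ac515691d0dd42513648974d191de23cd9b6a9a3f9bc1aa80e480f9196a2a7d879f50a13214700a37831951b72c5c874e4236d96fd9f2e4cc4bcbd19348f091429a146e0371e1ba0c68f34c2049dc20baa18443004b9b876b32537abcc718226d4206f88ce54f873db0e4fa152d89357cbf2d1521cc1d68822e0ae6e47441ad76a426288582d48c4e88777c3b2acd236adca6995b319d12660ca5aa67babd48845272822992a526e052831390e26451a7ac3083e5f1ae055edae02806620c232a0703cfc963a262c10b52d7c30c586d900395]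

/-- A level. -/
def twoLev0 : StabCert.Lev where
  b := 1
  gens := [0, 1, 2, 3, 4, 5, 6, 7, 8]
  words := [[],
    [0],
    [1],
    [2],
    [3],
    [4],
    [1, 0],
    [2, 0],
    [3, 0],
    [4, 0],
    [0, 1],
    [3, 1],
    [4, 1],
    [0, 2],
    [1, 2],
    [3, 2],
    [4, 2],
    [0, 3],
    [1, 3],
    [2, 3],
    [4, 3],
    [0, 4],
    [1, 4],
    [2, 4],
    [3, 4],
    [0, 1, 0],
    [3, 1, 0],
    [4, 1, 0],
    [0, 2, 0],
    [1, 2, 0],
    [3, 2, 0],
    [0, 3, 0],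
    [1, 3, 0],
    [2, 3, 0],
    [4, 3, 0],
    [0, 4, 0],
    [1, 4, 0],
    [2, 4, 0],
    [3, 4, 0],
    [1, 0, 1],
    [2, 0, 1],
    [4, 0, 1],
    [0, 3, 1],
    [1, 3, 1],
    [2, 3, 1],
    [4, 3, 1],
    [0, 4, 1],
    [2, 4, 1],
    [3, 4, 1],
    [2, 0, 2],
    [3, 0, 2],
    [4, 0, 2],
    [0, 1, 2],
    [3, 1, 2],
    [4, 1, 2],
    [1, 3, 2],
    [2, 3, 2],
    [4, 3, 2],
    [2, 4, 2],
    [3, 4, 2],
    [1, 0, 3],
    [3, 0, 3],
    [4, 0, 3],
    [0, 1, 3],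
    [2, 1, 3],
    [1, 2, 3],
    [3, 2, 3],
    [0, 4, 3],
    [1, 4, 3],
    [2, 4, 3],
    [3, 4, 3],
    [3, 0, 4],
    [4, 0, 4],
    [0, 1, 4],
    [4, 1, 4],
    [3, 2, 4],
    [4, 2, 4],
    [0, 3, 4],
    [1, 3, 4],
    [2, 3, 4],
    [4, 3, 4],
    [1, 0, 1, 0],
    [2, 0, 1, 0],
    [3, 0, 1, 0],
    [2, 3, 1, 0],
    [4, 3, 1, 0],
    [0, 4, 1, 0],
    [3, 4, 1, 0],
    [1, 0, 2, 0],
    [2, 0, 2, 0],
    [3, 0, 2, 0],
    [3, 1, 2, 0],
    [4, 1, 2, 0],
    [2, 3, 2, 0],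
    [4, 3, 2, 0],
    [1, 0, 3, 0],
    [3, 0, 3, 0],
    [4, 0, 3, 0],
    [0, 1, 3, 0],
    [4, 1, 3, 0],
    [1, 2, 3, 0],
    [3, 2, 3, 0],
    [4, 2, 3, 0],
    [0, 4, 3, 0],
    [1, 0, 4, 0],
    [3, 0, 4, 0],
    [0, 1, 4, 0],
    [3, 1, 4, 0],
    [4, 1, 4, 0],
    [0, 2, 4, 0],
    [3, 2, 4, 0],
    [0, 3, 4, 0],
    [4, 3, 4, 0],
    [0, 1, 0, 1],
    [2, 1, 0, 1],
    [0, 2, 0, 1],
    [3, 2, 0, 1],
    [4, 2, 0, 1],
    [1, 4, 0, 1],
    [2, 4, 0, 1],
    [1, 0, 3, 1],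
    [3, 0, 3, 1],
    [0, 1, 3, 1],
    [2, 1, 3, 1],
    [4, 1, 3, 1],
    [1, 2, 3, 1],
    [3, 2, 3, 1],
    [1, 4, 3, 1],
    [3, 4, 3, 1],
    [2, 0, 4, 1],
    [3, 0, 4, 1],
    [0, 3, 4, 1],
    [4, 3, 4, 1],
    [3, 2, 0, 2],
    [0, 3, 0, 2],
    [4, 3, 0, 2],
    [2, 4, 0, 2],
    [1, 0, 1, 2],
    [4, 0, 1, 2],
    [0, 4, 1, 2],
    [0, 1, 3, 2],
    [3, 2, 3, 2],
    [0, 4, 3, 2],
    [3, 4, 3, 2],
    [0, 3, 4, 2],
    [1, 3, 4, 2],
    [3, 1, 0, 3],
    [1, 3, 0, 3],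
    [2, 3, 0, 3],
    [3, 4, 0, 3],
    [3, 0, 1, 3],
    [3, 2, 1, 3],
    [4, 2, 1, 3],
    [0, 1, 2, 3],
    [3, 1, 2, 3],
    [1, 3, 2, 3],
    [4, 3, 2, 3],
    [2, 0, 4, 3],
    [4, 0, 4, 3],
    [3, 1, 4, 3],
    [0, 2, 4, 3],
    [0, 3, 4, 3],
    [4, 3, 4, 3],
    [0, 3, 0, 4],
    [1, 3, 0, 4],
    [2, 3, 0, 4],
    [4, 3, 0, 4],
    [3, 0, 1, 4],
    [3, 0, 3, 4],
    [3, 2, 3, 4],
    [2, 1, 0, 1, 0],
    [3, 1, 0, 1, 0],
    [4, 1, 0, 1, 0],
    [3, 2, 0, 1, 0],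
    [4, 2, 0, 1, 0],
    [0, 3, 0, 1, 0],
    [1, 3, 0, 1, 0],
    [4, 3, 0, 1, 0],
    [1, 2, 3, 1, 0],
    [3, 2, 3, 1, 0],
    [4, 2, 3, 1, 0],
    [2, 4, 3, 1, 0],
    [1, 0, 4, 1, 0],
    [3, 0, 4, 1, 0],
    [0, 1, 0, 2, 0],
    [1, 2, 0, 2, 0],
    [3, 2, 0, 2, 0],
    [0, 3, 0, 2, 0],
    [4, 3, 0, 2, 0],
    [0, 3, 1, 2, 0],
    [1, 3, 1, 2, 0],
    [3, 2, 3, 2, 0],
    [4, 2, 3, 2, 0],
    [2, 4, 3, 2, 0],
    [2, 1, 0, 3, 0],
    [3, 1, 0, 3, 0],
    [4, 1, 0, 3, 0],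
    [1, 3, 0, 3, 0],
    [2, 3, 0, 3, 0],
    [4, 3, 0, 3, 0],
    [2, 4, 0, 3, 0],
    [3, 0, 1, 3, 0],
    [0, 4, 1, 3, 0],
    [3, 1, 2, 3, 0],
    [1, 3, 2, 3, 0],
    [3, 4, 2, 3, 0],
    [1, 0, 4, 3, 0],
    [2, 0, 4, 3, 0],
    [3, 0, 4, 3, 0],
    [4, 0, 4, 3, 0],
    [2, 3, 1, 4, 0],
    [3, 0, 2, 4, 0],
    [2, 3, 2, 4, 0],
    [4, 3, 2, 4, 0],
    [1, 0, 3, 4, 0],
    [3, 0, 3, 4, 0],
    [4, 0, 3, 4, 0],
    [3, 2, 1, 0, 1],
    [2, 3, 2, 0, 1],
    [4, 3, 2, 0, 1],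
    [3, 1, 0, 3, 1],
    [1, 3, 0, 3, 1],
    [2, 3, 0, 3, 1],
    [3, 0, 1, 3, 1],
    [3, 2, 1, 3, 1],
    [3, 4, 1, 3, 1],
    [1, 3, 2, 3, 1],
    [0, 1, 4, 3, 1],
    [3, 0, 3, 4, 1],
    [0, 4, 3, 0, 2],
    [3, 0, 1, 3, 2],
    [0, 3, 4, 3, 2],
    [3, 0, 3, 4, 2],
    [2, 3, 1, 0, 3],
    [4, 2, 3, 0, 3],
    [0, 3, 4, 0, 3],
    [2, 3, 4, 0, 3],
    [0, 3, 0, 1, 3],
    [2, 3, 0, 1, 3],
    [2, 0, 1, 2, 3],
    [3, 0, 2, 4, 3],
    [0, 4, 3, 4, 3],
    [3, 0, 3, 0, 4],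
    [3, 2, 3, 0, 4],
    [3, 4, 1, 0, 1, 0],
    [0, 1, 3, 0, 1, 0],
    [4, 1, 3, 0, 1, 0],
    [3, 4, 3, 0, 1, 0],
    [3, 1, 2, 3, 1, 0],
    [1, 3, 0, 4, 1, 0],
    [3, 4, 3, 0, 2, 0],
    [3, 0, 3, 1, 2, 0],
    [3, 4, 2, 3, 2, 0],
    [2, 3, 1, 0, 3, 0],
    [4, 2, 3, 0, 3, 0],
    [0, 3, 0, 2, 4, 0]]
  cert := [(1, []),
    (0, []),
    (10, []),
    (13, []),
    (17, []),
    (21, []),
    (25, []),
    (28, []),
    (31, []),
    (35, []),
    (2, []),
    (42, []),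
    (46, []),
    (3, []),
    (52, []),
    (33, []),
    (29, [7, 5]),
    (4, []),
    (63, []),
    (30, []),
    (67, []),
    (5, []),
    (73, []),
    (72, [6, 5]),
    (77, []),
    (6, []),
    (79, [7]),
    (86, []),
    (7, []),
    (16, [7, 5]),
    (19, []),
    (8, []),
    (98, []),
    (15, []),
    (103, []),
    (9, []),
    (106, []),
    (109, []),
    (111, []),
    (113, []),
    (115, []),
    (74, [6]),
    (11, []),
    (122, []),
    (116, []),
    (87, [8, 7, 5]),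
    (12, []),
    (114, [7, 5]),
    (131, []),
    (89, []),
    (134, []),
    (76, [6]),
    (14, []),
    (120, [7, 6, 5]),
    (139, []),
    (140, []),
    (133, []),
    (142, []),
    (92, [7, 6]),
    (144, []),
    (105, [7]),
    (96, []),
    (145, [8, 6]),
    (18, []),
    (85, [8, 7, 6, 5]),
    (153, []),
    (148, []),
    (20, []),
    (110, [8, 6]),
    (160, []),
    (161, []),
    (163, []),
    (23, [6, 5]),
    (22, []),
    (41, [6]),
    (165, []),
    (51, [6]),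
    (24, []),
    (102, [8, 6]),
    (26, [7]),
    (94, [6, 5]),
    (118, [6]),
    (108, [5]),
    (175, []),
    (173, []),
    (64, [8, 7, 6, 5]),
    (27, []),
    (45, [8, 7, 5]),
    (184, []),
    (49, []),
    (187, []),
    (189, []),
    (58, [7, 6]),
    (186, []),
    (80, [6, 5]),
    (167, [6, 5]),
    (61, []),
    (180, [7, 6]),
    (32, []),
    (202, []),
    (152, [8, 7, 6, 5]),
    (198, []),
    (78, [8, 6]),
    (34, []),
    (138, [5]),
    (60, [7]),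
    (36, []),
    (123, [7, 5]),
    (82, [5]),
    (37, []),
    (68, [8, 6]),
    (38, []),
    (177, [7, 5]),
    (39, []),
    (47, [7, 5]),
    (40, []),
    (44, []),
    (172, [7, 6]),
    (81, [6]),
    (185, [6, 5]),
    (53, [7, 6, 5]),
    (208, [8]),
    (43, []),
    (107, [7, 5]),
    (213, [6]),
    (158, []),
    (222, []),
    (227, []),
    (147, [8, 7, 6, 5]),
    (182, [7, 6]),
    (188, [8, 6, 5]),
    (48, []),
    (219, [6, 5]),
    (56, []),
    (50, []),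
    (229, []),
    (174, [7, 6]),
    (170, []),
    (104, [5]),
    (54, []),
    (55, []),
    (191, []),
    (57, []),
    (231, []),
    (59, []),
    (62, [8, 6]),
    (215, [7]),
    (128, [8, 7, 6, 5]),
    (66, []),
    (235, []),
    (237, []),
    (238, []),
    (100, [8, 7, 6, 5]),
    (65, []),
    (221, [7, 6, 5]),
    (236, [8]),
    (179, [7, 5]),
    (194, [8, 5]),
    (125, []),
    (233, [8, 7, 6]),
    (69, []),
    (70, []),
    (241, []),
    (71, []),
    (206, [8, 7, 5]),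
    (75, []),
    (214, [8, 5]),
    (95, [6, 5]),
    (242, []),
    (204, [7, 5]),
    (137, []),
    (239, [7, 6]),
    (117, [7, 6]),
    (84, []),
    (136, [7, 6]),
    (83, []),
    (245, []),
    (112, [7, 5]),
    (209, []),
    (156, [7, 5]),
    (97, [7, 6]),
    (216, [7]),
    (129, [7, 6]),
    (210, [5]),
    (88, []),
    (119, [6, 5]),
    (93, []),
    (90, []),
    (130, [8, 6, 5]),
    (91, []),
    (246, [8, 7, 6]),
    (141, []),
    (244, [8, 7, 5]),
    (249, [8, 7]),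
    (157, [8, 5]),
    (230, [5]),
    (212, [8, 6, 5]),
    (220, [7, 6]),
    (101, []),
    (243, [5]),
    (217, [8, 7, 6, 5]),
    (203, [5]),
    (99, []),
    (201, [5]),
    (169, [7, 5]),
    (247, [7, 6]),
    (164, [8, 7, 5]),
    (218, [8, 5]),
    (121, [8]),
    (178, []),
    (183, [5]),
    (255, []),
    (196, [8, 6, 5]),
    (124, [6]),
    (166, [8, 5]),
    (146, [7]),
    (181, [7]),
    (200, [8, 7, 6, 5]),
    (207, [8, 5]),
    (132, [6, 5]),
    (197, [7, 6]),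
    (154, [7, 6, 5]),
    (126, []),
    (254, [6]),
    (248, []),
    (252, [5]),
    (234, [6]),
    (127, []),
    (250, [8, 6, 5]),
    (135, []),
    (195, [5]),
    (143, []),
    (251, [7, 5]),
    (159, [8, 7, 6]),
    (226, [6]),
    (149, []),
    (155, [8]),
    (150, []),
    (151, []),
    (171, [7, 6]),
    (253, [8, 5]),
    (162, []),
    (168, []),
    (199, [5]),
    (192, [8, 7, 5]),
    (176, []),
    (190, [8, 7, 6]),
    (205, [7, 6]),
    (224, []),
    (193, [8, 7]),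
    (228, [8, 6, 5]),
    (232, [7, 5]),
    (225, [5]),
    (240, [8, 5]),
    (223, [6]),
    (211, []),
    (2, []),
    (6, []),
    (0, []),
    (14, []),
    (18, []),
    (22, []),
    (1, []),
    (29, []),
    (32, []),
    (36, []),
    (39, []),
    (43, []),
    (23, [5]),
    (27, [6, 5]),
    (3, []),
    (55, []),
    (47, []),
    (60, []),
    (4, []),
    (65, []),
    (68, []),
    (49, [7, 5]),
    (5, []),
    (12, [5]),
    (78, []),
    (81, []),
    (26, [7, 6]),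
    (13, [6, 5]),
    (88, []),
    (7, []),
    (30, [7, 6]),
    (95, []),
    (8, []),
    (100, []),
    (34, [7, 6]),
    (104, []),
    (9, []),
    (72, [7]),
    (50, [7, 5]),
    (10, []),
    (73, [7]),
    (118, []),
    (120, []),
    (11, []),
    (125, []),
    (127, []),
    (119, [7, 6]),
    (16, []),
    (105, [5]),
    (21, [7, 5]),
    (38, [7, 5]),
    (108, [6, 5]),
    (137, []),
    (75, [6, 5]),
    (58, [5]),
    (15, []),
    (64, [5]),
    (132, [6]),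
    (54, [5]),
    (145, []),
    (17, []),
    (147, []),
    (102, [7, 6, 5]),
    (140, [7, 6, 5]),
    (56, [5]),
    (19, []),
    (155, []),
    (85, [5]),
    (20, []),
    (152, []),
    (128, []),
    (164, []),
    (37, [7]),
    (40, [7]),
    (76, [5]),
    (53, [6, 5]),
    (74, [5]),
    (122, [7, 5]),
    (24, []),
    (80, [8]),
    (79, [8]),
    (25, []),
    (113, [5]),
    (176, []),
    (178, []),
    (67, [5]),
    (182, []),
    (87, [7, 6]),
    (28, []),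
    (185, []),
    (97, [8]),
    (190, []),
    (136, [5]),
    (187, [7, 6, 5]),
    (116, [8, 7, 6]),
    (31, []),
    (197, []),
    (90, [8]),
    (188, [8, 7, 6]),
    (99, [7, 6]),
    (33, []),
    (204, []),
    (62, [7, 6, 5]),
    (206, []),
    (35, []),
    (48, [5]),
    (170, [6, 5]),
    (107, [7, 6]),
    (51, [6, 5]),
    (115, [6]),
    (110, [7, 6]),
    (214, []),
    (112, [7, 6]),
    (82, [5]),
    (117, [6]),
    (109, [6]),
    (94, [8, 7, 6]),
    (114, [6]),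
    (41, []),
    (46, [7, 6]),
    (42, []),
    (221, []),
    (77, [7, 5]),
    (124, [8]),
    (123, [8]),
    (44, []),
    (226, []),
    (45, []),
    (70, []),
    (138, [7, 6, 5]),
    (130, [7, 6]),
    (160, [8, 7, 5]),
    (57, [6]),
    (133, [7, 6]),
    (200, [8, 5]),
    (135, [7, 6]),
    (92, [5]),
    (52, []),
    (129, [7, 6, 5]),
    (184, [7, 5]),
    (63, [7, 6, 5]),
    (162, [8, 6]),
    (153, [8, 7, 6, 5]),
    (169, [8, 6]),
    (165, [7, 6]),
    (59, []),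
    (179, [7, 6, 5]),
    (61, []),
    (168, [7]),
    (231, [7, 6]),
    (222, [7, 6, 5]),
    (224, []),
    (69, []),
    (142, [8, 7, 6, 5]),
    (156, [6, 5]),
    (66, []),
    (154, [6, 5]),
    (239, [8, 7, 6]),
    (158, [7, 6]),
    (225, []),
    (131, [8, 7, 5]),
    (205, [7, 6]),
    (141, [8, 6]),
    (202, [8, 7, 5]),
    (71, []),
    (144, [7, 6]),
    (166, [7, 6]),
    (167, [7, 6]),
    (148, [7]),
    (143, [8, 6]),
    (106, [6, 5]),
    (196, [8, 7, 6, 5]),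
    (174, [5]),
    (244, [6]),
    (172, [5]),
    (210, [7, 5]),
    (83, []),
    (189, [8]),
    (84, []),
    (146, [7, 6, 5]),
    (181, [7, 6]),
    (180, [7, 6]),
    (86, []),
    (249, []),
    (139, [7, 5]),
    (89, []),
    (194, [5]),
    (93, [7, 6, 5]),
    (98, [8, 7, 6]),
    (177, [8]),
    (91, []),
    (232, [7]),
    (193, [7, 6]),
    (192, [7, 6]),
    (186, [5]),
    (251, [7, 6, 5]),
    (171, [8, 7, 6, 5]),
    (96, []),
    (208, [8, 5]),
    (253, [6]),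
    (134, [8, 5]),
    (247, [8, 5]),
    (163, [8, 7, 5]),
    (248, []),
    (101, []),
    (161, [7, 6]),
    (103, []),
    (209, [8]),
    (198, [8, 5]),
    (207, [8]),
    (175, [7, 5]),
    (216, [8]),
    (255, [7, 6, 5]),
    (227, [7]),
    (111, []),
    (235, [8, 6]),
    (211, [8]),
    (217, [7, 6]),
    (245, []),
    (219, [7, 6]),
    (238, [5]),
    (121, []),
    (150, [7, 6, 5]),
    (233, [5]),
    (151, []),
    (159, []),
    (126, []),
    (213, [7]),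
    (241, [8, 7, 6, 5]),
    (246, [7, 6]),
    (252, [8, 7, 6, 5]),
    (149, [7, 6]),
    (191, [7]),
    (223, [5]),
    (243, [7, 6, 5]),
    (215, [8, 6]),
    (240, [7, 6, 5]),
    (242, [6, 5]),
    (220, [5]),
    (157, [8, 7, 6]),
    (236, [7, 6, 5]),
    (228, [8, 7, 6, 5]),
    (237, [6, 5]),
    (234, [7, 6, 5]),
    (173, [6]),
    (218, []),
    (229, [7, 6]),
    (201, [8, 5]),
    (203, []),
    (183, []),
    (254, [8, 6]),
    (195, [7, 6, 5]),
    (230, [8, 7, 6, 5]),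
    (199, [6]),
    (250, [8, 6]),
    (212, [7, 6, 5]),
    (3, []),
    (7, []),
    (2, [5]),
    (0, []),
    (19, []),
    (23, []),
    (21, [7]),
    (1, []),
    (33, []),
    (37, []),
    (40, []),
    (44, []),
    (47, []),
    (49, []),
    (14, [5]),
    (56, []),
    (58, []),
    (50, []),
    (64, []),
    (4, []),
    (69, []),
    (6, [7]),
    (54, []),
    (5, []),
    (79, []),
    (82, []),
    (84, []),
    (29, [6]),
    (89, []),
    (27, [6]),
    (93, []),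
    (90, []),
    (60, [5]),
    (8, []),
    (42, [8, 5]),
    (76, [6]),
    (92, []),
    (9, []),
    (100, [7]),
    (114, []),
    (10, []),
    (119, []),
    (34, [8, 5]),
    (123, []),
    (11, []),
    (59, [8, 6]),
    (129, []),
    (12, []),
    (57, [8, 6]),
    (13, []),
    (17, []),
    (136, []),
    (117, [6, 5]),
    (124, [8, 5]),
    (22, []),
    (65, [5]),
    (15, []),
    (48, [8, 6]),
    (16, []),
    (45, [8, 6]),
    (32, [5]),
    (148, []),
    (99, [7, 6, 5]),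
    (130, [6]),
    (18, []),
    (55, [5]),
    (141, []),
    (157, []),
    (105, [8, 6]),
    (20, []),
    (154, [8, 5]),
    (165, []),
    (108, [7, 6]),
    (137, [7, 5]),
    (74, [5]),
    (125, [6]),
    (35, [6]),
    (164, [7, 6, 5]),
    (127, [8, 6, 5]),
    (24, []),
    (145, [8, 5]),
    (170, []),
    (25, []),
    (163, [7]),
    (26, []),
    (181, []),
    (106, [5]),
    (178, [7]),
    (88, [5]),
    (28, []),
    (31, []),
    (122, [7, 6]),
    (36, []),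
    (30, []),
    (193, []),
    (194, []),
    (198, []),
    (200, []),
    (196, [8, 7, 6]),
    (62, [7, 6, 5]),
    (38, [7]),
    (191, []),
    (112, [6]),
    (207, []),
    (104, [5]),
    (68, [8, 6]),
    (86, [5]),
    (210, []),
    (72, [7, 6]),
    (174, [7, 6]),
    (212, []),
    (211, []),
    (102, [6]),
    (182, [6, 5]),
    (39, []),
    (115, [5]),
    (218, []),
    (52, [6, 5]),
    (139, [7, 6, 5]),
    (41, []),
    (135, [8, 7, 6]),
    (222, []),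
    (91, [7, 6]),
    (43, []),
    (53, [8, 5]),
    (75, [6]),
    (126, [5]),
    (78, [8, 6, 5]),
    (224, [8, 5]),
    (46, []),
    (63, [6]),
    (217, [7, 5]),
    (152, [6, 5]),
    (187, []),
    (186, []),
    (120, [8, 7, 6]),
    (51, []),
    (73, [7, 5]),
    (184, [6, 5]),
    (118, [7, 6, 5]),
    (166, [8, 6, 5]),
    (66, []),
    (180, [7, 6]),
    (151, [8]),
    (190, [6]),
    (80, [8, 5]),
    (233, []),
    (232, [7, 5]),
    (61, []),
    (236, []),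
    (238, []),
    (143, [8]),
    (132, [6, 5]),
    (239, []),
    (70, [8, 5]),
    (155, [5]),
    (169, [5]),
    (67, []),
    (175, [7, 6]),
    (226, [8, 5]),
    (167, [8, 6]),
    (240, []),
    (162, [5]),
    (83, [7]),
    (77, [7, 6, 5]),
    (71, []),
    (140, [8, 6, 5]),
    (160, [8, 6]),
    (204, [7, 5]),
    (156, [5]),
    (81, []),
    (214, [7, 5]),
    (172, [5]),
    (206, [8, 7, 6]),
    (109, [7, 6]),
    (158, [7, 6]),
    (177, [8]),
    (176, [8]),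
    (87, [7]),
    (243, [7]),
    (142, [7, 6]),
    (85, []),
    (113, [6, 5]),
    (189, [6]),
    (138, [6, 5]),
    (185, [5]),
    (134, []),
    (133, []),
    (216, [6]),
    (183, [6]),
    (144, [6]),
    (101, []),
    (213, [6]),
    (94, []),
    (95, []),
    (253, []),
    (98, [8, 7, 6]),
    (197, [5]),
    (96, []),
    (242, [5]),
    (97, []),
    (215, [7, 5]),
    (249, [8, 6, 5]),
    (234, [7, 5]),
    (168, [7, 5]),
    (241, [6]),
    (173, [8, 7, 6]),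
    (103, []),
    (208, [5]),
    (246, [8, 7, 6, 5]),
    (107, []),
    (111, []),
    (110, []),
    (192, [6]),
    (171, [7, 5]),
    (201, [7, 5]),
    (188, [6]),
    (131, [7, 5]),
    (116, []),
    (255, [8, 6, 5]),
    (252, [8, 7, 6, 5]),
    (230, [7, 6]),
    (121, []),
    (248, []),
    (128, [8, 5]),
    (225, [5]),
    (159, [8, 5]),
    (245, [8, 7, 6]),
    (231, [8, 6]),
    (244, [8, 7, 5]),
    (221, [7, 6]),
    (228, [8, 6]),
    (147, [7, 5]),
    (146, []),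
    (203, [7, 5]),
    (235, [5]),
    (149, []),
    (250, [8, 5]),
    (150, []),
    (153, []),
    (161, []),
    (205, [6]),
    (199, [5]),
    (179, [7]),
    (229, [8, 7, 5]),
    (227, [8, 7, 6]),
    (209, [8, 7, 6, 5]),
    (247, [5]),
    (223, []),
    (202, [8, 6, 5]),
    (237, [8, 5]),
    (254, [7]),
    (220, [8, 7, 6, 5]),
    (195, []),
    (251, [7]),
    (219, [8, 6, 5]),
    (4, []),
    (8, []),
    (11, []),
    (15, []),
    (0, []),
    (24, []),
    (26, []),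
    (30, []),
    (1, []),
    (38, []),
    (34, [8]),
    (2, []),
    (48, []),
    (50, []),
    (53, []),
    (3, []),
    (59, []),
    (61, []),
    (47, [6]),
    (66, []),
    (70, []),
    (71, []),
    (55, [6]),
    (75, []),
    (5, []),
    (83, []),
    (6, []),
    (87, []),
    (90, []),
    (91, []),
    (7, []),
    (96, []),
    (51, [7, 5]),
    (101, []),
    (10, [8]),
    (105, []),
    (107, []),
    (110, []),
    (9, []),
    (85, [8]),
    (116, []),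
    (99, [8, 7]),
    (121, []),
    (58, [6, 5]),
    (126, []),
    (128, []),
    (130, []),
    (18, [6]),
    (12, []),
    (133, []),
    (13, []),
    (32, [7, 5]),
    (135, [8]),
    (14, []),
    (69, [8, 6]),
    (22, [6]),
    (141, []),
    (143, []),
    (43, [6, 5]),
    (16, []),
    (146, []),
    (17, []),
    (149, []),
    (150, []),
    (151, []),
    (154, []),
    (19, []),
    (118, [8, 7, 5]),
    (159, []),
    (54, [8, 6]),
    (20, []),
    (21, []),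
    (164, [7]),
    (167, []),
    (145, [6]),
    (23, []),
    (152, [8, 5]),
    (168, []),
    (104, [5]),
    (169, []),
    (155, [8, 6, 5]),
    (171, []),
    (173, []),
    (25, []),
    (179, []),
    (39, [8]),
    (183, []),
    (27, []),
    (176, [7, 6, 5]),
    (186, []),
    (28, []),
    (29, []),
    (190, [7]),
    (191, []),
    (119, [8, 6]),
    (195, []),
    (31, []),
    (113, [8, 7, 6, 5]),
    (201, []),
    (41, [8, 7]),
    (203, []),
    (33, []),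
    (205, []),
    (208, []),
    (78, [5]),
    (35, []),
    (209, [7, 5]),
    (36, []),
    (158, [7, 6, 5]),
    (211, []),
    (37, []),
    (215, []),
    (138, [8, 5]),
    (97, [8, 7, 6, 5]),
    (217, []),
    (207, [8]),
    (40, []),
    (213, [8]),
    (67, [8, 7, 5]),
    (94, [8, 6]),
    (220, []),
    (42, []),
    (223, []),
    (224, []),
    (225, []),
    (156, [6, 5]),
    (44, []),
    (162, [6, 5]),
    (45, []),
    (142, [8, 6]),
    (46, []),
    (228, []),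
    (226, [8, 6, 5]),
    (49, []),
    (198, []),
    (52, [8]),
    (219, [8, 6, 5]),
    (153, [7, 6]),
    (112, [8, 5]),
    (166, [8, 5]),
    (230, []),
    (56, []),
    (129, [8, 6]),
    (57, []),
    (232, []),
    (74, [6]),
    (60, []),
    (210, [6, 5]),
    (187, []),
    (62, []),
    (63, []),
    (64, []),
    (76, [8, 5]),
    (137, [7, 6]),
    (65, []),
    (80, [8, 6, 5]),
    (125, [6, 5]),
    (221, [8, 7, 6]),
    (108, [7, 6, 5]),
    (68, []),
    (240, []),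
    (239, [8, 5]),
    (127, [6, 5]),
    (242, []),
    (72, [7]),
    (243, []),
    (139, [8, 5]),
    (73, []),
    (77, []),
    (79, []),
    (194, [7, 6]),
    (81, []),
    (244, []),
    (82, []),
    (196, [8, 7, 5]),
    (204, [5]),
    (88, [7, 6, 5]),
    (247, []),
    (248, []),
    (84, []),
    (238, [8, 7, 6]),
    (231, [7, 6, 5]),
    (216, [8, 7, 6, 5]),
    (86, []),
    (227, [8]),
    (249, [7]),
    (89, []),
    (148, []),
    (250, []),
    (251, []),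
    (92, [7]),
    (93, []),
    (252, []),
    (236, [5]),
    (170, [7, 6]),
    (95, []),
    (174, [8, 7, 5]),
    (229, [8, 5]),
    (134, []),
    (206, [8, 6, 5]),
    (237, [8]),
    (98, []),
    (235, [7, 6]),
    (100, []),
    (175, [5]),
    (102, []),
    (199, [8, 6, 5]),
    (115, [8]),
    (103, []),
    (106, [7, 5]),
    (147, [6, 5]),
    (109, []),
    (234, [5]),
    (117, [8]),
    (253, [6, 5]),
    (111, []),
    (182, [8, 7, 6, 5]),
    (114, []),
    (222, [5]),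
    (136, [8, 6, 5]),
    (120, []),
    (157, [8, 7, 6]),
    (218, [5]),
    (122, []),
    (123, []),
    (124, []),
    (132, [8, 6, 5]),
    (184, [8]),
    (131, []),
    (197, [8, 5]),
    (140, []),
    (181, [7, 6, 5]),
    (144, []),
    (255, [7]),
    (212, [5]),
    (202, [7, 6]),
    (193, [5]),
    (200, [8]),
    (180, [8, 7, 6]),
    (161, [8, 5]),
    (160, []),
    (245, [8, 7]),
    (163, []),
    (165, []),
    (172, []),
    (241, [8, 7]),
    (254, [8, 7, 5]),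
    (177, []),
    (178, []),
    (185, [7]),
    (188, []),
    (189, []),
    (192, []),
    (214, [6, 5]),
    (246, [8, 7, 5]),
    (233, [7]),
    (5, []),
    (9, []),
    (12, []),
    (16, []),
    (20, []),
    (0, []),
    (27, []),
    (7, [6]),
    (34, []),
    (1, []),
    (41, []),
    (45, []),
    (2, []),
    (51, []),
    (54, []),
    (57, []),
    (3, []),
    (62, []),
    (56, [8, 5]),
    (55, [8, 5]),
    (4, []),
    (72, []),
    (74, []),
    (76, []),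
    (80, []),
    (28, [7]),
    (85, []),
    (6, []),
    (25, [7]),
    (92, []),
    (94, []),
    (97, []),
    (99, []),
    (102, []),
    (8, []),
    (58, [6]),
    (108, []),
    (37, [6]),
    (112, []),
    (39, [6]),
    (117, []),
    (10, []),
    (100, [8, 7, 6, 5]),
    (124, []),
    (75, [8, 6]),
    (11, []),
    (114, [7, 6]),
    (104, [6, 5]),
    (132, []),
    (49, [6]),
    (135, []),
    (13, []),
    (138, []),
    (79, [8, 6]),
    (14, []),
    (19, [8, 5]),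
    (18, [8, 5]),
    (15, []),
    (35, [6]),
    (127, [6]),
    (120, [8]),
    (101, [6, 5]),
    (17, []),
    (77, [8, 6, 5]),
    (152, []),
    (105, [8, 6]),
    (156, []),
    (158, []),
    (69, [8]),
    (68, [8]),
    (162, []),
    (166, []),
    (21, []),
    (139, [6, 5]),
    (22, []),
    (44, [8, 6]),
    (23, []),
    (63, [8, 6, 5]),
    (125, [8, 6, 5]),
    (53, [8, 6]),
    (24, []),
    (172, []),
    (174, []),
    (177, []),
    (180, []),
    (26, []),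
    (89, [7, 6, 5]),
    (153, [8, 7, 5]),
    (113, [7]),
    (86, [7, 6, 5]),
    (188, []),
    (130, [8, 7]),
    (29, []),
    (192, []),
    (30, []),
    (196, []),
    (199, []),
    (31, []),
    (171, [8, 5]),
    (32, []),
    (42, [8, 7, 6, 5]),
    (61, [6, 5]),
    (33, []),
    (209, []),
    (47, [6, 5]),
    (65, [8, 6]),
    (109, [7]),
    (142, [7]),
    (36, []),
    (106, [7]),
    (213, []),
    (216, []),
    (38, []),
    (88, [7]),
    (46, [7, 6]),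
    (182, [7, 6]),
    (219, []),
    (40, []),
    (118, [6]),
    (184, []),
    (60, [8]),
    (121, [6]),
    (131, [8, 6, 5]),
    (145, [8, 6]),
    (43, []),
    (78, [8, 6, 5]),
    (154, [6, 5]),
    (59, [6]),
    (159, [6, 5]),
    (129, [6]),
    (91, [8, 7]),
    (122, [8, 6, 5]),
    (48, []),
    (227, [5]),
    (194, [8, 5]),
    (50, []),
    (136, [6]),
    (137, [6]),
    (52, []),
    (73, [6, 5]),
    (144, [8, 6, 5]),
    (224, [6]),
    (107, [7]),
    (155, [8, 6]),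
    (140, [8, 6, 5]),
    (123, [8, 6]),
    (203, [6, 5]),
    (179, [6, 5]),
    (234, []),
    (149, [6]),
    (230, [6, 5]),
    (225, [8, 6, 5]),
    (64, []),
    (87, [8, 7, 5]),
    (126, [6, 5]),
    (143, [8, 6]),
    (66, []),
    (178, [5]),
    (67, []),
    (128, [6, 5]),
    (165, [6]),
    (238, [8, 6]),
    (70, []),
    (207, [6, 5]),
    (217, [8, 6]),
    (160, [6]),
    (71, []),
    (190, [8, 6]),
    (168, [6]),
    (226, []),
    (185, [7]),
    (98, [8, 5]),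
    (81, []),
    (229, [7, 6, 5]),
    (82, []),
    (239, [8, 7, 6]),
    (246, []),
    (83, []),
    (157, [5]),
    (147, [6, 5]),
    (84, []),
    (210, [6]),
    (115, [7, 6]),
    (202, [6, 5]),
    (119, []),
    (170, [7]),
    (214, [8, 6, 5]),
    (218, [8, 5]),
    (90, []),
    (244, [8, 6, 5]),
    (167, [8, 6]),
    (233, [7, 5]),
    (93, []),
    (212, [6]),
    (134, [8, 5]),
    (208, [8, 6, 5]),
    (95, []),
    (237, [6, 5]),
    (254, []),
    (96, []),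
    (211, [6]),
    (242, [7, 6]),
    (183, [6, 5]),
    (146, [6, 5]),
    (248, [7]),
    (205, [6]),
    (249, [7, 5]),
    (163, [6, 5]),
    (195, [8, 6, 5]),
    (103, []),
    (181, [6]),
    (200, [6]),
    (193, [6]),
    (110, []),
    (186, [8, 6, 5]),
    (251, [7, 6]),
    (111, []),
    (164, [8, 6]),
    (187, [8, 5]),
    (116, []),
    (220, [6]),
    (231, [8, 7]),
    (241, [8, 5]),
    (223, [6]),
    (141, [6]),
    (151, [8, 6, 5]),
    (169, []),
    (133, [5]),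
    (240, [8, 5]),
    (173, [7, 6, 5]),
    (150, [6, 5]),
    (221, [8, 7]),
    (232, [6]),
    (191, [7, 5]),
    (148, []),
    (250, [6, 5]),
    (252, [6, 5]),
    (197, [6, 5]),
    (161, [8, 6]),
    (175, [8, 7, 6]),
    (228, [8, 5]),
    (222, [8, 5]),
    (201, [7, 6]),
    (243, [6]),
    (189, [8, 6, 5]),
    (255, [8, 7, 5]),
    (176, []),
    (253, [8, 7, 5]),
    (204, [7]),
    (206, [7, 5]),
    (235, [6, 5]),
    (215, [7, 6]),
    (236, [6, 5]),
    (247, [8, 7, 5]),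
    (198, []),
    (245, [8, 7, 5]),
    (0, [5]),
    (49, [5]),
    (14, []),
    (3, [5]),
    (56, [5]),
    (58, [5]),
    (29, []),
    (13, [5]),
    (17, [5]),
    (136, [5]),
    (117, [6]),
    (124, [8]),
    (22, [5]),
    (7, [5]),
    (2, []),
    (19, [5]),
    (23, [5]),
    (8, [5]),
    (65, []),
    (15, [5]),
    (48, [8, 6, 5]),
    (27, [7, 6]),
    (12, [5]),
    (16, [5]),
    (45, [8, 6, 5]),
    (106, [6, 5]),
    (178, [7, 6]),
    (21, [7, 6]),
    (28, [5]),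
    (6, []),
    (187, [5]),
    (186, [5]),
    (100, []),
    (50, [5]),
    (120, [8, 7, 6, 5]),
    (35, [5]),
    (72, [7]),
    (51, [5]),
    (60, [7, 5]),
    (73, [7]),
    (52, [5]),
    (184, [6]),
    (135, [8]),
    (125, []),
    (53, [5]),
    (24, [8, 6, 5]),
    (118, [7, 6]),
    (54, [5]),
    (20, [8, 6, 5]),
    (1, [5]),
    (33, [5]),
    (37, [5]),
    (40, [5]),
    (44, [5]),
    (47, [5]),
    (64, [5]),
    (4, [5]),
    (69, [5]),
    (5, [5]),
    (79, [5]),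
    (38, [7, 5]),
    (191, [5]),
    (112, [6, 5]),
    (166, [8, 6]),
    (55, [5]),
    (18, []),
    (66, [5]),
    (180, [7, 6, 5]),
    (152, []),
    (57, [5]),
    (151, [8, 5]),
    (122, [6]),
    (36, [7]),
    (39, [7]),
    (104, [6, 5]),
    (123, [6]),
    (76, [5]),
    (190, [6, 5]),
    (80, [8]),
    (59, [5]),
    (78, [8]),
    (113, [5]),
    (86, [6]),
    (189, []),
    (87, [6]),
    (239, [8, 7, 6, 5]),
    (82, [6]),
    (84, [6]),
    (185, []),
    (89, [5]),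
    (134, [5]),
    (165, [7]),
    (108, [6]),
    (133, [5]),
    (245, [8, 7, 6]),
    (97, [8]),
    (96, [5]),
    (95, [8]),
    (211, [7]),
    (102, [7, 6]),
    (32, []),
    (148, [5]),
    (99, [7, 6]),
    (244, [8, 7]),
    (74, [6, 5]),
    (132, [8, 5]),
    (25, [6, 5]),
    (175, [6, 5]),
    (92, [6]),
    (109, [5]),
    (255, [5]),
    (196, [8, 6]),
    (62, [6, 5]),
    (81, [5]),
    (137, [5]),
    (172, [7, 5]),
    (192, [8]),
    (10, [6]),
    (46, [7, 6]),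
    (138, [5]),
    (34, [8, 7, 6, 5]),
    (252, [8, 5]),
    (71, [6]),
    (75, [6]),
    (11, [8]),
    (43, []),
    (225, [8, 5]),
    (145, [8, 6]),
    (156, [8, 6]),
    (139, [5]),
    (140, [6, 5]),
    (167, [5]),
    (105, [8, 5]),
    (93, [5]),
    (90, [5]),
    (42, [8]),
    (9, [5]),
    (114, [5]),
    (119, [5]),
    (129, [5]),
    (130, [6, 5]),
    (141, [5]),
    (157, [5]),
    (154, [8]),
    (164, [7, 6]),
    (127, [8, 6]),
    (234, [7]),
    (168, [7]),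
    (101, [5]),
    (241, [6, 5]),
    (221, [7, 6, 5]),
    (70, [8, 5]),
    (68, []),
    (181, [8, 7, 6, 5]),
    (143, [8]),
    (162, [8, 6]),
    (128, [8, 6]),
    (142, [5]),
    (210, [7, 5]),
    (159, [5]),
    (217, [8, 7, 6]),
    (228, [8, 6, 5]),
    (155, [8, 6]),
    (183, [7, 6]),
    (144, [7, 6]),
    (91, [7]),
    (63, [8, 6]),
    (131, [5]),
    (147, [7]),
    (224, [6]),
    (182, [6]),
    (188, [8, 7, 6, 5]),
    (115, [7, 5]),
    (246, [8, 5]),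
    (174, [5]),
    (107, [6, 5]),
    (202, [8, 5]),
    (249, [8, 6]),
    (26, [7, 6]),
    (223, [7, 6]),
    (67, [7, 6, 5]),
    (153, [8, 7, 6, 5]),
    (170, [6]),
    (163, [7, 6]),
    (41, [6]),
    (88, []),
    (31, [5]),
    (30, [5]),
    (171, [8, 7, 6, 5]),
    (83, []),
    (77, [6, 5]),
    (61, [5]),
    (116, [8]),
    (227, []),
    (200, [8]),
    (250, [8, 5]),
    (111, [8, 6]),
    (208, [8, 5]),
    (198, [5]),
    (251, [7, 5]),
    (194, [8]),
    (201, [5]),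
    (176, [8, 5]),
    (233, [5]),
    (232, [7]),
    (236, [5]),
    (209, [8]),
    (229, [5]),
    (197, [8, 5]),
    (206, [8]),
    (158, [7, 5]),
    (98, [7]),
    (219, [8, 6]),
    (218, [8, 6]),
    (216, [8]),
    (215, [5]),
    (214, [8]),
    (160, [8, 7, 6]),
    (213, [8, 6]),
    (212, [8, 6]),
    (222, [7, 6]),
    (150, [7, 6, 5]),
    (220, [7, 6]),
    (179, [7, 6]),
    (169, [6]),
    (126, [8, 5]),
    (226, [5]),
    (193, []),
    (161, [8, 6, 5]),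
    (207, [5]),
    (238, [5]),
    (240, [5]),
    (204, [7]),
    (203, [5]),
    (146, [7]),
    (247, [7, 6]),
    (205, [5]),
    (253, []),
    (230, [5]),
    (85, [8, 7, 6, 5]),
    (231, [5]),
    (149, [6, 5]),
    (254, []),
    (248, [6]),
    (103, [8, 7]),
    (94, [8, 7, 6]),
    (173, [8, 5]),
    (235, [7, 6]),
    (243, [6]),
    (177, [8, 6]),
    (195, [8, 5]),
    (199, [7, 5]),
    (121, [8, 5]),
    (237, []),
    (242, []),
    (110, [5]),
    (0, [6]),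
    (92, [7, 6]),
    (14, [6, 5]),
    (3, [6]),
    (53, [8, 5]),
    (16, [6, 5]),
    (37, [7, 6]),
    (36, [7, 6]),
    (181, [7, 6]),
    (21, [6]),
    (114, [7]),
    (15, [8, 5]),
    (12, [6]),
    (72, [6, 5]),
    (2, [6, 5]),
    (11, [8, 5]),
    (5, [6, 5]),
    (153, [8]),
    (43, [8]),
    (124, []),
    (45, [8]),
    (9, [6]),
    (22, [6]),
    (58, [6, 5]),
    (48, [8]),
    (82, [6, 5]),
    (62, [7, 6, 5]),
    (136, [7, 5]),
    (109, []),
    (51, [7, 6, 5]),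
    (160, []),
    (177, [7, 6, 5]),
    (157, [7, 6, 5]),
    (85, [7, 6]),
    (175, [7, 6, 5]),
    (35, [6]),
    (7, [7, 6]),
    (6, [7, 6]),
    (180, [7]),
    (40, [7]),
    (39, [7]),
    (139, [6, 5]),
    (158, [8]),
    (18, [8]),
    (56, [8, 5]),
    (20, [8]),
    (138, [6, 5]),
    (47, [6]),
    (24, [8]),
    (108, [7, 5]),
    (239, [8]),
    (29, [7, 6, 5]),
    (73, [5]),
    (4, [8, 5]),
    (54, [6]),
    (75, [8, 6, 5]),
    (44, [8, 5]),
    (79, [6]),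
    (23, [6, 5]),
    (69, [6]),
    (67, [7, 6]),
    (232, [5]),
    (26, [7, 6, 5]),
    (219, []),
    (123, [8]),
    (125, [8]),
    (141, [6, 5]),
    (60, [7, 6]),
    (80, [8, 6, 5]),
    (59, [6]),
    (143, [6, 5]),
    (245, [8, 7]),
    (13, [6, 5]),
    (52, [5]),
    (104, []),
    (55, [8, 6, 5]),
    (76, [6]),
    (213, [5]),
    (152, [6, 5]),
    (57, [6]),
    (68, [8, 6, 5]),
    (170, [6, 5]),
    (25, [6, 5]),
    (194, [8, 7, 6, 5]),
    (99, []),
    (33, [7, 6]),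
    (106, [6]),
    (102, [7]),
    (172, [7, 6]),
    (174, [7, 6]),
    (176, [8, 7, 6, 5]),
    (193, [7, 6]),
    (1, [7, 6]),
    (167, [8, 6]),
    (122, []),
    (163, [8, 6, 5]),
    (201, [7]),
    (183, [7, 5]),
    (229, [7, 6, 5]),
    (84, []),
    (142, [7, 6]),
    (168, [5]),
    (87, [7]),
    (111, [6]),
    (74, []),
    (145, [8]),
    (86, [6]),
    (120, [8, 6, 5]),
    (49, [7, 5]),
    (28, []),
    (140, [8, 6, 5]),
    (103, [6]),
    (178, [6]),
    (182, []),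
    (10, [7]),
    (185, [6, 5]),
    (144, [8, 6]),
    (137, [7, 6, 5]),
    (119, [7]),
    (118, [7]),
    (107, [8, 6, 5]),
    (240, [8, 6, 5]),
    (94, []),
    (64, [8]),
    (19, []),
    (65, [8]),
    (126, [6]),
    (132, [8, 6, 5]),
    (128, [6]),
    (184, []),
    (255, [8, 5]),
    (133, [8, 6]),
    (127, [8, 6, 5]),
    (131, [8, 6]),
    (202, [7, 6, 5]),
    (210, [7, 5]),
    (27, [7, 5]),
    (117, [7, 6, 5]),
    (46, [6, 5]),
    (41, [6, 5]),
    (110, [8, 6, 5]),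
    (66, [6, 5]),
    (100, [7, 6]),
    (70, [6, 5]),
    (116, [8, 6]),
    (105, [8]),
    (243, [7, 6, 5]),
    (148, [7]),
    (147, [7]),
    (150, [8, 6, 5]),
    (149, [8, 6, 5]),
    (154, [6]),
    (78, [6, 5]),
    (17, [8]),
    (151, [6]),
    (155, [6]),
    (156, [6]),
    (32, [7, 6, 5]),
    (42, [8]),
    (226, [8, 6]),
    (30, []),
    (222, [8, 6, 5]),
    (162, [6]),
    (95, [8, 6, 5]),
    (192, [7]),
    (227, [6]),
    (212, []),
    (93, [8, 6]),
    (101, [5]),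
    (169, [6]),
    (81, [6, 5]),
    (209, [8, 7, 6, 5]),
    (88, [7, 6]),
    (216, [7]),
    (89, [7, 6]),
    (34, [7, 6, 5]),
    (90, [8, 7, 6, 5]),
    (31, [7, 6, 5]),
    (112, [6]),
    (233, [6, 5]),
    (38, [7]),
    (8, [7, 6]),
    (113, []),
    (97, [7, 5]),
    (129, []),
    (115, [6, 5]),
    (249, [8, 7]),
    (217, [8, 7, 6, 5]),
    (206, [8]),
    (200, [7, 6, 5]),
    (218, [8]),
    (204, [7]),
    (164, [7]),
    (91, [7, 6]),
    (83, [8, 7, 6, 5]),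
    (250, [8, 6]),
    (244, [7]),
    (235, [8, 6]),
    (215, [5]),
    (251, [7, 6]),
    (189, [7, 6, 5]),
    (96, [7]),
    (134, [7, 6, 5]),
    (223, [7]),
    (191, [7]),
    (230, [8, 6, 5]),
    (188, [8]),
    (211, [6]),
    (247, [7, 5]),
    (171, [8, 7, 6, 5]),
    (135, [7, 5]),
    (207, [6]),
    (166, []),
    (77, [5]),
    (246, [7, 5]),
    (198, [5]),
    (173, [7]),
    (187, [8, 7, 6, 5]),
    (190, [8]),
    (63, []),
    (228, [7, 6]),
    (241, [8, 7, 6, 5]),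
    (161, [8, 6, 5]),
    (203, [7]),
    (224, [6]),
    (225, [6]),
    (159, [8, 6]),
    (165, [6]),
    (220, [7, 6]),
    (98, [7, 6, 5]),
    (205, [8, 6, 5]),
    (252, [6, 5]),
    (61, [5]),
    (179, [6, 5]),
    (248, [5]),
    (197, [8, 6]),
    (238, [8, 6, 5]),
    (253, [6, 5]),
    (236, [8, 6, 5]),
    (50, [8]),
    (121, [8, 6, 5]),
    (221, [8, 7, 6, 5]),
    (254, [6, 5]),
    (146, [7, 6, 5]),
    (196, [7]),
    (71, [8, 7]),
    (214, [7, 5]),
    (208, [7, 5]),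
    (234, [5]),
    (186, [8, 7]),
    (195, [8, 6]),
    (199, [7, 6]),
    (231, [6, 5]),
    (237, [6, 5]),
    (242, [6, 5]),
    (130, [8, 5]),
    (0, [7]),
    (41, [5]),
    (104, [7, 6]),
    (3, [7]),
    (171, [8]),
    (16, [7, 5]),
    (137, [6]),
    (119, [5]),
    (178, [8]),
    (52, []),
    (51, []),
    (173, [8, 5]),
    (22, [7]),
    (138, [5]),
    (74, [7, 5]),
    (216, [7]),
    (5, [7, 5]),
    (26, [8, 7, 6, 5]),
    (186, [8, 7, 6]),
    (214, [8, 7, 5]),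
    (111, [7, 5]),
    (73, [6, 5]),
    (12, [7]),
    (58, [7, 5]),
    (244, [8]),
    (25, [7]),
    (17, [8, 7, 6, 5]),
    (39, [5]),
    (89, [7, 5]),
    (114, [6, 5]),
    (144, [8, 6]),
    (65, [8, 7, 6, 5]),
    (210, [8, 6]),
    (87, [8, 7]),
    (180, [8, 7, 6]),
    (35, [7]),
    (118, [6, 5]),
    (117, [6, 5]),
    (175, [8, 7, 5]),
    (27, [5]),
    (136, []),
    (1, [5]),
    (142, [5]),
    (249, [8, 6]),
    (206, [7, 6, 5]),
    (103, [8, 7, 6, 5]),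
    (72, [5]),
    (54, [7]),
    (196, [7]),
    (184, [6]),
    (84, [8, 7, 6, 5]),
    (10, []),
    (9, []),
    (209, [8, 7, 6]),
    (47, [7]),
    (90, [8, 7, 6]),
    (188, [7, 6]),
    (98, []),
    (23, [7, 5]),
    (207, [7, 5]),
    (107, [8, 6, 5]),
    (220, [7, 5]),
    (153, []),
    (94, []),
    (134, [8, 7, 6]),
    (31, [8, 7, 6, 5]),
    (226, [7]),
    (120, [7, 6]),
    (95, [7, 6, 5]),
    (211, [7, 5]),
    (70, [7]),
    (212, [8]),
    (46, [5]),
    (21, [6, 5]),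
    (14, [7, 5]),
    (176, [8, 6]),
    (76, [7]),
    (133, [8, 6]),
    (183, [8, 5]),
    (229, [7, 5]),
    (163, [7, 6, 5]),
    (170, [7, 5]),
    (82, [7]),
    (145, [8, 6]),
    (50, [8, 7, 6, 5]),
    (102, [8, 7, 6]),
    (86, [7]),
    (33, [8, 7]),
    (172, []),
    (28, [7, 5]),
    (55, [8, 7, 6]),
    (255, [8, 7, 5]),
    (139, [7]),
    (190, [8]),
    (63, []),
    (68, [7, 6, 5]),
    (215, [7, 6]),
    (152, [8, 7, 6, 5]),
    (57, []),
    (239, [7, 6, 5]),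
    (158, [8, 7, 6, 5]),
    (121, [6]),
    (85, [8, 7, 6]),
    (45, [8, 7, 6, 5]),
    (2, [7, 6]),
    (194, [8, 7, 5]),
    (106, [7]),
    (60, [8, 6, 5]),
    (129, [7, 6, 5]),
    (174, [6, 5]),
    (165, [8]),
    (20, [7, 5]),
    (181, [8, 7]),
    (182, [7, 6]),
    (29, [6, 5]),
    (185, [7, 5]),
    (160, []),
    (37, [6, 5]),
    (36, [6, 5]),
    (7, [5]),
    (67, [7, 6]),
    (101, [6]),
    (219, []),
    (202, [5]),
    (246, [8]),
    (177, []),
    (225, [8, 7]),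
    (189, []),
    (156, [8, 7, 6, 5]),
    (108, [7, 6, 5]),
    (193, [6]),
    (213, [5]),
    (200, [8, 7]),
    (77, [8, 6]),
    (64, [8, 7, 6]),
    (157, [8]),
    (40, []),
    (6, [6]),
    (13, [5]),
    (92, [7]),
    (227, [5]),
    (159, [8, 7, 5]),
    (42, [5]),
    (143, [7]),
    (30, [8, 6]),
    (83, [8, 6]),
    (149, [8, 7, 5]),
    (231, [8, 7, 5]),
    (252, [8, 6]),
    (146, [8, 7, 5]),
    (243, [5]),
    (151, [7]),
    (97, [8, 7, 6, 5]),
    (62, []),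
    (154, [7]),
    (162, [8, 7, 6, 5]),
    (128, [8, 7, 6, 5]),
    (135, [8]),
    (100, [8, 7, 6, 5]),
    (141, [8, 7, 5]),
    (116, []),
    (204, [8, 7, 5]),
    (155, [8, 7, 6, 5]),
    (80, [7, 6, 5]),
    (187, [8, 7, 5]),
    (110, [8]),
    (245, [7]),
    (218, [8, 6]),
    (240, [8]),
    (224, [7, 6, 5]),
    (81, [7, 5]),
    (4, [8]),
    (88, []),
    (11, [8, 5]),
    (109, [6, 5]),
    (38, [8, 7, 5]),
    (75, [8, 6]),
    (125, []),
    (8, [8]),
    (238, [7, 5]),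
    (34, [8, 7, 6]),
    (112, [8, 7]),
    (113, [7, 6]),
    (78, [8, 5]),
    (49, [6]),
    (115, [7, 5]),
    (18, [8, 7, 6]),
    (164, [8, 7, 5]),
    (56, [7, 6]),
    (127, []),
    (93, [8]),
    (222, [6]),
    (217, [7, 6]),
    (130, [6]),
    (105, [8, 7, 5]),
    (237, [7]),
    (48, [7]),
    (197, [7]),
    (201, [6, 5]),
    (242, [7]),
    (132, [8, 7]),
    (198, [6, 5]),
    (123, [5]),
    (205, [8, 7, 5]),
    (161, [8, 7, 5]),
    (203, [8, 7, 5]),
    (44, [7, 6, 5]),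
    (59, [7, 5]),
    (208, [7]),
    (53, [8, 7, 6]),
    (32, [8, 6]),
    (69, [7, 5]),
    (71, [8]),
    (131, [5]),
    (19, [8, 7, 5]),
    (96, [7, 6]),
    (15, [7]),
    (192, [7, 6]),
    (167, [8, 6]),
    (122, []),
    (61, [7, 5]),
    (248, [7]),
    (191, [6]),
    (230, [6]),
    (169, [7, 6, 5]),
    (126, [8, 7]),
    (66, [7]),
    (140, [5]),
    (232, [6]),
    (79, [7, 5]),
    (223, [6]),
    (147, [8, 7, 5]),
    (228, [6]),
    (236, [8, 7, 5]),
    (241, [8, 6]),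
    (235, [7]),
    (233, [8, 7, 5]),
    (195, [7]),
    (179, [7, 5]),
    (99, [7, 6, 5]),
    (168, [8]),
    (234, [8, 6]),
    (199, [7]),
    (150, [5]),
    (24, [8]),
    (166, [7]),
    (124, [8]),
    (247, [7]),
    (221, [7]),
    (43, [8, 6]),
    (253, [8, 7, 5]),
    (254, [5]),
    (148, [8, 6]),
    (250, [8, 7, 5]),
    (251, [5]),
    (91, [8, 7, 5]),
    (0, [8]),
    (205, [7, 6]),
    (2, [8]),
    (3, [8]),
    (55, [6, 5]),
    (58, [8]),
    (161, []),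
    (241, [7]),
    (71, [7, 6]),
    (121, [8, 7, 5]),
    (61, [8, 7, 6, 5]),
    (43, [6]),
    (47, [8, 5]),
    (149, [7, 6]),
    (14, [8]),
    (18, [6, 5]),
    (23, [8]),
    (122, [7, 5]),
    (15, [6, 5]),
    (65, [6]),
    (68, [6]),
    (240, [7]),
    (54, [8, 5]),
    (16, [8]),
    (78, [6]),
    (82, [8, 5]),
    (219, [8, 6]),
    (231, [6, 5]),
    (89, [8, 5]),
    (228, [8, 6, 5]),
    (158, [7, 5]),
    (214, []),
    (164, [7, 6]),
    (165, [7, 6]),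
    (167, [8, 7, 6]),
    (35, [8]),
    (221, [8, 7, 5]),
    (222, [8, 7, 5]),
    (190, [7, 6]),
    (147, [8, 7, 6, 5]),
    (148, [8, 7, 6, 5]),
    (203, [8, 6]),
    (160, [8, 7, 5]),
    (11, [6]),
    (123, [6]),
    (80, [5]),
    (243, [8, 7, 6]),
    (12, [8, 5]),
    (152, [8, 5]),
    (236, [7, 6]),
    (91, [6, 5]),
    (220, [8, 6]),
    (101, [8, 7, 6, 5]),
    (75, [5]),
    (22, [8, 5]),
    (4, [6, 5]),
    (64, [6, 5]),
    (132, []),
    (5, [8]),
    (145, [6]),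
    (77, []),
    (10, [8, 7, 6, 5]),
    (63, [8, 7, 5]),
    (62, [8, 7, 5]),
    (56, [6, 5]),
    (19, [6]),
    (226, [8]),
    (213, [7, 6, 5]),
    (20, [6]),
    (105, [8]),
    (143, [8, 5]),
    (8, [7, 6]),
    (150, [8, 7, 6]),
    (168, [8, 7, 6, 5]),
    (74, [8]),
    (53, [5]),
    (76, [8]),
    (60, []),
    (24, [6]),
    (127, [8, 5]),
    (45, [5]),
    (113, [8]),
    (25, [8, 5]),
    (207, [8, 7, 5]),
    (255, [5]),
    (227, [6]),
    (106, [8]),
    (110, [6]),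
    (185, [8, 5]),
    (28, [8, 5]),
    (171, [7, 5]),
    (50, [6, 5]),
    (230, [8, 6, 5]),
    (175, [6, 5]),
    (153, [8, 7, 5]),
    (111, []),
    (215, [8, 6]),
    (196, [6]),
    (200, [8, 7]),
    (130, [8]),
    (144, []),
    (52, [8, 7, 6, 5]),
    (140, [8, 7, 5]),
    (163, [8, 5]),
    (104, [8]),
    (69, [8]),
    (86, [8]),
    (133, [5]),
    (238, [8]),
    (174, [8, 7, 6, 5]),
    (87, [6]),
    (95, []),
    (166, [7]),
    (81, [8]),
    (232, [8, 6]),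
    (172, [8, 7]),
    (142, [8, 7]),
    (191, [8, 7]),
    (248, [8, 6]),
    (234, [8, 7, 6, 5]),
    (131, []),
    (9, [8, 7, 5]),
    (17, [7, 5]),
    (44, [6]),
    (125, [8, 6]),
    (124, [8, 6]),
    (155, [8]),
    (79, [8, 5]),
    (169, [6, 5]),
    (179, [8, 6]),
    (99, [8]),
    (120, []),
    (57, []),
    (107, [5]),
    (188, [8, 6, 5]),
    (217, [8, 6, 5]),
    (252, [7, 5]),
    (204, [8, 7, 6, 5]),
    (146, [8, 6]),
    (223, [8, 7, 5]),
    (102, [8, 7, 5]),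
    (159, [5]),
    (116, [8, 7]),
    (70, [8, 5]),
    (100, []),
    (59, [6]),
    (138, [8, 6]),
    (39, [8, 7, 6, 5]),
    (40, [8, 7, 6, 5]),
    (13, [7, 6]),
    (72, [8, 7, 6]),
    (154, [8]),
    (48, [8, 5]),
    (94, [8, 7, 5]),
    (151, [8]),
    (126, [8]),
    (224, [8, 6, 5]),
    (192, [7, 5]),
    (30, [7, 5]),
    (141, [5]),
    (42, [8, 7, 5]),
    (6, []),
    (225, [8, 6, 5]),
    (103, [8, 5]),
    (32, [7, 6]),
    (33, [7, 6]),
    (112, [7]),
    (34, [8, 7, 6]),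
    (73, [8, 7, 6, 5]),
    (128, [6, 5]),
    (182, [8, 6, 5]),
    (90, [7, 5]),
    (115, [8, 7]),
    (249, [5]),
    (109, [8, 7, 6, 5]),
    (93, [6, 5]),
    (209, [7, 5]),
    (246, [6]),
    (212, [7, 6]),
    (129, [8, 6]),
    (218, [8, 6]),
    (245, [8, 7]),
    (170, [8, 6, 5]),
    (244, [6, 5]),
    (233, [8, 5]),
    (88, [8, 5]),
    (216, [8, 5]),
    (210, [5]),
    (134, [8, 6, 5]),
    (229, [8, 7]),
    (38, [7, 6]),
    (117, [8, 7]),
    (157, [7, 5]),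
    (239, [8, 7, 5]),
    (211, []),
    (195, [8]),
    (97, [6]),
    (235, []),
    (201, [8, 7, 6, 5]),
    (199, [8]),
    (98, [8, 7]),
    (198, [8, 7, 6, 5]),
    (206, [7]),
    (41, [8, 6]),
    (137, [8, 7, 6, 5]),
    (1, [7, 6]),
    (202, [7]),
    (83, [8, 7, 5]),
    (247, [8, 7, 6, 5]),
    (176, [7, 5]),
    (187, [5]),
    (194, []),
    (178, [7, 6]),
    (67, [7, 6, 5]),
    (31, []),
    (96, [8, 6]),
    (186, [8, 5]),
    (135, [8, 6, 5]),
    (180, [8, 6]),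
    (26, [8, 6]),
    (51, [8, 6]),
    (36, [8, 7, 5]),
    (37, [8, 7, 5]),
    (139, [8, 7, 5]),
    (156, [8, 6, 5]),
    (162, [8, 6, 5]),
    (66, [8]),
    (85, [6]),
    (29, [8, 6, 5]),
    (189, [8, 7]),
    (92, [8, 6, 5]),
    (27, [6, 5]),
    (114, [8, 6]),
    (184, [8, 5]),
    (119, [8, 7, 6, 5]),
    (197, []),
    (49, [7, 6]),
    (237, [8]),
    (108, [8]),
    (193, [8, 7, 5]),
    (21, [7]),
    (7, [7]),
    (242, [8]),
    (46, [8, 7, 6]),
    (183, [6, 5]),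
    (181, [8, 7]),
    (177, [6]),
    (208, [8, 7, 6, 5]),
    (118, [8, 6]),
    (173, [5]),
    (250, [8]),
    (251, [8]),
    (136, [7, 5]),
    (253, [8]),
    (254, [8]),
    (84, [5])]

/-- A level. -/
def twoLev1 : StabCert.Lev where
  b := 0
  gens := [5, 6, 7, 8]
  words := [[],
    [5],
    [6],
    [7],
    [8],
    [6, 5],
    [7, 5],
    [8, 5],
    [7, 6],
    [8, 6],
    [8, 7],
    [7, 6, 5],
    [8, 6, 5],
    [8, 7, 5],
    [8, 7, 6],
    [8, 7, 6, 5]]
  cert := [(1, []),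
    (0, []),
    (5, []),
    (6, []),
    (7, []),
    (2, []),
    (3, []),
    (4, []),
    (11, []),
    (12, []),
    (13, []),
    (8, []),
    (9, []),
    (10, []),
    (15, []),
    (14, []),
    (2, []),
    (5, []),
    (0, []),
    (8, []),
    (9, []),
    (1, []),
    (11, []),
    (12, []),
    (3, []),
    (4, []),
    (14, []),
    (6, []),
    (7, []),
    (15, []),
    (10, []),
    (13, []),
    (3, []),
    (6, []),
    (8, []),
    (0, []),
    (10, []),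
    (11, []),
    (1, []),
    (13, []),
    (2, []),
    (14, []),
    (4, []),
    (5, []),
    (15, []),
    (7, []),
    (9, []),
    (12, []),
    (4, []),
    (7, []),
    (9, []),
    (10, []),
    (0, []),
    (12, []),
    (13, []),
    (1, []),
    (14, []),
    (2, []),
    (3, []),
    (15, []),
    (5, []),
    (6, []),
    (8, []),
    (11, [])]

/-- Generators of a subgroup fixing the first line. -/
def lineWords : List (List ℕ) := [[1, 4], [3, 5, 2, 1, 0]]

/-- An element of order three. -/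
def zWord : List ℕ := [4, 3]

/-- Part of a table. -/
noncomputable def twoLab : BTree := (.node (.node (.node (.node (.node (.node (.node (.node (.node (.leaf 0) (.leaf 1)) (.node (.leaf 4) (.leaf 1))) (.node (.node (.leaf 1) (.leaf 1)) (.leaf 1))) (.node (.node (.node (.leaf 2) (.leaf 1)) (.leaf 1)) (.node (.node (.leaf 1) (.leaf 1)) (.leaf 1)))) (.node (.node (.node (.node (.leaf 1) (.leaf 1)) (.node (.leaf 1) (.leaf 0))) (.node (.node (.leaf 0) (.leaf 1)) (.leaf 0))) (.node (.node (.node (.leaf 1) (.leaf 1)) (.leaf 2)) (.node (.node (.leaf 1) (.leaf 1)) (.leaf 1))))) (.node (.node (.node (.node (.node (.leaf 3) (.leaf 0)) (.node (.leaf 1) (.leaf 1))) (.node (.node (.leaf 2) (.leaf 2)) (.leaf 0))) (.node (.node (.node (.leaf 1) (.leaf 3)) (.leaf 1)) (.node (.node (.leaf 4) (.leaf 3)) (.leaf 1)))) (.node (.node (.node (.node (.leaf 1) (.leaf 3)) (.node (.leaf 1) (.leaf 2))) (.node (.node (.leaf 1) (.leaf 1)) (.leaf 1))) (.node (.node (.node (.leaf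 4) (.leaf 1)) (.leaf 4)) (.node (.node (.leaf 2) (.leaf 1)) (.leaf 0)))))) (.node (.node (.node (.node (.node (.node (.leaf 2) (.leaf 1)) (.node (.leaf 1) (.leaf 0))) (.node (.node (.leaf 1) (.leaf 1)) (.leaf 2))) (.node (.node (.node (.leaf 3) (.leaf 1)) (.leaf 2)) (.node (.node (.leaf 2) (.leaf 1)) (.leaf 1)))) (.node (.node (.node (.node (.leaf 4) (.leaf 0)) (.node (.leaf 1) (.leaf 0))) (.node (.node (.leaf 2) (.leaf 1)) (.leaf 1))) (.node (.node (.node (.leaf 1) (.leaf 1)) (.leaf 1)) (.node (.node (.leaf 2) (.leaf 3)) (.leaf 1))))) (.node (.node (.node (.node (.node (.leaf 3) (.leaf 1)) (.node (.leaf 1) (.leaf 1))) (.node (.node (.leaf 0) (.leaf 2)) (.leaf 4))) (.node (.node (.node (.leaf 1) (.leaf 1)) (.leaf 1)) (.node (.node (.leaf 2) (.leaf 1)) (.leaf 1)))) (.node (.node (.node (.node (.leaf 0) (.leaf 1)) (.node (.leaf 3) (.leaf 4))) (.node (.node (.leaf 3) (.leaf 1)) (.leaf 0))) (.node (.node (.node (.leaf 0) (.leaf 0)) (.leaf 1)) (.node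 (.node (.leaf 1) (.leaf 0)) (.leaf 1))))))) (.node (.node (.node (.node (.node (.node (.node (.leaf 1) (.leaf 3)) (.node (.leaf 0) (.leaf 3))) (.node (.node (.leaf 1) (.leaf 0)) (.leaf 2))) (.node (.node (.node (.leaf 1) (.leaf 4)) (.leaf 4)) (.node (.node (.leaf 1) (.leaf 0)) (.leaf 1)))) (.node (.node (.node (.node (.leaf 1) (.leaf 1)) (.node (.leaf 1) (.leaf 1))) (.node (.node (.leaf 1) (.leaf 2)) (.leaf 0))) (.node (.node (.node (.leaf 1) (.leaf 1)) (.leaf 4)) (.node (.node (.leaf 1) (.leaf 1)) (.leaf 0))))) (.node (.node (.node (.node (.node (.leaf 1) (.leaf 3)) (.node (.leaf 1) (.leaf 0))) (.node (.node (.leaf 1) (.leaf 1)) (.leaf 0))) (.node (.node (.node (.leaf 1) (.leaf 1)) (.leaf 1)) (.node (.node (.leaf 1) (.leaf 4)) (.leaf 4)))) (.node (.node (.node (.node (.leaf 0) (.leaf 1)) (.node (.leaf 1) (.leaf 0))) (.node (.node (.leaf 1) (.leaf 1)) (.leaf 1))) (.node (.node (.node (.leaf 0) (.leaf 4)) (.leaf 1)) (.node (.node (.leaf 1) (.leaf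 1)) (.leaf 4)))))) (.node (.node (.node (.node (.node (.node (.leaf 1) (.leaf 1)) (.node (.leaf 3) (.leaf 3))) (.node (.node (.leaf 4) (.leaf 3)) (.leaf 0))) (.node (.node (.node (.leaf 1) (.leaf 1)) (.leaf 1)) (.node (.node (.leaf 0) (.leaf 1)) (.leaf 1)))) (.node (.node (.node (.node (.leaf 0) (.leaf 1)) (.node (.leaf 3) (.leaf 1))) (.node (.node (.leaf 1) (.leaf 0)) (.leaf 1))) (.node (.node (.node (.leaf 0) (.leaf 1)) (.leaf 1)) (.node (.node (.leaf 1) (.leaf 4)) (.leaf 3))))) (.node (.node (.node (.node (.node (.leaf 1) (.leaf 1)) (.node (.leaf 4) (.leaf 1))) (.node (.node (.leaf 0) (.leaf 1)) (.leaf 0))) (.node (.node (.node (.leaf 1) (.leaf 1)) (.leaf 1)) (.node (.node (.leaf 1) (.leaf 1)) (.leaf 0)))) (.node (.node (.node (.node (.leaf 4) (.leaf 1)) (.node (.leaf 4) (.leaf 1))) (.node (.node (.leaf 3) (.leaf 2)) (.leaf 1))) (.node (.node (.node (.leaf 1) (.leaf 1)) (.leaf 2)) (.node (.node (.leaf 1) (.leaf 0)) (.leaf 1)))))))) (.node (.node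 (.node (.node (.node (.node (.node (.node (.leaf 1) (.leaf 1)) (.node (.leaf 4) (.leaf 1))) (.node (.node (.leaf 1) (.leaf 1)) (.leaf 1))) (.node (.node (.node (.leaf 0) (.leaf 4)) (.leaf 1)) (.node (.node (.leaf 1) (.leaf 1)) (.leaf 1)))) (.node (.node (.node (.node (.leaf 1) (.leaf 1)) (.node (.leaf 1) (.leaf 1))) (.node (.node (.leaf 1) (.leaf 1)) (.leaf 2))) (.node (.node (.node (.leaf 1) (.leaf 1)) (.leaf 1)) (.node (.node (.leaf 0) (.leaf 1)) (.leaf 1))))) (.node (.node (.node (.node (.node (.leaf 1) (.leaf 1)) (.node (.leaf 0) (.leaf 1))) (.node (.node (.leaf 1) (.leaf 2)) (.leaf 1))) (.node (.node (.node (.leaf 0) (.leaf 1)) (.leaf 1)) (.node (.node (.leaf 2) (.leaf 4)) (.leaf 3)))) (.node (.node (.node (.node (.leaf 1) (.leaf 1)) (.node (.leaf 4) (.leaf 0))) (.node (.node (.leaf 2) (.leaf 1)) (.leaf 1))) (.node (.node (.node (.leaf 3) (.leaf 2)) (.leaf 1)) (.node (.node (.leaf 1) (.leaf 3)) (.leaf 1)))))) (.node (.node (.node (.node (.node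 (.node (.leaf 1) (.leaf 1)) (.node (.leaf 1) (.leaf 1))) (.node (.node (.leaf 1) (.leaf 1)) (.leaf 2))) (.node (.node (.node (.leaf 3) (.leaf 1)) (.leaf 1)) (.node (.node (.leaf 4) (.leaf 1)) (.leaf 1)))) (.node (.node (.node (.node (.leaf 1) (.leaf 3)) (.node (.leaf 0) (.leaf 0))) (.node (.node (.leaf 3) (.leaf 1)) (.leaf 1))) (.node (.node (.node (.leaf 1) (.leaf 1)) (.leaf 1)) (.node (.node (.leaf 1) (.leaf 1)) (.leaf 1))))) (.node (.node (.node (.node (.node (.leaf 1) (.leaf 1)) (.node (.leaf 1) (.leaf 1))) (.node (.node (.leaf 1) (.leaf 4)) (.leaf 1))) (.node (.node (.node (.leaf 1) (.leaf 1)) (.leaf 1)) (.node (.node (.leaf 1) (.leaf 0)) (.leaf 3)))) (.node (.node (.node (.node (.leaf 1) (.leaf 1)) (.node (.leaf 4) (.leaf 4))) (.node (.node (.leaf 1) (.leaf 0)) (.leaf 1))) (.node (.node (.node (.leaf 0) (.leaf 1)) (.leaf 0)) (.node (.node (.leaf 2) (.leaf 2)) (.leaf 1))))))) (.node (.node (.node (.node (.node (.node (.node (.leaf 1) (.leaf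 1)) (.node (.leaf 1) (.leaf 1))) (.node (.node (.leaf 1) (.leaf 1)) (.leaf 0))) (.node (.node (.node (.leaf 1) (.leaf 1)) (.leaf 1)) (.node (.node (.leaf 1) (.leaf 1)) (.leaf 1)))) (.node (.node (.node (.node (.leaf 4) (.leaf 1)) (.node (.leaf 1) (.leaf 2))) (.node (.node (.leaf 3) (.leaf 1)) (.leaf 1))) (.node (.node (.node (.leaf 1) (.leaf 1)) (.leaf 2)) (.node (.node (.leaf 1) (.leaf 1)) (.leaf 3))))) (.node (.node (.node (.node (.node (.leaf 2) (.leaf 3)) (.node (.leaf 1) (.leaf 1))) (.node (.node (.leaf 1) (.leaf 1)) (.leaf 1))) (.node (.node (.node (.leaf 0) (.leaf 1)) (.leaf 0)) (.node (.node (.leaf 1) (.leaf 0)) (.leaf 3)))) (.node (.node (.node (.node (.leaf 1) (.leaf 1)) (.node (.leaf 1) (.leaf 1))) (.node (.node (.leaf 0) (.leaf 4)) (.leaf 4))) (.node (.node (.node (.leaf 1) (.leaf 1)) (.leaf 1)) (.node (.node (.leaf 1) (.leaf 4)) (.leaf 1)))))) (.node (.node (.node (.node (.node (.node (.leaf 1) (.leaf 1)) (.node (.leaf 1) (.leaf 1)))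 (.node (.node (.leaf 0) (.leaf 0)) (.leaf 4))) (.node (.node (.node (.leaf 1) (.leaf 1)) (.leaf 1)) (.node (.node (.leaf 1) (.leaf 1)) (.leaf 3)))) (.node (.node (.node (.node (.leaf 0) (.leaf 1)) (.node (.leaf 0) (.leaf 1))) (.node (.node (.leaf 1) (.leaf 0)) (.leaf 1))) (.node (.node (.node (.leaf 1) (.leaf 1)) (.leaf 0)) (.node (.node (.leaf 1) (.leaf 3)) (.leaf 1))))) (.node (.node (.node (.node (.node (.leaf 1) (.leaf 0)) (.node (.leaf 1) (.leaf 2))) (.node (.node (.leaf 3) (.leaf 1)) (.leaf 0))) (.node (.node (.node (.leaf 1) (.leaf 2)) (.leaf 1)) (.node (.node (.leaf 0) (.leaf 1)) (.leaf 0)))) (.node (.node (.node (.node (.leaf 1) (.leaf 1)) (.node (.leaf 1) (.leaf 1))) (.node (.node (.leaf 1) (.leaf 1)) (.leaf 1))) (.node (.node (.node (.leaf 0) (.leaf 0)) (.leaf 1)) (.node (.node (.leaf 0) (.leaf 1)) (.leaf 2)))))))))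

/-- Part of a table. -/
noncomputable def twoPar : BTree := (.node (.node (.node (.node (.node (.node (.node (.node (.node (.leaf 0) (.leaf 4035)) (.node (.leaf 5986) (.leaf 5905))) (.node (.node (.leaf 400) (.leaf 5872)) (.leaf 3395))) (.node (.node (.node (.leaf 68) (.leaf 6192)) (.leaf 3840)) (.node (.node (.leaf 1552) (.leaf 388)) (.leaf 3648)))) (.node (.node (.node (.node (.leaf 4324) (.leaf 6337)) (.node (.leaf 5827) (.leaf 2195))) (.node (.node (.leaf 1216) (.leaf 1059)) (.leaf 3171))) (.node (.node (.node (.leaf 3956) (.leaf 4067)) (.leaf 515)) (.node (.node (.leaf 3603) (.leaf 3377)) (.leaf 1027))))) (.node (.node (.node (.node (.node (.leaf 0) (.leaf 3122)) (.node (.leaf 148) (.leaf 1107))) (.node (.node (.leaf 6452) (.leaf 1602)) (.leaf 4337))) (.node (.node (.node (.leaf 4595) (.leaf 1506)) (.leaf 3379)) (.node (.node (.leaf 308) (.leaf 1332)) (.leaf 4788)))) (.node (.node (.node (.node (.leaf 403) (.leaf 4131)) (.node (.leaf 276)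 (.leaf 6448))) (.node (.node (.leaf 4403) (.leaf 5296)) (.leaf 3714))) (.node (.node (.node (.leaf 320) (.leaf 1521)) (.leaf 306)) (.node (.node (.leaf 3140) (.leaf 770)) (.leaf 2932)))))) (.node (.node (.node (.node (.node (.node (.leaf 0) (.leaf 2322)) (.node (.leaf 5906) (.leaf 5155))) (.node (.node (.leaf 1891) (.leaf 2611)) (.leaf 5313))) (.node (.node (.node (.leaf 6180) (.leaf 1444)) (.leaf 4082)) (.node (.node (.leaf 65) (.leaf 4371)) (.leaf 3475)))) (.node (.node (.node (.node (.leaf 305) (.leaf 5234)) (.node (.leaf 4032) (.leaf 4339))) (.node (.node (.leaf 1731) (.leaf 5936)) (.leaf 36))) (.node (.node (.node (.leaf 3412) (.leaf 3988)) (.leaf 2643)) (.node (.node (.leaf 5268) (.leaf 132)) (.leaf 3555))))) (.node (.node (.node (.node (.node (.leaf 3762) (.leaf 2673)) (.node (.leaf 1392) (.leaf 2787))) (.node (.node (.leaf 1) (.leaf 1604)) (.leaf 2948))) (.node (.node (.node (.leaf 256) (.leaf 1747)) (.leaf 1956)) (.node (.node (.leaf 1600)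 (.leaf 3618)) (.leaf 146)))) (.node (.node (.node (.node (.leaf 2193) (.leaf 4292)) (.node (.leaf 130) (.leaf 307))) (.node (.node (.leaf 3796) (.leaf 3635)) (.leaf 3811))) (.node (.node (.node (.leaf 3027) (.leaf 5491)) (.leaf 19)) (.node (.node (.leaf 227) (.leaf 1809)) (.leaf 1377))))))) (.node (.node (.node (.node (.node (.node (.node (.leaf 16) (.leaf 2500)) (.node (.leaf 3172) (.leaf 2497))) (.node (.node (.leaf 1072) (.leaf 2740)) (.leaf 4851))) (.node (.node (.node (.leaf 243) (.leaf 898)) (.leaf 323)) (.node (.node (.leaf 33) (.leaf 3200)) (.leaf 3568)))) (.node (.node (.node (.node (.leaf 465) (.leaf 5280)) (.node (.leaf 4320) (.leaf 2481))) (.node (.node (.leaf 2964) (.leaf 66)) (.leaf 3203))) (.node (.node (.node (.leaf 3076) (.leaf 499)) (.leaf 6596)) (.node (.node (.leaf 5124) (.leaf 1937)) (.leaf 3300))))) (.node (.node (.node (.node (.node (.leaf 2434) (.leaf 3936)) (.node (.leaf 2320) (.leaf 5154))) (.node (.node (.leaf 5747) (.leaf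 771)) (.leaf 5235))) (.node (.node (.node (.leaf 2658) (.leaf 99)) (.leaf 2980)) (.node (.node (.leaf 6194) (.leaf 899)) (.leaf 322)))) (.node (.node (.node (.node (.leaf 6466) (.leaf 3604)) (.node (.leaf 3489) (.leaf 3204))) (.node (.node (.leaf 2785) (.leaf 5683)) (.leaf 3283))) (.node (.node (.node (.leaf 6402) (.leaf 3748)) (.leaf 5091)) (.node (.node (.leaf 2435) (.leaf 4611)) (.leaf 6068)))))) (.node (.node (.node (.node (.node (.node (.leaf 290) (.leaf 3009)) (.node (.leaf 1360) (.leaf 4272))) (.node (.node (.leaf 3267) (.leaf 3729)) (.leaf 2928))) (.node (.node (.node (.leaf 739) (.leaf 1556)) (.leaf 1571)) (.node (.node (.leaf 1811) (.leaf 5744)) (.leaf 3425)))) (.node (.node (.node (.node (.leaf 1284) (.leaf 6580)) (.node (.leaf 4128) (.leaf 2961))) (.node (.node (.leaf 3010) (.leaf 3299)) (.leaf 3955))) (.node (.node (.node (.leaf 2194) (.leaf 4691)) (.leaf 4211)) (.node (.node (.leaf 1202) (.leaf 324)) (.leaf 5953))))) (.node (.node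 (.node (.node (.node (.leaf 241) (.leaf 3987)) (.node (.leaf 5987) (.leaf 4579))) (.node (.node (.leaf 2386) (.leaf 3380)) (.leaf 2930))) (.node (.node (.node (.leaf 4116) (.leaf 6499)) (.leaf 20)) (.node (.node (.leaf 5570) (.leaf 5732)) (.leaf 2192)))) (.node (.node (.node (.node (.leaf 2596) (.leaf 2432)) (.node (.leaf 2594) (.leaf 675))) (.node (.node (.leaf 2496) (.leaf 5251)) (.leaf 2674))) (.node (.node (.node (.leaf 1892) (.leaf 466)) (.leaf 5604)) (.node (.node (.leaf 2660) (.leaf 6080)) (.leaf 3553)))))))) (.node (.node (.node (.node (.node (.node (.node (.node (.leaf 0) (.leaf 2705)) (.node (.leaf 900) (.leaf 4163))) (.node (.node (.leaf 3569) (.leaf 995)) (.leaf 6515))) (.node (.node (.node (.leaf 3124) (.leaf 1619)) (.leaf 3252)) (.node (.node (.leaf 3409) (.leaf 2963)) (.leaf 4194)))) (.node (.node (.node (.node (.leaf 17) (.leaf 3556)) (.node (.leaf 1073) (.leaf 2211))) (.node (.node (.leaf 51) (.leaf 5123)) (.leaf 6450))) (.node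 (.node (.node (.leaf 5122) (.leaf 6193)) (.leaf 3472)) (.node (.node (.leaf 2736) (.leaf 468)) (.leaf 6578))))) (.node (.node (.node (.node (.node (.leaf 240) (.leaf 4146)) (.node (.leaf 1220) (.leaf 2132))) (.node (.node (.leaf 4115) (.leaf 5248)) (.leaf 3634))) (.node (.node (.node (.leaf 4338) (.leaf 6196)) (.leaf 1568)) (.node (.node (.leaf 178) (.leaf 3264)) (.leaf 914)))) (.node (.node (.node (.node (.leaf 3394) (.leaf 1652)) (.node (.leaf 2850) (.leaf 5473))) (.node (.node (.leaf 3156) (.leaf 242)) (.leaf 3428))) (.node (.node (.node (.leaf 129) (.leaf 6098)) (.leaf 3008)) (.node (.node (.leaf 3392) (.leaf 1508)) (.leaf 3952)))))) (.node (.node (.node (.node (.node (.node (.leaf 5939) (.leaf 2129)) (.node (.leaf 1379) (.leaf 3860))) (.node (.node (.leaf 1520) (.leaf 2912)) (.leaf 513))) (.node (.node (.node (.leaf 3698) (.leaf 4288)) (.leaf 6338)) (.node (.node (.leaf 1664) (.leaf 835)) (.leaf 5825)))) (.node (.node (.node (.node (.leaf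 288) (.leaf 4740)) (.node (.leaf 1812) (.leaf 6400))) (.node (.node (.leaf 916) (.leaf 1394)) (.leaf 2707))) (.node (.node (.node (.leaf 3636) (.leaf 2784)) (.leaf 2914)) (.node (.node (.leaf 3426) (.leaf 676)) (.leaf 5088))))) (.node (.node (.node (.node (.node (.leaf 112) (.leaf 6340)) (.node (.leaf 5377) (.leaf 1044))) (.node (.node (.leaf 2370) (.leaf 6594)) (.leaf 1074))) (.node (.node (.node (.leaf 5092) (.leaf 1491)) (.leaf 1699)) (.node (.node (.leaf 673) (.leaf 3969)) (.leaf 1330)))) (.node (.node (.node (.node (.leaf 272) (.leaf 4544)) (.node (.leaf 6066) (.leaf 6592))) (.node (.node (.leaf 1440) (.leaf 3123)) (.leaf 4114))) (.node (.node (.node (.leaf 6209) (.leaf 5441)) (.leaf 1281)) (.node (.node (.leaf 1732) (.leaf 6449)) (.leaf 6577))))))) (.node (.node (.node (.node (.node (.node (.node (.leaf 1076) (.leaf 3251)) (.node (.leaf 5649) (.leaf 4947))) (.node (.node (.leaf 275) (.leaf 4578)) (.leaf 2929))) (.node (.node (.node (.leaf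 544) (.leaf 5729)) (.leaf 1952)) (.node (.node (.leaf 816) (.leaf 3680)) (.leaf 4785)))) (.node (.node (.node (.node (.leaf 0) (.leaf 5520)) (.node (.leaf 3617) (.leaf 1603))) (.node (.node (.leaf 912) (.leaf 2992)) (.leaf 3072))) (.node (.node (.node (.leaf 548) (.leaf 5121)) (.leaf 4852)) (.node (.node (.leaf 3248) (.leaf 1572)) (.leaf 3764))))) (.node (.node (.node (.node (.node (.leaf 512) (.leaf 1329)) (.node (.leaf 5650) (.leaf 6336))) (.node (.node (.leaf 3571) (.leaf 5748)) (.leaf 3393))) (.node (.node (.node (.leaf 1456) (.leaf 2672)) (.leaf 2)) (.node (.node (.leaf 1651) (.leaf 2035)) (.leaf 3728)))) (.node (.node (.node (.node (.leaf 1875) (.leaf 1204)) (.node (.leaf 5443) (.leaf 4787))) (.node (.node (.leaf 3169) (.leaf 5984)) (.leaf 2945))) (.node (.node (.node (.leaf 386) (.leaf 4467)) (.leaf 3619)) (.node (.node (.leaf 4930) (.leaf 6593)) (.leaf 2352)))))) (.node (.node (.node (.node (.node (.node (.leaf 49) (.leaf 4192)) (.node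 (.leaf 3281) (.leaf 6323))) (.node (.node (.leaf 656) (.leaf 3313)) (.leaf 2944))) (.node (.node (.node (.leaf 5281) (.leaf 3408)) (.leaf 35)) (.node (.node (.leaf 2786) (.leaf 3953)) (.leaf 1505)))) (.node (.node (.node (.node (.leaf 352) (.leaf 2996)) (.node (.leaf 3316) (.leaf 2324))) (.node (.node (.leaf 1315) (.leaf 3314)) (.leaf 5378))) (.node (.node (.node (.leaf 4948) (.leaf 4530)) (.leaf 3)) (.node (.node (.leaf 4596) (.leaf 6178)) (.leaf 18))))) (.node (.node (.node (.node (.node (.leaf 3012) (.leaf 4)) (.node (.leaf 2228) (.leaf 5412))) (.node (.node (.leaf 3732) (.leaf 2018)) (.leaf 2739))) (.node (.node (.node (.leaf 2978) (.leaf 514)) (.leaf 3905)) (.node (.node (.leaf 1008) (.leaf 2676)) (.leaf 3028)))) (.node (.node (.node (.node (.leaf 1057) (.leaf 2706)) (.node (.leaf 4834) (.leaf 1939))) (.node (.node (.leaf 1043) (.leaf 4387)) (.leaf 34))) (.node (.node (.node (.leaf 2737) (.leaf 1012)) (.leaf 6131)) (.node (.node (.leaf 1810)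 (.leaf 3986)) (.leaf 5408)))))))))

/-- Part of a table. -/
noncomputable def twoRank : BTree := (.node (.node (.node (.node (.node (.node (.node (.node (.node (.leaf 0) (.leaf 4)) (.node (.leaf 3) (.leaf 4))) (.node (.node (.leaf 4) (.leaf 4)) (.leaf 3))) (.node (.node (.node (.leaf 1) (.leaf 4)) (.leaf 6)) (.node (.node (.leaf 6) (.leaf 5)) (.leaf 5)))) (.node (.node (.node (.node (.leaf 4) (.leaf 3)) (.node (.leaf 5) (.leaf 3))) (.node (.node (.leaf 2) (.leaf 4)) (.leaf 3))) (.node (.node (.node (.leaf 2) (.leaf 5)) (.leaf 2)) (.node (.node (.leaf 4) (.leaf 5)) (.leaf 5))))) (.node (.node (.node (.node (.node (.leaf 0) (.leaf 3)) (.node (.leaf 4) (.leaf 6))) (.node (.node (.leaf 3) (.leaf 2)) (.leaf 2))) (.node (.node (.node (.leaf 5) (.leaf 3)) (.leaf 5)) (.node (.node (.leaf 1) (.leaf 3)) (.leaf 4)))) (.node (.node (.node (.node (.leaf 4) (.leaf 3)) (.node (.leaf 2) (.leaf 3))) (.node (.node (.leaf 5) (.leaf 4)) (.leaf 5))) (.node (.node (.node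 (.leaf 2) (.leaf 5)) (.leaf 1)) (.node (.node (.leaf 4) (.leaf 3)) (.leaf 2)))))) (.node (.node (.node (.node (.node (.node (.leaf 0) (.leaf 4)) (.node (.leaf 4) (.leaf 3))) (.node (.node (.leaf 5) (.leaf 5)) (.leaf 3))) (.node (.node (.node (.leaf 3) (.leaf 3)) (.leaf 3)) (.node (.node (.leaf 1) (.leaf 5)) (.leaf 4)))) (.node (.node (.node (.node (.leaf 1) (.leaf 4)) (.node (.leaf 4) (.leaf 2))) (.node (.node (.leaf 3) (.leaf 4)) (.leaf 2))) (.node (.node (.node (.leaf 5) (.leaf 3)) (.leaf 4)) (.node (.node (.leaf 4) (.leaf 1)) (.leaf 4))))) (.node (.node (.node (.node (.node (.leaf 4) (.leaf 3)) (.node (.leaf 5) (.leaf 2))) (.node (.node (.leaf 1) (.leaf 2)) (.leaf 2))) (.node (.node (.node (.leaf 5) (.leaf 6)) (.leaf 4)) (.node (.node (.leaf 2) (.leaf 4)) (.leaf 4)))) (.node (.node (.node (.node (.leaf 3) (.leaf 4)) (.node (.leaf 1) (.leaf 1))) (.node (.node (.leaf 4) (.leaf 5)) (.leaf 4))) (.node (.node (.node (.leaf 4) (.leaf 4)) (.leaf 1))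 (.node (.node (.leaf 4) (.leaf 3)) (.leaf 3))))))) (.node (.node (.node (.node (.node (.node (.node (.leaf 1) (.leaf 2)) (.node (.leaf 3) (.leaf 2))) (.node (.node (.leaf 3) (.leaf 2)) (.leaf 3))) (.node (.node (.node (.leaf 3) (.leaf 3)) (.leaf 2)) (.node (.node (.leaf 2) (.leaf 3)) (.leaf 3)))) (.node (.node (.node (.node (.leaf 3) (.leaf 4)) (.node (.leaf 4) (.leaf 6))) (.node (.node (.leaf 3) (.leaf 1)) (.leaf 3))) (.node (.node (.node (.leaf 4) (.leaf 5)) (.leaf 2)) (.node (.node (.leaf 5) (.leaf 4)) (.leaf 3))))) (.node (.node (.node (.node (.node (.leaf 3) (.leaf 3)) (.node (.leaf 4) (.leaf 3))) (.node (.node (.leaf 3) (.leaf 3)) (.leaf 4))) (.node (.node (.node (.leaf 4) (.leaf 5)) (.leaf 5)) (.node (.node (.leaf 4) (.leaf 3)) (.leaf 2)))) (.node (.node (.node (.node (.leaf 3) (.leaf 4)) (.node (.leaf 5) (.leaf 3))) (.node (.node (.leaf 2) (.leaf 5)) (.leaf 4))) (.node (.node (.node (.leaf 4) (.leaf 3)) (.leaf 4)) (.node (.node (.leaf 3)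 (.leaf 5)) (.leaf 3)))))) (.node (.node (.node (.node (.node (.node (.leaf 4) (.leaf 2)) (.node (.leaf 3) (.leaf 4))) (.node (.node (.leaf 3) (.leaf 3)) (.leaf 2))) (.node (.node (.node (.leaf 6) (.leaf 6)) (.leaf 3)) (.node (.node (.leaf 3) (.leaf 3)) (.leaf 3)))) (.node (.node (.node (.node (.leaf 3) (.leaf 5)) (.node (.leaf 3) (.leaf 3))) (.node (.node (.leaf 2) (.leaf 3)) (.leaf 2))) (.node (.node (.node (.leaf 3) (.leaf 5)) (.leaf 4)) (.node (.node (.leaf 4) (.leaf 2)) (.leaf 2))))) (.node (.node (.node (.node (.node (.leaf 3) (.leaf 3)) (.node (.leaf 3) (.leaf 4))) (.node (.node (.leaf 4) (.leaf 5)) (.leaf 2))) (.node (.node (.node (.leaf 5) (.leaf 4)) (.leaf 1)) (.node (.node (.leaf 6) (.leaf 4)) (.leaf 3)))) (.node (.node (.node (.node (.leaf 3) (.leaf 3)) (.node (.leaf 3) (.leaf 5))) (.node (.node (.leaf 2) (.leaf 3)) (.leaf 3))) (.node (.node (.node (.leaf 5) (.leaf 3)) (.leaf 4)) (.node (.node (.leaf 4) (.leaf 4)) (.leaf 4)))))))) (.node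 (.node (.node (.node (.node (.node (.node (.node (.leaf 0) (.leaf 4)) (.node (.leaf 3) (.leaf 5))) (.node (.node (.leaf 3) (.leaf 6)) (.leaf 5))) (.node (.node (.node (.leaf 3) (.leaf 3)) (.leaf 4)) (.node (.node (.leaf 5) (.leaf 3)) (.leaf 3)))) (.node (.node (.node (.node (.leaf 1) (.leaf 4)) (.node (.leaf 3) (.leaf 5))) (.node (.node (.leaf 4) (.leaf 5)) (.leaf 3))) (.node (.node (.node (.leaf 5) (.leaf 4)) (.leaf 4)) (.node (.node (.leaf 2) (.leaf 3)) (.leaf 5))))) (.node (.node (.node (.node (.node (.leaf 3) (.leaf 5)) (.node (.leaf 2) (.leaf 4))) (.node (.node (.leaf 5) (.leaf 3)) (.leaf 5))) (.node (.node (.node (.leaf 2) (.leaf 4)) (.leaf 3)) (.node (.node (.leaf 3) (.leaf 3)) (.leaf 2)))) (.node (.node (.node (.node (.leaf 3) (.leaf 3)) (.node (.leaf 3) (.leaf 4))) (.node (.node (.leaf 3) (.leaf 3)) (.leaf 3))) (.node (.node (.node (.leaf 1) (.leaf 4)) (.leaf 2)) (.node (.node (.leaf 3) (.leaf 3)) (.leaf 2)))))) (.node (.node (.node (.node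 (.node (.node (.leaf 4) (.leaf 4)) (.node (.leaf 3) (.leaf 6))) (.node (.node (.leaf 5) (.leaf 5)) (.leaf 2))) (.node (.node (.node (.leaf 4) (.leaf 4)) (.leaf 3)) (.node (.node (.leaf 2) (.leaf 6)) (.leaf 5)))) (.node (.node (.node (.node (.leaf 4) (.leaf 4)) (.node (.leaf 3) (.leaf 4))) (.node (.node (.leaf 2) (.leaf 5)) (.leaf 4))) (.node (.node (.node (.leaf 5) (.leaf 2)) (.leaf 5)) (.node (.node (.leaf 3) (.leaf 5)) (.leaf 4))))) (.node (.node (.node (.node (.node (.leaf 5) (.leaf 3)) (.node (.leaf 5) (.leaf 4))) (.node (.node (.leaf 5) (.leaf 2)) (.leaf 3))) (.node (.node (.node (.leaf 4) (.leaf 4)) (.leaf 5)) (.node (.node (.leaf 5) (.leaf 3)) (.leaf 3)))) (.node (.node (.node (.node (.leaf 2) (.leaf 5)) (.node (.leaf 3) (.leaf 2))) (.node (.node (.leaf 3) (.leaf 3)) (.leaf 5))) (.node (.node (.node (.leaf 4) (.leaf 5)) (.leaf 3)) (.node (.node (.leaf 3) (.leaf 3)) (.leaf 5))))))) (.node (.node (.node (.node (.node (.node (.node (.leaf 3)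 (.leaf 4)) (.node (.leaf 4) (.leaf 3))) (.node (.node (.leaf 2) (.leaf 4)) (.leaf 2))) (.node (.node (.node (.leaf 4) (.leaf 4)) (.leaf 4)) (.node (.node (.leaf 5) (.leaf 4)) (.leaf 4)))) (.node (.node (.node (.node (.leaf 0) (.leaf 4)) (.node (.leaf 4) (.leaf 2))) (.node (.node (.leaf 2) (.leaf 5)) (.leaf 4))) (.node (.node (.node (.leaf 4) (.leaf 5)) (.leaf 3)) (.node (.node (.leaf 4) (.leaf 3)) (.leaf 4))))) (.node (.node (.node (.node (.node (.leaf 2) (.leaf 3)) (.node (.leaf 4) (.leaf 3))) (.node (.node (.leaf 3) (.leaf 3)) (.leaf 3))) (.node (.node (.node (.leaf 4) (.leaf 3)) (.leaf 1)) (.node (.node (.leaf 3) (.leaf 4)) (.leaf 3)))) (.node (.node (.node (.node (.leaf 4) (.leaf 4)) (.node (.leaf 5) (.leaf 4))) (.node (.node (.leaf 3) (.leaf 3)) (.leaf 2))) (.node (.node (.node (.leaf 5) (.leaf 6)) (.leaf 4)) (.node (.node (.leaf 4) (.leaf 2)) (.leaf 5)))))) (.node (.node (.node (.node (.node (.node (.leaf 4) (.leaf 3)) (.node (.leaf 4) (.leaf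 4))) (.node (.node (.leaf 3) (.leaf 3)) (.leaf 2))) (.node (.node (.node (.leaf 4) (.leaf 5)) (.leaf 2)) (.node (.node (.leaf 2) (.leaf 2)) (.leaf 3)))) (.node (.node (.node (.node (.leaf 4) (.leaf 5)) (.node (.leaf 3) (.leaf 4))) (.node (.node (.leaf 4) (.leaf 3)) (.leaf 5))) (.node (.node (.node (.leaf 3) (.leaf 5)) (.leaf 1)) (.node (.node (.leaf 5) (.leaf 3)) (.leaf 1))))) (.node (.node (.node (.node (.node (.leaf 2) (.leaf 1)) (.node (.leaf 5) (.leaf 2))) (.node (.node (.leaf 3) (.leaf 5)) (.leaf 2))) (.node (.node (.node (.leaf 5) (.leaf 2)) (.leaf 5)) (.node (.node (.leaf 3) (.leaf 3)) (.leaf 4)))) (.node (.node (.node (.node (.leaf 4) (.leaf 4)) (.node (.leaf 5) (.leaf 4))) (.node (.node (.leaf 4) (.leaf 5)) (.leaf 2))) (.node (.node (.node (.leaf 2) (.leaf 3)) (.leaf 4)) (.node (.node (.leaf 3) (.leaf 3)) (.leaf 2)))))))))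

/-- Orbit representatives. -/
def twoReps : List ℕ := [0, 1, 4, 8, 19]

end Cfsg.Agent.SuzRankThree
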