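import Cfsg.Agent.Lib.SuzRankThree.Graph
import Cfsg.Agent.Lib.SuzRankThree.DataGroups

/-!
# A Sylow 5-subgroup and a Sylow 2-subgroup from chains

* `card_fiveGrp`, `card_twoGrp` : their orders 25 and 4096
-/

set_option autoImplicit false
set_option maxRecDepth 100000

namespace Cfsg.Agent.SuzRankThree

open MulAction Cfsg.Agent.StabCert Cfsg.Agent.CosetEnum Cfsg.Agent.JTwoInGTwo Cfsg.Agent.SuzGTwo

/-- The elements of a list of words. -/
noncomputable def genOf (W : List (List ℕ)) (k : ℕ) : GSix := wordEl letterEl (W.getD k [])

/-- The tables fit the words. -/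
def genOK (W : List (List ℕ)) (T : List ℕ) : Bool :=
  (List.range W.length).all fun k => ((W.getD k []).all fun a => Nat.blt a 6) &&
    (List.range 416).all fun i => Nat.beq (look 9 (T.getD k 0) i) (ev 9 letterTab (W.getD k []) i)

theorem sound_of_genOK {W : List (List ℕ)} {T : List ℕ} (h : genOK W T = true) :
    TablesSound rho (genOf W) mkPt 9 416 W.length T := by
  intro k hk i hi
  have h' := List.all_eq_true.1 h k (List.mem_range.2 hk)
  rw [Bool.and_eq_true, List.all_eq_true] at h'
  have hl : ∀ a ∈ W.getD k [], a < 6 := fun a ha => by simpa using h'.1 a ha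
  have e := List.all_eq_true.1 h'.2 i (List.mem_range.2 hi)
  rw [Nat.beq_eq] at e
  obtain ⟨h1, h2⟩ := ev_spec sound _ hl i hi
  rw [e]
  exact ⟨h1, h2⟩

theorem card_of_chain {W : List (List ℕ)} {T : List ℕ} (h : genOK W T = true) (ch : List Lev)
    (hch : chainOK 9 416 W.length T base7 ch = true) :
    Nat.card (sub (genOf W) (nextGens ch)) = (ch.map fun L => L.words.length).prod := by
  have : Finite GSix := finite_six
  exact (chain_spec (sound_of_genOK h) mkPt_injOn (fun β hβ => by
    revert β; decide) (fun g _ hg => eq_one_of_base7 fun β hβ => hg β hβ) ch hch).2.1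

theorem five_genOK : genOK fiveWords fiveTab = true := by decide +kernel

theorem five_chain : chainOK 9 416 fiveWords.length fiveTab base7 [fiveLev0] = true := by decide +kernel

/-- The Sylow 5-subgroup. -/
noncomputable def fiveGrp : Subgroup GSix := sub (genOf fiveWords) (nextGens [fiveLev0])

theorem card_fiveGrp : Nat.card fiveGrp = 25 := by
  rw [fiveGrp, card_of_chain five_genOK _ five_chain]
  decide +kernel

theorem two_genOK : genOK twoWords twoTab = true := by decide +kernel

theorem two_chain : chainOK 9 416 twoWords.length twoTab base7 [twoLev0, twoLev1] = true := by decide +kernel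

/-- The Sylow 2-subgroup. -/
noncomputable def twoGrp : Subgroup GSix := sub (genOf twoWords) (nextGens [twoLev0, twoLev1])

theorem card_twoGrp : Nat.card twoGrp = 4096 := by
  rw [twoGrp, card_of_chain two_genOK _ two_chain]
  decide +kernel

theorem two_gens : nextGens [twoLev0, twoLev1] = List.range twoWords.length := by decide +kernel

theorem five_gens : nextGens [fiveLev0] = [0, 1] := by decide +kernel

end Cfsg.Agent.SuzRankThree
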