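import Cfsg.Agent.Lib.SuzRankThree.DataBad1

/-!
# Checks of orbit tables
-/

set_option autoImplicit false
set_option maxRecDepth 100000

namespace Cfsg.Agent.SuzRankThree

open Cfsg.Agent.CosetEnum

/-- Reaching, at one number. -/
noncomputable def badOrb1Reach (i : ℕ) : Bool := Nat.beq i 0 || badOrb1.reachStep i

theorem badOrb1_reach_chunk0 : ((List.range' (0 * 64) 64).all fun x => Nat.ble 1366 x || badOrb1Reach x) = true := by
  decide +kernel

theorem badOrb1_reach_chunk1 : ((List.range' (1 * 64) 64).all fun x => Nat.ble 1366 x || badOrb1Reach x) = true := by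
  decide +kernel

theorem badOrb1_reach_chunk2 : ((List.range' (2 * 64) 64).all fun x => Nat.ble 1366 x || badOrb1Reach x) = true := by
  decide +kernel

theorem badOrb1_reach_chunk3 : ((List.range' (3 * 64) 64).all fun x => Nat.ble 1366 x || badOrb1Reach x) = true := by
  decide +kernel

theorem badOrb1_reach_chunk4 : ((List.range' (4 * 64) 64).all fun x => Nat.ble 1366 x || badOrb1Reach x) = true := by
  decide +kernel

theorem badOrb1_reach_chunk5 : ((List.range' (5 * 64) 64).all fun x => Nat.ble 1366 x || badOrb1Reach x) = true := by
  decide +kernel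

theorem badOrb1_reach_chunk6 : ((List.range' (6 * 64) 64).all fun x => Nat.ble 1366 x || badOrb1Reach x) = true := by
  decide +kernel

theorem badOrb1_reach_chunk7 : ((List.range' (7 * 64) 64).all fun x => Nat.ble 1366 x || badOrb1Reach x) = true := by
  decide +kernel

theorem badOrb1_reach_chunk8 : ((List.range' (8 * 64) 64).all fun x => Nat.ble 1366 x || badOrb1Reach x) = true := by
  decide +kernel

theorem badOrb1_reach_chunk9 : ((List.range' (9 * 64) 64).all fun x => Nat.ble 1366 x || badOrb1Reach x) = true := by
  decide +kernel

theorem badOrb1_reach_chunk10 : ((List.range' (10 * 64) 64).all fun x => Nat.ble 1366 x || badOrb1Reach x) = true := by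
  decide +kernel

theorem badOrb1_reach_chunk11 : ((List.range' (11 * 64) 64).all fun x => Nat.ble 1366 x || badOrb1Reach x) = true := by
  decide +kernel

theorem badOrb1_reach_chunk12 : ((List.range' (12 * 64) 64).all fun x => Nat.ble 1366 x || badOrb1Reach x) = true := by
  decide +kernel

theorem badOrb1_reach_chunk13 : ((List.range' (13 * 64) 64).all fun x => Nat.ble 1366 x || badOrb1Reach x) = true := by
  decide +kernel

theorem badOrb1_reach_chunk14 : ((List.range' (14 * 64) 64).all fun x => Nat.ble 1366 x || badOrb1Reach x) = true := by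
  decide +kernel

theorem badOrb1_reach_chunk15 : ((List.range' (15 * 64) 64).all fun x => Nat.ble 1366 x || badOrb1Reach x) = true := by
  decide +kernel

theorem badOrb1_reach_chunk16 : ((List.range' (16 * 64) 64).all fun x => Nat.ble 1366 x || badOrb1Reach x) = true := by
  decide +kernel

theorem badOrb1_reach_chunk17 : ((List.range' (17 * 64) 64).all fun x => Nat.ble 1366 x || badOrb1Reach x) = true := by
  decide +kernel

theorem badOrb1_reach_chunk18 : ((List.range' (18 * 64) 64).all fun x => Nat.ble 1366 x || badOrb1Reach x) = true := by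
  decide +kernel

theorem badOrb1_reach_chunk19 : ((List.range' (19 * 64) 64).all fun x => Nat.ble 1366 x || badOrb1Reach x) = true := by
  decide +kernel

theorem badOrb1_reach_chunk20 : ((List.range' (20 * 64) 64).all fun x => Nat.ble 1366 x || badOrb1Reach x) = true := by
  decide +kernel

theorem badOrb1_reach_chunk21 : ((List.range' (21 * 64) 64).all fun x => Nat.ble 1366 x || badOrb1Reach x) = true := by
  decide +kernel

theorem badOrb1_reach : ∀ x < 1366, badOrb1Reach x = true :=
  of_chunks (K := 22) (c := 64) (by norm_num) fun k hk => by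
    interval_cases k
    · exact badOrb1_reach_chunk0
    · exact badOrb1_reach_chunk1
    · exact badOrb1_reach_chunk2
    · exact badOrb1_reach_chunk3
    · exact badOrb1_reach_chunk4
    · exact badOrb1_reach_chunk5
    · exact badOrb1_reach_chunk6
    · exact badOrb1_reach_chunk7
    · exact badOrb1_reach_chunk8
    · exact badOrb1_reach_chunk9
    · exact badOrb1_reach_chunk10
    · exact badOrb1_reach_chunk11
    · exact badOrb1_reach_chunk12
    · exact badOrb1_reach_chunk13
    · exact badOrb1_reach_chunk14
    · exact badOrb1_reach_chunk15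
    · exact badOrb1_reach_chunk16
    · exact badOrb1_reach_chunk17
    · exact badOrb1_reach_chunk18
    · exact badOrb1_reach_chunk19
    · exact badOrb1_reach_chunk20
    · exact badOrb1_reach_chunk21

theorem badOrb1_srt_chunk0 : ((List.range' (0 * 64) 64).all fun x => Nat.ble 1366 x || badOrb1.srtStep x) = true := by
  decide +kernel

theorem badOrb1_srt_chunk1 : ((List.range' (1 * 64) 64).all fun x => Nat.ble 1366 x || badOrb1.srtStep x) = true := by
  decide +kernel

theorem badOrb1_srt_chunk2 : ((List.range' (2 * 64) 64).all fun x => Nat.ble 1366 x || badOrb1.srtStep x) = true := by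
  decide +kernel

theorem badOrb1_srt_chunk3 : ((List.range' (3 * 64) 64).all fun x => Nat.ble 1366 x || badOrb1.srtStep x) = true := by
  decide +kernel

theorem badOrb1_srt_chunk4 : ((List.range' (4 * 64) 64).all fun x => Nat.ble 1366 x || badOrb1.srtStep x) = true := by
  decide +kernel

theorem badOrb1_srt_chunk5 : ((List.range' (5 * 64) 64).all fun x => Nat.ble 1366 x || badOrb1.srtStep x) = true := by
  decide +kernel

theorem badOrb1_srt_chunk6 : ((List.range' (6 * 64) 64).all fun x => Nat.ble 1366 x || badOrb1.srtStep x) = true := by
  decide +kernel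

theorem badOrb1_srt_chunk7 : ((List.range' (7 * 64) 64).all fun x => Nat.ble 1366 x || badOrb1.srtStep x) = true := by
  decide +kernel

theorem badOrb1_srt_chunk8 : ((List.range' (8 * 64) 64).all fun x => Nat.ble 1366 x || badOrb1.srtStep x) = true := by
  decide +kernel

theorem badOrb1_srt_chunk9 : ((List.range' (9 * 64) 64).all fun x => Nat.ble 1366 x || badOrb1.srtStep x) = true := by
  decide +kernel

theorem badOrb1_srt_chunk10 : ((List.range' (10 * 64) 64).all fun x => Nat.ble 1366 x || badOrb1.srtStep x) = true := by
  decide +kernel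

theorem badOrb1_srt_chunk11 : ((List.range' (11 * 64) 64).all fun x => Nat.ble 1366 x || badOrb1.srtStep x) = true := by
  decide +kernel

theorem badOrb1_srt_chunk12 : ((List.range' (12 * 64) 64).all fun x => Nat.ble 1366 x || badOrb1.srtStep x) = true := by
  decide +kernel

theorem badOrb1_srt_chunk13 : ((List.range' (13 * 64) 64).all fun x => Nat.ble 1366 x || badOrb1.srtStep x) = true := by
  decide +kernel

theorem badOrb1_srt_chunk14 : ((List.range' (14 * 64) 64).all fun x => Nat.ble 1366 x || badOrb1.srtStep x) = true := by
  decide +kernel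

theorem badOrb1_srt_chunk15 : ((List.range' (15 * 64) 64).all fun x => Nat.ble 1366 x || badOrb1.srtStep x) = true := by
  decide +kernel

theorem badOrb1_srt_chunk16 : ((List.range' (16 * 64) 64).all fun x => Nat.ble 1366 x || badOrb1.srtStep x) = true := by
  decide +kernel

theorem badOrb1_srt_chunk17 : ((List.range' (17 * 64) 64).all fun x => Nat.ble 1366 x || badOrb1.srtStep x) = true := by
  decide +kernel

theorem badOrb1_srt_chunk18 : ((List.range' (18 * 64) 64).all fun x => Nat.ble 1366 x || badOrb1.srtStep x) = true := by
  decide +kernel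

theorem badOrb1_srt_chunk19 : ((List.range' (19 * 64) 64).all fun x => Nat.ble 1366 x || badOrb1.srtStep x) = true := by
  decide +kernel

theorem badOrb1_srt_chunk20 : ((List.range' (20 * 64) 64).all fun x => Nat.ble 1366 x || badOrb1.srtStep x) = true := by
  decide +kernel

theorem badOrb1_srt_chunk21 : ((List.range' (21 * 64) 64).all fun x => Nat.ble 1366 x || badOrb1.srtStep x) = true := by
  decide +kernel

theorem badOrb1_srt : ∀ x < 1366, badOrb1.srtStep x = true :=
  of_chunks (K := 22) (c := 64) (by norm_num) fun k hk => by
    interval_cases k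
    · exact badOrb1_srt_chunk0
    · exact badOrb1_srt_chunk1
    · exact badOrb1_srt_chunk2
    · exact badOrb1_srt_chunk3
    · exact badOrb1_srt_chunk4
    · exact badOrb1_srt_chunk5
    · exact badOrb1_srt_chunk6
    · exact badOrb1_srt_chunk7
    · exact badOrb1_srt_chunk8
    · exact badOrb1_srt_chunk9
    · exact badOrb1_srt_chunk10
    · exact badOrb1_srt_chunk11
    · exact badOrb1_srt_chunk12
    · exact badOrb1_srt_chunk13
    · exact badOrb1_srt_chunk14
    · exact badOrb1_srt_chunk15
    · exact badOrb1_srt_chunk16
    · exact badOrb1_srt_chunk17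
    · exact badOrb1_srt_chunk18
    · exact badOrb1_srt_chunk19
    · exact badOrb1_srt_chunk20
    · exact badOrb1_srt_chunk21

theorem badOrb1_valid : valid (badOrb1.mask 0) = true := by decide +kernel

theorem badOrb1_step : ∀ i, 0 < i → i < badOrb1.n → badOrb1.reachStep i = true := fun i h0 hi => by
  have h := badOrb1_reach i hi
  simp only [badOrb1Reach, Bool.or_eq_true, Nat.beq_eq] at h
  exact h.resolve_left h0.ne'

end Cfsg.Agent.SuzRankThree
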