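import Cfsg.Agent.Lib.SuzRankThree.DataFix

/-!
# Checks of orbit tables
-/

set_option autoImplicit false
set_option maxRecDepth 100000

namespace Cfsg.Agent.SuzRankThree

open Cfsg.Agent.CosetEnum

/-- Reaching, at one number. -/
noncomputable def fixOrbReach (i : ℕ) : Bool := Nat.beq i 0 || fixOrb.reachStep i

theorem fixOrb_reach_chunk0 : ((List.range' (0 * 64) 64).all fun x => Nat.ble 2080 x || fixOrbReach x) = true := by
  decide +kernel

theorem fixOrb_reach_chunk1 : ((List.range' (1 * 64) 64).all fun x => Nat.ble 2080 x || fixOrbReach x) = true := by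
  decide +kernel

theorem fixOrb_reach_chunk2 : ((List.range' (2 * 64) 64).all fun x => Nat.ble 2080 x || fixOrbReach x) = true := by
  decide +kernel

theorem fixOrb_reach_chunk3 : ((List.range' (3 * 64) 64).all fun x => Nat.ble 2080 x || fixOrbReach x) = true := by
  decide +kernel

theorem fixOrb_reach_chunk4 : ((List.range' (4 * 64) 64).all fun x => Nat.ble 2080 x || fixOrbReach x) = true := by
  decide +kernel

theorem fixOrb_reach_chunk5 : ((List.range' (5 * 64) 64).all fun x => Nat.ble 2080 x || fixOrbReach x) = true := by
  decide +kernel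

theorem fixOrb_reach_chunk6 : ((List.range' (6 * 64) 64).all fun x => Nat.ble 2080 x || fixOrbReach x) = true := by
  decide +kernel

theorem fixOrb_reach_chunk7 : ((List.range' (7 * 64) 64).all fun x => Nat.ble 2080 x || fixOrbReach x) = true := by
  decide +kernel

theorem fixOrb_reach_chunk8 : ((List.range' (8 * 64) 64).all fun x => Nat.ble 2080 x || fixOrbReach x) = true := by
  decide +kernel

theorem fixOrb_reach_chunk9 : ((List.range' (9 * 64) 64).all fun x => Nat.ble 2080 x || fixOrbReach x) = true := by
  decide +kernel

theorem fixOrb_reach_chunk10 : ((List.range' (10 * 64) 64).all fun x => Nat.ble 2080 x || fixOrbReach x) = true := by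
  decide +kernel

theorem fixOrb_reach_chunk11 : ((List.range' (11 * 64) 64).all fun x => Nat.ble 2080 x || fixOrbReach x) = true := by
  decide +kernel

theorem fixOrb_reach_chunk12 : ((List.range' (12 * 64) 64).all fun x => Nat.ble 2080 x || fixOrbReach x) = true := by
  decide +kernel

theorem fixOrb_reach_chunk13 : ((List.range' (13 * 64) 64).all fun x => Nat.ble 2080 x || fixOrbReach x) = true := by
  decide +kernel

theorem fixOrb_reach_chunk14 : ((List.range' (14 * 64) 64).all fun x => Nat.ble 2080 x || fixOrbReach x) = true := by
  decide +kernel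

theorem fixOrb_reach_chunk15 : ((List.range' (15 * 64) 64).all fun x => Nat.ble 2080 x || fixOrbReach x) = true := by
  decide +kernel

theorem fixOrb_reach_chunk16 : ((List.range' (16 * 64) 64).all fun x => Nat.ble 2080 x || fixOrbReach x) = true := by
  decide +kernel

theorem fixOrb_reach_chunk17 : ((List.range' (17 * 64) 64).all fun x => Nat.ble 2080 x || fixOrbReach x) = true := by
  decide +kernel

theorem fixOrb_reach_chunk18 : ((List.range' (18 * 64) 64).all fun x => Nat.ble 2080 x || fixOrbReach x) = true := by
  decide +kernel

theorem fixOrb_reach_chunk19 : ((List.range' (19 * 64) 64).all fun x => Nat.ble 2080 x || fixOrbReach x) = true := by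
  decide +kernel

theorem fixOrb_reach_chunk20 : ((List.range' (20 * 64) 64).all fun x => Nat.ble 2080 x || fixOrbReach x) = true := by
  decide +kernel

theorem fixOrb_reach_chunk21 : ((List.range' (21 * 64) 64).all fun x => Nat.ble 2080 x || fixOrbReach x) = true := by
  decide +kernel

theorem fixOrb_reach_chunk22 : ((List.range' (22 * 64) 64).all fun x => Nat.ble 2080 x || fixOrbReach x) = true := by
  decide +kernel

theorem fixOrb_reach_chunk23 : ((List.range' (23 * 64) 64).all fun x => Nat.ble 2080 x || fixOrbReach x) = true := by
  decide +kernel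

theorem fixOrb_reach_chunk24 : ((List.range' (24 * 64) 64).all fun x => Nat.ble 2080 x || fixOrbReach x) = true := by
  decide +kernel

theorem fixOrb_reach_chunk25 : ((List.range' (25 * 64) 64).all fun x => Nat.ble 2080 x || fixOrbReach x) = true := by
  decide +kernel

theorem fixOrb_reach_chunk26 : ((List.range' (26 * 64) 64).all fun x => Nat.ble 2080 x || fixOrbReach x) = true := by
  decide +kernel

theorem fixOrb_reach_chunk27 : ((List.range' (27 * 64) 64).all fun x => Nat.ble 2080 x || fixOrbReach x) = true := by
  decide +kernel

theorem fixOrb_reach_chunk28 : ((List.range' (28 * 64) 64).all fun x => Nat.ble 2080 x || fixOrbReach x) = true := by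
  decide +kernel

theorem fixOrb_reach_chunk29 : ((List.range' (29 * 64) 64).all fun x => Nat.ble 2080 x || fixOrbReach x) = true := by
  decide +kernel

theorem fixOrb_reach_chunk30 : ((List.range' (30 * 64) 64).all fun x => Nat.ble 2080 x || fixOrbReach x) = true := by
  decide +kernel

theorem fixOrb_reach_chunk31 : ((List.range' (31 * 64) 64).all fun x => Nat.ble 2080 x || fixOrbReach x) = true := by
  decide +kernel

theorem fixOrb_reach_chunk32 : ((List.range' (32 * 64) 64).all fun x => Nat.ble 2080 x || fixOrbReach x) = true := by
  decide +kernel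

theorem fixOrb_reach : ∀ x < 2080, fixOrbReach x = true :=
  of_chunks (K := 33) (c := 64) (by norm_num) fun k hk => by
    interval_cases k
    · exact fixOrb_reach_chunk0
    · exact fixOrb_reach_chunk1
    · exact fixOrb_reach_chunk2
    · exact fixOrb_reach_chunk3
    · exact fixOrb_reach_chunk4
    · exact fixOrb_reach_chunk5
    · exact fixOrb_reach_chunk6
    · exact fixOrb_reach_chunk7
    · exact fixOrb_reach_chunk8
    · exact fixOrb_reach_chunk9
    · exact fixOrb_reach_chunk10
    · exact fixOrb_reach_chunk11
    · exact fixOrb_reach_chunk12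
    · exact fixOrb_reach_chunk13
    · exact fixOrb_reach_chunk14
    · exact fixOrb_reach_chunk15
    · exact fixOrb_reach_chunk16
    · exact fixOrb_reach_chunk17
    · exact fixOrb_reach_chunk18
    · exact fixOrb_reach_chunk19
    · exact fixOrb_reach_chunk20
    · exact fixOrb_reach_chunk21
    · exact fixOrb_reach_chunk22
    · exact fixOrb_reach_chunk23
    · exact fixOrb_reach_chunk24
    · exact fixOrb_reach_chunk25
    · exact fixOrb_reach_chunk26
    · exact fixOrb_reach_chunk27
    · exact fixOrb_reach_chunk28
    · exact fixOrb_reach_chunk29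
    · exact fixOrb_reach_chunk30
    · exact fixOrb_reach_chunk31
    · exact fixOrb_reach_chunk32

theorem fixOrb_srt_chunk0 : ((List.range' (0 * 64) 64).all fun x => Nat.ble 2080 x || fixOrb.srtStep x) = true := by
  decide +kernel

theorem fixOrb_srt_chunk1 : ((List.range' (1 * 64) 64).all fun x => Nat.ble 2080 x || fixOrb.srtStep x) = true := by
  decide +kernel

theorem fixOrb_srt_chunk2 : ((List.range' (2 * 64) 64).all fun x => Nat.ble 2080 x || fixOrb.srtStep x) = true := by
  decide +kernel

theorem fixOrb_srt_chunk3 : ((List.range' (3 * 64) 64).all fun x => Nat.ble 2080 x || fixOrb.srtStep x) = true := by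
  decide +kernel

theorem fixOrb_srt_chunk4 : ((List.range' (4 * 64) 64).all fun x => Nat.ble 2080 x || fixOrb.srtStep x) = true := by
  decide +kernel

theorem fixOrb_srt_chunk5 : ((List.range' (5 * 64) 64).all fun x => Nat.ble 2080 x || fixOrb.srtStep x) = true := by
  decide +kernel

theorem fixOrb_srt_chunk6 : ((List.range' (6 * 64) 64).all fun x => Nat.ble 2080 x || fixOrb.srtStep x) = true := by
  decide +kernel

theorem fixOrb_srt_chunk7 : ((List.range' (7 * 64) 64).all fun x => Nat.ble 2080 x || fixOrb.srtStep x) = true := by
  decide +kernel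

theorem fixOrb_srt_chunk8 : ((List.range' (8 * 64) 64).all fun x => Nat.ble 2080 x || fixOrb.srtStep x) = true := by
  decide +kernel

theorem fixOrb_srt_chunk9 : ((List.range' (9 * 64) 64).all fun x => Nat.ble 2080 x || fixOrb.srtStep x) = true := by
  decide +kernel

theorem fixOrb_srt_chunk10 : ((List.range' (10 * 64) 64).all fun x => Nat.ble 2080 x || fixOrb.srtStep x) = true := by
  decide +kernel

theorem fixOrb_srt_chunk11 : ((List.range' (11 * 64) 64).all fun x => Nat.ble 2080 x || fixOrb.srtStep x) = true := by
  decide +kernel

theorem fixOrb_srt_chunk12 : ((List.range' (12 * 64) 64).all fun x => Nat.ble 2080 x || fixOrb.srtStep x) = true := by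
  decide +kernel

theorem fixOrb_srt_chunk13 : ((List.range' (13 * 64) 64).all fun x => Nat.ble 2080 x || fixOrb.srtStep x) = true := by
  decide +kernel

theorem fixOrb_srt_chunk14 : ((List.range' (14 * 64) 64).all fun x => Nat.ble 2080 x || fixOrb.srtStep x) = true := by
  decide +kernel

theorem fixOrb_srt_chunk15 : ((List.range' (15 * 64) 64).all fun x => Nat.ble 2080 x || fixOrb.srtStep x) = true := by
  decide +kernel

theorem fixOrb_srt_chunk16 : ((List.range' (16 * 64) 64).all fun x => Nat.ble 2080 x || fixOrb.srtStep x) = true := by
  decide +kernel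

theorem fixOrb_srt_chunk17 : ((List.range' (17 * 64) 64).all fun x => Nat.ble 2080 x || fixOrb.srtStep x) = true := by
  decide +kernel

theorem fixOrb_srt_chunk18 : ((List.range' (18 * 64) 64).all fun x => Nat.ble 2080 x || fixOrb.srtStep x) = true := by
  decide +kernel

theorem fixOrb_srt_chunk19 : ((List.range' (19 * 64) 64).all fun x => Nat.ble 2080 x || fixOrb.srtStep x) = true := by
  decide +kernel

theorem fixOrb_srt_chunk20 : ((List.range' (20 * 64) 64).all fun x => Nat.ble 2080 x || fixOrb.srtStep x) = true := by
  decide +kernel

theorem fixOrb_srt_chunk21 : ((List.range' (21 * 64) 64).all fun x => Nat.ble 2080 x || fixOrb.srtStep x) = true := by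
  decide +kernel

theorem fixOrb_srt_chunk22 : ((List.range' (22 * 64) 64).all fun x => Nat.ble 2080 x || fixOrb.srtStep x) = true := by
  decide +kernel

theorem fixOrb_srt_chunk23 : ((List.range' (23 * 64) 64).all fun x => Nat.ble 2080 x || fixOrb.srtStep x) = true := by
  decide +kernel

theorem fixOrb_srt_chunk24 : ((List.range' (24 * 64) 64).all fun x => Nat.ble 2080 x || fixOrb.srtStep x) = true := by
  decide +kernel

theorem fixOrb_srt_chunk25 : ((List.range' (25 * 64) 64).all fun x => Nat.ble 2080 x || fixOrb.srtStep x) = true := by
  decide +kernel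

theorem fixOrb_srt_chunk26 : ((List.range' (26 * 64) 64).all fun x => Nat.ble 2080 x || fixOrb.srtStep x) = true := by
  decide +kernel

theorem fixOrb_srt_chunk27 : ((List.range' (27 * 64) 64).all fun x => Nat.ble 2080 x || fixOrb.srtStep x) = true := by
  decide +kernel

theorem fixOrb_srt_chunk28 : ((List.range' (28 * 64) 64).all fun x => Nat.ble 2080 x || fixOrb.srtStep x) = true := by
  decide +kernel

theorem fixOrb_srt_chunk29 : ((List.range' (29 * 64) 64).all fun x => Nat.ble 2080 x || fixOrb.srtStep x) = true := by
  decide +kernel

theorem fixOrb_srt_chunk30 : ((List.range' (30 * 64) 64).all fun x => Nat.ble 2080 x || fixOrb.srtStep x) = true := by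
  decide +kernel

theorem fixOrb_srt_chunk31 : ((List.range' (31 * 64) 64).all fun x => Nat.ble 2080 x || fixOrb.srtStep x) = true := by
  decide +kernel

theorem fixOrb_srt_chunk32 : ((List.range' (32 * 64) 64).all fun x => Nat.ble 2080 x || fixOrb.srtStep x) = true := by
  decide +kernel

theorem fixOrb_srt : ∀ x < 2080, fixOrb.srtStep x = true :=
  of_chunks (K := 33) (c := 64) (by norm_num) fun k hk => by
    interval_cases k
    · exact fixOrb_srt_chunk0
    · exact fixOrb_srt_chunk1
    · exact fixOrb_srt_chunk2
    · exact fixOrb_srt_chunk3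
    · exact fixOrb_srt_chunk4
    · exact fixOrb_srt_chunk5
    · exact fixOrb_srt_chunk6
    · exact fixOrb_srt_chunk7
    · exact fixOrb_srt_chunk8
    · exact fixOrb_srt_chunk9
    · exact fixOrb_srt_chunk10
    · exact fixOrb_srt_chunk11
    · exact fixOrb_srt_chunk12
    · exact fixOrb_srt_chunk13
    · exact fixOrb_srt_chunk14
    · exact fixOrb_srt_chunk15
    · exact fixOrb_srt_chunk16
    · exact fixOrb_srt_chunk17
    · exact fixOrb_srt_chunk18
    · exact fixOrb_srt_chunk19
    · exact fixOrb_srt_chunk20
    · exact fixOrb_srt_chunk21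
    · exact fixOrb_srt_chunk22
    · exact fixOrb_srt_chunk23
    · exact fixOrb_srt_chunk24
    · exact fixOrb_srt_chunk25
    · exact fixOrb_srt_chunk26
    · exact fixOrb_srt_chunk27
    · exact fixOrb_srt_chunk28
    · exact fixOrb_srt_chunk29
    · exact fixOrb_srt_chunk30
    · exact fixOrb_srt_chunk31
    · exact fixOrb_srt_chunk32

theorem fixOrb_close_chunk0 : ((List.range' (0 * 48) 48).all fun x => Nat.ble 2080 x || fixOrb.closeStep x) = true := by
  decide +kernel

theorem fixOrb_close_chunk1 : ((List.range' (1 * 48) 48).all fun x => Nat.ble 2080 x || fixOrb.closeStep x) = true := by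
  decide +kernel

theorem fixOrb_close_chunk2 : ((List.range' (2 * 48) 48).all fun x => Nat.ble 2080 x || fixOrb.closeStep x) = true := by
  decide +kernel

theorem fixOrb_close_chunk3 : ((List.range' (3 * 48) 48).all fun x => Nat.ble 2080 x || fixOrb.closeStep x) = true := by
  decide +kernel

theorem fixOrb_close_chunk4 : ((List.range' (4 * 48) 48).all fun x => Nat.ble 2080 x || fixOrb.closeStep x) = true := by
  decide +kernel

theorem fixOrb_close_chunk5 : ((List.range' (5 * 48) 48).all fun x => Nat.ble 2080 x || fixOrb.closeStep x) = true := by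
  decide +kernel

theorem fixOrb_close_chunk6 : ((List.range' (6 * 48) 48).all fun x => Nat.ble 2080 x || fixOrb.closeStep x) = true := by
  decide +kernel

theorem fixOrb_close_chunk7 : ((List.range' (7 * 48) 48).all fun x => Nat.ble 2080 x || fixOrb.closeStep x) = true := by
  decide +kernel

theorem fixOrb_close_chunk8 : ((List.range' (8 * 48) 48).all fun x => Nat.ble 2080 x || fixOrb.closeStep x) = true := by
  decide +kernel

theorem fixOrb_close_chunk9 : ((List.range' (9 * 48) 48).all fun x => Nat.ble 2080 x || fixOrb.closeStep x) = true := by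
  decide +kernel

theorem fixOrb_close_chunk10 : ((List.range' (10 * 48) 48).all fun x => Nat.ble 2080 x || fixOrb.closeStep x) = true := by
  decide +kernel

theorem fixOrb_close_chunk11 : ((List.range' (11 * 48) 48).all fun x => Nat.ble 2080 x || fixOrb.closeStep x) = true := by
  decide +kernel

theorem fixOrb_close_chunk12 : ((List.range' (12 * 48) 48).all fun x => Nat.ble 2080 x || fixOrb.closeStep x) = true := by
  decide +kernel

theorem fixOrb_close_chunk13 : ((List.range' (13 * 48) 48).all fun x => Nat.ble 2080 x || fixOrb.closeStep x) = true := by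
  decide +kernel

theorem fixOrb_close_chunk14 : ((List.range' (14 * 48) 48).all fun x => Nat.ble 2080 x || fixOrb.closeStep x) = true := by
  decide +kernel

theorem fixOrb_close_chunk15 : ((List.range' (15 * 48) 48).all fun x => Nat.ble 2080 x || fixOrb.closeStep x) = true := by
  decide +kernel

theorem fixOrb_close_chunk16 : ((List.range' (16 * 48) 48).all fun x => Nat.ble 2080 x || fixOrb.closeStep x) = true := by
  decide +kernel

theorem fixOrb_close_chunk17 : ((List.range' (17 * 48) 48).all fun x => Nat.ble 2080 x || fixOrb.closeStep x) = true := by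
  decide +kernel

theorem fixOrb_close_chunk18 : ((List.range' (18 * 48) 48).all fun x => Nat.ble 2080 x || fixOrb.closeStep x) = true := by
  decide +kernel

theorem fixOrb_close_chunk19 : ((List.range' (19 * 48) 48).all fun x => Nat.ble 2080 x || fixOrb.closeStep x) = true := by
  decide +kernel

theorem fixOrb_close_chunk20 : ((List.range' (20 * 48) 48).all fun x => Nat.ble 2080 x || fixOrb.closeStep x) = true := by
  decide +kernel

theorem fixOrb_close_chunk21 : ((List.range' (21 * 48) 48).all fun x => Nat.ble 2080 x || fixOrb.closeStep x) = true := by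
  decide +kernel

theorem fixOrb_close_chunk22 : ((List.range' (22 * 48) 48).all fun x => Nat.ble 2080 x || fixOrb.closeStep x) = true := by
  decide +kernel

theorem fixOrb_close_chunk23 : ((List.range' (23 * 48) 48).all fun x => Nat.ble 2080 x || fixOrb.closeStep x) = true := by
  decide +kernel

theorem fixOrb_close_chunk24 : ((List.range' (24 * 48) 48).all fun x => Nat.ble 2080 x || fixOrb.closeStep x) = true := by
  decide +kernel

theorem fixOrb_close_chunk25 : ((List.range' (25 * 48) 48).all fun x => Nat.ble 2080 x || fixOrb.closeStep x) = true := by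
  decide +kernel

theorem fixOrb_close_chunk26 : ((List.range' (26 * 48) 48).all fun x => Nat.ble 2080 x || fixOrb.closeStep x) = true := by
  decide +kernel

theorem fixOrb_close_chunk27 : ((List.range' (27 * 48) 48).all fun x => Nat.ble 2080 x || fixOrb.closeStep x) = true := by
  decide +kernel

theorem fixOrb_close_chunk28 : ((List.range' (28 * 48) 48).all fun x => Nat.ble 2080 x || fixOrb.closeStep x) = true := by
  decide +kernel

theorem fixOrb_close_chunk29 : ((List.range' (29 * 48) 48).all fun x => Nat.ble 2080 x || fixOrb.closeStep x) = true := by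
  decide +kernel

theorem fixOrb_close_chunk30 : ((List.range' (30 * 48) 48).all fun x => Nat.ble 2080 x || fixOrb.closeStep x) = true := by
  decide +kernel

theorem fixOrb_close_chunk31 : ((List.range' (31 * 48) 48).all fun x => Nat.ble 2080 x || fixOrb.closeStep x) = true := by
  decide +kernel

theorem fixOrb_close_chunk32 : ((List.range' (32 * 48) 48).all fun x => Nat.ble 2080 x || fixOrb.closeStep x) = true := by
  decide +kernel

theorem fixOrb_close_chunk33 : ((List.range' (33 * 48) 48).all fun x => Nat.ble 2080 x || fixOrb.closeStep x) = true := by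
  decide +kernel

theorem fixOrb_close_chunk34 : ((List.range' (34 * 48) 48).all fun x => Nat.ble 2080 x || fixOrb.closeStep x) = true := by
  decide +kernel

theorem fixOrb_close_chunk35 : ((List.range' (35 * 48) 48).all fun x => Nat.ble 2080 x || fixOrb.closeStep x) = true := by
  decide +kernel

theorem fixOrb_close_chunk36 : ((List.range' (36 * 48) 48).all fun x => Nat.ble 2080 x || fixOrb.closeStep x) = true := by
  decide +kernel

theorem fixOrb_close_chunk37 : ((List.range' (37 * 48) 48).all fun x => Nat.ble 2080 x || fixOrb.closeStep x) = true := by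
  decide +kernel

theorem fixOrb_close_chunk38 : ((List.range' (38 * 48) 48).all fun x => Nat.ble 2080 x || fixOrb.closeStep x) = true := by
  decide +kernel

theorem fixOrb_close_chunk39 : ((List.range' (39 * 48) 48).all fun x => Nat.ble 2080 x || fixOrb.closeStep x) = true := by
  decide +kernel

theorem fixOrb_close_chunk40 : ((List.range' (40 * 48) 48).all fun x => Nat.ble 2080 x || fixOrb.closeStep x) = true := by
  decide +kernel

theorem fixOrb_close_chunk41 : ((List.range' (41 * 48) 48).all fun x => Nat.ble 2080 x || fixOrb.closeStep x) = true := by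
  decide +kernel

theorem fixOrb_close_chunk42 : ((List.range' (42 * 48) 48).all fun x => Nat.ble 2080 x || fixOrb.closeStep x) = true := by
  decide +kernel

theorem fixOrb_close_chunk43 : ((List.range' (43 * 48) 48).all fun x => Nat.ble 2080 x || fixOrb.closeStep x) = true := by
  decide +kernel

theorem fixOrb_close : ∀ x < 2080, fixOrb.closeStep x = true :=
  of_chunks (K := 44) (c := 48) (by norm_num) fun k hk => by
    interval_cases k
    · exact fixOrb_close_chunk0
    · exact fixOrb_close_chunk1
    · exact fixOrb_close_chunk2
    · exact fixOrb_close_chunk3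
    · exact fixOrb_close_chunk4
    · exact fixOrb_close_chunk5
    · exact fixOrb_close_chunk6
    · exact fixOrb_close_chunk7
    · exact fixOrb_close_chunk8
    · exact fixOrb_close_chunk9
    · exact fixOrb_close_chunk10
    · exact fixOrb_close_chunk11
    · exact fixOrb_close_chunk12
    · exact fixOrb_close_chunk13
    · exact fixOrb_close_chunk14
    · exact fixOrb_close_chunk15
    · exact fixOrb_close_chunk16
    · exact fixOrb_close_chunk17
    · exact fixOrb_close_chunk18
    · exact fixOrb_close_chunk19
    · exact fixOrb_close_chunk20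
    · exact fixOrb_close_chunk21
    · exact fixOrb_close_chunk22
    · exact fixOrb_close_chunk23
    · exact fixOrb_close_chunk24
    · exact fixOrb_close_chunk25
    · exact fixOrb_close_chunk26
    · exact fixOrb_close_chunk27
    · exact fixOrb_close_chunk28
    · exact fixOrb_close_chunk29
    · exact fixOrb_close_chunk30
    · exact fixOrb_close_chunk31
    · exact fixOrb_close_chunk32
    · exact fixOrb_close_chunk33
    · exact fixOrb_close_chunk34
    · exact fixOrb_close_chunk35
    · exact fixOrb_close_chunk36
    · exact fixOrb_close_chunk37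
    · exact fixOrb_close_chunk38
    · exact fixOrb_close_chunk39
    · exact fixOrb_close_chunk40
    · exact fixOrb_close_chunk41
    · exact fixOrb_close_chunk42
    · exact fixOrb_close_chunk43

theorem fixOrb_valid : valid (fixOrb.mask 0) = true := by decide +kernel

theorem fixOrb_step : ∀ i, 0 < i → i < fixOrb.n → fixOrb.reachStep i = true := fun i h0 hi => by
  have h := fixOrb_reach i hi
  simp only [fixOrbReach, Bool.or_eq_true, Nat.beq_eq] at h
  exact h.resolve_left h0.ne'

end Cfsg.Agent.SuzRankThree
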