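import Cfsg.Agent.Lib.SuzRankThree.Chains
import Cfsg.Agent.Lib.SuzRankThree.CheckFix

/-!
# Subgroups of index 416 of `G₂(4)`

* `zEl`, `conj_z_eq` : a subgroup of order three is determined by its 56 fixed points
* `exists_stabilizer_of_card` : a subgroup of order 604800 is a point stabiliser
-/

set_option autoImplicit false
set_option maxRecDepth 100000

namespace Cfsg.Agent.SuzRankThree

open MulAction Cfsg.Agent.StabCert Cfsg.Agent.CosetEnum Cfsg.Agent.JTwoInGTwo Cfsg.Agent.SuzGTwo
open scoped Pointwise

/-- An element of order three. -/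
noncomputable def zEl : GSix := wordEl letterEl zWord

theorem zWord_lt : ∀ a ∈ zWord, a < 6 := by decide

theorem zEl_pow : zEl ^ 3 = 1 := by
  refine eq_one_of_base7 fun β hβ => ?_
  have h : (base7.all fun β => Nat.blt β 416 &&
      Nat.beq (StabCert.ev 9 letterTab (zWord ++ (zWord ++ zWord)) β) β) = true := by decide +kernel
  have hb := List.all_eq_true.1 h β hβ
  rw [Bool.and_eq_true, Nat.blt_eq, Nat.beq_eq] at hb
  obtain ⟨-, h2⟩ := ev_smul (w := zWord ++ (zWord ++ zWord)) (by decide) hb.1
  rw [hb.2, wordEl_append, wordEl_append] at h2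
  show (zEl ^ 3) • mkPt β = _
  rw [pow_succ, pow_two, mul_assoc]
  exact h2

theorem fixMask_ok : ((List.range 416).all fun i =>
    bitP fixMask i == Nat.beq (StabCert.ev 9 letterTab zWord i) i) = true := by
  decide +kernel

theorem fixOrb_root : fixOrb.mask 0 = fixMask := Nat.eq_of_beq_eq_true (by decide +kernel)

/-- The fixed points of the element of order three. -/
noncomputable abbrev fixSet : Finset Pt := setOf fixMask

theorem mem_fixSet (p : Pt) : p ∈ fixSet ↔ zEl • p = p := by
  have h := List.all_eq_true.1 fixMask_ok p.val (List.mem_range.2 p.isLt)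
  rw [beq_iff_eq] at h
  obtain ⟨h1, h2⟩ := ev_smul zWord_lt p.isLt
  rw [mkPt_val] at h2
  rw [fixSet, setOf, Finset.mem_filter, h, Nat.beq_eq, and_iff_right (Finset.mem_univ _), zEl, h2]
  conv_rhs => rhs; rw [← mkPt_val p]
  exact ⟨fun e => by rw [e], fun e => mkPt_injOn h1 p.isLt e⟩

theorem zEl_ne : zEl ≠ 1 := by
  intro e
  have h : ((List.range 416).all fun i => bitP fixMask i) = false := by decide +kernel
  rw [List.all_eq_false] at h
  obtain ⟨i, hi, hne⟩ := h
  have := (mem_fixSet ⟨i, List.mem_range.1 hi⟩).2 (by rw [e, one_smul])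
  exact hne (by simpa [setOf] using this)

theorem orderOf_zEl : orderOf zEl = 3 := by
  have : Fact (Nat.Prime 3) := ⟨by norm_num⟩
  exact orderOf_eq_prime zEl_pow zEl_ne

/-- Two conjugates with the same fixed points generate the same subgroup. -/
theorem conj_z_eq {g g' : GSix} (h : g • fixSet = g' • fixSet) :
    g * zEl * g⁻¹ ∈ Subgroup.zpowers (g' * zEl * g'⁻¹) := by
  have : Finite GSix := finite_six
  set k := g'⁻¹ * g with hk
  set u := k * zEl * k⁻¹ with hu
  suffices hz : u ∈ Subgroup.zpowers zEl by
    obtain ⟨n, hn⟩ := Subgroup.mem_zpowers_iff.1 hz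
    refine Subgroup.mem_zpowers_iff.2 ⟨n, ?_⟩
    rw [conj_zpow, hn, hu, hk]
    group
  have hkF : k • fixSet = fixSet := by rw [hk, mul_smul, h, inv_smul_smul]
  have hufix : ∀ p ∈ fixSet, u • p = p := fun p hp => by
    rw [← hkF] at hp
    obtain ⟨q, hq, rfl⟩ := Finset.mem_smul_finset.1 hp
    rw [hu, mul_smul, mul_smul, inv_smul_smul, (mem_fixSet q).1 hq]
  let L : Subgroup GSix := ⨅ p ∈ fixSet, stabilizer GSix p
  have hzL : zEl ∈ L := by
    simp only [L, Subgroup.mem_iInf, mem_stabilizer_iff]
    exact fun p hp => (mem_fixSet p).1 hp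
  have huL : u ∈ L := by
    simp only [L, Subgroup.mem_iInf, mem_stabilizer_iff]
    exact hufix
  have hinj : Function.Injective rho :=
    (injective_iff_map_eq_one rho).2 fun x hx => smul_eq_one fun p => by
      show rho x p = p
      rw [hx, Equiv.Perm.one_apply]
  have hL : Nat.card L ≤ 3 := by
    rw [← Subgroup.card_map_of_injective (f := rho) hinj]
    refine le_trans (rigid_bound rigFix_link rigFix_rounds _ _ rigFix_steps ?_ fun π hπ p hp => ?_)
      (le_of_eq (by decide +kernel))
    · rintro _ ⟨x, _, rfl⟩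
      exact rho_mem x
    · obtain ⟨x, hx, rfl⟩ := hπ
      have : x ∈ L := hx
      simp only [L, Subgroup.mem_iInf, mem_stabilizer_iff] at this
      exact this p hp
  have e : Subgroup.zpowers zEl = L := Subgroup.eq_of_le_of_card_ge (Subgroup.zpowers_le.2 hzL)
    (by rw [Nat.card_zpowers, orderOf_zEl]; exact hL)
  exact e ▸ huL

/-! ### The Sylow 5-subgroup and the orbit of fixed sets -/

/-- The generators of the Sylow 5-subgroup. -/
noncomputable abbrev e5 (k : ℕ) : List ℕ := fiveWords.getD k []

theorem e5_mem (k : ℕ) (hk : k < 2) : wordEl letterEl (e5 k) ∈ fiveGrp := by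
  rw [fiveGrp, five_gens]
  exact Subgroup.subset_closure ⟨k, by interval_cases k <;> simp, rfl⟩

theorem e5_lt (k : ℕ) (hk : k < 2) : ∀ a ∈ e5 k, a < 6 := by interval_cases k <;> decide

theorem e5_fix (k : ℕ) (hk : k < 2) : wordEl letterEl (e5 k) • mkPt 0 = mkPt 0 := by
  obtain ⟨-, h⟩ := ev_smul (e5_lt k hk) (show 0 < 416 by norm_num)
  rw [h]
  interval_cases k <;> decide +kernel

theorem five_le_base : fiveGrp ≤ base := by
  rw [fiveGrp, five_gens, sub, Subgroup.closure_le, ← stab_eq]
  rintro _ ⟨k, hk, rfl⟩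
  have hk2 : k < 2 := by
    have : k = 0 ∨ k = 1 := by simpa using hk
    omega
  exact e5_fix k hk2

/-- The representative of a label. -/
noncomputable def repOf (i : ℕ) : ℕ × List ℕ × List ℕ × List ℕ × ℕ := fixReps.getD i (0, [], [], [], 0)

/-- Each number is joined to its representative. -/
noncomputable def fixStep (j : ℕ) : Bool :=
  force (fixLab.get j) fun i => Nat.blt i fixReps.length && (Nat.beq j (repOf i).1 ||
    force (fixPar.get j) fun p => Nat.blt (Nat.div p 2) 2080 && (Nat.beq (fixLab.get (Nat.div p 2)) i &&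
      (Nat.blt (fixRank.get (Nat.div p 2)) (fixRank.get j) &&
        Nat.beq (fixOrb.idx (e5 (Nat.mod p 2)) (Nat.div p 2)) j)))

theorem fix_step_chunk0 : ((List.range' (0 * 104) 104).all fun x => Nat.ble 2080 x || fixStep x) = true := by
  decide +kernel

theorem fix_step_chunk1 : ((List.range' (1 * 104) 104).all fun x => Nat.ble 2080 x || fixStep x) = true := by
  decide +kernel

theorem fix_step_chunk2 : ((List.range' (2 * 104) 104).all fun x => Nat.ble 2080 x || fixStep x) = true := by
  decide +kernel

theorem fix_step_chunk3 : ((List.range' (3 * 104) 104).all fun x => Nat.ble 2080 x || fixStep x) = true := by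
  decide +kernel

theorem fix_step_chunk4 : ((List.range' (4 * 104) 104).all fun x => Nat.ble 2080 x || fixStep x) = true := by
  decide +kernel

theorem fix_step_chunk5 : ((List.range' (5 * 104) 104).all fun x => Nat.ble 2080 x || fixStep x) = true := by
  decide +kernel

theorem fix_step_chunk6 : ((List.range' (6 * 104) 104).all fun x => Nat.ble 2080 x || fixStep x) = true := by
  decide +kernel

theorem fix_step_chunk7 : ((List.range' (7 * 104) 104).all fun x => Nat.ble 2080 x || fixStep x) = true := by
  decide +kernel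

theorem fix_step_chunk8 : ((List.range' (8 * 104) 104).all fun x => Nat.ble 2080 x || fixStep x) = true := by
  decide +kernel

theorem fix_step_chunk9 : ((List.range' (9 * 104) 104).all fun x => Nat.ble 2080 x || fixStep x) = true := by
  decide +kernel

theorem fix_step_chunk10 : ((List.range' (10 * 104) 104).all fun x => Nat.ble 2080 x || fixStep x) = true := by
  decide +kernel

theorem fix_step_chunk11 : ((List.range' (11 * 104) 104).all fun x => Nat.ble 2080 x || fixStep x) = true := by
  decide +kernel

theorem fix_step_chunk12 : ((List.range' (12 * 104) 104).all fun x => Nat.ble 2080 x || fixStep x) = true := by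
  decide +kernel

theorem fix_step_chunk13 : ((List.range' (13 * 104) 104).all fun x => Nat.ble 2080 x || fixStep x) = true := by
  decide +kernel

theorem fix_step_chunk14 : ((List.range' (14 * 104) 104).all fun x => Nat.ble 2080 x || fixStep x) = true := by
  decide +kernel

theorem fix_step_chunk15 : ((List.range' (15 * 104) 104).all fun x => Nat.ble 2080 x || fixStep x) = true := by
  decide +kernel

theorem fix_step_chunk16 : ((List.range' (16 * 104) 104).all fun x => Nat.ble 2080 x || fixStep x) = true := by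
  decide +kernel

theorem fix_step_chunk17 : ((List.range' (17 * 104) 104).all fun x => Nat.ble 2080 x || fixStep x) = true := by
  decide +kernel

theorem fix_step_chunk18 : ((List.range' (18 * 104) 104).all fun x => Nat.ble 2080 x || fixStep x) = true := by
  decide +kernel

theorem fix_step_chunk19 : ((List.range' (19 * 104) 104).all fun x => Nat.ble 2080 x || fixStep x) = true := by
  decide +kernel

theorem fix_step : ∀ x < 2080, fixStep x = true :=
  of_chunks (K := 20) (c := 104) (by norm_num) fun k hk => by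
    interval_cases k
    · exact fix_step_chunk0
    · exact fix_step_chunk1
    · exact fix_step_chunk2
    · exact fix_step_chunk3
    · exact fix_step_chunk4
    · exact fix_step_chunk5
    · exact fix_step_chunk6
    · exact fix_step_chunk7
    · exact fix_step_chunk8
    · exact fix_step_chunk9
    · exact fix_step_chunk10
    · exact fix_step_chunk11
    · exact fix_step_chunk12
    · exact fix_step_chunk13
    · exact fix_step_chunk14
    · exact fix_step_chunk15
    · exact fix_step_chunk16
    · exact fix_step_chunk17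
    · exact fix_step_chunk18
    · exact fix_step_chunk19

theorem fixSet_mask : setOf (fixOrb.mask 0) = fixSet := by rw [fixOrb_root]

theorem fix_next {w : List ℕ} (hw : ∀ a ∈ w, a < 6) {j : ℕ} (hj : j < 2080) :
    fixOrb.idx w j < 2080 ∧ wordEl letterEl w • setOf (fixOrb.mask j) = setOf (fixOrb.mask (fixOrb.idx w j)) :=
  MOrb.next_spec fixOrb_valid fixOrb_step fixOrb_close hw hj

theorem fix_reach : ∀ j < 2080, ∃ p ∈ fiveGrp,
    fixLab.get j < fixReps.length ∧ setOf (fixOrb.mask j) = p • setOf (fixOrb.mask (repOf (fixLab.get j)).1) := by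
  suffices ∀ r j, j < 2080 → fixRank.get j = r → ∃ p ∈ fiveGrp, fixLab.get j < fixReps.length ∧
      setOf (fixOrb.mask j) = p • setOf (fixOrb.mask (repOf (fixLab.get j)).1) from fun j hj => this _ j hj rfl
  intro r
  induction r using Nat.strong_induction_on with
  | _ r ih =>
    intro j hj hr
    have h := fix_step j hj
    simp only [fixStep, force_eq, Bool.and_eq_true, Bool.or_eq_true, Nat.blt_eq, Nat.beq_eq] at h
    obtain ⟨hi, h | ⟨hp, hlab, hrk, hidx⟩⟩ := h
    · exact ⟨1, one_mem _, hi, by rw [one_smul, ← h]⟩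
    · obtain ⟨q, hq, -, he⟩ := ih _ (hr ▸ hrk) _ hp rfl
      have hm : Nat.mod (fixPar.get j) 2 < 2 := Nat.mod_lt _ (by norm_num)
      refine ⟨wordEl letterEl (e5 (Nat.mod (fixPar.get j) 2)) * q, mul_mem (e5_mem _ hm) hq, hi, ?_⟩
      obtain ⟨-, h2⟩ := fix_next (e5_lt _ hm) hp
      rw [hidx, he, hlab] at h2
      rw [mul_smul, h2]

/-- The word of a conjugate. -/
noncomputable def conjWord (u : List ℕ) : List ℕ := u ++ (zWord ++ u.reverse)

/-- A word in two generators and a conjugate, spelt out. -/
noncomputable def spell (u w : List ℕ) : List ℕ :=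
  w.flatMap fun k => if Nat.beq k 2 then conjWord u else e5 k

/-- Thirteen times a word. -/
noncomputable def cycleOK (l : List ℕ) (x : ℕ) : Bool :=
  !Nat.beq (StabCert.ev 9 letterTab l x) x && Nat.beq
    (Nat.rec (motive := fun _ => ℕ) x (fun _ ih => force ih fun y => StabCert.ev 9 letterTab l y) 13) x

/-- A representative: either a word with a cycle of length thirteen, or members with a small meet. -/
noncomputable def repStep (i : ℕ) : Bool :=
  force i fun i =>
  Nat.blt (repOf i).1 2080 && (((repOf i).2.1.all fun a => Nat.blt a 6) &&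
  (Nat.beq (fixOrb.idx (repOf i).2.1 0) (repOf i).1 &&
  (((repOf i).2.2.2.1.all fun k => Nat.blt k 3) && Nat.blt (repOf i).2.2.2.2 416 &&
  if (repOf i).2.2.1.isEmpty then cycleOK (spell (repOf i).2.1 (repOf i).2.2.2.1) (repOf i).2.2.2.2
  else bitP (fixOrb.mask (repOf i).1) 0 &&
    ((repOf i).2.2.1.all (fun j => Nat.blt j 2080 && Nat.beq (fixLab.get j) i) &&
    Nat.ble (count ((repOf i).2.2.1.foldl (fun m j => Nat.land m (fixOrb.mask j)) (fixOrb.mask (repOf i).1))) 6))))

theorem rep_step_chunk0 : ((List.range' (0 * 11) 11).all fun x => Nat.ble 88 x || repStep x) = true := by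
  decide +kernel

theorem rep_step_chunk1 : ((List.range' (1 * 11) 11).all fun x => Nat.ble 88 x || repStep x) = true := by
  decide +kernel

theorem rep_step_chunk2 : ((List.range' (2 * 11) 11).all fun x => Nat.ble 88 x || repStep x) = true := by
  decide +kernel

theorem rep_step_chunk3 : ((List.range' (3 * 11) 11).all fun x => Nat.ble 88 x || repStep x) = true := by
  decide +kernel

theorem rep_step_chunk4 : ((List.range' (4 * 11) 11).all fun x => Nat.ble 88 x || repStep x) = true := by
  decide +kernel

theorem rep_step_chunk5 : ((List.range' (5 * 11) 11).all fun x => Nat.ble 88 x || repStep x) = true := by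
  decide +kernel

theorem rep_step_chunk6 : ((List.range' (6 * 11) 11).all fun x => Nat.ble 88 x || repStep x) = true := by
  decide +kernel

theorem rep_step_chunk7 : ((List.range' (7 * 11) 11).all fun x => Nat.ble 88 x || repStep x) = true := by
  decide +kernel

theorem rep_step : ∀ x < 88, repStep x = true :=
  of_chunks (K := 8) (c := 11) (by norm_num) fun k hk => by
    interval_cases k
    · exact rep_step_chunk0
    · exact rep_step_chunk1
    · exact rep_step_chunk2
    · exact rep_step_chunk3
    · exact rep_step_chunk4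
    · exact rep_step_chunk5
    · exact rep_step_chunk6
    · exact rep_step_chunk7

theorem fixReps_length : fixReps.length = 88 := by decide +kernel

theorem wordEl_spell (u : List ℕ) (w : List ℕ) (X : Subgroup GSix) (hP : fiveGrp ≤ X)
    (hz : wordEl letterEl (conjWord u) ∈ X) (hw : ∀ k ∈ w, k < 3) : wordEl letterEl (spell u w) ∈ X := by
  induction w with
  | nil => simp [spell, wordEl]
  | cons k w ih =>
    rw [spell, List.flatMap_cons, wordEl_append]
    refine mul_mem ?_ (ih fun a ha => hw a (List.mem_cons_of_mem k ha))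
    have := hw k List.mem_cons_self
    interval_cases k
    · exact hP (e5_mem 0 (by norm_num))
    · exact hP (e5_mem 1 (by norm_num))
    · exact hz

theorem spell_lt {u w : List ℕ} (hu : ∀ a ∈ u, a < 6) (hw : ∀ k ∈ w, k < 3) : ∀ a ∈ spell u w, a < 6 := by
  intro a ha
  obtain ⟨k, hk, hak⟩ := List.mem_flatMap.1 ha
  have := hw k hk
  interval_cases k
  · exact e5_lt 0 (by norm_num) a hak
  · exact e5_lt 1 (by norm_num) a hak
  · simp only [conjWord, List.mem_append, List.mem_reverse, Nat.beq_eq, if_true] at hak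
    rcases hak with h | h | h
    · exact hu a h
    · exact zWord_lt a h
    · exact hu a h

theorem iterate_rec (l : List ℕ) (x : ℕ) : ∀ n,
    Nat.rec (motive := fun _ => ℕ) x (fun _ ih => force ih fun y => StabCert.ev 9 letterTab l y) n =
      (StabCert.ev 9 letterTab l)^[n] x
  | 0 => rfl
  | n + 1 => by
    show force _ _ = _
    rw [force_eq, iterate_rec l x n, Function.iterate_succ_apply']

/-- A thirteen-cycle forces the order to be divisible by thirteen. -/
theorem thirteen_dvd {l : List ℕ} (hl : ∀ a ∈ l, a < 6) {x : ℕ} (hx : x < 416) (h : cycleOK l x = true) :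
    13 ∣ orderOf (wordEl letterEl l) := by
  simp only [cycleOK, Bool.and_eq_true, Bool.not_eq_true', Nat.beq_eq] at h
  obtain ⟨h1, h2⟩ := h
  rw [iterate_rec] at h2
  have hit : ∀ n, (StabCert.ev 9 letterTab l)^[n] x < 416 ∧
      wordEl letterEl l ^ n • mkPt x = mkPt ((StabCert.ev 9 letterTab l)^[n] x) := by
    intro n
    induction n with
    | zero => exact ⟨hx, by rw [pow_zero, one_smul]; rfl⟩
    | succ n ih =>
      obtain ⟨a, b⟩ := ev_smul hl ih.1
      rw [Function.iterate_succ_apply']
      exact ⟨a, by rw [pow_succ', mul_smul, ih.2, b]⟩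
  have hne : wordEl letterEl l • mkPt x ≠ mkPt x := by
    obtain ⟨a, b⟩ := ev_smul hl hx
    rw [b]
    intro e
    rw [mkPt_injOn a hx e, Bool.eq_false_iff, Ne, Nat.beq_eq] at h1
    exact h1 rfl
  have h13 : wordEl letterEl l ^ 13 • mkPt x = mkPt x := by rw [(hit 13).2, h2]
  have : Fact (Nat.Prime 13) := ⟨by norm_num⟩
  have hper : Function.minimalPeriod (fun p : Pt => wordEl letterEl l • p) (mkPt x) = 13 := by
    refine Function.minimalPeriod_eq_prime ?_ ?_
    · show (fun p : Pt => wordEl letterEl l • p)^[13] (mkPt x) = mkPt x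
      rw [smul_iterate]
      exact h13
    · exact hne
  rw [← hper]
  refine Function.IsPeriodicPt.minimalPeriod_dvd ?_
  show (fun p : Pt => wordEl letterEl l • p)^[orderOf (wordEl letterEl l)] (mkPt x) = mkPt x
  rw [smul_iterate]
  show wordEl letterEl l ^ orderOf (wordEl letterEl l) • mkPt x = mkPt x
  rw [pow_orderOf_eq_one, one_smul]

theorem foldl_land_mem : ∀ (js : List ℕ) (m : ℕ), valid m = true → (∀ j ∈ js, valid (fixOrb.mask j) = true) →
    valid (js.foldl (fun m j => Nat.land m (fixOrb.mask j)) m) = true ∧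
      ∀ p, p ∈ setOf (js.foldl (fun m j => Nat.land m (fixOrb.mask j)) m) ↔
        p ∈ setOf m ∧ ∀ j ∈ js, p ∈ setOf (fixOrb.mask j)
  | [], m, hm, _ => ⟨hm, fun p => by simp⟩
  | j :: js, m, hm, hv => by
    obtain ⟨h1, h2⟩ := setOf_land m (fixOrb.mask j) hm (hv j List.mem_cons_self)
    obtain ⟨h3, h4⟩ := foldl_land_mem js _ h1 fun i hi => hv i (List.mem_cons_of_mem j hi)
    refine ⟨h3, fun p => ?_⟩
    rw [List.foldl_cons, h4, h2, Finset.mem_inter, List.forall_mem_cons, and_assoc]

/-- Inside a subgroup containing the Sylow 5-subgroup every conjugate of the element fixes the first point,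
and few points are common to all of them. -/
theorem common_fix {X : Subgroup GSix} (hP : fiveGrp ≤ X) (h13 : ¬ 13 ∣ Nat.card X) {g : GSix}
    (hg : g * zEl * g⁻¹ ∈ X) : mkPt 0 ∈ g • fixSet ∧
      ∃ s : Finset Pt, s.card ≤ 6 ∧ ∀ q, (∀ g' : GSix, g' * zEl * g'⁻¹ ∈ X → q ∈ g' • fixSet) → q ∈ s := by
  obtain ⟨j, hj, ej⟩ := (MOrb.mem_orbit_iff fixOrb_valid (by decide +kernel) fixOrb_step fixOrb_close).1
    (show g • fixSet ∈ orbit GSix (setOf (fixOrb.mask 0)) by rw [fixSet_mask]; exact mem_orbit _ _)
  obtain ⟨p, hp, hi, hje⟩ := fix_reach j hj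
  set i := fixLab.get j with hidef
  have hr := rep_step i (by rw [fixReps_length] at hi; exact hi)
  rw [repStep, force_eq] at hr
  simp only [Bool.and_eq_true, Nat.blt_eq, Nat.beq_eq, List.all_eq_true] at hr
  obtain ⟨hj0, hu, hidx, ⟨hw, hx⟩, hcase⟩ := hr
  set u := (repOf i).2.1 with hudef
  obtain ⟨-, hue⟩ := fix_next hu (show 0 < 2080 by norm_num)
  rw [hidx, fixSet_mask] at hue
  -- the conjugate by the representative lies in `X`
  have hset : g • fixSet = (p * wordEl letterEl u) • fixSet := by rw [ej, hje, mul_smul, hue]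
  have hmem : wordEl letterEl u * zEl * (wordEl letterEl u)⁻¹ ∈ X := by
    have h1 := conj_z_eq hset.symm
    have h2 : (p * wordEl letterEl u) * zEl * (p * wordEl letterEl u)⁻¹ ∈ X :=
      (Subgroup.zpowers_le.2 hg) h1
    have h3 := mul_mem (mul_mem (inv_mem (hP hp)) h2) (hP hp)
    convert h3 using 1
    group
  have hz : wordEl letterEl (conjWord u) ∈ X := by
    rw [conjWord, wordEl_append, wordEl_append, word_inv hu, ← mul_assoc]
    exact hmem
  by_cases hempty : (repOf i).2.2.1.isEmpty = true
  · exfalso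
    rw [if_pos hempty] at hcase
    apply h13
    have hX := wordEl_spell u _ X hP hz hw
    exact (thirteen_dvd (spell_lt hu hw) hx hcase).trans (Subgroup.orderOf_dvd_natCard X hX)
  rw [if_neg hempty] at hcase
  simp only [Bool.and_eq_true, Nat.ble_eq, List.all_eq_true, Nat.blt_eq, Nat.beq_eq] at hcase
  obtain ⟨hb0, hmem', hcount⟩ := hcase
  have h0 : mkPt 0 ∈ setOf (fixOrb.mask (repOf i).1) := by simpa [setOf, mkPt] using hb0
  refine ⟨?_, ?_⟩
  · rw [ej, hje, ← Finset.inv_smul_mem_iff]
    have : p⁻¹ • mkPt 0 = mkPt 0 := mem_stabilizer_iff.1 (stab_eq.symm ▸ inv_mem (five_le_base hp))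
    rw [this]
    exact h0
  · have hv : ∀ k < 2080, valid (fixOrb.mask k) = true := fun k hk =>
      (MOrb.reach_spec fixOrb_valid fixOrb_step k hk).1
    obtain ⟨f1, f2⟩ := foldl_land_mem (repOf i).2.2.1 _ (hv _ hj0) fun k hk => hv _ (hmem' k hk).1
    refine ⟨_, (card_setOf f1).trans_le hcount, fun q hq => (f2 q).2 ⟨?_, fun k hk => ?_⟩⟩
    · have := hq _ hmem
      rwa [hue] at this
    · obtain ⟨hk1, hk2⟩ := hmem' k hk
      obtain ⟨p', hp', -, hke⟩ := fix_reach k hk1
      rw [hk2] at hke
      have h2 : (p' * wordEl letterEl u) * zEl * (p' * wordEl letterEl u)⁻¹ ∈ X := by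
        have := mul_mem (mul_mem (hP hp') hmem) (inv_mem (hP hp'))
        convert this using 1
        group
      have := hq _ h2
      rwa [mul_smul, hue, ← hke] at this

theorem card_GSix : Nat.card GSix = 251596800 := card_six

/-- The order of a Sylow subgroup is at most `p ^ k` when `p ^ (k + 1)` does not divide the order. -/
theorem card_sylow_le {p k : ℕ} [Fact p.Prime] (S : Sylow p GSix) (h : ¬ p ^ (k + 1) ∣ 251596800) :
    Nat.card S ≤ p ^ k := by
  have : Finite GSix := finite_six
  obtain ⟨m, hm⟩ := IsPGroup.iff_card.1 S.2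
  rw [hm]
  refine Nat.pow_le_pow_right (Fact.out : p.Prime).pos ?_
  by_contra hk
  refine h (dvd_trans (pow_dvd_pow p (show k + 1 ≤ m by omega)) ?_)
  rw [← hm, ← card_GSix]
  exact Subgroup.card_subgroup_dvd_card _

/-- A subgroup of index 416 is a point stabiliser. -/
theorem exists_stabilizer_of_card (X : Subgroup GSix) (hX : Nat.card X = 604800) :
    ∃ p : Pt, X = stabilizer GSix p := by
  have : Finite GSix := finite_six
  have h5 : Fact (Nat.Prime 5) := ⟨by norm_num⟩
  have h3 : Fact (Nat.Prime 3) := ⟨by norm_num⟩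
  -- a conjugate contains the Sylow 5-subgroup
  have hP5 : IsPGroup 5 fiveGrp := IsPGroup.of_card (n := 2) (by rw [card_fiveGrp]; norm_num)
  obtain ⟨S, hS⟩ := hP5.exists_le_sylow
  have hScard : Nat.card S ≤ 25 := card_sylow_le (k := 2) S (by norm_num)
  have hSeq : fiveGrp = S := Subgroup.eq_of_le_of_card_ge hS (by rw [card_fiveGrp]; exact hScard)
  obtain ⟨g₀, hg₀⟩ : ∃ g : GSix, fiveGrp ≤ X.map (MulAut.conj g).toMonoidHom := by
    obtain ⟨T, hT⟩ := Sylow.exists_subgroup_card_pow_prime (G := X) 5 (n := 2) (by rw [hX]; norm_num)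
    let T' : Subgroup GSix := T.map X.subtype
    have hTc : Nat.card T' = 25 := by
      rw [Subgroup.card_map_of_injective X.subtype_injective, hT]; norm_num
    obtain ⟨S', hS'⟩ := (IsPGroup.of_card (p := 5) (n := 2) (G := T') (by rw [hTc]; norm_num)).exists_le_sylow
    have e' : T' = S' := Subgroup.eq_of_le_of_card_ge hS' (by
      rw [hTc]
      exact card_sylow_le (k := 2) S' (by norm_num))
    obtain ⟨g, hg⟩ := exists_smul_eq GSix S' S
    refine ⟨g, hSeq.trans_le ?_⟩
    rw [← hg, Sylow.coe_subgroup_smul, ← e']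
    intro x hx
    obtain ⟨y, hy, rfl⟩ := hx
    obtain ⟨w, -, rfl⟩ := hy
    exact ⟨_, w.2, rfl⟩
  set X' := X.map (MulAut.conj g₀).toMonoidHom with hX'
  have hX'card : Nat.card X' = 604800 := by
    rw [hX', Subgroup.card_map_of_injective (MulAut.conj g₀).injective, hX]
  have h13 : ¬ 13 ∣ Nat.card X' := by rw [hX'card]; norm_num
  -- it contains a conjugate of the element of order three
  obtain ⟨g₁, hg₁⟩ : ∃ g : GSix, g * zEl * g⁻¹ ∈ X' := by
    obtain ⟨T, hT⟩ := Sylow.exists_subgroup_card_pow_prime (G := X') 3 (n := 3) (by rw [hX'card]; norm_num)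
    let T' : Subgroup GSix := T.map X'.subtype
    have hTc : Nat.card T' = 27 := by
      rw [Subgroup.card_map_of_injective X'.subtype_injective, hT]; norm_num
    obtain ⟨S', hS'⟩ := (IsPGroup.of_card (p := 3) (n := 3) (G := T') (by rw [hTc]; norm_num)).exists_le_sylow
    have e' : T' = S' := Subgroup.eq_of_le_of_card_ge hS' (by
      rw [hTc]
      exact card_sylow_le (k := 3) S' (by norm_num))
    obtain ⟨R, hR⟩ := (IsPGroup.of_card (p := 3) (n := 1) (G := Subgroup.zpowers zEl)
      (by rw [Nat.card_zpowers, orderOf_zEl]; norm_num)).exists_le_sylow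
    obtain ⟨g, hg⟩ := exists_smul_eq GSix R S'
    refine ⟨g, ?_⟩
    have : g * zEl * g⁻¹ ∈ (S' : Subgroup GSix) := by
      rw [← hg, Sylow.coe_subgroup_smul]
      exact ⟨zEl, hR (Subgroup.mem_zpowers _), rfl⟩
    rw [← e'] at this
    obtain ⟨w, -, hw⟩ := this
    exact hw ▸ w.2
  -- the orbit of the first point is small
  obtain ⟨-, s, hs, hsq⟩ := common_fix hg₀ h13 hg₁
  have horb : ∀ x ∈ X', x • mkPt 0 ∈ s := fun x hx => hsq _ fun g' hg' => by
    have h' : (x⁻¹ * g') * zEl * (x⁻¹ * g')⁻¹ ∈ X' := by
      have := mul_mem (mul_mem (inv_mem hx) hg') hx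
      convert this using 1
      group
    have := (common_fix hg₀ h13 h').1
    rw [mul_smul, ← Finset.smul_mem_smul_finset_iff x, smul_inv_smul] at this
    exact this
  -- so it is the stabiliser
  have hle : X' ≤ base := by
    have hsimple := isSimpleGroup_base
    set I := X' ⊓ base with hI
    have h1 : Nat.card X' = Nat.card (orbit X' (mkPt 0)) * Nat.card (stabilizer X' (mkPt 0)) := by
      rw [← Nat.card_prod, Nat.card_congr (orbitProdStabilizerEquivGroup X' (mkPt 0))]
    have h2 : Nat.card (stabilizer X' (mkPt 0)) = Nat.card I :=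
      Nat.card_congr ⟨fun x => ⟨x.1.1, x.1.2, stab_eq ▸ (x.2 : x.1.1 • mkPt 0 = mkPt 0)⟩,
        fun x => ⟨⟨x.1, x.2.1⟩, (mem_stabilizer_iff.1 (stab_eq.symm ▸ x.2.2 : x.1 ∈ stabilizer GSix (mkPt 0)))⟩,
        fun _ => rfl, fun _ => rfl⟩
    have h4 : Nat.card (orbit X' (mkPt 0)) ≤ 6 := by
      refine le_trans ?_ hs
      rw [← Nat.card_eq_finsetCard]
      refine Nat.card_le_card_of_injective (fun q : orbit X' (mkPt 0) => (⟨q.1, ?_⟩ : s)) ?_
      · obtain ⟨x, hx⟩ := q.2
        exact hx ▸ horb x.1 x.2
      · exact fun a b e => Subtype.ext (by simpa using e)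
    rw [h2, hX'card] at h1
    set Ib := I.subgroupOf base with hIb
    have hIbc : Nat.card Ib = Nat.card I := Nat.card_congr (Subgroup.subgroupOfEquivOfLe inf_le_right).toEquiv
    have hidx : Ib.index ≤ 6 := by
      have := Ib.index_mul_card
      rw [hIbc, card_base] at this
      have : 604800 ≤ 6 * Nat.card I := h1 ▸ Nat.mul_le_mul_right _ h4
      by_contra hc
      push Not at hc
      have : 7 * Nat.card I ≤ Ib.index * Nat.card I := Nat.mul_le_mul_right _ hc
      omega
    rcases IsSimpleGroup.eq_bot_or_eq_top_of_normal Ib.normalCore inferInstance with hcore | hcore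
    · exfalso
      have hdvd : Ib.normalCore.index ∣ Ib.index.factorial := by
        rw [Subgroup.normalCore_eq_ker, Subgroup.index_ker, Subgroup.index_eq_card, ← Nat.card_perm]
        exact Subgroup.card_subgroup_dvd_card _
      rw [hcore, Subgroup.index_bot, card_base] at hdvd
      have := Nat.le_of_dvd (Nat.factorial_pos _) hdvd
      have := Nat.factorial_le hidx
      norm_num [Nat.factorial] at this
      omega
    · have hb : base ≤ X' := fun x hx =>
        (Ib.normalCore_le (hcore ▸ Subgroup.mem_top (⟨x, hx⟩ : base)) : _).1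
      exact (Subgroup.eq_of_le_of_card_ge hb (by rw [hX'card, card_base])).ge
  have heq : X' = base := Subgroup.eq_of_le_of_card_ge hle (by rw [hX'card, card_base])
  refine ⟨g₀⁻¹ • mkPt 0, ?_⟩
  ext x
  have : x ∈ X ↔ g₀ * x * g₀⁻¹ ∈ X' := by
    constructor
    · exact fun hx => ⟨x, hx, rfl⟩
    · rintro ⟨y, hy, e⟩
      have : y = x := (MulAut.conj g₀).injective e
      exact this ▸ hy
  rw [this, heq, ← stab_eq, mem_stabilizer_iff, mem_stabilizer_iff, mul_smul, mul_smul, eq_inv_smul_iff]

end Cfsg.Agent.SuzRankThree
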