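import Cfsg.Agent.Lib.SuzRankThree.Model
import Cfsg.Agent.Lib.SuzRankThree.IndexFour16

/-!
# A rank three action on 1782 points with stabiliser `G₂(4)`

* `exists_equiv` : the orbital graph of valency 416 is the graph `adjV`
-/

set_option autoImplicit false

namespace Cfsg.Agent.SuzRankThree

open MulAction Cfsg.Agent.JTwoInGTwo Cfsg.Agent.SuzGTwo
open scoped Pointwise

theorem card_lab : ((List.range 416).countP fun x => Nat.beq (orbitLab.getD x 0) 2) = 100 ∧
    ((List.range 416).countP fun x => Nat.beq (orbitLab.getD x 0) 1) = 315 := by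
  refine ⟨?_, ?_⟩ <;> decide +kernel

theorem card_label (ℓ : ℕ) : (Finset.univ.filter fun p : Pt => orbitLab.getD p.val 0 = ℓ).card =
    (List.range 416).countP fun x => Nat.beq (orbitLab.getD x 0) ℓ := by
  rw [List.countP_eq_length_filter, ← List.toFinset_card_of_nodup (List.nodup_range.filter _),
    ← Finset.card_image_of_injective _ Fin.val_injective]
  congr 1
  ext x
  simp only [List.mem_toFinset, List.mem_filter, List.mem_range, Finset.mem_image, Finset.mem_filter,
    Finset.mem_univ, true_and, Nat.beq_eq]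
  exact ⟨fun ⟨p, h, e⟩ => e ▸ ⟨p.isLt, h⟩, fun ⟨hx, h⟩ => ⟨⟨x, hx⟩, h, rfl⟩⟩

/-- A set invariant under the first stabiliser, missing its point, is a union of two suborbits. -/
theorem invariant_pts (P : Finset Pt) (h0 : mkPt 0 ∉ P) (hinv : ∀ g ∈ base, ∀ p ∈ P, g • p ∈ P) :
    P.card = 0 ∨ P.card = 100 ∧ P = nset (mkPt 0) ∨ P.card = 315 ∨ P.card = 415 := by
  classical
  have hlab : ∀ p ∈ P, orbitLab.getD p.val 0 = 1 ∨ orbitLab.getD p.val 0 = 2 := by
    intro p hp
    obtain ⟨-, h3, h0'⟩ := whole_lab_spec p.isLt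
    have : orbitLab.getD p.val 0 ≠ 0 := fun h => h0 (by
      have e : p = mkPt 0 := Fin.ext (h0'.2 h)
      exact e ▸ hp)
    omega
  have hcls : ∀ p ∈ P, ∀ q : Pt, orbitLab.getD q.val 0 = orbitLab.getD p.val 0 → q ∈ P := by
    intro p hp q e
    obtain ⟨g, hg⟩ : q ∈ orbit base p := (orbit_base p q).2 (beq_iff_eq.2 e)
    exact hg ▸ hinv g.1 g.2 p hp
  have e100 := (card_label 2).trans card_lab.1
  have e315 := (card_label 1).trans card_lab.2
  by_cases h1 : ∃ p ∈ P, orbitLab.getD p.val 0 = 1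
  · obtain ⟨p1, hp1, l1⟩ := h1
    by_cases h2 : ∃ p ∈ P, orbitLab.getD p.val 0 = 2
    · obtain ⟨p2, hp2, l2⟩ := h2
      refine Or.inr (Or.inr (Or.inr ?_))
      have : P = (Finset.univ.filter fun p : Pt => orbitLab.getD p.val 0 = 1) ∪
          Finset.univ.filter fun p : Pt => orbitLab.getD p.val 0 = 2 := by
        ext q
        simp only [Finset.mem_union, Finset.mem_filter, Finset.mem_univ, true_and]
        exact ⟨hlab q, fun h => h.elim (fun h => hcls p1 hp1 q (h.trans l1.symm))
          (fun h => hcls p2 hp2 q (h.trans l2.symm))⟩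
      rw [this, Finset.card_union_of_disjoint (Finset.disjoint_filter.2 fun x _ h h' => by omega), e100, e315]
    · refine Or.inr (Or.inr (Or.inl ?_))
      push Not at h2
      have : P = Finset.univ.filter fun p : Pt => orbitLab.getD p.val 0 = 1 := by
        ext q
        simp only [Finset.mem_filter, Finset.mem_univ, true_and]
        exact ⟨fun h => (hlab q h).resolve_right (h2 q h), fun h => hcls p1 hp1 q (h.trans l1.symm)⟩
      rw [this, e315]
  · push Not at h1
    rcases P.eq_empty_or_nonempty with rfl | ⟨p2, hp2⟩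
    · exact Or.inl rfl
    · have l2 := (hlab p2 hp2).resolve_left (h1 p2 hp2)
      have : P = Finset.univ.filter fun p : Pt => orbitLab.getD p.val 0 = 2 := by
        ext q
        simp only [Finset.mem_filter, Finset.mem_univ, true_and]
        exact ⟨fun h => (hlab q h).resolve_left (h1 q h), fun h => hcls p2 hp2 q (h.trans l2.symm)⟩
      refine Or.inr (Or.inl ⟨by rw [this, e100], ?_⟩)
      ext q
      rw [this, mem_nset_zero, Finset.mem_filter, and_iff_right (Finset.mem_univ q)]

section core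

variable {Ω : Type*} [Fintype Ω] [DecidableEq Ω]

theorem exists_equiv (hΩ : Fintype.card Ω = 1782) (G : Subgroup (Equiv.Perm Ω)) [IsPretransitive G Ω]
    (a : Ω) (κ : stabilizer G a ≃* GSix) (b c : Ω)
    (hb : (orbit (stabilizer G a) b).ncard = 416) (hc : (orbit (stabilizer G a) c).ncard = 1365) :
    ∃ Φ : Vtx ≃ Ω, ∀ g ∈ G, ∀ u v, adjV (Φ.symm (g (Φ u))) (Φ.symm (g (Φ v))) ↔ adjV u v := by
  classical
  have : Finite GSix := finite_six
  have hself : orbit (stabilizer G a) a = {a} := by
    ext x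
    simp only [mem_orbit_iff, Set.mem_singleton_iff]
    exact ⟨fun ⟨g, hg⟩ => hg.symm.trans g.2, fun h => ⟨1, by rw [one_smul, h]⟩⟩
  have hab : a ∉ orbit (stabilizer G a) b := fun h => by
    have := orbit_eq_iff.mpr h
    rw [hself] at this
    rw [← this, Set.ncard_singleton] at hb
    norm_num at hb
  have hac : a ∉ orbit (stabilizer G a) c := fun h => by
    have := orbit_eq_iff.mpr h
    rw [hself] at this
    rw [← this, Set.ncard_singleton] at hc
    norm_num at hc
  have hbc : Disjoint (orbit (stabilizer G a) b) (orbit (stabilizer G a) c) :=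
    Set.disjoint_left.mpr fun x hx hx' => by
      rw [← orbit_eq_iff.mpr hx, orbit_eq_iff.mpr hx', hc] at hb
      norm_num at hb
  have hU : (insert a (orbit (stabilizer G a) b ∪ orbit (stabilizer G a) c) : Set Ω) = Set.univ := by
    refine Set.eq_of_subset_of_ncard_le (Set.subset_univ _) ?_
    rw [Set.ncard_insert_of_notMem (by simp [hab, hac]), Set.ncard_union_eq hbc, hb, hc,
      Set.ncard_univ, Nat.card_eq_fintype_card, hΩ]
  have cases' : ∀ y, y = a ∨ y ∈ orbit (stabilizer G a) b ∨ y ∈ orbit (stabilizer G a) c := fun y => by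
    simpa using (hU ▸ Set.mem_univ y :)
  -- orders of stabilisers inside the model
  have hcardK : Nat.card (stabilizer G a) = 251596800 := by rw [Nat.card_congr κ.toEquiv, SuzGTwo.card_six]
  let pull : Ω → Subgroup GSix := fun y => (stabilizer (stabilizer G a) y).map κ.toMonoidHom
  have hpull : ∀ y, (orbit (stabilizer G a) y).ncard * Nat.card (pull y) = 251596800 := fun y => by
    rw [Subgroup.card_map_of_injective (f := κ.toMonoidHom) κ.injective, ← Nat.card_coe_set_eq,
      ← Nat.card_prod, Nat.card_congr (orbitProdStabilizerEquivGroup (stabilizer G a) y), hcardK]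
  have mem_pull : ∀ (y : Ω) (k : stabilizer G a), κ k ∈ pull y ↔ k • y = y := fun y k => by
    show κ k ∈ (stabilizer (stabilizer G a) y).map κ.toMonoidHom ↔ _
    rw [Subgroup.mem_map_equiv, κ.symm_apply_apply, mem_stabilizer_iff]
  -- choose the base of the small orbit
  obtain ⟨b₀, hb₀, hstab⟩ : ∃ b₀ ∈ orbit (stabilizer G a) b,
      ∀ k : stabilizer G a, k • b₀ = b₀ ↔ κ k • mkPt 0 = mkPt 0 := by
    obtain ⟨p, hp⟩ := exists_stabilizer_of_card (pull b) (by
      have := hpull b
      rw [hb] at this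
      omega)
    obtain ⟨g, hg⟩ := exists_smul_eq GSix p (mkPt 0)
    refine ⟨κ.symm g • b, mem_orbit _ _, fun k => ?_⟩
    rw [← hg, ← inv_smul_eq_iff, ← mul_smul, ← mul_smul, ← mem_pull]
    rw [hp, mem_stabilizer_iff, map_mul, map_mul, map_inv, κ.apply_symm_apply, mul_smul, mul_smul,
      inv_smul_eq_iff]
  -- the orbital
  let R : Ω → Ω → Prop := fun x y => ∃ g : G, g • a = x ∧ g • b = y
  have hR : ∀ (g : G) (x y : Ω), R x y → R (g • x) (g • y) := by
    rintro g x y ⟨k, rfl, rfl⟩
    exact ⟨g * k, mul_smul _ _ _, mul_smul _ _ _⟩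
  have hRiff : ∀ (g : G) (x y : Ω), R (g • x) (g • y) ↔ R x y := fun g x y => ⟨fun h => by
    have := hR g⁻¹ _ _ h
    rwa [inv_smul_smul, inv_smul_smul] at this, hR g x y⟩
  have hRK : ∀ (k : stabilizer G a) (x y : Ω), R (k • x) (k • y) ↔ R x y := fun k x y => hRiff k.1 x y
  have hRa : ∀ y, R a y ↔ y ∈ orbit (stabilizer G a) b := fun y => by
    rw [mem_orbit_iff]
    exact ⟨fun ⟨g, h1, h2⟩ => ⟨⟨g, h1⟩, h2⟩, fun ⟨g, h2⟩ => ⟨g.1, g.2, h2⟩⟩
  have hba : b ≠ a := fun he => hab (he ▸ mem_orbit_self b)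
  have hirr : ∀ x, ¬ R x x := fun x ⟨g, h1, h2⟩ => hba (smul_left_cancel g (h2.trans h1.symm))
  have hsymm0 : R b a := by
    obtain ⟨t, ht⟩ := exists_smul_eq G a b
    have hu : (orbit (stabilizer G a) (t⁻¹ • a)).ncard = 416 := by
      let φ : stabilizer (stabilizer G a) b ≃ stabilizer (stabilizer G a) (t⁻¹ • a) :=
        { toFun := fun k => ⟨⟨t⁻¹ * k.1.1 * t, by
              rw [mem_stabilizer_iff, mul_smul, mul_smul, ht]
              rw [show k.1.1 • b = b from k.2, inv_smul_eq_iff, ht]⟩, by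
              rw [mem_stabilizer_iff]
              show (t⁻¹ * k.1.1 * t) • t⁻¹ • a = t⁻¹ • a
              rw [← mul_smul, mul_assoc, mul_inv_cancel, mul_one, mul_smul,
                show k.1.1 • a = a from k.1.2]⟩
          invFun := fun k => ⟨⟨t * k.1.1 * t⁻¹, by
              rw [mem_stabilizer_iff, mul_smul, mul_smul,
                show k.1.1 • t⁻¹ • a = t⁻¹ • a from k.2, smul_inv_smul]⟩, by
              rw [mem_stabilizer_iff]
              show (t * k.1.1 * t⁻¹) • b = b
              rw [← ht, ← mul_smul, mul_assoc, inv_mul_cancel, mul_one, mul_smul,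
                show k.1.1 • a = a from k.1.2]⟩
          left_inv := fun k => Subtype.ext (Subtype.ext (by
            show t * (t⁻¹ * k.1.1 * t) * t⁻¹ = k.1.1
            group))
          right_inv := fun k => Subtype.ext (Subtype.ext (by
            show t⁻¹ * (t * k.1.1 * t⁻¹) * t = k.1.1
            group)) }
      have h1 := (stabilizer (stabilizer G a) b).index_mul_card
      have h2 := (stabilizer (stabilizer G a) (t⁻¹ • a)).index_mul_card
      rw [index_stabilizer, hb, Nat.card_congr φ] at h1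
      rw [index_stabilizer, ← h1] at h2
      exact Nat.eq_of_mul_eq_mul_right Nat.card_pos h2
    have hmem : t⁻¹ • a ∈ orbit (stabilizer G a) b := by
      rcases cases' (t⁻¹ • a) with h | h | h
      · rw [inv_smul_eq_iff, ht] at h
        exact absurd h.symm hba
      · exact h
      · rw [orbit_eq_iff.mpr h, hc] at hu
        norm_num at hu
    have := hR t _ _ ((hRa _).mpr hmem)
    rwa [ht, smul_inv_smul] at this
  have hsymm : ∀ x y, R x y → R y x := by
    rintro x y ⟨g, rfl, rfl⟩
    exact hR g _ _ hsymm0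
  -- neighbours
  let N : Ω → Finset Ω := fun x => Finset.univ.filter fun y => R x y
  have hN : ∀ x y, y ∈ N x ↔ R x y := fun x y => by simp [N]
  have hNg : ∀ (g : G) (x : Ω), N (g • x) = (N x).image (g • ·) := fun g x => by
    ext y
    rw [Finset.mem_image, hN]
    refine ⟨fun h => ⟨g⁻¹ • y, ?_, smul_inv_smul g y⟩, ?_⟩
    · rw [hN, ← hRiff g, smul_inv_smul]
      exact h
    · rintro ⟨z, hz, rfl⟩
      exact (hRiff g x z).mpr ((hN x z).mp hz)
  let B : Finset Ω := (orbit (stabilizer G a) b).toFinset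
  let C : Finset Ω := (orbit (stabilizer G a) c).toFinset
  have hBmem : ∀ y, y ∈ B ↔ y ∈ orbit (stabilizer G a) b := fun y => Set.mem_toFinset
  have hCmem : ∀ y, y ∈ C ↔ y ∈ orbit (stabilizer G a) c := fun y => Set.mem_toFinset
  have hBc : B.card = 416 := by rw [← hb, Set.ncard_eq_toFinset_card']
  have hCc : C.card = 1365 := by rw [← hc, Set.ncard_eq_toFinset_card']
  have hNa : N a = B := Finset.ext fun y => by rw [hN, hRa, hBmem]
  have hdeg : ∀ x, (N x).card = 416 := fun x => by
    obtain ⟨g, rfl⟩ := exists_smul_eq G a x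
    rw [hNg, Finset.card_image_of_injective _ (MulAction.injective g), hNa, hBc]
  have hKB : ∀ (k : stabilizer G a) (y : Ω), k • y ∈ B ↔ y ∈ B := fun k y => by
    rw [hBmem, hBmem]
    rw [← orbit_eq_iff, ← orbit_eq_iff, orbit_smul]
  have hKC : ∀ (k : stabilizer G a) (y : Ω), k • y ∈ C ↔ y ∈ C := fun k y => by
    rw [hCmem, hCmem]
    rw [← orbit_eq_iff, ← orbit_eq_iff, orbit_smul]
  have hb₀B : b₀ ∈ B := (hBmem _).2 hb₀
  -- the points
  let T : Pt → GSix := fun p => (exists_smul_eq GSix (mkPt 0) p).choose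
  have hT : ∀ p, T p • mkPt 0 = p := fun p => (exists_smul_eq GSix (mkPt 0) p).choose_spec
  let f : Pt → Ω := fun p => κ.symm (T p) • b₀
  have hf : ∀ k : stabilizer G a, k • b₀ = f (κ k • mkPt 0) := by
    intro k
    show k • b₀ = κ.symm (T (κ k • mkPt 0)) • b₀
    rw [← inv_smul_eq_iff, ← mul_smul, hstab, map_mul, map_inv, κ.apply_symm_apply, mul_smul,
      inv_smul_eq_iff, hT]
  have hf0 : f (mkPt 0) = b₀ := by
    have := hf 1
    rwa [one_smul, map_one, one_smul, eq_comm] at this
  have hfK : ∀ (k : stabilizer G a) (p : Pt), k • f p = f (κ k • p) := by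
    intro k p
    show k • κ.symm (T p) • b₀ = _
    rw [← mul_smul, hf, map_mul, κ.apply_symm_apply, mul_smul, hT]
  have hfB : ∀ p, f p ∈ B := fun p => (hKB _ _).2 hb₀B
  have hfinj : Function.Injective f := by
    intro p q e
    have h2 : ((κ.symm (T q))⁻¹ * κ.symm (T p)) • b₀ = b₀ := by
      rw [mul_smul, inv_smul_eq_iff]
      exact e
    rw [hstab, map_mul, map_inv, κ.apply_symm_apply, κ.apply_symm_apply, mul_smul, inv_smul_eq_iff, hT, hT] at h2
    exact h2
  have hfsurj : ∀ y ∈ B, ∃ p, f p = y := fun y hy => by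
    rw [hBmem, ← orbit_eq_iff.mpr hb₀] at hy
    obtain ⟨k, rfl⟩ := hy
    exact ⟨_, (hf k).symm⟩
  -- neighbours inside the small orbit
  let P : Finset Pt := Finset.univ.filter fun p => R b₀ (f p)
  have hP : ∀ p, p ∈ P ↔ R b₀ (f p) := fun p => by simp [P]
  have hPinv : ∀ g ∈ base, ∀ p ∈ P, g • p ∈ P := by
    intro g hg p hp
    rw [hP] at hp ⊢
    have hfix : κ.symm g • b₀ = b₀ := by
      rw [hstab, κ.apply_symm_apply, ← mem_stabilizer_iff, stab_eq]
      exact hg
    have := (hRK (κ.symm g) _ _).2 hp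
    rwa [hfix, hfK, κ.apply_symm_apply] at this
  have hPimg : P.image f = N b₀ ∩ B := by
    ext y
    simp only [Finset.mem_image, Finset.mem_inter, hP, hN]
    exact ⟨fun ⟨p, hp, e⟩ => e ▸ ⟨hp, hfB p⟩, fun ⟨hy, hyB⟩ => by
      obtain ⟨p, rfl⟩ := hfsurj y hyB
      exact ⟨p, hy, rfl⟩⟩
  have hPcard : (N b₀ ∩ B).card = P.card := by rw [← hPimg, Finset.card_image_of_injective _ hfinj]
  have hNb : (N b₀ ∩ C).card = 415 - P.card := by
    have hra : a ∈ N b₀ := (hN _ _).2 (hsymm _ _ ((hRa _).2 hb₀))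
    have hsplit : N b₀ = insert a ((N b₀ ∩ B) ∪ (N b₀ ∩ C)) := by
      ext y
      simp only [Finset.mem_insert, Finset.mem_union, Finset.mem_inter]
      refine ⟨fun hy => ?_, fun h => ?_⟩
      · rcases cases' y with h | h | h
        · exact Or.inl h
        · exact Or.inr (Or.inl ⟨hy, (hBmem y).2 h⟩)
        · exact Or.inr (Or.inr ⟨hy, (hCmem y).2 h⟩)
      · rcases h with rfl | h | h
        · exact hra
        · exact h.1
        · exact h.1
    have := hdeg b₀
    rw [hsplit, Finset.card_insert_of_notMem, Finset.card_union_of_disjoint, hPcard] at this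
    · omega
    · refine Finset.disjoint_left.2 fun y hy hy' => ?_
      exact Set.disjoint_left.1 hbc ((hBmem y).1 (Finset.mem_inter.1 hy).2) ((hCmem y).1 (Finset.mem_inter.1 hy').2)
    · simp only [Finset.mem_union, Finset.mem_inter, hBmem, hCmem]
      exact fun h => h.elim (fun h => hab h.2) (fun h => hac h.2)
  have himgK : ∀ (k : stabilizer G a) (x : Ω) (S : Finset Ω), (∀ y, k • y ∈ S ↔ y ∈ S) →
      (N (k • x) ∩ S).card = (N x ∩ S).card := by
    intro k x S hS
    rw [← Finset.card_image_of_injective (N x ∩ S) (MulAction.injective k)]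
    congr 1
    ext y
    obtain ⟨w, rfl⟩ : ∃ w, k • w = y := ⟨k⁻¹ • y, smul_inv_smul k y⟩
    simp only [Finset.mem_inter, hN, hRK, hS, Finset.mem_image]
    exact ⟨fun h => ⟨w, h, rfl⟩, fun ⟨v, hv, e⟩ => MulAction.injective k e ▸ hv⟩
  have hcountB : ∀ y ∈ B, (N y ∩ C).card = 415 - P.card := fun y hy => by
    rw [hBmem, ← orbit_eq_iff.mpr hb₀] at hy
    obtain ⟨k, rfl⟩ := hy
    rw [himgK k b₀ C (hKC k), hNb]
  have hdc : 416 * (415 - P.card) = 1365 * (N c ∩ B).card := by
    have h := Finset.sum_card_bipartiteAbove_eq_sum_card_bipartiteBelow (r := R) (s := B) (t := C)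
    have e1 : ∀ y ∈ B, (Finset.bipartiteAbove R C y).card = 415 - P.card := fun y hy => by
      rw [← hcountB y hy]
      congr 1
      ext z
      simp [Finset.bipartiteAbove, hN, and_comm]
    have e2 : ∀ z ∈ C, (Finset.bipartiteBelow R B z).card = (N c ∩ B).card := fun z hz => by
      obtain ⟨k, rfl⟩ := (hCmem z).1 hz
      rw [← himgK k c B (hKB k)]
      congr 1
      ext y
      simp only [Finset.bipartiteBelow, Finset.mem_filter, Finset.mem_inter, hN]
      exact ⟨fun h => ⟨hsymm _ _ h.2, h.1⟩, fun h => ⟨h.2, hsymm _ _ h.1⟩⟩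
    rw [Finset.sum_congr rfl e1, Finset.sum_congr rfl e2, Finset.sum_const, Finset.sum_const, hBc, hCc,
      smul_eq_mul, smul_eq_mul] at h
    exact h
  have hPeq : P = nset (mkPt 0) ∧ P.card = 100 := by
    rcases invariant_pts P (fun h => hirr b₀ (by rw [hP, hf0] at h; exact h)) hPinv with h | ⟨h, e⟩ | h | h
    · omega
    · exact ⟨e, h⟩
    · omega
    · exfalso
      -- the graph would split into blocks of 417 points
      have hclose : ∀ y ∈ B, insert y (N y) = insert a (N a) := by
        intro y hy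
        refine Finset.eq_of_subset_of_card_le (fun z hz => ?_) ?_
        · rw [hNa, Finset.mem_insert]
          rcases Finset.mem_insert.1 hz with rfl | hz
          · exact Or.inr hy
          · rcases cases' z with e | e | e
            · exact Or.inl e
            · exact Or.inr ((hBmem z).2 e)
            · exfalso
              have hy' := hcountB y hy
              rw [h, Nat.sub_self, Finset.card_eq_zero] at hy'
              exact Finset.eq_empty_iff_forall_notMem.1 hy' z (Finset.mem_inter.2 ⟨hz, (hCmem z).2 e⟩)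
        · rw [Finset.card_insert_of_notMem (fun hh => hirr a ((hN a a).1 hh)),
            Finset.card_insert_of_notMem (fun hh => hirr y ((hN y y).1 hh)), hdeg, hdeg]
      have hblock : ∀ x z, R x z → insert z (N z) = insert x (N x) := by
        intro x z hxz
        obtain ⟨g, rfl⟩ := exists_smul_eq G a x
        obtain ⟨z, rfl⟩ : ∃ w, g • w = z := ⟨g⁻¹ • z, smul_inv_smul g z⟩
        have h := congrArg (Finset.image (g • ·)) (hclose z ((hBmem z).2 ((hRa z).1 ((hRiff g a z).1 hxz))))
        rwa [Finset.image_insert, Finset.image_insert, ← hNg, ← hNg] at h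
      have hfib : ∀ s ∈ Finset.univ.image (fun x => insert x (N x)),
          (Finset.univ.filter fun x => insert x (N x) = s).card = 417 := by
        intro s hs
        obtain ⟨x, -, rfl⟩ := Finset.mem_image.mp hs
        have : (Finset.univ.filter fun z => insert z (N z) = insert x (N x)) = insert x (N x) := by
          ext z
          simp only [Finset.mem_filter, Finset.mem_univ, true_and]
          refine ⟨fun h => h ▸ Finset.mem_insert_self z _, fun h => ?_⟩
          rcases Finset.mem_insert.mp h with rfl | h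
          · rfl
          · exact hblock x z ((hN x z).mp h)
        rw [this, Finset.card_insert_of_notMem (fun hh => hirr x ((hN x x).mp hh)), hdeg]
      have := Finset.card_eq_sum_card_image (fun x => insert x (N x)) (Finset.univ : Finset Ω)
      rw [Finset.sum_congr rfl hfib, Finset.sum_const, Finset.card_univ, hΩ, smul_eq_mul] at this
      omega
  have hRff : ∀ p q, R (f p) (f q) ↔ q ∈ nset p := by
    intro p q
    rw [← hRK (κ.symm (T p))⁻¹, hfK (κ.symm (T p))⁻¹ q]
    show R ((κ.symm (T p))⁻¹ • κ.symm (T p) • b₀) _ ↔ _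
    rw [inv_smul_smul, ← hP, hPeq.1, map_inv, κ.apply_symm_apply, ← Finset.smul_mem_smul_finset_iff (T p),
      smul_nset, hT, smul_inv_smul]
  -- the lines
  let M : Ω → Finset Pt := fun z => Finset.univ.filter fun p => R z (f p)
  have hM : ∀ z p, p ∈ M z ↔ R z (f p) := fun z p => by simp [M]
  have hMK : ∀ (k : stabilizer G a) (z : Ω), M (k • z) = κ k • M z := by
    intro k z
    ext p
    rw [hM, ← Finset.inv_smul_mem_iff, hM, ← hRK k⁻¹, inv_smul_smul, hfK, map_inv]
  have hMline : ∀ z ∈ C, M z ∈ lineSets ∧ pull z = stabilizer GSix (M z) := by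
    intro z hz
    obtain ⟨k, hk⟩ := (hCmem z).1 hz
    change k • c = z at hk
    subst hk
    refine line_of_invariant _ ?_ _ ?_ ?_
    · have := hpull (k • c)
      rw [orbit_eq_iff.mpr (mem_orbit c k), hc] at this
      omega
    · have e : (M (k • c)).image f = N (k • c) ∩ B := by
        ext y
        simp only [Finset.mem_image, Finset.mem_inter, hM, hN]
        exact ⟨fun ⟨p, hp, e⟩ => e ▸ ⟨hp, hfB p⟩, fun ⟨hy, hyB⟩ => by
          obtain ⟨p, rfl⟩ := hfsurj y hyB
          exact ⟨p, hy, rfl⟩⟩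
      rw [← Finset.card_image_of_injective (M (k • c)) hfinj, e, himgK k c B (hKB k)]
      have := hPeq.2
      omega
    · rintro _ ⟨k', hk', rfl⟩
      rw [MulEquiv.coe_toMonoidHom, ← hMK, mem_stabilizer_iff.1 hk']
  let L : C → lineSets := fun z => ⟨M z.1, (hMline z.1 z.2).1⟩
  have hLbij : Function.Bijective L := by
    refine (Nat.bijective_iff_injective_and_card L).2 ⟨?_, ?_⟩
    · rintro ⟨z, hz⟩ ⟨z', hz'⟩ e
      have e' : M z = M z' := congrArg Subtype.val e
      obtain ⟨k, hk⟩ : ∃ k : stabilizer G a, k • z = z' := by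
        obtain ⟨k₁, h1⟩ := (hCmem z).1 hz
        obtain ⟨k₂, h2⟩ := (hCmem z').1 hz'
        exact ⟨k₂ * k₁⁻¹, by rw [← h1, mul_smul, inv_smul_smul]; exact h2⟩
      have h1 : κ k ∈ pull z := by
        rw [(hMline z hz).2, mem_stabilizer_iff, ← hMK, hk, e']
      rw [mem_pull, hk] at h1
      exact Subtype.ext h1.symm
    · rw [card_line_orbit, Nat.card_eq_finsetCard, hCc]
  let E := Equiv.ofBijective L hLbij
  -- adjacency between lines
  have hCC : ∀ z ∈ C, ∀ z' ∈ C, R z z' ↔ (M z ∩ M z').card = 24 := by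
    obtain ⟨⟨z₀, hz₀⟩, e₀⟩ := hLbij.2 ⟨lineSet, mem_orbit_self _⟩
    have e₀' : M z₀ = lineSet := congrArg Subtype.val e₀
    let D : Finset (Finset Pt) := (N z₀ ∩ C).image M
    have hMinj : Set.InjOn M C := fun x hx y hy e =>
      congrArg Subtype.val (hLbij.1 (a₁ := ⟨x, hx⟩) (a₂ := ⟨y, hy⟩) (Subtype.ext e))
    have hzB : (N z₀ ∩ B).card = 96 := by
      obtain ⟨k, hk⟩ := (hCmem z₀).1 hz₀
      rw [← hk, himgK k c B (hKB k)]
      have := hPeq.2
      omega
    have hD : D.card = 320 := by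
      rw [Finset.card_image_of_injOn (hMinj.mono fun x hx => (Finset.mem_inter.1 hx).2)]
      have hra : a ∉ N z₀ := fun h => by
        have := (hRa z₀).1 (hsymm _ _ ((hN _ _).1 h))
        exact Set.disjoint_left.1 hbc this ((hCmem _).1 hz₀)
      have hsplit : N z₀ = (N z₀ ∩ B) ∪ (N z₀ ∩ C) := by
        ext y
        simp only [Finset.mem_union, Finset.mem_inter]
        refine ⟨fun hy => ?_, fun h => h.elim And.left And.left⟩
        rcases cases' y with h | h | h
        · exact absurd (h ▸ hy) hra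
        · exact Or.inl ⟨hy, (hBmem y).2 h⟩
        · exact Or.inr ⟨hy, (hCmem y).2 h⟩
      have := hdeg z₀
      rw [hsplit, Finset.card_union_of_disjoint, hzB] at this
      · omega
      · refine Finset.disjoint_left.2 fun y hy hy' => ?_
        exact Set.disjoint_left.1 hbc ((hBmem y).1 (Finset.mem_inter.1 hy).2) ((hCmem y).1 (Finset.mem_inter.1 hy').2)
    have hDmem : ∀ s ∈ D, s ∈ lineSets ∧ s ≠ lineSet := by
      intro s hs
      obtain ⟨y, hy, rfl⟩ := Finset.mem_image.1 hs
      obtain ⟨hy, hyC⟩ := Finset.mem_inter.1 hy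
      refine ⟨(hMline y hyC).1, fun e => hirr z₀ ?_⟩
      have := hMinj hyC hz₀ (e.trans e₀'.symm)
      rw [this] at hy
      exact (hN _ _).1 hy
    have hDinv : ∀ q ∈ stabilizer GSix lineSet, ∀ s ∈ D, q • s ∈ D := by
      intro q hq s hs
      obtain ⟨y, hy, rfl⟩ := Finset.mem_image.1 hs
      obtain ⟨hy, hyC⟩ := Finset.mem_inter.1 hy
      rw [← e₀', ← (hMline z₀ hz₀).2] at hq
      obtain ⟨k, hk, rfl⟩ := hq
      refine Finset.mem_image.2 ⟨k • y, Finset.mem_inter.2 ⟨?_, (hKC k y).2 hyC⟩, hMK k y⟩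
      have := (hRK k _ _).2 ((hN _ _).1 hy)
      rw [mem_stabilizer_iff.1 hk] at this
      exact (hN _ _).2 this
    have key : ∀ z' ∈ C, R z₀ z' ↔ (lineSet ∩ M z').card = 24 := by
      intro z' hz'
      rw [← invariant_320 D hD hDmem hDinv _ (hMline z' hz').1]
      constructor
      · exact fun h => Finset.mem_image_of_mem M (Finset.mem_inter.2 ⟨(hN _ _).2 h, hz'⟩)
      · intro h
        obtain ⟨y, hy, e⟩ := Finset.mem_image.1 h
        obtain ⟨hy, hyC⟩ := Finset.mem_inter.1 hy
        exact hMinj hyC hz' e ▸ (hN _ _).1 hy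
    intro z hz z' hz'
    obtain ⟨k, hk⟩ : ∃ k : stabilizer G a, k • z₀ = z := by
      obtain ⟨k₁, h1⟩ := (hCmem z).1 hz
      obtain ⟨k₂, h2⟩ := (hCmem z₀).1 hz₀
      exact ⟨k₁ * k₂⁻¹, by rw [← h2, mul_smul, inv_smul_smul]; exact h1⟩
    subst hk
    rw [← smul_inv_smul k z', hRK, key _ ((hKC _ _).2 hz'), hMK k z₀, hMK k (k⁻¹ • z'), e₀',
      ← Finset.smul_finset_inter, Finset.card_smul_finset]
  -- the bijection
  let Ψ : Vtx → Ω := fun v => match v with
    | none => a
    | some (Sum.inl p) => f p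
    | some (Sum.inr L) => (E.symm L).1
  have hΨbij : Function.Bijective Ψ := by
    refine (Nat.bijective_iff_surjective_and_card Ψ).2 ⟨?_, by rw [card_Vtx, Nat.card_eq_fintype_card, hΩ]⟩
    intro y
    rcases cases' y with h | h | h
    · exact ⟨none, h.symm⟩
    · obtain ⟨p, hp⟩ := hfsurj y ((hBmem y).2 h)
      exact ⟨some (Sum.inl p), hp⟩
    · refine ⟨some (Sum.inr (E ⟨y, (hCmem y).2 h⟩)), ?_⟩
      show (E.symm (E ⟨y, _⟩)).1 = y
      rw [Equiv.symm_apply_apply]
  have hE : ∀ L : lineSets, M (E.symm L).1 = L.1 := fun L => congrArg Subtype.val (E.apply_symm_apply L)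
  have hadj : ∀ u v, adjV u v ↔ R (Ψ u) (Ψ v) := by
    have hrB : ∀ p, R a (f p) := fun p => (hRa _).2 ((hBmem _).1 (hfB p))
    have hrC : ∀ L : lineSets, ¬ R a (E.symm L).1 := fun L h =>
      Set.disjoint_left.1 hbc ((hRa _).1 h) ((hCmem _).1 (E.symm L).2)
    rintro (_ | p | L) (_ | q | L')
    · exact iff_of_false id (hirr a)
    · exact iff_of_true trivial (hrB q)
    · exact iff_of_false id (hrC L')
    · exact iff_of_true trivial (hsymm _ _ (hrB p))
    · exact (hRff p q).symm
    · show p ∈ L'.1 ↔ R (f p) (E.symm L').1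
      rw [← hE, hM]
      exact ⟨hsymm _ _, hsymm _ _⟩
    · exact iff_of_false id fun h => hrC L (hsymm _ _ h)
    · show q ∈ L.1 ↔ R (E.symm L).1 (f q)
      rw [← hE, hM]
    · show (L.1 ∩ L'.1).card = 24 ↔ R (E.symm L).1 (E.symm L').1
      rw [hCC _ (E.symm L).2 _ (E.symm L').2, hE, hE]
  refine ⟨Equiv.ofBijective Ψ hΨbij, fun g hg u v => ?_⟩
  rw [hadj, hadj]
  show R (Equiv.ofBijective Ψ hΨbij _) (Equiv.ofBijective Ψ hΨbij _) ↔ _
  rw [Equiv.apply_symm_apply, Equiv.apply_symm_apply]
  exact hRiff ⟨g, hg⟩ _ _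

end core

end Cfsg.Agent.SuzRankThree
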