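import Cfsg.Agent.Lib.SuzRankThree.Basic

/-!
# Tables: the 2080 fixed sets of an element of order three
-/

set_option autoImplicit false
set_option maxRecDepth 100000
set_option maxHeartbeats 400000

namespace Cfsg.Agent.SuzRankThree

open Cfsg.Agent.CosetEnum

/-- Part of a table. -/
noncomputable def fixOrbMasksLLL : BTree := (.node (.node (.node (.node (.node (.node (.node (.node (.node (.leaf (spread 10 9 0xff6b3a2801000c0200800000000001018000020000000000100d0001800000061c01800008e0800042100000800000000000012f)) (.leaf (spread 10 9 0x802284060000400a5090080000000085428840000041000182000802000001a000000003000000190001100c1206c61280110800))) (.leaf (spread 10 9 0x80901000004a2000240202000008281a00200621a20a0102008400030080210020200c00e001008000040000c203000101120000))) (.node (.leaf (spread 10 9 0x21041102610000014040080440000206440000440005a070010c00400040c00800a042d200040020010000084140800005400)) (.leaf (spread 10 9 0x102800000400a0034410888240000020408848108042a01c08000c02080490300004040100020000000048000022044000025005)))) (.node (.node (.leaf (spread 10 9 0x8100082002021028020421096010004000000980010000080001480100010781206e000108404420100414000080000081c00040))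 (.leaf (spread 10 9 0x4084020025008001200000020800090003000b02ac600100008400001080c22190108008408001002200040220250c20200))) (.node (.leaf (spread 10 9 0x8c80002101808426000000084a0220100a0040080a10004200140020800000020080c00000200b04422844101000080000100609)) (.leaf (spread 10 9 0x200080000102010100000a41021140020014070200000000106006080081200289970001008000030240040400864200a100800))))) (.node (.node (.node (.leaf (spread 10 9 0x120480308085008c09410010004a0c9000200004000008080980600000010200000004012280202460068000248028010002)) (.leaf (spread 10 9 0x400a0128022208041004880c200008c0200601042009012000140020a0050824000002100040023001008000200841001001100))) (.node (.leaf (spread 10 9 0x103912001220002001004182c2100a88400020001000840200983000000100310200121048408000032a80000020000088)) (.leaf (spread 10 9 0xb4084000000040000400442040400031480108048000180500a880204040808a00201000600000021000028042d10100105200)))) (.node (.node (.leaf (spread 10 9 0x3000000204010408010402208908252000209001086820000012040100007803016020000800416010800100000040000960002)) (.leaf (spread 10 9 0x200600200450021040068810900000000000600c01848080200020460000624008128b000900024000420001060122020008000)))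 (.node (.leaf (spread 10 9 0x20001001022c1a1080004008800402010041080000408c00000618000a10a44080000808020146000a004000500458010000c000)) (.leaf (spread 10 9 0x51006042000280401280006001000020a02461048100000008406a0000400002500804000a004021400912000100062080240)))))) (.node (.node (.node (.node (.leaf (spread 10 9 0x908a808180000010820110480604800805002050840800c0804020a011002020104000810c100000008000000100002042040188)) (.leaf (spread 10 9 0x440008200004c00420900008388204000a1080021010028200002000020405040010a001c104100002002ca9000000080041202))) (.node (.leaf (spread 10 9 0x8040000d100084040020e2001d3080011082a1000c520000400200000080300000080004010c0001000420080041800c08021100)) (.leaf (spread 10 9 0x860413000046000004020200000010282004480652148c002410000802000400181004000018080821460084080880c000000)))) (.node (.node (.leaf (spread 10 9 0x62000c0018000480a08600202021000000202144802408084210081200800080000081000040204284084a801110008402000800)) (.leaf (spread 10 9 0x1024040030200c28240000a2e044a0000000440c0210001008000080200102488200404500001000104140021008002680020))) (.node (.leaf (spread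 10 9 0x880080009809806000b00022148080002100800a0001242200080000002401040814045228400042200081a0000080280040000)) (.leaf (spread 10 9 0x408240020000000c12000180084000810000000882260085820004800e9000900e44000210800050012000084000601224080000))))) (.node (.node (.node (.leaf (spread 10 9 0x4a40c004c0008200041008507001010120010000011044000200020000004c0000831d082030002000002010600820200a100800)) (.leaf (spread 10 9 0x418000000000168000000600001800e000508951005030401001000400400faa2106000000000608200000400008220000813080))) (.node (.leaf (spread 10 9 0x400600000000a01201880800001440203002400040000000a000408908200002030204100c0810b01410212200100142102005)) (.leaf (spread 10 9 0x240e1001000000081048d0800001012008001002010044a02810800009002000184080000032402aa02300000808101500020)))) (.node (.node (.leaf (spread 10 9 0x40001801050000480008000003b442100009008000805108c80000835020010002800002000040109810082c08102009010001)) (.leaf (spread 10 9 0x8000040001140240000102908041010408010000400700c40000009020802018040200021080841004040a000081015200020664))) (.node (.leaf (spread 10 9 0x1244000000001410060804028040114101021400000051211008182006200084100121000120010081404005000580000040140))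 (.leaf (spread 10 9 0x80088402001060480001008000046005000008002113000500802000200444140008028004412008401102461290000800010420))))))) (.node (.node (.node (.node (.node (.leaf (spread 10 9 0x43000004202405448210102540400000000040408444000108300940100000062800051a000800800a810800000200120001801)) (.leaf (spread 10 9 0x12804041000800000244080200000024020000081030020060021101001000080029804001118100248200200680858410202003))) (.node (.leaf (spread 10 9 0x6013000c200100050000018800200301a02040090800000084010204001220000c0d4018088081400010400000820010012d0000)) (.leaf (spread 10 9 0x49a041864180a20e20100004009000000381000000008042000000000404000000c040004010900602042291208018004a000000)))) (.node (.node (.leaf (spread 10 9 0xc00002018020002024012110904540420080000001c0a2020038000140080514001018400000028a0400200030004040200030)) (.leaf (spread 10 9 0x10010040020050102048401000008a2282002400440324000080084c50804000006000004002810422028400010140041082800))) (.node (.leaf (spread 10 9 0x20001200040010012100024101001008206000400a11822800600002048e005400400114014000080005c200401000820010090)) (.leaf (spread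 10 9 0x3408004040c0a001000000040080000018020800000080000000c014040400000060400200108051020490047304823380912800))))) (.node (.node (.node (.leaf (spread 10 9 0x801088800001004000410002428010201022000001030806200002080108180641c001000401624088010002920000000c082002)) (.leaf (spread 10 9 0x800020100001202c0103188108002108000000004010081000000244000040842080c10110016a0e485000001001800008003408))) (.node (.leaf (spread 10 9 0x20000821c0103003200108060040000001290200860200022848400000410520009440408000100804202000a4000005a00002)) (.leaf (spread 10 9 0x840401000280228002946400c0020200004014000084100080020800011108001101280a02082008001240004804098000060400)))) (.node (.node (.leaf (spread 10 9 0xa80c112004900400080045000240010204400421800209100440020210000100020200402111080210000240020a004400180010)) (.leaf (spread 10 9 0x600000200000000c0401100804801a406444010021004044000400009008041b0000020000e88c4c0400102a040000003800100))) (.node (.leaf (spread 10 9 0x1001088100c20004001005000090240802000000085048000004604020000984009009208000d00042442010043004000250009)) (.leaf (spread 10 9 0x81540019208400008c202006800030000582a80000100021820008400020201000000004000001100400243480044201000005c))))))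 (.node (.node (.node (.node (.leaf (spread 10 9 0x800800031804002021001080019100000840004000680102850941800000000040010f40002800c0130101000400040880490001)) (.leaf (spread 10 9 0x194000022000080840a0000400270400180084000c14000804051c2002080802900201401200101a0820800000000100001b00))) (.node (.leaf (spread 10 9 0x8006000000200810801120860080052010902078c800020100844020402005001800140018000000000000400141202052200410)) (.leaf (spread 10 9 0x4500020004000400010000882000042000183a01001031004001008184c120200800105000a15080100b8000004141860000)))) (.node (.node (.leaf (spread 10 9 0x30100000001428a0608601800200011200200120a02c282004021042008800000088100020000020100000c02108480200920100)) (.leaf (spread 10 9 0x480211409001001560008248001a044200000004400404a025004000200050100020008200000a0820000c04004004840008400a))) (.node (.leaf (spread 10 9 0x2000d00020009e4810000010180252000242241c010840440200800002000000200400011000848805013002101840002200000)) (.leaf (spread 10 9 0x8200032248d40004c040004000200000084030020100840023028004a0410044c00002000406020001082128004820090))))) (.node (.node (.node (.leaf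 (spread 10 9 0x100180128400080012021010040c02001401110048184040040008001008212808600400000700008208906000000080880c0008)) (.leaf (spread 10 9 0x810000018c4028088001200200c00820149140088020020001101100000240000001000c82148400600804000828011410200800))) (.node (.leaf (spread 10 9 0xa0500040002400d00181001000000120000401088a0000300044884202848c480000009000104c14201003080000c220000008)) (.leaf (spread 10 9 0x20008050004000010201310c0020020010000106400000000060402902400c109ab420000000100288100a00600062420204000)))) (.node (.node (.leaf (spread 10 9 0x2024008004021021000218000008002a05508000010011040202200402084a492002c0000008804cc10000000041001000011404)) (.leaf (spread 10 9 0x1010000000400242441288100000208000a0002182840480c04860805000000300020000012401a701020081004800420000280))) (.node (.leaf (spread 10 9 0x299540c4320c20803010005400488808000040000080000600d000000080020040004c0040006811000402410000000021000003)) (.leaf (spread 10 9 0x44000090104000010020040445000040804600200020a800000400200010400002001202001420050280150082900062248300a8)))))))) (.node (.node (.node (.node (.node (.node (.node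 (.leaf (spread 10 9 0xc000a8300880044480200038080208402234410030200080000402c084808000100902014240100000040000000000001080702)) (.leaf (spread 10 9 0x1000001000010000a8000040010241004000284202030008200200004882200000020360008005a24000011110112484424518))) (.leaf (spread 10 9 0x20800200001008010000021140104004008c32120084002001c0010450018402020050440000c0c0000820088000109008410048))) (.node (.leaf (spread 10 9 0x2742001000081000200100058320040b22000000040010000020094c6908a020000048102400a1440042140008000000028000)) (.leaf (spread 10 9 0x14000081000201022314030400000460a600020000010000040a80000010884901102121100040d0300c0100010002004220008)))) (.node (.node (.leaf (spread 10 9 0x20000001424c0302000000880310040004408040105200001001a920000200a08002191002004280064008880200200000092004)) (.leaf (spread 10 9 0xc0480044004904100c12002400100002021800041800ca000100005188008040004902000200200000100008808800197080080))) (.node (.leaf (spread 10 9 0x2218080001411002008000051004128240010140002000b400040001800100004c1120200301108140448000008020020200100a)) (.leaf (spread 10 9 0x280004900000600080408c00052018000880110150002000002480800058c0001048180060800500010085108080804020004800)))))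 (.node (.node (.node (.leaf (spread 10 9 0x8004034200a000008402440101001004905005100000420920000024008002010090143018201320000008043100000024200004)) (.leaf (spread 10 9 0x220444030a0080c00809200000026020008888000005000100010e00182001860500000410000200001e1408200003010000210))) (.node (.leaf (spread 10 9 0x49400600c3800000109200c20040802100800010a40004000000000004104a084000655060004004004400902410000001048080)) (.leaf (spread 10 9 0x8081002002710000500010280080001801000000480100000001801000204c200840000654800048c260001450030228400a)))) (.node (.node (.leaf (spread 10 9 0x100410520402000421004200022801c200000004220211100084004228000400002021895010ca02000000100a20800000082008)) (.leaf (spread 10 9 0x59080000418040000150402000000042148410010000080000206088040800801018422048000404018400942004029100026000))) (.node (.leaf (spread 10 9 0x20000001162a00800001002080056408002144c02000020010100b006000180400001c10042010400000801129408002220020)) (.leaf (spread 10 9 0x48000000001200080002210120008042081009200440800280004b0108a280020402200000582000840840060181008022404800)))))) (.node (.node (.node (.node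 (.leaf (spread 10 9 0x835880104001149014000004880000211348400c001050260022840050012080200100000000000001000028000c1000201000c)) (.leaf (spread 10 9 0x20c0200801000100000290008402c05300a4222000040000620040040084020300000488802100104a0a188000800020410010))) (.node (.leaf (spread 10 9 0x200805820001100081a0002080219010441021840030240000848000040080800804004026002120800480000882020400000a08)) (.leaf (spread 10 9 0x38206002c2000004800000010410000200120000008010000001c0000000040008110004044600001880e00507821340a942800)))) (.node (.node (.leaf (spread 10 9 0x80180000d0100200000000088801040000a880024006504210001020800200818004202002818010054043408620002040000044)) (.leaf (spread 10 9 0x542180020000a019000411000010000004014402080116200404410000240913808000020220000c010b0020809000808020))) (.node (.leaf (spread 10 9 0x4261020010240001a0e400c80402000000840080000c401060240000000c82406800080008606090002000100000a00031200)) (.leaf (spread 10 9 0x50004400002082000104820022848420100200c09000104080820040804008910102200803004040942001040200002080b0000))))) (.node (.node (.node (.leaf (spread 10 9 0x208834002480000030009c2020000090040104a008030105300a000004100010100010480010108a822a00000000100100380))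 (.leaf (spread 10 9 0x100002004008001c4c29140042002980000104040424020a00000040004001022000991080850008084400000007020101400400))) (.node (.leaf (spread 10 9 0x411004000008208c0400228012080900010001002102460000880000020010d0243042000082488c00000000806320400808010)) (.leaf (spread 10 9 0x41800008200004000111841010b0803a40007c8000020011000200000700002040009842000000000106440004f08000c40)))) (.node (.node (.leaf (spread 10 9 0x4010910002010410104020000800208800808c242010a00ec02802000108050000100110109000890080101040004008010014)) (.leaf (spread 10 9 0x2080020c200040812020000c0820098000c040400800041400e00100008a000810400890004001200810011014804040b0040002))) (.node (.leaf (spread 10 9 0x24012040400001100080208110090906102000118009100400000202412048410280000053104c042000400004002030100010)) (.leaf (spread 10 9 0x51120000004100003900000001004010c000508200001000204200040808901000424209024021042040d01441200091208000))))))) (.node (.node (.node (.node (.node (.leaf (spread 10 9 0x11100084208a0020080880800001005054c41000010114106004042002080881040040800080040a002000000045009802008001)) (.leaf (spread 10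 9 0x20808001013084006000000002320010100040800d0013000020000000060088101000009021000480321000142802422200844a))) (.node (.leaf (spread 10 9 0x800420000200820100000220911011000200002081052022010004800442010501008210400a0001c09200604804088000040018)) (.leaf (spread 10 9 0x8080100000480011a204140160008004800000400090f08080002040110048401110020400802003032010000810404041060000)))) (.node (.node (.leaf (spread 10 9 0x11000010040a006201900200d00802100120002000230500400801000800706b0110004000404082008010a0008000400208180)) (.leaf (spread 10 9 0xb01008084001000000840082000410001085a0000000012068080a08000000a420900000241424020090070020d10020142))) (.node (.leaf (spread 10 9 0x50904000201400450000201022000181000000a400000021c620044000006080000d0120240001e042000400600028000c220004)) (.leaf (spread 10 9 0x440c00a000c020000000010920000022001090010000000000022008120000000061200200484034010a500060c5028081407440))))) (.node (.node (.node (.leaf (spread 10 9 0x220150420700000a02001800100414024082000020020020808400200010a09019140001101305000008040010018000680002)) (.leaf (spread 10 9 0x500001131400800000208000108a04000010000210200885b10840010010401102200a0000a020b4100001000010601100080088)))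 (.node (.leaf (spread 10 9 0x8000342020040004060000000000208a0d0104100234210003000a4800c2202100800004000a420010000185500000094004008)) (.leaf (spread 10 9 0x14440080810020000040040010226000102041050010882420010044a080024700100c000000132820400040022004080008808)))) (.node (.node (.leaf (spread 10 9 0xa07000000021004010100010c0024a30040204002408080800224000012008120f210000000022000003091900a008a000002000)) (.leaf (spread 10 9 0x1020000902010000000000404412000a04020000000a90800041c000010400882800208141010000a0800cac04600008040b206))) (.node (.leaf (spread 10 9 0x21000003128006108048400800054001c082002001401030600a040008a020080000440000802000400000000042930908800050)) (.leaf (spread 10 9 0x28212100113100010104810000200000180025211004044082084014080080008810000100204010400250000ac00440100028)))))) (.node (.node (.node (.node (.leaf (spread 10 9 0x214004218044400480496a0010220a200082010110028202050026000001020082500000008400004000000000008108008009a0)) (.leaf (spread 10 9 0x10400484000100200080004240442006040000008400904020a8052040006200044021900800044314800000040c080803000090))) (.node (.leaf (spread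 10 9 0x2020048000011008048100000a02d020245a0204600a00000082000002240840008a020004082000801504300200001040280020)) (.leaf (spread 10 9 0x120002040142608404042018000161000120014000001c004040001110100321005400c0000020085809088c0000004840)))) (.node (.node (.leaf (spread 10 9 0x400008002241c8004130648000202010020100000008400822400385720000088100000400008800800084050001422840008004)) (.leaf (spread 10 9 0x800310003000400100500024e880020200888c39c002030128000002004083800000000020010010004010000212040042100005))) (.node (.leaf (spread 10 9 0x4208c0008300000024410009004400c8010aa0080408004100440200080080302300100008800040013208000904400e04000000)) (.leaf (spread 10 9 0x4000100002000400a4001001200200000430001208a050080000004001110000131804020221000200120a841804000e26000d04))))) (.node (.node (.node (.leaf (spread 10 9 0x20010400000a48001840840000518448c0800000004020122020124020002000220013018410102840822020000080400220081)) (.leaf (spread 10 9 0x440800b02860020120000000104100001802000000080102000000200000002000211000004c604801c0a0110b04444b80601080))) (.node (.leaf (spread 10 9 0x80420001409c00000400081c0800000008038a504100081302000900008000112a80000422414d00100001000120000001040a0))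 (.leaf (spread 10 9 0x4000100000c4000040800005441012084141000108201005400400180101044000012400020040104002422010048800004cc144)))) (.node (.node (.leaf (spread 10 9 0x40600630400c880100041041014800800100188002004c144000000304a6440204000a0010810010002018400800000004100)) (.leaf (spread 10 9 0x2184c000001108a840002404404000a00223040800000e061002a0000005200010000808000024088200200050400020208400a))) (.node (.leaf (spread 10 9 0xe290000221200210400050040000044008808100102a00010803020998011205400300020008000048000441001010820200)) (.leaf (spread 10 9 0x1001a0000040140010110000009420000410000c0080080080406000080044200080010020041252080600112742a042010c010))))))))) (.node (.node (.node (.node (.node (.node (.node (.node (.leaf (spread 10 9 0x80a0802000800083360010181030000090028a004200100800005110421008028c6014402080420000000000000000020084421)) (.leaf (spread 10 9 0x1000000a002d0038801ae02c000000000001070004001020000074008000041380000100014000440801802000080700a81c00))) (.leaf (spread 10 9 0x84020d410040082000004401300094400800005940090084200800020000404101008192210070000001040400040080800830))) (.node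 (.leaf (spread 10 9 0x4025002040000020008802a002d8084001a12020000080090808200084040040d00000040013230a202220080080000028000200)) (.leaf (spread 10 9 0x10a8020600080033400014000020448080018210000110080000580002282408e0210800002a048800200002010000000c1c00)))) (.node (.node (.leaf (spread 10 9 0x82a0000000028000000106080310a00040804500102008084050050090a008001802c000d0000a280080020400090080102042)) (.leaf (spread 10 9 0x10088048805a44414100004001028000480058000400080080020811040200821050400048100004a00000000100002162082240))) (.node (.leaf (spread 10 9 0x8002000108d04022040011005044c4040a8011005000a080140204084408440100100420000044000801408800000003800100)) (.leaf (spread 10 9 0xc0000200824109034a00b008030000c00200010040800802080094900004080008480220000101014401400c0c0003000090))))) (.node (.node (.node (.leaf (spread 10 9 0x804000002282003020242000101040300a10b120890104000000c40000001505800800001980000300040000001400a014081001)) (.leaf (spread 10 9 0x2800048040000008000041311a40300088000e220c000610c1100103102008700002000000080002020100404600020420204000))) (.node (.leaf (spread 10 9 0x400080200000d44430018018140000800002800e000883008000010102200828081488000800025280022200201000820042001))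 (.leaf (spread 10 9 0x800004000110234002008100002000410801041000a0064120410018000406004800088801042048001100814840008000020664)))) (.node (.node (.leaf (spread 10 9 0x45222000000234080008000328082100001010104040101010038080000001064110004022048802089008081000200208000181)) (.leaf (spread 10 9 0x10000053140080060020a21218010402000020000040084d00480800024800720808040002030001001810802000004841060000))) (.node (.leaf (spread 10 9 0x80000429821000c088090481100004048400000180034104440a0400282000100014404000100800000082100080920080900420)) (.leaf (spread 10 9 0x108c00d004580015c8000000840100000000080010002045c00e4000410606002200000006900000006400229004c0840)))))) (.node (.node (.node (.node (.leaf (spread 10 9 0x804208014082000000000438000203700804404a00001000080002800802802cb602100400042908000001000a4000805002002)) (.leaf (spread 10 9 0x24020009085000220042800180200800100110183008622000022102100240140001c0804020004000000080008126004200821))) (.node (.leaf (spread 10 9 0x80100002010188400a048500402800200003800100c01e0090140400450008021100002000402200000100400808140080072040)) (.leaf (spread 10 9 0x8001010c6010040100a000004000025400c08000a20804000009001d008008840400400a0880204100408020850088280240000))))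 (.node (.node (.leaf (spread 10 9 0x62000840001376100080000402041060200800004009018000000028003100000000c034004f0011000420100008644800600000)) (.leaf (spread 10 9 0x6004010a0080800000008c412184080012100000d0000840000080020244080040a11a80008090340000a00460000000a2000840))) (.node (.leaf (spread 10 9 0x4a9000c0056010000006802020004002001208200810021403002c008000a8008208448008002802000050200140800c4000000)) (.leaf (spread 10 9 0x4008180000840008400000401010408280403101880010801000220800001d10400000000000090c35000601200e02c010086000))))) (.node (.node (.node (.leaf (spread 10 9 0x408291000120000428c80410008a0011a021240000080000440000810092300120210001800008c002210a8000002002204)) (.leaf (spread 10 9 0x400860001100190021010000408000000386120500948044002001000821002020084000d9201080000008402000509408100000))) (.node (.leaf (spread 10 9 0xc000048000000002208800080001204822010000022020120400ae400040a00000b083019102108000040804002018200250102)) (.leaf (spread 10 9 0x20000210002006500010100140040880011008828800080001000042022088018c29480800000602020102254400000e20000100)))) (.node (.node (.leaf (spread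 10 9 0x804312000000001080010010200000008008a5549020500000100022000100059000002208a1a40103000090110000a0c2000005)) (.leaf (spread 10 9 0x4800000060400040001041200000221000124000004c0218c0206121330000020408000000402200018000782901060080005040))) (.node (.leaf (spread 10 9 0x2400000028928408000900080880020400c00018260840400101a800000a0000000002d004e02004a0600000038044020200040)) (.leaf (spread 10 9 0x20020302011002088000010408000284000024202008820a010024104002a00a182200400000083400401010c001028841020))))))) (.node (.node (.node (.node (.node (.leaf (spread 10 9 0x1088402541620005e1000901000080000120080400014002040141223501010000006400080000002088810000204004800012)) (.leaf (spread 10 9 0x2020880040108005848008020020200208080000064000044008400024805004881400c1202020100040402022109210000181))) (.node (.leaf (spread 10 9 0x51020280000009010010411100000074829040481000126100000200010008180102000030220002140801081a0000ec0000000)) (.leaf (spread 10 9 0x820000040000520001080802b01810108010024800041c2000408000040400204800a0406604100140004c280081000300000018)))) (.node (.node (.leaf (spread 10 9 0xb02001410820021000920048008080420800040014291300209008440028102200008002000900004440280100a4040000080))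 (.leaf (spread 10 9 0x2080000001110800600c0801001244421000c000202400a00408000200412804000010010200908010c0a002604004002000844a))) (.node (.leaf (spread 10 9 0x44000028016200001002808140200000200039100008202401072020800004a3c00001400002092806001060040000080000830)) (.leaf (spread 10 9 0x8000200004800114000080081830c20c100000000410008880182004820008000800058426900001008210c08100404402820100))))) (.node (.node (.node (.leaf (spread 10 9 0x100105000204000001001008104d0214024130804008a000008010000c000140940400000407330400001002c040000408008802)) (.leaf (spread 10 9 0x803029080040000010000006a4004c0402508000830204045020000a08308028600000001130000000000280662040000a010))) (.node (.leaf (spread 10 9 0x2000810a01006040100200148102420509080202010090040100500820a082092020104000008020081100004008000211110)) (.leaf (spread 10 9 0x100000200850202040004004608004090148090204020010101090500820020a002000010704001144014010180008024800020)))) (.node (.node (.leaf (spread 10 9 0x208014000203300000000806004062228444040c020007008080848880102010010f1240018000040000000000000b040a0)) (.leaf (spread 10 9 0x40040400830000c0021900911c40000448080408040000a0100000200c800078040680002000020410040000cc00800484088000)))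 (.node (.leaf (spread 10 9 0x2110008008200a044010404080008c04400100204058280008005200204000000404110206505000c0101000048400801440008)) (.leaf (spread 10 9 0x21004000880ac24001040200000026005100040c0008008080000800c00c04460000014209000104200009000004000023111170)))))) (.node (.node (.node (.node (.leaf (spread 10 9 0x1200000808000046408082404010420408800000102b85260000401100604008241402422801000080002000040080800444004)) (.leaf (spread 10 9 0x1004ea100040010800000030001c020010a4010000850422000204061000850802100210000a001010080c100400000000050609))) (.node (.leaf (spread 10 9 0x203040010400000000801400088040022358131005a000204980080414005200000000000008424000b002120003003200000060)) (.leaf (spread 10 9 0xd001110800001481004010400200628498100802420304020400000040504000000015080080004000020213050080001180024)))) (.node (.node (.leaf (spread 10 9 0x80800440141002012200089420801010000000a00b02000008030100000132000014504c00c20200020024000908202240021)) (.leaf (spread 10 9 0x280000845000800c000020040400c040900b923000c000220182000518b400000000000000006047060400000200801022800040))) (.node (.leaf (spread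 10 9 0xcc81080128a0601040042000a000000100400840000080848000a050200210a00008c300000184405000065008200240000)) (.leaf (spread 10 9 0x400100000106000240013020c0c08024420122a08214000100200000200002002a01400006100208408108020000b0801061000))))) (.node (.node (.node (.leaf (spread 10 9 0x40000061800400150010223490020022000400004000180325200444004c80840002002068000000408010804202008800044002)) (.leaf (spread 10 9 0x8101040800009010d0000280492004020040213001080040020600000a000101120c10213000002000084843444000300000800))) (.node (.leaf (spread 10 9 0x202000000140424022540848000000a10001400120c00448a208000001098080540040200285010200006084800010100000220)) (.leaf (spread 10 9 0x180020c020120020000000006120001800000000044388100000004004a00a80204000140880100012040402118a6240808286)))) (.node (.node (.leaf (spread 10 9 0x48423000d40001000010024081004805000000000008040000128021b10058022c00050020c0000010031010306004000080000a)) (.leaf (spread 10 9 0x8800400408200000081000d000a40000400020706000000001064050800500402144ac00100000803b8000020000034810610000))) (.node (.leaf (spread 10 9 0x1004aa00800201040200d0a4240400000c004080300802600a00000010202c208040002202003000080002000001004110850009))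 (.leaf (spread 10 9 0xed8355c00158026470000000001210005901400000000040000048100000000000800000000000000000000000000000210ac77f)))))))) (.node (.node (.node (.node (.node (.node (.node (.leaf (spread 10 9 0x10a0020900004100040440e004205a040800060c0447168280040040004c4000006000000010000000000440242084000002006)) (.leaf (spread 10 9 0xc020088700000290305e400000080000400040880000000000d00000000000004000000140801053440986a8015212010a010000))) (.leaf (spread 10 9 0x1010054000440240400400018142100018100b08001a50a09000a41400000000000008084241048000102800021380200800))) (.node (.leaf (spread 10 9 0x200ac2002020a05100040000150010080040a12a000000080060008a40200040889401040a00004a01000000102042001048080)) (.leaf (spread 10 9 0x2104220004000006030801081062000007428000001c000000500c02c03430888000102404001200008000410002006104400)))) (.node (.node (.leaf (spread 10 9 0x60044000010100806081a2080400022402000000410401073100201100004000081080058100120020130800600002810044002)) (.leaf (spread 10 9 0x108003000010042000000205001229a8001008002022080c01138000488000040108004010800a310081101000010411210040))) (.node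 (.leaf (spread 10 9 0xb064022000009002030000005161002000089000410021000301880a04840c00000810024000015002a00802a002008002000)) (.leaf (spread 10 9 0x800a204000112280406100212a0608060008000400a000018085200001041000c0011100000400044400080008010a81080024))))) (.node (.node (.node (.leaf (spread 10 9 0xa06000001c1000000000100a04000002095100c901008000840003060002c2020c01083080180c42100000040001001c01000010)) (.leaf (spread 10 9 0x4028011004000040288804000044014252022400040000420400920814a0200000a01100a0208920400000040001a4040002080))) (.node (.leaf (spread 10 9 0x120801000500004100008202800810000300003010868103000c4884105000061004006000152401c1000001000000404200500)) (.leaf (spread 10 9 0x801400000080000030000020000000000048506a000200005d02060c2000046c30400020808008008002010100083500a41005c)))) (.node (.node (.leaf (spread 10 9 0x20000c0040000101040020084112010000c950121001a01410408020408880180000190310000480008800208080004200022020)) (.leaf (spread 10 9 0x21086200120c000200008c80030008a0200000005c0042020000a000254002000200380000804800400480880410028029000880))) (.node (.leaf (spread 10 9 0xa08a0841024020000400008100082802826000414040086084008054010402200000818110000148400800150200022040))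 (.leaf (spread 10 9 0x2200001a040008000000000000008400490404002440a0040000933268200441002011002510180240200000990008038002200)))))) (.node (.node (.node (.node (.leaf (spread 10 9 0x1004604100020110000d81440601c8008004260000050000030a041010800140012080040084100002090400210400000044002)) (.leaf (spread 10 9 0xac04100002000402001841c1090008811105001010000224800023100010000a004540b01080200000020000204200140440))) (.node (.leaf (spread 10 9 0x4020844080080880084000000c100402140084000050c0002400100024813018003d9000010008010000a0220440010480000408)) (.leaf (spread 10 9 0x1060a20000482000250004820081020400108010081020410098028080d2000005004004000340002002802800220240420200)))) (.node (.node (.leaf (spread 10 9 0x2200000a201050216400020408200c200080020004110000514000001901040082c00070000e0004040020081040018880020100)) (.leaf (spread 10 9 0x421401804004220024030001004808088015010002060200a48004001030008108840040820020100120084001004006801000))) (.node (.leaf (spread 10 9 0x400a2041400028006180458000400010028200000008000402204182060004a24000122004000040130010200904c01a00100000)) (.leaf (spread 10 9 0x240190000400e0204401020000001000500040ea4080820080004c00221400884004010001000020042008910020104001009108)))))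 (.node (.node (.node (.leaf (spread 10 9 0x400008208000182402004109084a4010429028181000088040080000000800100146040140001000410001009118e0000800202)) (.leaf (spread 10 9 0x91081010402100880200005210000000181000c00010040001111420744111004000880100000144000a001a908090000210000))) (.node (.leaf (spread 10 9 0x1120000008112010500a082102808000000000444488004044050200404a0048088402004201201080402011404040104002)) (.leaf (spread 10 9 0x4425020810c40000200020203804a8020000002200065100000a000028010000200440000803400d00940000100830808800050)))) (.node (.node (.leaf (spread 10 9 0x10060000040080011400d0802004008008000210211a902402a02010000002140000e00800508100000480041a60000000815001)) (.leaf (spread 10 9 0x804030000a04400000206020e08004048000b18000100001400030000a088210413080000100202100012424100020405001004))) (.node (.leaf (spread 10 9 0x408202025000c202000001640502088001a300841240001120008200000200025000200310006054000012104000011001040)) (.leaf (spread 10 9 0xa0240410080204e000000c24001020994110010000a80000040000121040000201220020504002030000048000980051004440))))))) (.node (.node (.node (.node (.node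 (.leaf (spread 10 9 0x40300000401000001401c100000440b0214a0900249a0000012049000204c01600000400000000010110402209a2000000000c01)) (.leaf (spread 10 9 0x20030010042000040010000a2e00066002128000a02001000100004c6218008082004000c10000208016120100001044009010))) (.node (.leaf (spread 10 9 0x8040c008401004000000d111100000432a510422091204000040094000044400000800000100200200004216000200ae20000100)) (.leaf (spread 10 9 0x81800004001041000890008000203010440c300013214002000e00002a004034810400c002000028800010050000020800310800)))) (.node (.node (.leaf (spread 10 9 0x321000002a000a420200004400020030080820c00908046003001200004010804404c8008001820808143000008480020000200)) (.leaf (spread 10 9 0x1800400000020000020084000200a84081020002008004021000285020010109008020a624020020832d040c464085))) (.node (.leaf (spread 10 9 0x20004000100304001088802803098108c00000800a4010128218228100804002004080240002103024880000002012000004100)) (.leaf (spread 10 9 0x4c0400000000000104190008040114422100001084004042000094180822008000202e0005280180c00010001c001c020100100))))) (.node (.node (.node (.leaf (spread 10 9 0x100410422008908000004210100108000188404420000149000a010800820200d100041110404b03000010002080000034000020))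 (.leaf (spread 10 9 0xa82030001400c00008001404a000c000000011a91080200100000800394050000081001021400442106000100200c04040008200))) (.node (.leaf (spread 10 9 0x20c40404004246004208000a80400080002240010200058040042006402080c0100201000001040222014008144901200100000)) (.leaf (spread 10 9 0x290100121a028010050841440340c48000001460028050140000000a180020000002000100000042000204410280810400000003)))) (.node (.node (.leaf (spread 10 9 0x21a080000204900004100820000030a080620008010420048500920004202208000100008200012000881040a1110a0049)) (.leaf (spread 10 9 0xc0480881008204440000040010040408001c000500088200180400012a0008040010080480040302002080400080000c1081f02))) (.node (.leaf (spread 10 9 0x104008a400402200412800211400000008504825000008014c120000c00048000ca4208000040002841101000080012081004)) (.leaf (spread 10 9 0xd049100040000d0100000900a000010490580004015086000001202108021080218000020020000100080020508010281080024)))))) (.node (.node (.node (.node (.leaf (spread 10 9 0x700468200a0110050009000004020800900008020120100840a24042828080000000060420000463a0002200060000000284)) (.leaf (spread 10 9 0x10802020840000b200040004000200200220018070201000204212a404a48040008a024080000000000100202a06200000220142)))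 (.node (.leaf (spread 10 9 0x400001208c840180500402204c001010024004040880000180020090012c80040000205b0a004000400001000200200902021002)) (.leaf (spread 10 9 0x4400680000008200800426004802040442b112000410802400880001142004080022400080020004853201010000210240)))) (.node (.node (.leaf (spread 10 9 0x82000100880140448040100064000000210040081c240041002c40800080104064000653280004008200001120000200c080002)) (.leaf (spread 10 9 0x40000101002f400a2002350340000400880102000200a020010110080030400808088020004004040020888801001000013404))) (.node (.leaf (spread 10 9 0x10000948808162200098b000200000000042040220040300101010001031b0200000002410080840091200000010284001010a00)) (.leaf (spread 10 9 0x2100040240610014010200204802c000201004822001201500008000020088102800008404600000020200410680008402212120))))) (.node (.node (.node (.leaf (spread 10 9 0x29000020100018104806100018246000000d42000006080020010006009a00044012a010200000b08c400000000010480002408)) (.leaf (spread 10 9 0x44410a8000010210860001004480003000111100004e02000000220004200a202006d0000281100140040c000000400c04c000))) (.node (.leaf (spread 10 9 0x20802a00260000000002208028508200000800914030002844028081903002000c0108000006000010088001840200208002181))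 (.leaf (spread 10 9 0x440001000010600000002401240688004010122000808040800248010050084010801a0040802001840001000220805040088238)))) (.node (.node (.leaf (spread 10 9 0x1000541314008000a020910130004400000000082281580500080040010000101110409044400202000080400a88000000418020)) (.leaf (spread 10 9 0x12d400610000020002400046034020804000002400805080800000004800a400200800810411004200800400042108808020288c))) (.node (.leaf (spread 10 9 0x20802008008060080800010118403100044288046004005104c03001001000040002040004000802281100101410004108010014)) (.leaf (spread 10 9 0xc801000220002010000a40180000a00820000080054000848000a0002060840022082080041110000489002001210c0092010120))))))))))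

/-- Part of a table. -/
noncomputable def fixOrbMasksLLR : BTree := (.node (.node (.node (.node (.node (.node (.node (.node (.node (.leaf (spread 10 9 0x10010600020a00624300a0040481842082862640000004400182c04200000004020048000010b000020400000000000010a0049)) (.leaf (spread 10 9 0x242080001000002200008000400052000000002a40020300880010002840820011400824a8100d00114000b00011a08201018800))) (.leaf (spread 10 9 0x2440800900100044a2180002000026408800000002a01102110400806420411888000000002808200210080400003180014004))) (.node (.leaf (spread 10 9 0x1000900020500000420834410480882421000448000008c0000a0020000200511016414144400801000000004910900000000220)) (.leaf (spread 10 9 0x1d0031002020084010000002000008024921034001000040140a0004081288001000922100600801006000080020020c01080024)))) (.node (.node (.leaf (spread 10 9 0x801600000000000810004240340006400c00201220400000820110520000212040005014a1a040208020820000888080201011)) (.leaf (spread 10 9 0x8810000004000828800086130003080580884006000840600000110800020080a010200901024010808020098204001010010800))) (.node (.leaf (spread 10 9 0x88020202000020100201600a08086101002000b40004820a082080011400001404102231104000000a80200000001048008090))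 (.leaf (spread 10 9 0x10001004820094210a00241010404240400058100000400200081200810020000008710480000020470100830010c0000880084))))) (.node (.node (.node (.leaf (spread 10 9 0x20000002220c80a6108901c00300004800340020108810400880a002800000000005180400044010200200ce2000000040000202)) (.leaf (spread 10 9 0x2002220044004002300001020142000001420104480005145010080004a0802b0400304220004100022000820600100000910))) (.node (.leaf (spread 10 9 0x8003944658c0402810000005008012100a00000008000100c5000010406008e0200010410200400000020100040a040000024005)) (.leaf (spread 10 9 0x400200001db8400200891800020100000801108060800000041002090420410900000000000008000301990108502100026005)))) (.node (.node (.leaf (spread 10 9 0x30044004002100804020601200090020c2040002a8a8000e9010200002029601000020000802081000800000401004140104002)) (.leaf (spread 10 9 0x40809001208c0050102080848a4010100000040408520840c1220000200100080000001001000080600104c080608090040014))) (.node (.leaf (spread 10 9 0x8a401080042030000c40000c2040000808010400400c00540000254a00400401020040012002088310240080810000010448100)) (.leaf (spread 10 9 0x2080002100140800041020810218e000000000800104242140210040001b0080804210008840808000003c80030a080004000048))))))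 (.node (.node (.node (.node (.leaf (spread 10 9 0x2000c020222000402051000650400848482801000100080000400000003008240c31000003000a81014500018104000004081001)) (.leaf (spread 10 9 0x484080020822c280000022000200010000010580151244000020400004000230011220200880202100244504004208008000481))) (.node (.leaf (spread 10 9 0x2080008008a200800110000100808024290440050060234810000041000b00013240440800200000100020410284080012500)) (.leaf (spread 10 9 0x200500010c000108400400000c001002064600046080410000814c00000000000422312444804200003108190020212002002000)))) (.node (.node (.leaf (spread 10 9 0x1c260080404606010402000002c201e000050800000014050d8201000000009451800000048000000000020000400023313000)) (.leaf (spread 10 9 0xa400080130c001c0040010000000480410000107600120080800202200004c00428001128000cc100050010c00000408008802))) (.node (.leaf (spread 10 9 0x200a80800880030ac02800020001c080002a028000102001008200100024200d0000200200502108400480040a00041980100000)) (.leaf (spread 10 9 0x80240020003b3c0060028200000000000840000010040501012085004100ec001005000001244a0400c0148000000a80400))))) (.node (.node (.node (.leaf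 (spread 10 9 0x9800042000020481aa81012080018010014000a0802008004410000068400100088201000000c42010048a080080404000800240)) (.leaf (spread 10 9 0x302100c20008140020000280002000e00454000002500000100680202a000dc4800200c82208008088400000180001100a000000))) (.node (.leaf (spread 10 9 0x1840080082080200070100000820300c58c400080040000810010001008c6046040025000f20000001000014102000011110)) (.leaf (spread 10 9 0x600304f00018030a600000000a0012100280020010100000000848b000200c400002003100080000004100080a0e210a80200000)))) (.node (.node (.leaf (spread 10 9 0x2001010c408100500004042011001564000000012040210808200112000000a8049000080204210200200140910048040800202)) (.leaf (spread 10 9 0x8000000005002194000a010000a00748000050000400200a00001040004104004400019800908041000904100822020511280024))) (.node (.leaf (spread 10 9 0x308000050023410280440018884000000010000c00400a60810054801100001a0008c10008000000a040840804000412800404)) (.leaf (spread 10 9 0x4000b000800000340c4000100500000000400c4002802208202001450302210201900820008008000000411000005800e06320))))))) (.node (.node (.node (.node (.node (.leaf (spread 10 9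 0x900020430180210028200303006030c0000a80000300080400042a00280804024108108804010040000100000800000040050824)) (.leaf (spread 10 9 0x801a0005200080000040a0808002000008021404010001200a00810000803414009000300c20095100240004a000404112006))) (.node (.leaf (spread 10 9 0x4008a440830a0800001064800160000220004200040008012400000c040080090110122028200004002400281520020820008000)) (.leaf (spread 10 9 0x85890800005b009110000050000810005803400000020020000000010108120008b00c00400300c008008240030400038a000000)))) (.node (.node (.leaf (spread 10 9 0x1004804401062080802040680064050013080000a02812884000028000000400000802146849000000061002400040040008008)) (.leaf (spread 10 9 0x248084884880042010004001100010100104002a4014025081000009200000120008000000020200080044920902042001008415))) (.node (.leaf (spread 10 9 0x140000810208801c040400840d00c441044600700002000000040020128008800800108414040010000204480000203402080100)) (.leaf (spread 10 9 0x281200800100127140001000441c0008051010408800500040002250011000200030040080010000802810000430c00020040504))))) (.node (.node (.node (.leaf (spread 10 9 0x1002c0100041030800080807020052700020034000000080004240000050000c0010806002409881008000084408040e00000201))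 (.leaf (spread 10 9 0x800002000022028882944000c2048a00004004000444800a040040410a02000300a8100800000228100008403081000200404100))) (.node (.leaf (spread 10 9 0x1004100002400080421002040001890821000401482300034094408820022401008004005000c401000008404881000200000018)) (.leaf (spread 10 9 0x880800001084080000404002000002110c74808400098000202291010010881800044000341400005002400004010140094080)))) (.node (.node (.leaf (spread 10 9 0x160008c000800330100200480000000c012200c15009108030020000a00200120000802250400440184042008100001001802)) (.leaf (spread 10 9 0x2000024004124915024020254000c0000022005000002402001200080200764040201008000020a801020088002108280040))) (.node (.leaf (spread 10 9 0x80880080002e000400180000100010042000801410200a1400008010000020010068040c1228a000084c00a40040988008061)) (.leaf (spread 10 9 0xc00210000340a0140400000000400280a0050200020c00000000002a800000084000385008a22804001a0000c1a81f02)))))) (.node (.node (.node (.node (.leaf (spread 10 9 0x802400900020004008005c402100100012000103020820310100848080d500010080009048000400045a00002000500080080802)) (.leaf (spread 10 9 0x890000002201840000607a00800500689001a0200040210a0440006100080020000000440110400a800000000028c080210500)))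 (.node (.leaf (spread 10 9 0x810880a02000400000d02200800900c8220100051600010001000ac41808002100000004000c25404808040000510000480002)) (.leaf (spread 10 9 0x4101082080000000000005210102806402202819200000810820070000421000040310000640000290080010007428801400400)))) (.node (.node (.leaf (spread 10 9 0x8501001448000d0000800040000008220500000001010280004c1154588010041005020400209020405010400020000104084800)) (.leaf (spread 10 9 0x90000000a200000103000482066800000202160011c001032080c52080002004000c40140404000000405201000010401810040))) (.node (.leaf (spread 10 9 0x40010008008201200425280680140083810b10021409000000108440000091100000000010000880011003000918080030002200)) (.leaf (spread 10 9 0x3041000480401a40242400c01880080140004240100410098200800002401000082028001084c10810005010010000a40))))) (.node (.node (.node (.leaf (spread 10 9 0x30008404000121000a0052401400800001908040100003ca03010628000100001200000184000200480043002100000210908001)) (.leaf (spread 10 9 0x22000404000088040814b19108002044888042228000421120001a000000000400002008400400a0020300880000014a0010280))) (.node (.leaf (spread 10 9 0x4409002001000010012000002200000c008c1001000202000569004450002044080d400048400020480840086020009004010006))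 (.leaf (spread 10 9 0xed031000930040000002024400c08200000000822480250c0000000022405080000020100000000000000041004214011020212f)))) (.node (.node (.leaf (spread 10 9 0x200e040108010000010000d056018470000488002040310053000810300a00000300000200890040044801000080000042140)) (.leaf (spread 10 9 0x3b8140c0000800003001a4800020000020004001080000006827800000020029140000082080000844100020940000d021400003))) (.node (.leaf (spread 10 9 0x16025019532908000444002020000000004c800880000003000002c000008a102050008404040000040200200280040410101050)) (.leaf (spread 10 9 0x1101124110000100100008202000202022300100044280100015205204a002000160000040c001091001480002000005014440)))))))) (.node (.node (.node (.node (.node (.node (.node (.leaf (spread 10 9 0x901024043911024100080048000800002a01100908004040c4040470021208830004402000100800002000000000000000020664)) (.leaf (spread 10 9 0x1a014000000c00000000000803008880200000040140400c0000a000402041a002000038a08000a84c402030480002200a0b8400))) (.leaf (spread 10 9 0x30240220410001084041016010112880800425000800100090000080100010404010080080130018802014000420180020600400)))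 (.node (.leaf (spread 10 9 0x1841808000820e8000002e0400c050002200320000004000012080108006119040812002009008080002000420141002140000)) (.leaf (spread 10 9 0x2800c008609d8040000009001040140020c02a08000008020400284000080010100504480040010801200580904040000404040)))) (.node (.node (.leaf (spread 10 9 0x4000025040c46200000204280802090209148002080402020100000880028000200800047141600010840001000400084204008)) (.leaf (spread 10 9 0x110000800100224296100108040380c00001000841080104010007000200002068400810044401004104440080400209100008))) (.node (.leaf (spread 10 9 0x89040880a00000025000ea104200801006020042808500240044004100c200410000608080004004005018100000020810020)) (.leaf (spread 10 9 0x120000131e02841904608480100084018420001008028805000800000001081000000004000000000000000000218b0088105253))))) (.node (.node (.node (.leaf (spread 10 9 0x108100040012080800000814084802000040801c18021000820561004000a1030020880800222214024400080000008460001)) (.leaf (spread 10 9 0x10100006400042421880460048000a000000040024330d100820006200004408027000c00200000004204400180008028002200))) (.node (.leaf (spread 10 9 0x44040029100c880002800800000440205110000030a00080010446014006214840000081000800200340108200020900000284))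 (.leaf (spread 10 9 0x811000020800082000008400881108a0240c10020488032000805900050080000001002400008a80410103000030202001010840)))) (.node (.node (.leaf (spread 10 9 0x108000002990000040040000240809610200240210a00822220a300000084014000c0041020000b0120000200301400000208082)) (.leaf (spread 10 9 0x50000000204004180409101002041080010a06848408008000000020004080198000c848004030000194001409000400c0081100))) (.node (.leaf (spread 10 9 0x4004230040021402c8404600420100400482008488000a10000040204c42800000211000800000400000000442128129000880)) (.leaf (spread 10 9 0x218822410400000b804e40000000000002a300880000000000d055100000004040a0000200800000444010244808a12800a02000)))))) (.node (.node (.node (.node (.leaf (spread 10 9 0x220401000088220090181400400144000002080288000808022608820020b0080404010d00022000400048001000088900030002)) (.leaf (spread 10 9 0x80431641004000201004040000041484881000000101008202801010108000041100000018a09002a20428002020004000025005))) (.node (.leaf (spread 10 9 0x8028001006000080080004500201210440120002020000400040140004710000005204492000424c02000400448064104000821)) (.leaf (spread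 10 9 0x4c00000008181020200800002102800f0000a80084010c1002800900080204a00240811108000120200000201800300c044400)))) (.node (.node (.leaf (spread 10 9 0x4000808601021000800324405020084002402080000ac000800c02000000050122005010100a440c00011003000060200800030)) (.leaf (spread 10 9 0x1000040a01008020880000484114000003008000210a800801004c841800010e220880109001000081080100440021002400014))) (.node (.leaf (spread 10 9 0x8000124800010022114814902000a0400082000040802000101010181102c004082001009000100e002040204000614040801000)) (.leaf (spread 10 9 0x4004200500048000150002000000100000200800810b944200400288082000004a4181080030002800010a840b200a4180000))))) (.node (.node (.node (.leaf (spread 10 9 0x800000d0030300012008004210500a040401004400804890000400001940001c006100500108024000008c020070880000201)) (.leaf (spread 10 9 0x120000090000704486800005292120038001000080080006102002200100a00108000000603080240050400404d01200100000))) (.node (.leaf (spread 10 9 0x200082080088002419002001400021000002000a403000ca031000280000900010024000944208080150400000118a0100800202)) (.leaf (spread 10 9 0xaa001205802101008001400000010000044004008000080802010a0200000005028211000011622109004908304020800800a200))))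 (.node (.node (.leaf (spread 10 9 0x98405000000002d0000980400810841008100000802810004c180016100006200220100100250330040001000080810040140)) (.leaf (spread 10 9 0x120948200120000020300840110601002200082400000020200202b03010400100020120008640c8000805008002a000080082))) (.node (.leaf (spread 10 9 0x3130208c10204100082004808200320008000020001008800000004020300004405208402600141004401500602404000000028)) (.leaf (spread 10 9 0x1001a000200410000040080100040200a1000000400304000240220040037122008200000024428340420804418800087080080))))))) (.node (.node (.node (.node (.node (.leaf (spread 10 9 0xc100a44200120012020020800401040200800095c8024048400280020b200004004c08000210010000008010048000190000102)) (.leaf (spread 10 9 0x1000200220000440080048b0200440000c0300244005004004000000809228080140042000004820622011000002010318600024))) (.node (.leaf (spread 10 9 0x209008804000010084003102d0004800012013009040000024814000050040030084450080204010204004000400481c000140)) (.leaf (spread 10 9 0x429000900010001053402902000b04850004001000026000080000001128040880c8001808000601000ca80002a100008000000)))) (.node (.node (.leaf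 (spread 10 9 0x800000028a0a2022040428000019200201000300010801040010610420000509000900822c010084012541000000100020010020)) (.leaf (spread 10 9 0x4020004050000800000101184490001409c700030000900402408000040544000001944000100003000060240080002309100008))) (.node (.leaf (spread 10 9 0x18000080200206040245110048f0001004000018010600600100060000804090408010100a80a110010c000000000006904400)) (.leaf (spread 10 9 0xa8207046282000609010000010530000402040000008014000004110000002000001100100446091098301480003020004010000))))) (.node (.node (.node (.leaf (spread 10 9 0x20000121260c02801020206a0800001e0240000000c000000080080000010012904088000200531c023800500000002000160002)) (.leaf (spread 10 9 0x8080000020040041000040001061600200405480120009002091050c00c0042c001040010080082310508000000000092520008))) (.node (.leaf (spread 10 9 0x8180083040108010080004000000100844002003868a01200401000101802068000002c048540888080042006000012000100800)) (.leaf (spread 10 9 0x298140c000080000330c40038400200400005408003400818000002a00100c500106000600080000004000004800812021000003)))) (.node (.node (.leaf (spread 10 9 0x40000900001008300200e00010010c0010005010000240000408080045204000204a40056002400c28008480419020000800811))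 (.leaf (spread 10 9 0x101100130480100000000414184c10402040100a0010028000222924000000000a00220000006080014480092102010880111))) (.node (.leaf (spread 10 9 0x88486082000204008100044040001000040c0005808000501844100000104400000040096402020618002481011020000840011)) (.leaf (spread 10 9 0x24011000080040000010028300202830008000928080402001101040220100808342040800140080a00800050004131804000108)))))) (.node (.node (.node (.node (.leaf (spread 10 9 0x4600c200800600a0040004200c00000006004ca00200820800010212621030044000721002002001000001000240104010002028)) (.leaf (spread 10 9 0xe100001052210000052200200000000424000490003008080000a00000904080020046101200220400008988041400800020288c))) (.node (.leaf (spread 10 9 0x810024040444040001100010204030c82808001180800001104008021022000310058003100020014208248100100000000d00)) (.leaf (spread 10 9 0x94108002100a00000001108001044004010c44082000900905020009010042048c1200141005090220018140020400)))) (.node (.node (.leaf (spread 10 9 0x1810000020109841200500024000000001100100a090a200c4002440390000804084002001620000000008180000d24080120004)) (.leaf (spread 10 9 0x808000018008984c48821400000004800101060604041220900400000008000040220c0008000452a0108060400010000482002)))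 (.node (.leaf (spread 10 9 0x20010400802000ca0401083280020010000000000825010000000400380848039100000101200164080010ba800201000880088)) (.leaf (spread 10 9 0x29006004400000048200400412000400005002000244280100000004004a202000050012004a0820099000040441000b0423028))))) (.node (.node (.node (.leaf (spread 10 9 0x41200020020081414203000018003010020030080044000208040090902041008110089100208820808044001200280820000010)) (.leaf (spread 10 9 0x100080b40010000020100c080900120100008351000030880201c0980050004a20000004c0000680280002020000010810300800))) (.node (.leaf (spread 10 9 0x800a444680180200208000041410010600100810500140114200400420088001000108100210090008800001429000002022020)) (.leaf (spread 10 9 0x80010020400000020402446004488004040010042000540000808000000004004800201200890001961000a4300024a85c21)))) (.node (.node (.leaf (spread 10 9 0x20800020000000002c0c000100210000000448060824c088012020020122190a1000810000040002025100005415004560000002)) (.leaf (spread 10 9 0x810085820400780804012000a21100000000010c000000200020000027144000004b00002400858040240e810080004000200240))) (.node (.leaf (spread 10 9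 0x840440d08804300101922000100200080000800000001082021001001a089000100340200000683808d200000002000181001400)) (.leaf (spread 10 9 0x100910004080002100e880240080100300400811800040010010020008010160800000050000080010020b2000aa0c4028081240))))))))) (.node (.node (.node (.node (.node (.node (.node (.node (.leaf (spread 10 9 0x24400201020242148280c80c07d40001000420002048008000020028190220800088009000000000000000010001300500402005)) (.leaf (spread 10 9 0x2000000000000022000000009200010ca0849a4db4952542931aae77f))) (.leaf (spread 10 9 0x700320004000104000683020000c0200000914104008000008042448008001020000001002170810102039000412000008600600))) (.node (.leaf (spread 10 9 0x4a14071060002100040001000000020844000042984002208900c04000006001012114048024000020200005880c4100001000)) (.leaf (spread 10 9 0x40060000020001a40019018400008849500010180000060280900020001408080c04048041844041040100c00040005000088000)))) (.node (.node (.leaf (spread 10 9 0x10044004010000000882081240040020008000008402c02400820c30801010482802885000008004118004840c00040400019001)) (.leaf (spread 10 9 0x104900260041404084128000009020000024224100000a0040806009032000001080418000001404200400100c08010060200c0)))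 (.node (.leaf (spread 10 9 0x4808004430400082044800d0010444000408100800000a04000c08000400aa4a820100008400a0020020c00000a000810081200)) (.leaf (spread 10 9 0xd001000800600000201800405090200020480802400aa8003800622000000208218001000003100080051010040010208c00024))))) (.node (.node (.node (.leaf (spread 10 9 0x110081800409c1010400808800520000000000f20006808464040080008000110400010210840038000100100020109200005001)) (.leaf (spread 10 9 0x10820000b48002100020000800021c010020010040060030301a42028c01480020000001002020001060232400600200000000c2))) (.node (.leaf (spread 10 9 0x80800000024804020604221040014006042020500850204000402800104900220000409004000214032881400000201000080088)) (.leaf (spread 10 9 0xc00000000002000800a0000008001400800190050000048000283c000e08000440a028020908014000088021108090280170142)))) (.node (.node (.leaf (spread 10 9 0xe1200808360028090007301000200058002000890000000802000001000040c00001801300808442d0004400000002000820200c)) (.leaf (spread 10 9 0x1088001080800000030000a2400800881200022000820802480088241040206840088231118000c000080100008001008240110))) (.node (.leaf (spread 10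 9 0x2884502404000108004c01000049286003000000200040208030040420112a000000002084008020108a12000824080120004)) (.leaf (spread 10 9 0x100040000144018000000100028026900020520580082010000010010001408064004020300132a1401000004101840408021100)))))) (.node (.node (.node (.node (.leaf (spread 10 9 0x100204100006008201c01008c4809040446508200000024011010000001040240001404040088402008000c0800322003000001)) (.leaf (spread 10 9 0x8c0000004300500001442010100802200070800080851c000020048404001a082002203040000008008200844000000110051009))) (.node (.leaf (spread 10 9 0x500006004400214800200400001029035a0c0000000400803280108340000000019a4400002020420000b0a20800000880008)) (.leaf (spread 10 9 0x2c008030000d1800401802000000000004548000902091042007108844102100800408104000800006481000000000c0128080)))) (.node (.node (.leaf (spread 10 9 0x500246920011028040c10042000060101020090140110101010100010808000400008401000008080802004b80020e0000a0000)) (.leaf (spread 10 9 0xa4008000140210240002080100104650000c08044084001080600c004010a50800000200110009148010840800006000680))) (.node (.leaf (spread 10 9 0x10040086120049c000490084010200000c10c8200008086004080400040000124401088004000208005003000a20006d0000000))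 (.leaf (spread 10 9 0x20080800910000004004080008100002000000002800949300000100a040200104141028850140808024d0280420012060010480))))) (.node (.node (.node (.leaf (spread 10 9 0x408000220004800800804400486052900002040e18000c00802a00000240040008e0a8010004000000100260301000002600208)) (.leaf (spread 10 9 0x880008204000042082040008400ba002000040900108805050600160205000000440008108004014008c84280108090000010000))) (.node (.leaf (spread 10 9 0x4020000c0000006210200000120110000010208b0112010040a2200426000000008a401802440100004060808030030220100a)) (.leaf (spread 10 9 0x8000600000140000080208a0010100000c81000040055000012a0880a81002100844284010800240010405008000260060500100)))) (.node (.node (.leaf (spread 10 9 0x870001080100000020310009148280e8a000002140000040202008009010000100400888848020104068040202100008820010)) (.leaf (spread 10 9 0x100010311802201201812100c2000002002200201000000404800010820b40202c000040001100124080088a042080040411000))) (.node (.leaf (spread 10 9 0x60000825c0004000104281019003040812002c180048e0802000000000200720800200000000c40000022821001020000240011)) (.leaf (spread 10 9 0xa0244000000000a4800120000100002a2d02000010042c210000808001040000000000d600000200001221b420600229a802000)))))))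 (.node (.node (.node (.node (.node (.leaf (spread 10 9 0x100022210b86888800802800028014004100180001884000140040465000010040002000004008122100102001190008004001)) (.leaf (spread 10 9 0x802000000018800c5203044021002000030000022004024002800000050100c014220020000808a00008cc40840040d00008061))) (.node (.leaf (spread 10 9 0x2046008000000f1a41008000a08c0008000402010030800c04200210602002000004400011000000282a0000aa30000884040000)) (.leaf (spread 10 9 0x2004200000034240080402400020082001800000000800890128000000290000fa44a80000040312020001120082016820100100)))) (.node (.node (.leaf (spread 10 9 0x8c00000000020218835002480004002084011005008040120008080484390c088080100a0c00000000092000a02000004001208)) (.leaf (spread 10 9 0x802000020000000488800000010000022c08080050003002384000a010080a00011048000010200408813000035c01202148061))) (.node (.leaf (spread 10 9 0x409840022024000c0001d01004006104080008b01001000000000050a40020002040a32002010028084908000001014010000420)) (.leaf (spread 10 9 0x332009090004082041c001000080090408000740023005021500000010101200800000000002000001300000a021080882810120))))) (.node (.node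 (.node (.leaf (spread 10 9 0x2020000004c802810202142050114208000031008884000002000800100155400110828000008050c028001000040080100c0004)) (.leaf (spread 10 9 0x60030ec00418029060000020000c1408000000004080040200005e1000810000000881000020081100282c110070020400050000))) (.node (.leaf (spread 10 9 0x85412000020100802000040600020204840200821488012e101200400100009000006c080002088020008208000400a024000c00)) (.leaf (spread 10 9 0x4000020000008488801800280000000240050148300049000ab0021000080080002000624c82004106d10080004001a000004100)))) (.node (.node (.leaf (spread 10 9 0x20088000000038820010201034000090054040018048108801005042320806210204060000238820000000000000800003b00)) (.leaf (spread 10 9 0xc0140000120402000000000000808800400000000008050400d00220000c100049540100006c00800a0020121000445831e02003))) (.node (.leaf (spread 10 9 0x895014100000220404000004b00808048100000000140060000020080800206005044000804340090094002010040002120620c)) (.leaf (spread 10 9 0x2180004500040080005200018408880000048182a004200605000040820002268000000828000008000010450008200800a06320)))))) (.node (.node (.node (.node (.leaf (spread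 10 9 0x840000008a010141150000080425010023080008c09040880008010042012080800014526c04000000011000080108000030008)) (.leaf (spread 10 9 0xa00000100410091c600400000021028a00400005642400280c00020300000000000091800090080f380000013010000400006010))) (.node (.leaf (spread 10 9 0x2000184307000808000e012010040010004000800800094088000000818a24002c828000940c20000080020000192080100042)) (.leaf (spread 10 9 0x804b001040002010200140803a00055108000014022000000124800220008008828008102108400030000000080103b000c010)))) (.node (.node (.leaf (spread 10 9 0x1408081600020000000800001048000404205010108082800081114030000128000a02092000a28002028014000082002a301)) (.leaf (spread 10 9 0x1a41403c00080880041000018488400020000000000c051000008200000c10200850010820e4000846001024000820000000005c))) (.node (.leaf (spread 10 9 0x28004090040d410610208119420000400050000000302200000010c0088001000608a100410004008068000423002044002000)) (.leaf (spread 10 9 0x200000000102881101200014020802000540000009021204002800580008020c006220004000804008021000132080008c0c480a))))) (.node (.node (.node (.leaf (spread 10 9 0xa42200110800000208808015008c0011000003020020208c01000100b80012011001000069000024047000000011200100002022))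 (.leaf (spread 10 9 0x13044800201008050000088020931006008000202a00000000801400221840060506010002234400008080000a108040400080))) (.node (.leaf (spread 10 9 0x34388000c0800306000000401011c0000000000006144000901100000001000090c0880088108310420010900300002042100005)) (.leaf (spread 10 9 0x200810008004008504004400450001a082040800800022600aa40000000308020002209200122000090002010040002120620c)))) (.node (.node (.leaf (spread 10 9 0x12000414108026000024310648880010028002006000490042010880800640d000000840020029009400010000808000000220)) (.leaf (spread 10 9 0x880048300000141008002300000000e040502022885008023400401000008d800402200058000100100012074000006010400000))) (.node (.leaf (spread 10 9 0x20000c800020000000488902018611100000080104900003142007004089500080c0018200000401010a000088220000080800a0)) (.leaf (spread 10 9 0x1c00200040001000004060a0210400000c20820000808c40018800040000285000400028000004450404000012242a053010c010)))))))) (.node (.node (.node (.node (.node (.node (.node (.leaf (spread 10 9 0x88e080024102000001100e42000220010004018215002040a808021014090008a08240000002000000012400064040100000021))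 (.leaf (spread 10 9 0x40000000024000001500021b0412adab56ef5fdfff))) (.leaf (spread 10 9 0x28020020a8201010640040800320208941000120400800500100004808000900008010270210000013000080108000a24408000))) (.node (.leaf (spread 10 9 0x94908000c0020092002a0001000000200a0040040a218000000100068300110040c0080090800241000d04009206020100100000)) (.leaf (spread 10 9 0x6000000010400020101200204000610280060020006088680022012008a80080444000a0c8002000008008820018888000804840)))) (.node (.node (.leaf (spread 10 9 0x8c000022210004020900090001200000004280248000880005840080801201020102840200220000528122000c11004000050009)) (.leaf (spread 10 9 0x8c0000008010426080020110000004200a012084d0411100060108088240408000804000020001080282100e8106008400))) (.node (.leaf (spread 10 9 0x210c014108180004010a02401680000098008818000010502810081008202080020181040010600040000020024010090c000)) (.leaf (spread 10 9 0x3300001132002200054000180000000840000404054000010000000060600810000020440102110021390000a100000a44941050))))) (.node (.node (.node (.leaf (spread 10 9 0x40000400090100602010800014800004010200022101000401002c05012808000a0848901010300428000100431c00000102041))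 (.leaf (spread 10 9 0x600082200054002c80002002d0046000092000000300e2000000090134004000c8003c2000600002200001100001100a802000))) (.node (.leaf (spread 10 9 0x2a40000010009061000100064010c01000003024008400000001009018010401a06c002088208042000810801310808080000800)) (.leaf (spread 10 9 0x10000008909000100020870010804007240040c09020000802a0051080404020040200001020002290002008100220a40420200)))) (.node (.node (.leaf (spread 10 9 0x5488318001000008202b42800000000006801a00002002a580000000200029000000120812809000a0aa020000001e0000001)) (.leaf (spread 10 9 0x20801004000201840042002100012820880021008404900502000804c310000002028000101000408108000e8000349000408400))) (.node (.leaf (spread 10 9 0x8501000200010c8042c00100811100000042082020000020800c04080560000430010d00002a8080401082000044840000048040)) (.leaf (spread 10 9 0x1c00a0004480000100000211400040000800810101000c00406409001004104048004004a00008000521216146003432)))))) (.node (.node (.node (.node (.leaf (spread 10 9 0x101700020000000040000812842004122200800000080008800018194a49004084008010ac8000280070200000200820003801)) (.leaf (spread 10 9 0x30010421102002000c10080000200a060a0c4101200000012092000144000001048280a8080000000410a44060800c4002000)))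 (.node (.leaf (spread 10 9 0x11000800002050040006410908042000008138414000110211000200801000180822000000600e100000500061690000400a2)) (.leaf (spread 10 9 0x820800808080010038002a028404048800500011000200024a06000c000000150044801000900000808208420ac000104000300)))) (.node (.node (.leaf (spread 10 9 0x20040005015800002500548200010822008000000a4140020020150290080104004002000a0502c0000c000000260840400060)) (.leaf (spread 10 9 0x3801d000808cc0000400804040000000400400028002008142860081400100020220aa52410400804020000002100480820010))) (.node (.leaf (spread 10 9 0x604008400830021004018150008410000004080040001800400000040245800490408c0a20000711038020104000802000100800)) (.leaf (spread 10 9 0x84dc0020006e400002001200000000042001223a0024800004809004100001a08080002220008001014000060840001060210))))) (.node (.node (.node (.leaf (spread 10 9 0x80000c0c980020000000f020022000400a40245608000000c4120110000408800011a8000008004010000042401028080c020004)) (.leaf (spread 10 9 0x14001000000608224600006040200020909488880100008800010a01000100114014220104000900040203114002004008801000))) (.node (.leaf (spread 10 9 0x8100210800014410800013040001a00011042808060000050206040010421100401010014004010000284212000c82800008004))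 (.leaf (spread 10 9 0x10000410181000040100800940a0c4210042086401000048108200d00402012000000000200000010800484b10260c0100a0000)))) (.node (.node (.leaf (spread 10 9 0x40800600304000000804080048200800800600600028cc000010006040021140180201000040a400018002101910040080841202)) (.leaf (spread 10 9 0x280200000184408000020602104004c004021101b004200004002340004044004014404020010404000100500008824100840104))) (.node (.leaf (spread 10 9 0x103880006498414304100004888300000080080002000002e4000440000000802206002042041406010020000000008042024005)) (.leaf (spread 10 9 0x400883001800000010000040043330019e800088400000103600042000000000c040008880006010400280341000000ac1c00))))))) (.node (.node (.node (.node (.node (.leaf (spread 10 9 0x1102500000020050400010014ca4888190050058800000401000821000802400480400000024038200045044a0000000000c01)) (.leaf (spread 10 9 0x880010008e0b202001b1026000000800002020600010000000180100460b011880800840010000200003200050008108001a100))) (.node (.leaf (spread 10 9 0x10a002282011000000000204200003011140421008001024028101180000c002020ca00408c000a00202800090009000002c4000)) (.leaf (spread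 10 9 0x840040c20000040000000106050220440076002a0a10000d00042020000104500000140002260000400006863000002041040400)))) (.node (.node (.leaf (spread 10 9 0x4260044080201e200120100005400000a00000380380483042200000603000400c20420008081000800000040088050411000)) (.leaf (spread 10 9 0x400000080003001000008000004010050020008000820401010028041208000c2058001806c1020328400c58831a02003))) (.node (.leaf (spread 10 9 0x48500800c01400010810d06000000081080002004000140001646c00000148540008050030000100218084102200020420004000)) (.leaf (spread 10 9 0x40808003010020000040503000200222000200000220042810011154004108000211880a228002000141014000220860500100))))) (.node (.node (.node (.leaf (spread 10 9 0x4a40000004c100400002100300088505048448250600000000404088080800088001202080204010800640820014000000c04040)) (.leaf (spread 10 9 0x820c0086208000004000001241211040c02a0004101008020008182300c0024002045800080001141001010012401010040))) (.node (.leaf (spread 10 9 0x4000722474001004054014082000000804080048000000000020080211c4a0070004002200a8080400a50000441000010401000)) (.leaf (spread 10 9 0xa2040001142014025900020800008410002c065014020400000418464080000000040000182008240050040412200001024))))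 (.node (.node (.leaf (spread 10 9 0x1002400102e000000400008000000827200020008404a480c0000c8141940001204020030400800000420ac0804000402002404)) (.leaf (spread 10 9 0x440040040000802080201000804044800044430810000901280000110900001012200000809c444001e0005000024002040100a8))) (.node (.leaf (spread 10 9 0x2000000220908025000400000100000080c1402a8801828028823808040800404840004001480a00002800010400500400180c0)) (.leaf (spread 10 9 0x8052060020000100100108008801000000080042024000002000104220000040030200200004840003060b0021a808e128083240)))))) (.node (.node (.node (.node (.leaf (spread 10 9 0x8080008082083001018a2200d42000490200004002a302000000010000003050008000101584100c00021000804400100011110)) (.leaf (spread 10 9 0x20044600002080c0010420800a00282000000023226040080000404010000290a50020000a26016300800000820a00000000290))) (.node (.leaf (spread 10 9 0x2a06000a09004002000302200840200080000a002101a20010410401004040110800020104080800220222425004008100000104)) (.leaf (spread 10 9 0x20010a10003880200008042001a140010420a02040820300070020e8000000808002020000000130000280109800a28009000)))) (.node (.node (.leaf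 (spread 10 9 0x41004080040209481038403002001100000103001092120048220000a88000008200201008000024880000a886200000080820)) (.leaf (spread 10 9 0x1000801405000041a891440000000a002020204020205200400400000588251801005104004000000404000a180120080000580))) (.node (.leaf (spread 10 9 0x408000000821002010240368080622500000010000090000080188216040d20000400006000c060002128042002200031200)) (.leaf (spread 10 9 0x1000040001004040000540902054100428100220000080820090000100c200190502120800080008c01401601220008040404100))))) (.node (.node (.node (.leaf (spread 10 9 0x400c80000a010000012010020210982040a000008240240809b81020000480040804000a0014002a202880000002015000000044)) (.leaf (spread 10 9 0x148022020480003000400402004330000800400800010595000b00202000007800400081200040805a4040209100000040300))) (.node (.leaf (spread 10 9 0x28806220400000048120048200002200021100a10100000408001000908000880201022140e20042088102040c0000000082111)) (.leaf (spread 10 9 0x400818000001408020060840004200048402000008083020101200400000332000001004000001620d0802800914400a03020210)))) (.node (.node (.leaf (spread 10 9 0x60030a0010020040000603c004e00020002100000000101c02000084264020808002800c002001c2810040000080413200000600))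 (.leaf (spread 10 9 0xa402040004180040146808200002000210480001004040024410460204010000a0444004021018021000202000000004004404b2))) (.node (.leaf (spread 10 9 0x5042200044900018000c08500001200000201c01412c2801010200000000200009008220a90118102001080020000a200810000)) (.leaf (spread 10 9 0x1220080220102010000c4054005010082000000c008000400820a0204082000103044c0000086800000410060008640010004320))))))))))

/-- A table. -/
noncomputable def fixOrbMasksLL : BTree := .node fixOrbMasksLLL fixOrbMasksLLR

/-- Part of a table. -/
noncomputable def fixOrbMasksLRL : BTree := (.node (.node (.node (.node (.node (.node (.node (.node (.node (.leaf (spread 10 9 0x24c00690800510211890114000089409059008041400104000c02180000000000000000014002000a08400002000000001008415)) (.leaf (spread 10 9 0x901300118000500200400000010000106002100000000000100201200024c802020015508008018010a48102a21140a140800))) (.leaf (spread 10 9 0x120028200900000010042c320002050124001800001a02080002000058800c00a00000450080c0240110009080050c00080001))) (.node (.leaf (spread 10 9 0x80802004288241404200000000200100040020500000064108423010102400348000a88204001020501000120280000920000088))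 (.leaf (spread 10 9 0x810050104140104c004060002110000014814100500080020182028000a08010004a020000080400040c04100080001040020942)))) (.node (.node (.leaf (spread 10 9 0xb02000001420004010301001000604000000088902180000300844c840804000c001001040203442140381080400000002400080)) (.leaf (spread 10 9 0x4041890000821e028041840848080000040001100800400a000002000008824044121211009000010a82240010100106000000))) (.node (.leaf (spread 10 9 0x1d0030000000080004101029000400800004a2080808080018080202000800101238c00846600440040700040800010200001024)) (.leaf (spread 10 9 0x8001500000800000340001400010033100428900240600004802001c40100204004001884882900080021200000080600081c00))))) (.node (.node (.node (.leaf (spread 10 9 0x20800004a000008220ce000500040800003041008226088400c00482868008002021080001000000004004844102200028010002)) (.leaf (spread 10 9 0x29021008030011804300d804202040008400002720000140218081043840020100080000050000005008080054020100100))) (.node (.leaf (spread 10 9 0xa42280002000008202a80008880044012078020000000000a08002028100202010410801981801000010009400040210000400a2)) (.leaf (spread 10 9 0x40021020004801083d04048e88410000c008400108000020040300008000800800088080000100000000040005221443408415))))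 (.node (.node (.leaf (spread 10 9 0xac22000009584020000200046000008940040810600012150200040800004c814000000002040980010c4200000080004400821)) (.leaf (spread 10 9 0x378100100a100000100008001002802086002418280844081880204000021000008000a0002084010a00200040b004081280000))) (.node (.leaf (spread 10 9 0x4800801808901400820008000a2400000c840009108421000088c888200800002000002400020201080500808024242020204000)) (.leaf (spread 10 9 0x806000000000011cc0120208118212022e00000230002000000000948c000002920890008020080000082408004000303020210)))))) (.node (.node (.node (.node (.leaf (spread 10 9 0x21404022008802500000948048854050731480008801053002009940000010000020000000800000400000000400008021000170)) (.leaf (spread 10 9 0x4440084120400100040010000800a00040003009ba080220280950800000002040a0c100000110081000240180014410808001))) (.node (.leaf (spread 10 9 0x1210c0080840020008010610080a8300000000740000000022600a0000440c80210088480003000c0a0800401040408020820)) (.leaf (spread 10 9 0x100804c01248480480c8000010280101000080104401610080200004008400106400020104100808020200008050024480b0000)))) (.node (.node (.leaf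 (spread 10 9 0x420504a1001000004808009508000000002001020400c28050482101082014000000000120190104260300004085008090002000)) (.leaf (spread 10 9 0x24232003124000080042000000080008031008a082400804b048140800800804081000004008901001160042002400120200))) (.node (.leaf (spread 10 9 0x80030408a00000b00870009003700480000010000000800021043020800029022200002484020000c7045040041000008200000)) (.leaf (spread 10 9 0x280040504420014848212c0010180021100106010204002002000100021080002400000720408040180000000a200a4980000))))) (.node (.node (.node (.leaf (spread 10 9 0x20c2811000422c42006e022040404010002802400000020000c0040000402000002004800210098011402004c000209000408400)) (.leaf (spread 10 9 0x2a0048400000411010800400000020102008d15111217000000900200040401a2000000a2008062020002010400080600a400000))) (.node (.leaf (spread 10 9 0x220000410004015018020010802a020400010241000800b102021208010002000500012d000011000d0810404080008800812)) (.leaf (spread 10 9 0xa82030800040300000006009000428200450040080000800800202020200085002232800c0590000840800044020181030020000)))) (.node (.node (.leaf (spread 10 9 0x100440800000102800400000404301408107401000021821084000204904000a90000802002022081040080c022800888004002))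 (.leaf (spread 10 9 0x2008204000480088020102880080020000401002204440600088000000480a009200020280e0002608880604802000000088238))) (.node (.leaf (spread 10 9 0x44040109009101800485a5002004080202001820000440008001000002248004042024000028400109000108004001000204aa00)) (.leaf (spread 10 9 0x10091400408040001090080000004001008000108840200c00000000403010a840001925c0000d04190004220800808200034800))))))) (.node (.node (.node (.node (.node (.leaf (spread 10 9 0x890090020201080010650209420600200000c0001430210008081a001508010100000188400000104420000040090080100042)) (.leaf (spread 10 9 0x80024040000808c6200402000020c02041842000100201120000000030402000010840000a140085c001844005000300a0016))) (.node (.leaf (spread 10 9 0xa8101080c4400808080484000028000d800002210000008801248001902000001100840021840002128000008240004024032000)) (.leaf (spread 10 9 0x54508804c0040002804000202020000000009040020000a80201280800000c1500c01900800022008c0002080208104410180010)))) (.node (.node (.leaf (spread 10 9 0x22080800010880021080040222000004080000103908120200360001804000180e8940080000080060021008106004a00000000a)) (.leaf (spread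 10 9 0x200400508002061100920000100208000010800080290d004810000a40110005d0000004508000020000d08040000453608000))) (.node (.leaf (spread 10 9 0x802004022404126000100461000034900008825000010080000040140802411700220880010900000100a00000004608000c40)) (.leaf (spread 10 9 0x22022142c000201aa200c0830004020180610202809040500000020008300800000008020000402002000000004100090409206))))) (.node (.node (.node (.leaf (spread 10 9 0x8010080000010040240820000041004010c820021820e05004009010100a0886800061000400101010200022c241000000008082)) (.leaf (spread 10 9 0x240800040100400c0000006080b000000004034048a000a504010408812048030182000000800568400400400000080a2800840))) (.node (.leaf (spread 10 9 0x30d010000083009000080030004170080200902528500000614000000100121000480a012100000000008054e8000002000204)) (.leaf (spread 10 9 0xa0808000020003002a00042180000011408c0000000440800a4240040240000602600040458004a20000018100902200034800)))) (.node (.node (.leaf (spread 10 9 0x302002209101008022000080000240248402002820480420101200406ce008000000004020003400104102102004800000848040)) (.leaf (spread 10 9 0x100000850100003000000000040080000408835010a051002a000631141000000420008284024402401008122006002822000100)))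 (.node (.leaf (spread 10 9 0x8080200002008000000400000003300003800a01000810800270048c610028004000010c840010000522000a4200024085c21)) (.leaf (spread 10 9 0x44000082a84010000010401010002010002002818008000800100101320012003002201120810092000b00004041120030022028)))))) (.node (.node (.node (.node (.leaf (spread 10 9 0x8024000000200141a2400008182080801010101000080743004002308004000800401c8118000080009240000100424200208002)) (.leaf (spread 10 9 0x198048808000001020219000620001068000000024000201c1008042902020601104023005000088080040004000036000410000))) (.node (.leaf (spread 10 9 0x1100480000010610000c1120488008100120008080800090100000040808409820068080832321000080c000000048c8000041)) (.leaf (spread 10 9 0x62b040c02006018a8420000141000000240008100010060024001080080000280520a0a1201040810880242000200010000)))) (.node (.node (.leaf (spread 10 9 0x20000109400830300204200421038000180000010408184080082114010000450000a0000110c1640002102012000000005820)) (.leaf (spread 10 9 0x8005009104008d1c00000094080002220004000048100b0004680a10000009800000104130010000805210000100014082004010))) (.node (.leaf (spread 10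 9 0x2122008818000704200042806080a40010020120000000008082100028400301002810046100040100610000d00c0080c000000)) (.leaf (spread 10 9 0x6082002000002200418020a8001002100084410800200ca00040004c3010084000510000010010a80014030a00110004100108))))) (.node (.node (.node (.leaf (spread 10 9 0x4165002010800108183280010200120008206851002820010000400c00100460800000208600000020000430400408002010050)) (.leaf (spread 10 9 0x804300020124028040400844902005030c00002000100020800501500800880080044000108041144020010088038940000000))) (.node (.leaf (spread 10 9 0x3b01000100000000814850000000005000821400400000000205040a05008000340210800482000441300902a004c10800800003)) (.leaf (spread 10 9 0x10000880209300102020200000401000000081000800a4022000c2103c000002050401000723e000800010074000022010110800)))) (.node (.node (.leaf (spread 10 9 0x20002010008884c000004080c0800008100020240689001002018000801654600030002008048010240081046002000080000830)) (.leaf (spread 10 9 0x410100600000020442010009244040010020289180000001100080800c04400c22400400060000c14800011010061c140001000))) (.node (.leaf (spread 10 9 0x44810582837090004010128080c12000002101040500010800000100040000088000000634000106000410000480100010008206))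 (.leaf (spread 10 9 0x4000000000000000001100000000000009100000086481024d20b524406124429583562529af)))))))) (.node (.node (.node (.node (.node (.node (.node (.leaf (spread 10 9 0x100142318900202080800c3000022800002120013804400400800500a28208101001010041000000000000100ca001080200009)) (.leaf (spread 10 9 0x4420208680401600a0100008610021601820100000200008000001000000005000000008e000100200000a82102831141a140800))) (.leaf (spread 10 9 0x70032000100001000002064010c000000a1000001040004c0024022063600ca22008006080001000080100202808000080870040))) (.node (.leaf (spread 10 9 0x302101005000050080000040105b00000200401800090004d0440040409082050004082080143c14100110020001000001004000)) (.leaf (spread 10 9 0x401100080800011114400a8000c2000b9431000098000008001000000510002180180004820001021018000008a8800000410210)))) (.node (.node (.leaf (spread 10 9 0x180000420041000920010208082000c001000400c2000400464500082c00060902c0088800002000051008080840604004000012)) (.leaf (spread 10 9 0x4820a40480108210004000186400a028000400200800008840101000b0000000128402214322c004408000400a2000840))) (.node (.leaf (spread 10 9 0x80e20288000004020080c004508000010104000008160040080000094c20800200085008410082a4062800010000100c00400108))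 (.leaf (spread 10 9 0x4800400440008200003020000000000800018900088a2120200000253980000204800002075c0800800020102000c4480a600000))))) (.node (.node (.node (.leaf (spread 10 9 0x4000421001600200c0c28a10090804201000880000c4008401902000820010048002200001004800100210210800440a0040002)) (.leaf (spread 10 9 0x6000801aa0c0102110000001002400000028000b401840400100000840000021200130500087c050000260480004000000604040))) (.node (.leaf (spread 10 9 0x28014021c8404000080000110104208c0200000000098204000001801a00098c00010804844000009004c20000b022000000811)) (.leaf (spread 10 9 0x4404004480800040900001002210048280001080000200182c440000220011100020205080084800030002008048900450102028)))) (.node (.node (.leaf (spread 10 9 0x8000208002800003300a00180004700023a000000200000802402000004300900062005205a0208c40800840008000120100081)) (.leaf (spread 10 9 0x8701800100210082012802002020001001028010000000200000001281064000064a0c009002008480a08200040c124000284000))) (.node (.leaf (spread 10 9 0x400c180020110048600000c02d20000000d0c00801441000080068440211000021200001011028200800500106104400)) (.leaf (spread 10 9 0x820400008204030000200000880400410009000002048304104082112008a000410010011008040022120000491418d000040220))))))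 (.node (.node (.node (.node (.leaf (spread 10 9 0x80008462006060888861004004000a00000090009000000045000000a80f42020008100c84000000400082000cc0200004804001)) (.leaf (spread 10 9 0x200424108120044000d20004200200190000c011120000001014000000a002025008242a88000008020444a011804010000080))) (.node (.leaf (spread 10 9 0x100022000389060800002044048000080240034000014092100000008046009100004080400b08002040a06000010350000809)) (.leaf (spread 10 9 0x800001300100000e100000200004040843804000408004000000022000810220000881000028188e082000c050805c3040902800)))) (.node (.node (.leaf (spread 10 9 0x210100430400100400025408008004501000010000406800822c000000400301882408221040840400100a09440010000400018)) (.leaf (spread 10 9 0x114114080400018000092000c0020000003284820028000001100d02000a10141140100108000a21000400040010414624000))) (.node (.leaf (spread 10 9 0x268040018100f0400880040000000000020d0004400680050000055828004851000000000500110420148008800000151080800)) (.leaf (spread 10 9 0x40010908084100102b4040109100348400000402001300040000118011000000a0000088000300002a040240030010049900400))))) (.node (.node (.node (.leaf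 (spread 10 9 0xa800900000061880042000280840202182040a000200030000040801c000201050a0c0008288000002080044c002080200008280)) (.leaf (spread 10 9 0x40020092000a41000110400002001881000000820200143041101ca2088108010c00040100800012202900040240920200000000))) (.node (.leaf (spread 10 9 0x201280060904004001000000018010000a000302000f40430000608030804400032010001940000208004884022a003000001)) (.leaf (spread 10 9 0x4561022010002100000010020008004404c804482300004000002c05010004000500002008600004120000224214880a1202000)))) (.node (.node (.leaf (spread 10 9 0x8008000900800028028802a0100a00c0200000820200084080882a5084002020208a600c0400042000c8004002000002001030)) (.leaf (spread 10 9 0x5000000102408018441008804000a50104010010002224080000010000120c0882010404c20044004a000882000e000000408804))) (.node (.leaf (spread 10 9 0x81105a000141004400800801001804881001422500000000800c04010009084600000520240001000000c0028304200000020142)) (.leaf (spread 10 9 0x842640000000000c400200000100000042000002a0010402100094080400240050400c0000006d50800804001882b4140411080))))))) (.node (.node (.node (.node (.node (.leaf (spread 10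 9 0x20084000265200106010640403400838200080004001000110400208180020010300814008020801000480030018000600000201)) (.leaf (spread 10 9 0x100140000210040800001044040008a280104080020000500062008008000004000044800004aa802284c01c40040904008861))) (.node (.leaf (spread 10 9 0x400000408000a00200b0200200110402090100401108080124100005300290502220002028800800881300000040400c01000088)) (.leaf (spread 10 9 0x4840c80000000210040008880920020104050a00020000880206008c2a100204808000c482000011800000404008646000400000)))) (.node (.node (.leaf (spread 10 9 0x84000800a14600400400c08002602000053011000018000822010864800024088000040c0c10a00000085004000000850008008)) (.leaf (spread 10 9 0x200030002101080044002080080602c020008410410002151a0080010080412008000008000c408013020400102000a040100a8))) (.node (.leaf (spread 10 9 0x4400100020000090837000480204c48404002000008204022020000011008821c001202811800010003441000200000082800a0)) (.leaf (spread 10 9 0x1090200000010020008008810a020090002080254010080280000205008820040088040804000044000904109802080111380024))))) (.node (.node (.node (.leaf (spread 10 9 0x20000d90400080000000420910041000408000321280023281020681008101190201030000000089400800000020101040800208))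 (.leaf (spread 10 9 0x2000020400089048024000100000800010481014604c0002040e00018a040440c10000080a000822288011001010020200200030))) (.node (.leaf (spread 10 9 0x400a01042110880000208040803008400002001002020024810c2ca000020902020840c04400206080008000010008002201030)) (.leaf (spread 10 9 0x8100500001400044820081201a348010101148020490271000208100000040002000000400002001810100000822020400220142)))) (.node (.node (.leaf (spread 10 9 0x905100000040000810480000924010088a100a2019000480011000000240042803088040014010020082092000a00ca000002000)) (.leaf (spread 10 9 0x5408011c008200020011c02000033000440000002201004500810800041002080904000002801000003040008080620128381))) (.node (.leaf (spread 10 9 0x1008410842800420202890002040100800418402200000010040124128000102130200100c050000000000900002840600410c10)) (.leaf (spread 10 9 0x1030110a910120120020040100022001802000b10180008408008201b08000000802020000200002800006800060000a0421028)))))) (.node (.node (.node (.node (.leaf (spread 10 9 0x42010030200803800000022801c80414205000001002002990084013010400200048000080006008026020100808220000011080)) (.leaf (spread 10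 9 0x450200910049010500090008220010200102101000020000044008a000000a088090180114042080848100000200004200080191))) (.node (.leaf (spread 10 9 0x880012004400200000022000048086500602021104a201206082012000101006044400000011300003001200008002500008180)) (.leaf (spread 10 9 0x90084300009a000821202400116024005226000050200400800000240000420001424002824003010120200011010840)))) (.node (.node (.leaf (spread 10 9 0x10840400162085280440004000810010010040010010001080400007100123002192444880000000041020906a04000000401)) (.leaf (spread 10 9 0xc008228804040a0bb30000020000c80042a244000000001408201500000200210020000820000008000000021000445010501880))) (.node (.leaf (spread 10 9 0x1080000101008400020000408202441000b8c0024800008880010200000120000000048106b8000401e003c49000400000800488)) (.leaf (spread 10 9 0x1008000040804080021000082000040020b086020000400000901000a10120808101002250090405011000001000018484424518))))) (.node (.node (.node (.leaf (spread 10 9 0x14000141020800008414100280c0208000454000002002001102100009120d0010088086040d0040084640000000100420000804)) (.leaf (spread 10 9 0x400001002000000204800030800240300430a48108000008800040010118000000184a190e8020020014011008000b1000083008)))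 (.node (.leaf (spread 10 9 0x22001000830620006430100050020800201440208100000022840000101122031004201200a0000002081c4410000010000d00)) (.leaf (spread 10 9 0x200030000302010000804010001000c0090003000000210012a0884400021100894504088006800410008001040b00058002028)))) (.node (.node (.leaf (spread 10 9 0x180000047a000300000142a00022504c80410020080016080404010020282006110000c000220000002000010104c106001000)) (.leaf (spread 10 9 0x30302080120048004a48000000101000204880000044000020020080024880104410d0020640202848802004008800440100028))) (.node (.leaf (spread 10 9 0x182202200000000802002280008084600140202802440002040000194ea041000800001c000021a0050280081000002222000400)) (.leaf (spread 10 9 0x20103010531050008290400024101000004003000020100044000800000081000100802a0000016840210000085120091405440))))))))) (.node (.node (.node (.node (.node (.node (.node (.node (.leaf (spread 10 9 0x20c02014691001886000000420120a20900260100001000412c010045880800002082a400002040000000000000000002000844a)) (.leaf (spread 10 9 0x460040000800800082400000210a0000000002201d4c000010000091502000040042028004020641912008100443448188)))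 (.leaf (spread 10 9 0x2000078022000808004088000b081408400002410100000802200040012848424042000001088400010152028300000004201208))) (.node (.leaf (spread 10 9 0x8043d0a140800000000000992044000108000040000180000000202311455100220028060408098740000140008000000080400)) (.leaf (spread 10 9 0x4008000022000118350106800640100140000004d8000a340804400020008048822020c000800000080102018080c020004800)))) (.node (.node (.leaf (spread 10 9 0x2000600000500800610510000880000200801200203400208400000600008620440016300428400010200008a020132880000201)) (.leaf (spread 10 9 0x106008580c10510800121080004092e0080000000000208812800044000200008044000290400025080004002020140020c0810))) (.node (.leaf (spread 10 9 0x4806000088221001a0002000020101004c4001841a4509180010800201800124004000a00040002001108014004000822000100)) (.leaf (spread 10 9 0x8006008000158209006000c0a0941105040020012040000600800160000010001400000000a9100c8280010002400881001400))))) (.node (.node (.node (.leaf (spread 10 9 0x310400000008200c0004400000c4058011ac0100840212068010004080440303002040000880044810000000422004002800402)) (.leaf (spread 10 9 0x42210401040800000c084c002800840003080920002108403080100005008110100a242041040802020000004000040990200)))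 (.node (.leaf (spread 10 9 0x8000201428000440208140226180002010020304000700c401010090008030402000000c8100840404081080000000040800a802)) (.leaf (spread 10 9 0x100880111000002008010810000c1200100003400060019180004100905001194001010800020080001c40012000100842040188)))) (.node (.node (.leaf (spread 10 9 0x4532208468480404800000001020110001000000000c4280100108004004a0160080400a81009004101010820080000000080111)) (.leaf (spread 10 9 0x81210400240001404000014980000700008504c08001002010002110000224840024160c0000001001001030a8000902000204))) (.node (.leaf (spread 10 9 0x10806108084001201000020000520200d1200410400040044004020c20800403008900100804011000014800080200002025c010)) (.leaf (spread 10 9 0x1080182000121080004000a40100001081008a02010200120042010140400012040010002668060000402814080828080100420)))))) (.node (.node (.node (.node (.leaf (spread 10 9 0x408040004015820a042101108004d0103406000168418040800000400000001200040001100400080c000026000041008410048)) (.leaf (spread 10 9 0x4800c80900211000050900001000140820000040c8088050c080106800100000110000894401000050400480024010008508004))) (.node (.leaf (spread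 10 9 0x80c800004114040240202080800080d01048a004209100110040000000800092280000082008040050402424091010800020004)) (.leaf (spread 10 9 0x1008580002000280100c000840000028085448048000a0048828002400004820000200a8340620880202000040082900080040)))) (.node (.node (.leaf (spread 10 9 0x204c100e2000102101000008042181004000c0040832000201084080004210000100065000060100011120084081080404840000)) (.leaf (spread 10 9 0x120910000a100020020000100000d2448002021050021000840490080308440400250020500100000480040a03008002400208))) (.node (.leaf (spread 10 9 0x321000500104001090880400000089118020240020014100140000201890001048200102a0200040c2204400095000090000000)) (.leaf (spread 10 9 0xd00248180000080280100000040020004001100000009020108801000004500901124400227002824002d04200c1120220000))))) (.node (.node (.node (.leaf (spread 10 9 0x80002844801880c000804040024028640110000202400020028080040052000010000408881008632c408020040000002001030)) (.leaf (spread 10 9 0x80005010008490d0810a02003110400080004040200051002c00010808000010500040400088204103090400008a030140000000))) (.node (.leaf (spread 10 9 0x402014000060880042010008410100044220000010a0008800104c01000011800084010c0018802040a002c04004802000844a))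 (.leaf (spread 10 9 0x400003000028044000000401220408840012009004001242040000040842080801901a010a800002223418001000060201001100)))) (.node (.node (.leaf (spread 10 9 0x441002040000800002008402008208e101900400301200800000822029040d2020008040068040010810301001080010080084)) (.leaf (spread 10 9 0x81002c01002c0910004000008c860000082405101010100001a401028010c002000010101034081200400004002005c0040))) (.node (.leaf (spread 10 9 0x400252001404000c145001000000a81200020101210141005000003008112014400002000091081c02000800000082040c11000)) (.leaf (spread 10 9 0x10099000001840610080080000021085000a080000410001820080060000038000200008600000840848064208d008085a200000))))))) (.node (.node (.node (.node (.node (.leaf (spread 10 9 0x100802034180200880a203a801008000010400010008080054680554010028000800a800000000210194000000300001100082)) (.leaf (spread 10 9 0x81200002208180030000000100600800d00014201800218028800500100800440800420010080010004120000a4200024085c21))) (.node (.leaf (spread 10 9 0x204204008a1c0c02020000800300000000801200120421202000e044000884410100180000014400000140888188184100001000)) (.leaf (spread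 10 9 0x106000080000004034c040a080402104400000140040300010020820010d0829c00067000080010100201404110420001020)))) (.node (.node (.leaf (spread 10 9 0x144000208410040800202200810849020001c202080020000440002040000082020018988228800010242008200a00900420002)) (.leaf (spread 10 9 0x20000000238c088810000240440000080802200300800009428800000000d444009008400003c41000004060000018030260000a))) (.node (.leaf (spread 10 9 0x1004000240000c200400002a00004031000010420000806c14000a806282066100103008001018000040484000400400c002140)) (.leaf (spread 10 9 0x2080002c00800080044304011100180400001100c0440154202400018206440000100025002010000800811400c0200080040014))))) (.node (.node (.node (.leaf (spread 10 9 0x11003a80080800004220808000000100000800001420620160446000002422030400880001a1a008000000804088009190000009)) (.leaf (spread 10 9 0x2020010180a041010640000004280800030004288040818020004801c0188002444040402200040000002855280000000010420))) (.node (.leaf (spread 10 9 0x81004106009000c02202002100000000d10021091002200a2810008108030084200941000a08400000c800400000000112140)) (.leaf (spread 10 9 0x895004004000009000130080020805020200021014010060200a00108a022000201c4000000a000041000208042100123111000))))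 (.node (.node (.leaf (spread 10 9 0xa0600042000020000c202024101104004000a1000800204020000000380810420c19500827000091886400000800010000001080)) (.leaf (spread 10 9 0x12682a200000000202048c8a000000200000002c59401200000000004da02000000054000000200000000041004214011020212f))) (.node (.leaf (spread 10 9 0x1010001100000000040182000003020003280800000000010140120001008b0021018148530010080018600048800c4491111)) (.leaf (spread 10 9 0x10000804050100200000041900010a000000000010820000600000031980090141b4404a82010900044040980070022028)))))) (.node (.node (.node (.node (.leaf (spread 10 9 0x8d0081000200c0850000d409008088484010400000022081480000018000080000408168450040180240010400002080080802)) (.leaf (spread 10 9 0x2a02001c010100020000008081000010840012088040002110013245000600002810010010017009024044200080a00000041104))) (.node (.leaf (spread 10 9 0x200024402000840902242480490022100040003a4008404000108009010008400828200200140020100000500000c0300208280)) (.leaf (spread 10 9 0x80412000402022100a00a0009601405300920000800c080008006000402800448000a0009080000000200100d000106000c810)))) (.node (.node (.leaf (spread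 10 9 0x93042082801120a020080000200004008180080604840008c08000c2400020000080010c0200200120a08020802898004002)) (.leaf (spread 10 9 0x800314400040a0201000880020207840080a84108040802000208016080c000000200a00c0010144000080004000000042824005))) (.node (.leaf (spread 10 9 0x40540011001884443a2a3003804000000002800004040100804002001020008210800508000800101018604000810080002a000)) (.leaf (spread 10 9 0x8002c840020808c8c80010040000002100811000441180002008010248100041004400020080000000804120028402c0b0016))))) (.node (.node (.node (.leaf (spread 10 9 0x2090220810084000000101880024130c40005081000004900154202090000042000100000002441026001148040480000002101)) (.leaf (spread 10 9 0x1340080a0000000840042a0222430009180490420080204800000400024100040500004409115000001000201220080002a000))) (.node (.leaf (spread 10 9 0xac000400000304204400c502000000210121008400c280100020802108080070200000001201124200040800121ac040000080)) (.leaf (spread 10 9 0xa0a40c00240000c08000224141004c0001000142601100012000001200020004002001002000810001010400048800c4491111)))) (.node (.node (.leaf (spread 10 9 0x8000021b00480041020a200580230600040302400400022050004900000010100280a0200200145420000000010042804020008))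 (.leaf (spread 10 9 0xc00001121a028030448000000080a500080003000000058495002000000014008200004001000104240009200404858010202003))) (.node (.leaf (spread 10 9 0x1000000015012010012318014230051110204008060203000028004000010c04000000124000400a8a0080020020020004402042)) (.leaf (spread 10 9 0x82000280008000055844040080001280000840010000040140080004000804c020080680044040020100083580ae1205c)))))))) (.node (.node (.node (.node (.node (.node (.node (.leaf (spread 10 9 0x21550100000013b30200081604000010013800001c0c8100005020110061000110208000008200a2000000000000000102c022)) (.leaf (spread 10 9 0x1222004800010008100200000042800000800000000001882010840000001050088114201042a14188210480087020081405440))) (.leaf (spread 10 9 0x10c2200082802010242001001201404400188400010008014184220300110000004808100004000240002080f0000ed0000000))) (.node (.leaf (spread 10 9 0x84800208202000028040d004000001400a4054020a00008c0080050084040001208010002040022084480c023008010800140000)) (.leaf (spread 10 9 0x30202000600800008001288a0800020000011050500000000000800160002000081200d004051800105048206100062018044c0)))) (.node (.node (.leaf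 (spread 10 9 0x60400000088204080000002088980840002108010028208104240450000000800092083080800002226c000400c048000110402)) (.leaf (spread 10 9 0x80010002000028000800200080250a40000a0008004424021003000982090a02000080494c00000a0141800080846020204800))) (.node (.leaf (spread 10 9 0x43c000100848008008006a006c018210000200020000804010b80700004218040002240008000206081048001400108200000)) (.leaf (spread 10 9 0x10480206408000094001000420a068c44200cc4200010020022018002008000001000a00800101080001000800004004004404b2))))) (.node (.node (.node (.leaf (spread 10 9 0x90410000000b208004001004080c2282c00112004068030000008080000101900080c0082047008008441004080000000a001080)) (.leaf (spread 10 9 0x200604020804170006008020028c0040000230800100940004041000024012d0001200000901080008648400004500604000000))) (.node (.leaf (spread 10 9 0x100081004600004a0a000007020408220000204204102454010009206080040000405800210080204026000810000000044a100)) (.leaf (spread 10 9 0x404021040c020902413046006048504020000100800010020000010000010000018220920092200009000005008580100009a0)))) (.node (.node (.leaf (spread 10 9 0x3010020021000000a000004802044021838000402809004830003080002a1020480800100181020020304840411804000000080))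 (.leaf (spread 10 9 0x544009000010100200068042004022000000000240411300000100004023200400204484200c414201c400140400480200008280))) (.node (.leaf (spread 10 9 0xe0082106204000000a400048041020044922000010000010238000078004808a0a0002400000010204000901410010d2000)) (.leaf (spread 10 9 0x12682a360400009b8c1000000008000022a2280000000000000095240000000001240000000800000000000000000000210ac77f)))))) (.node (.node (.node (.node (.leaf (spread 10 9 0x42001014480801021120020100000820080000802c21110000401004d9c1408004c2060002000000000202001044140000200104)) (.leaf (spread 10 9 0x10acc00000028008408000054021a0200880080488000104446900200180000008100040a00002210084801460000108040800))) (.node (.leaf (spread 10 9 0x15500408240003001000041000000140100400802000018036080402280a000009009010000a044a80090000000090102e022)) (.leaf (spread 10 9 0x47048a200402014004900200800100082010620080800400c0010109480040102800000880020000500008104b8001061000)))) (.node (.node (.leaf (spread 10 9 0x300000000804493854800340500021080013010110201048248022200400000000102000800000002c0000002416880000c80100)) (.leaf (spread 10 9 0x20100028004ac2008100080008502010020008182008488200460801c400a00000000008c5200800200054001001080100080084)))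 (.node (.leaf (spread 10 9 0x900052111000504000000014a11000000000402900400021021024440444001404100080240a000040580c022284000840040000)) (.leaf (spread 10 9 0x2802008001024260c4062a100050000601200000220a208000120010004861000100100000000180050081400001001120100504))))) (.node (.node (.node (.leaf (spread 10 9 0x10020808808003000010000804005065000040c00004224810000080094740a0026000001008210240004840880054400008001)) (.leaf (spread 10 9 0x84104200010021c024002000404021004100200038c20002120a0002022c01000818c0000a4020020000014040c010080c000))) (.node (.leaf (spread 10 9 0x1010001001800028008880881201845400604020000008000810200082c902200888800400008800200210080000186802100201)) (.leaf (spread 10 9 0x8800040400212000200052080c006000030000425200000080040400800400890284e200001100000f4800812020080018001240)))) (.node (.node (.leaf (spread 10 9 0x408002000010902002000b080008040804000b1106000120008049000008894b2201000400000088400440028380100001800804)) (.leaf (spread 10 9 0x24008000000510a10080018206001021a028082a4808020080000002602000040000148040a80004000400d02040000011248080))) (.node (.leaf (spread 10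 9 0x50080040142000482008ac40020000002041102004c0103048102208001040080a200120008000018809602800040020001040)) (.leaf (spread 10 9 0x12204801080e82000044010000000c004000104c020000080000000a508040800002461012002200040280a80290040412010120))))))) (.node (.node (.node (.node (.node (.leaf (spread 10 9 0x5c28010000000000000160400004082224522140c040000502042401004140014000002082c85020002100201000020a40001)) (.leaf (spread 10 9 0x300241000000400014000092420002404442005880400001819014004004000200214504c0004000a08280000310800c400080))) (.node (.leaf (spread 10 9 0x2015880081801000c0a2002d004000140040c0000600000084000000208088400c9000418800300901a4200000100000001b00)) (.leaf (spread 10 9 0x480006005e080102481440402000204800c0004080000810100009100040550110030050000100002100a80108100502040000)))) (.node (.node (.leaf (spread 10 9 0x8100802034808238000000180000000040010404058c4b1000038004000a02000112018818002018a0032200000200000080400)) (.leaf (spread 10 9 0x200810120400008402100000000854208200804030000002058400051000401408104201110100208200000280020429004a8c))) (.node (.leaf (spread 10 9 0x100a30005020301a280400002044004040200820040002460100080884208000888050220800800200210080003002010c01000))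 (.leaf (spread 10 9 0x1180000882402000001000000402201100020080048820009440e000048c800821000005068c000200024001804410520801020))))) (.node (.node (.node (.leaf (spread 10 9 0x40902000a0100090000001042005820520046001604090a202230400100041208001000000044480000a200800140000c400080)) (.leaf (spread 10 9 0x100045120404000201004020822000e00414200408000082100040002114c080001020202800c8a0408001004002001189020000))) (.node (.leaf (spread 10 9 0x40040450210801880101111000800e00000450800000300090001000088503204408840084004801000020008040182420108000)) (.leaf (spread 10 9 0x16021508014408644b0000020002c80039002c00000000140820880400020001000000004000001100400200480002280aa12000)))) (.node (.node (.leaf (spread 10 9 0x2000000021400488012080080800100044432004600080000280004800408101104208402422050005110010004084000484080a)) (.leaf (spread 10 9 0xc00001808000008000003200a6400108880041004906444400000082000004100010009080c0040004020090254200910020142))) (.node (.leaf (spread 10 9 0x41100008008400504000088044441400004080103800440100409111050000000002a100c6004000406818180001000020010090)) (.leaf (spread 10 9 0x1254003512000080045200000008200420011080003000818820c01a00120c1100820004000000800800201000000000001018dc))))))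 (.node (.node (.node (.node (.leaf (spread 10 9 0x300000c0a8100800411d0040320000028000084006005028a012060000400000090006184200040310000100401080016004)) (.leaf (spread 10 9 0x80000a2809000006800002000048000082004f1000004004400a8528200088010001822028240804002080021100080001180024))) (.node (.leaf (spread 10 9 0x600c5c00010200802001003081022120810200000002004010000810c88800202400814608000420000808048010400400008061)) (.leaf (spread 10 9 0x100100800281d0400011c40000000c88020520100a41400080404401440110020002000400018010a0480160082048400)))) (.node (.node (.leaf (spread 10 9 0x80a00009004a510001000008120800000010080000061c4140021a610410000080203c0040018080240000000630c00100080008)) (.leaf (spread 10 9 0x120000000c100042240608400000104008001401008c54a1b0002146004080000604002040210001010020002000a2100008900))) (.node (.leaf (spread 10 9 0x820009882042040408a800000000014802000000226010001008400906882001108108041100d20004000000100384080010500)) (.leaf (spread 10 9 0x60001000000200000082600001311000000100840830000886288a020102a20500408003000a400400008219481000200404100))))) (.node (.node (.node (.leaf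 (spread 10 9 0x140880001c003800000824400400000004401000401003800108208520410184c010030881048010050200012200020001801)) (.leaf (spread 10 9 0x2800904a00048200108042004a10110400802401112340000400480020008000120088022000020001084142081000022404800))) (.node (.leaf (spread 10 9 0x600001480002000110001000001040a0188100004021043004e00004a4210008120022002c00120001912002000020405201004)) (.leaf (spread 10 9 0x440000840000840000000000001080240401000000503100088100060600090008a411121268084414000160940020240504)))) (.node (.node (.leaf (spread 10 9 0x10200840001000802201001008280201048111020802248730000001a0d000420400484000000800540060055000000001c0)) (.leaf (spread 10 9 0xa000800010b0008460200008080000010080828001121010001010008086640830180030800820000000830e0400010880004090))) (.node (.leaf (spread 10 9 0x4210c20016440200008000028002402055000002110130001400e0402004400020c0010380400000284010140408080000c000)) (.leaf (spread 10 9 0x12200883000400103062010184008800240040d0020408040000802010008000210400c00508010020400000480002200a014320))))))))))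

/-- Part of a table. -/
noncomputable def fixOrbMasksLRR : BTree := (.node (.node (.node (.node (.node (.node (.node (.node (.node (.leaf (spread 10 9 0x10a81e4045644c09c000030081081100240080002800a00001000004040200062004000031040001100000000000000200a0016)) (.leaf (spread 10 9 0xc0040300040000a00000180003000001a80810004002842000600200000a0020000020240080100000a7715005180400e401080))) (.leaf (spread 10 9 0x4048800000803208400100801004400004340a010028a001a04000022980020440000460800400002c00000001038c400014008))) (.node (.leaf (spread 10 9 0x80240800004490000012001024800c2145588010200800025121000013040400024000402080c040000800008502040402080)) (.leaf (spread 10 9 0x2c004008c08580400090800928800000080080001002400200002001212040002001c084244150043000c000008882000004840)))) (.node (.node (.leaf (spread 10 9 0x100140000102200000004001008004100308410044028000021049c41000020680200c080041900083040202000010350800809)) (.leaf (spread 10 9 0x10810060008208000411900000a41200040c0481084021400080020140100240400000d015100808012000000083180018100))) (.node (.leaf (spread 10 9 0x1084004000020400c088004080404109010000400241518800081003008014704108108400401000060102800050001000001c0))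 (.leaf (spread 10 9 0x200101110004000000000290a232002420024001480002000001040022060080841210090580008080b40a800200011001004080))))) (.node (.node (.node (.leaf (spread 10 9 0x8210c0092c04004020296820007025002000184080000200700130040000040807000020004000000100041800006001800000c)) (.leaf (spread 10 9 0x20006001000225010200000100082000054801020100300401110800c0080308000e11422800c240000028080000220040402060))) (.node (.leaf (spread 10 9 0x1a550429084288040048400048022400001000022001208280000000020006000800004001e0010462000902000440000000088c)) (.leaf (spread 10 9 0x10010080c0000d000000280004004088001841010004806400010882021200100030100080400010008041000a80316c0000e09)))) (.node (.node (.leaf (spread 10 9 0x400250080420204406082000000080294030844000ac09441008010080081804002000a0820408000605800010000400018)) (.leaf (spread 10 9 0x1080004400000500c0200808900081145049102010100200424100002000000000002850061b818040040400600202801040020))) (.node (.leaf (spread 10 9 0x1400000002803884000400480003300000080a024101080501014208800228082020c002440005400000400ac000004a00300)) (.leaf (spread 10 9 0x108000808015000200200240221040428000410100c190a500018008010000080014000100a0040050002008030242880420808))))))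 (.node (.node (.node (.node (.leaf (spread 10 9 0x810205528002020200081002241002150020400008140042000000800800402c8105001040004d8808000010a01008000008082)) (.leaf (spread 10 9 0x808011200220000000000420020002148802300a04020881c04204000058800400421005000c10000000530080282c401000004))) (.node (.leaf (spread 10 9 0x110401840000180100028000801108880a04835a0008100056000010031800000002400080100408002100420030200804001420)) (.leaf (spread 10 9 0x1000012824e09020000a900021020000114004022000108420001024000000116000504000c000308200a0010b04001000210800)))) (.node (.node (.leaf (spread 10 9 0x1410120680240c20420000808100021014001800200820200000180000288801060108000001320a000042004000618408840000)) (.leaf (spread 10 9 0x80002809012000401008200000240c48001800c800800200580800090a00402112001030300d000800020002024044000118008))) (.node (.leaf (spread 10 9 0x4840090000a00184202600021010c0010280820004510000801400000024800d0004200000144042040c13800111800002000000)) (.leaf (spread 10 9 0x80228000000000230080800400a03801000808000000403080100042080108308202004141064024042040440444021010224000))))) (.node (.node (.node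 (.leaf (spread 10 9 0x20100020c0328010010200040202002030020000400110042200010c02048022500280000402006183160000020a801000800402)) (.leaf (spread 10 9 0x200050004020281089060400100a00112020800004410044803400900600860000000020040450081e0200000220140084040000))) (.node (.leaf (spread 10 9 0xc080a98000008000100200000600400402a000809140000530508200008000014020020090088120184102000100020a84421)) (.leaf (spread 10 9 0x200200008808098e0704002220240000014040000800001000400040301022045b80402000008020108422411014800000420)))) (.node (.node (.leaf (spread 10 9 0x2105000000000008210080012040128100708800011042460000009004140024005000204300940804001082600200012021002)) (.leaf (spread 10 9 0x22081000002000800002105200040400000090c008300c0002058212040400410024c1004450800000000a000b8c00800410210))) (.node (.leaf (spread 10 9 0x80202020042a401002004000500010000000921200012411860ac00042008141806c080000000014108060200100008022010)) (.leaf (spread 10 9 0x800000101100000c002000c08a0000150088c0004012080000012200028020c008080001100900100050080802842018410d0824))))))) (.node (.node (.node (.node (.node (.leaf (spread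 10 9 0x46100304501000088004c004002a048c40000000800020c02921c8000020401401a2040080094000010000000000000000088238)) (.leaf (spread 10 9 0x81000018a08000388030021800000000041020008010100002370064850041108400100100100010801e6002000100000100380))) (.node (.leaf (spread 10 9 0x84000208101811021100200918608100108280000022100000001000c0021000002206a000420108008203110500404108001000)) (.leaf (spread 10 9 0x50000004008001000124420304181141600000000601030000900280090980000001000900000218720003200330100040000044)))) (.node (.node (.leaf (spread 10 9 0x18100410762000400100808108200001a40100219400460090100200000128040808162800201000000240a400010000000220)) (.leaf (spread 10 9 0x1801a8407290100080100088212000008001002000048600000004000000a04404102003226000310080200800900250000086))) (.node (.leaf (spread 10 9 0x20040020b42000104400540c20000108488c0184200a015000102000000e0102000020100082001024210010010004402020100)) (.leaf (spread 10 9 0x800005843110020020810002000002840022000824004011411100154008a080000209851042100000100800000204200140440))))) (.node (.node (.node (.leaf (spread 10 9 0x40000302028480004040000800802094824045000800014000800080108c02009980000000409b04800024002420004812000402))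 (.leaf (spread 10 9 0x45080050100000221400002001122000201020042251051108002c4000800008400020e1028028001200002004200004c0840))) (.node (.leaf (spread 10 9 0x855120000000100841282040301400808000a1500a0010101000000200001000424a006001000409008604401080200100009040)) (.leaf (spread 10 9 0x34091000000518214280011800001101500049000020000144044800010021012800000002008040020482006080080009808108)))) (.node (.node (.leaf (spread 10 9 0x401020001036010102000000008000c1460084020000024408b0040090204020a1180102a0481100000004083000010100400018)) (.leaf (spread 10 9 0x44000008580102002010000c0404004c80408d200001001000800c00804020c5021020002042001410008040811c0404840000))) (.node (.leaf (spread 10 9 0x200001490002002404021000011410601000000031806808812101420000800800088042802002010010050a000000306800904)) (.leaf (spread 10 9 0x100880010018e0410005040000060400801008420100808080800000308400c40000000050a0000c000301080008400443448188)))))) (.node (.node (.node (.node (.leaf (spread 10 9 0x4a0000010260020040010220000040c2002088010600448140303c0048000004000224060018000208181000004a0c000200401)) (.leaf (spread 10 9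 0x50000001000649810404018c080200048810821204010212280a000000000040010004004128010041180001152000280110000))) (.node (.leaf (spread 10 9 0x1005008000000800020000144030042610b4810a06000000044228100201250008001050000800040300a0021041800008001408)) (.leaf (spread 10 9 0x303830805140600288000220000010c180000004240100001200800000000188481000094604010010204000011022020820028)))) (.node (.node (.leaf (spread 10 9 0x1040490c001000228080000804400020040044810000810010080212301010020c0002102824c002419000440002080004090010)) (.leaf (spread 10 9 0x10108000541000020228100105000420200304080300044004080150020483020800001040050003211880011002008000420400))) (.node (.leaf (spread 10 9 0x102000080e401040411000080222810008008a001226010020002c40000214200000160040025502000008008020252002002000)) (.leaf (spread 10 9 0x1000080220500038000415c020440000010000a0000200520860844000000284040000001a280044038c0000001008c012a080))))) (.node (.node (.node (.leaf (spread 10 9 0x6008181401002000004001400081854080000000281410029c001004824011008400801808000100050012088024102000200021)) (.leaf (spread 10 9 0x8408010040100210800c4421080080520008080006000080108040044400108e80208101010041400000082450021380000800)))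 (.node (.leaf (spread 10 9 0x41000240000641800028000000000a46008002484c88004a0004908801284000012800104021010050020040020044080008808)) (.leaf (spread 10 9 0x12140000128400000000000010058800200100004002802400d0c01105010000408190000000800000401004480822202b111883)))) (.node (.node (.leaf (spread 10 9 0x4004c6040000800004200018000201000020010000040514318c80030908040000100909101c0020200011300010401000042041)) (.leaf (spread 10 9 0x800000101c805200822190a0240000800000404a00200000080082400004102e300d8402000008c4400001002010000000c1c00))) (.node (.leaf (spread 10 9 0x80002180a008000000800180aae010208800100028020000204000a390282000080008041401100400005100404e04000002401)) (.leaf (spread 10 9 0x100280040008c001108020000202088002008046000084980241000800888100000104109080020808c902008080820090100420)))))))) (.node (.node (.node (.node (.node (.node (.node (.leaf (spread 10 9 0x41d0218800000030004218120030014182844000200004050001000208080068090002101106800000004201a000020100081)) (.leaf (spread 10 9 0xc8014004482b8280001c4020000804004001000c000000000820601040020001028800000013008009a02010200002000a014320)))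 (.leaf (spread 10 9 0x208805018526450006100024004800000200800090028000080000020050804000040160012021802818000a000201224880000))) (.node (.leaf (spread 10 9 0x48000010b8100011000004020081812220c010848040012a0000050a0204012800000c102204008020001040040000410920200)) (.leaf (spread 10 9 0x4000c000090400102408000002890280038804a00000a051008b000010022000810240004040314040021400214090000c000000)))) (.node (.node (.leaf (spread 10 9 0xa4220002040040201240a0000005440c001000001040200168000008100e8001442140100200000101032026024100000200021)) (.leaf (spread 10 9 0x2001148000020082000428000460210044039400082020807820026205000000040000020820414209002020a50080200))) (.node (.leaf (spread 10 9 0x88020004014204210200000800088101210008820214100188010220a104013430080a000000000020112a4002004004002080)) (.leaf (spread 10 9 0x1000212004040092110111200a254010436000008498248008001024000000000000000022004020208080020180001040020942))))) (.node (.node (.node (.leaf (spread 10 9 0x282001410080020224400050100001400800320d0100180a8010091000088402168000480014400000004100a82000001000804)) (.leaf (spread 10 9 0x24c00024020b00060000128002010000842004418010801d4900100280208022400200044000044080043004400300200800)))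 (.node (.leaf (spread 10 9 0x2a5000810000400480004801000820081001040001012000aa0110020048485000021400182891002100a9006000000020001040)) (.leaf (spread 10 9 0x202800000000000800602d0010004040311108d2021100080480000a0004960907263443408415)))) (.node (.node (.leaf (spread 10 9 0x108050111000000052000040220801600202000800240481c004404000102011801410a3041088808080000042c0000020000088)) (.leaf (spread 10 9 0x8200000200002005040260000111010810c00500000040008a0a00406080080000092d002428108020240000c1080c0200120100))) (.node (.leaf (spread 10 9 0x841200610142008020240208027800040520224000c0428000011000000801200100001902001100801014000840140280010)) (.leaf (spread 10 9 0x598841800100020520018000001000000103085280000040440080042800002030a000010a000008a00108080022444400441080)))))) (.node (.node (.node (.node (.leaf (spread 10 9 0x10002c40084008110424210d400a000008882186080000104100101101080044002404000004002004110004018020122000002)) (.leaf (spread 10 9 0x1000240200040010062c0040800110000c0204d000041480812210400a4010144100880002001000040180242080c0004000048))) (.node (.leaf (spread 10 9 0x4004400081060028040009004840801400032203200108800020040000840010188108002000200941080400099400000514002))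 (.leaf (spread 10 9 0x10822800880050400222400580002020004218000008062400010808008080010281004f022002210090005000020240080200)))) (.node (.node (.leaf (spread 10 9 0x1040004a2588220014020c20004014100000008908002080040204a1000020000010001210d2448800c004000500000110140)) (.leaf (spread 10 9 0x240410800212000420080000020108091c0100800032208f20000a1000008100010007162024000210004140420000200440))) (.node (.leaf (spread 10 9 0x600004082000c001a24008040820080402a40109100009000840081000000900006100101180804800c050001300840080200800)) (.leaf (spread 10 9 0x40040008000158008200000004100800000000400104aa30008c00842000009094314278220800010100040020b0101061000))))) (.node (.node (.node (.leaf (spread 10 9 0x20a080006400080002046000090200000000230205400000088800100780100980008489000140504400100440c00044012101)) (.leaf (spread 10 9 0x6020080008b01041400600520940403010008a000208008000208406404000010004020402102401800021d2200040010000))) (.node (.leaf (spread 10 9 0x1020009609040c0000201010c02088040802441010008330080900020012400000001010000081501480450a020022000002)) (.leaf (spread 10 9 0x700324c000180200e00001800020100000208900040028000006c9140000a00200000208200001440000c0021180081150100800))))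 (.node (.node (.leaf (spread 10 9 0x600818000d000000021040004400010a80480020000108905040802884200000041082200905008c000484008008024004000821)) (.leaf (spread 10 9 0x60400004009240010002200100020800008000080021a0221029448a001905000050c000080010c80000808984014003000010))) (.node (.leaf (spread 10 9 0x440c04104a00200300001028002aa08000040082320120014000ca100000000e0600000007810400000001184800009002008)) (.leaf (spread 10 9 0x900402000004000000400000045010012e0021000000021000002120846499800026c002500008494000048022010149100400))))))) (.node (.node (.node (.node (.node (.leaf (spread 10 9 0xa8001004200028000002000008020a00040c049109b201040200924200100081420080002000028209000280180000008462001)) (.leaf (spread 10 9 0x400100004000400090080030c00a002010010040260000900a0320000028440009211400181300000421a0400001002098100210))) (.node (.leaf (spread 10 9 0x4040810000092840000880000000201280080400a8658140028890001089208000a00000400001c010c200020448000041800100)) (.leaf (spread 10 9 0x400098a004000210804004000090040034100e02000870090024800081040320201804010080400008100a1008144000008400)))) (.node (.node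 (.leaf (spread 10 9 0x43202150440800400080010088000020110000200042800404c08294c2016000000020a000100a0241415020010004004000080)) (.leaf (spread 10 9 0x100000283008028000010d293001001411c400008000110400400000000018000170028000c0402a022090100080000091600040))) (.node (.leaf (spread 10 9 0x2000030800000801000108062380106a404400002000241800640122a200004800000f242000000800022120000800010803080)) (.leaf (spread 10 9 0xaa0052400400006018200400001200006004602100000040000154101200000c8000200835001002100000820204104290401080))))) (.node (.node (.node (.leaf (spread 10 9 0x20004800a020004c0210918118c4300040200880000000300200004100010080a0470002100004a7410100000400000014020008)) (.leaf (spread 10 9 0x4221811a100620005440210008002084000042a20003502000000000a0033000000002080000020041080a88010000023111000))) (.node (.leaf (spread 10 9 0x4a1100200440044840080002a20204200205280000891000490000100203008007400000800000088842002830001802140000)) (.leaf (spread 10 9 0x1214008812100800300c4000001050002005c10aa00020500500c0508200000680800000080000000000000200004400101a9c80)))) (.node (.node (.leaf (spread 10 9 0x1002000402000146821000040800006440206864004006406108000001000003000069081480808200040080080002508004084))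 (.leaf (spread 10 9 0x801041000400004058000080002c10020048600814800141000a040002c000002000b0112004a4204040420000081000221200c))) (.node (.leaf (spread 10 9 0x85208000000880000080549002a02a000c02000000000004411814008081000008536640200200402000090030020804400042)) (.leaf (spread 10 9 0xc000000480004280039c4203ec08030040580608000500001000008000000020000000082000000800001004000822002b111883)))))) (.node (.node (.node (.node (.leaf (spread 10 9 0x14040055000320842000014204008000500400101118000031412000020000000000a047820d00020082840a800000040001402)) (.leaf (spread 10 9 0x10002b1000000008120080801008840841b0800210000b1000200484002160002002010c00082044810000001000080110100609))) (.node (.leaf (spread 10 9 0x4000021000300000100820032a8885080190002010008001940c488140001000800000a220002100840380000004200008200481)) (.leaf (spread 10 9 0x40410280444002004000000c1000434130104c000002008190401000000000440901483000048008840011a28000003006080)))) (.node (.node (.leaf (spread 10 9 0x4410000c4002001082a00880086000000084000d19000180000108041d80001444840000822000000008000540000c0104290010)) (.leaf (spread 10 9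 0x21808000001500260024402005604520008004019043aa0040000000006004000004004300400300001001000400c0202c0000a))) (.node (.leaf (spread 10 9 0x20010000000b0800400020010001009000044602000012241000da8600029015800220082001001602000048180000209102008)) (.leaf (spread 10 9 0x2080020408000000800421120404c4c120080408009400410000804000400848081c520078403c0b0016))))) (.node (.node (.node (.leaf (spread 10 9 0x100c20208800200400428000480a684030056200080008004020003401800840100004102002101040280004208841000000402)) (.leaf (spread 10 9 0x10a0000800200200c1004280a00c03680a4002010260a100008000000a0011102004000900020280000400809228000003004080))) (.node (.leaf (spread 10 9 0x81001a040100810100804012600040002400020001050000001c02810800040e004e100800004260200031008010000048400902)) (.leaf (spread 10 9 0x1000600100c085000000010840302608102000080e002000001000048001044000004110200002104200880203842010410d0824)))) (.node (.node (.leaf (spread 10 9 0x20048804200081084800100000008000102c5090104126020a020021080400b80201048200000402402000000026004000118008)) (.leaf (spread 10 9 0x2080222042002002910200041450840182800010020011082000140120001010028214800081a00000000820200004200080191)))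 (.node (.leaf (spread 10 9 0x1010280042a00000000400180830050022b0806440008202a080920010010010000800212414002800000080c0000c08004084)) (.leaf (spread 10 9 0x2010284816004008020008800010120000400042110041c40800000040809800000084020000863844041102000418002048a00))))))))) (.node (.node (.node (.node (.node (.node (.node (.node (.leaf (spread 10 9 0x216080054000300840000204000000048044c04044d02000000a162014941000a5021081480000100000000000000020028301)) (.leaf (spread 10 9 0x21b4084a12000810000c400000004000000000280400101000000000284020600000220a320006889840601048008120000a8400))) (.leaf (spread 10 9 0xa80850708000146110000008611221604002500000200048000040300000001000200002800800040008140440d0882040802000))) (.node (.leaf (spread 10 9 0x2a000c841001100000840004000490040c1000048080008228890600008100020120012084016001800c40020124200020004000)) (.leaf (spread 10 9 0x800c040500082000008054026042040482000a42000d302080200080000403800400a00800020101000010080844480008000812)))) (.node (.node (.leaf (spread 10 9 0x400008100048010502201400400000000200000424a100200c00000692204048c1101200081400000c2406009003022000040011))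 (.leaf (spread 10 9 0x800000102520099c8000000200000a0200804840410000001404930008920402100810180048014000004000008000117000c810))) (.node (.leaf (spread 10 9 0x60000400212641d0000000004054800c000123000420000214200000101000208905014040200968400000008002001880000c1)) (.leaf (spread 10 9 0x80400000c1208001039909100281040080820000002000001030408200a004080002240028400a082210010010014082006010))))) (.node (.node (.node (.leaf (spread 10 9 0x11008000802001840008090340403078008030008002800600040c000000500087400080108000e1802100000004040804081001)) (.leaf (spread 10 9 0x80000aa851083102404031400020004080000200000800000808408002000580400380880a220040100111000c00010208400024))) (.node (.leaf (spread 10 9 0x840000000800409181001200a40000089080488c42204a048000000060103480208014020085200001080000200401040082020)) (.leaf (spread 10 9 0x44000100001010000200081000422010c40004010810014240944a02108800202080000420000102020c8040cc02000000088238)))) (.node (.node (.leaf (spread 10 9 0x40408104c002000841000605200408000018400c004900404200100080400ca220801b020180004000020000000e000000910402)) (.leaf (spread 10 9 0x82800100084a000802440080408800050000004010122008310060011000000100280c00420100a0133000800288000900418020)))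 (.node (.leaf (spread 10 9 0x2090400a0004042040168400088043000009140000c00010201020200108240822008000060a200008816000000b1000081008)) (.leaf (spread 10 9 0x800800004008002000228000891008010108202014204020480046000440220480000005114a4a0240100000000c001038041020)))))) (.node (.node (.node (.node (.leaf (spread 10 9 0x44100208092004002014205018840144a0880e04700000006000900000000004001008004610208904000000038a0000000202)) (.leaf (spread 10 9 0x4008801020000009008000040c001128104040040140040420a840089220000000a42a041420088000001020100924401800004))) (.node (.leaf (spread 10 9 0x102002280008008051202041001001010802028007200300000100000001108200d288000ac30008020014408020000302008040)) (.leaf (spread 10 9 0x80000a0001040100000100800101000008240200008084d101880086000024000212084c81000050810019602000148008402600)))) (.node (.node (.leaf (spread 10 9 0x9100080002c180080004200004080145148d50800000000801400005500800880000440100000410120884280304009000010800)) (.leaf (spread 10 9 0x80620608800204021190004001008001008210000400080144029005000201022130000002008008020508082020404001009108))) (.node (.leaf (spread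 10 9 0x920d0404020800a0010800a0020110000210a60802102002120800000044050000984820200001420090028011410000800)) (.leaf (spread 10 9 0x118030000000006080000020000604080021080040800400000083040081000000888103402008000063130c080380480e601080))))) (.node (.node (.node (.leaf (spread 10 9 0x30401082004010800841000040c11040c04d0802a006000210040000c04002080200520000100008108100b0001000000948020)) (.leaf (spread 10 9 0x23021404100a00204500300000820800080410781000008e00082100001100400000a200210412c00014080016120080000000))) (.node (.leaf (spread 10 9 0x10002201000241000002100048a0040040108019024080402890524010a000004121000c0000010c20040021090c1000000484)) (.leaf (spread 10 9 0x50040000020010000080080144018a10e040006040020c000090402000440000088402400404900480000408cc00005584000220)))) (.node (.node (.leaf (spread 10 9 0x80431200100550800000010406800200a020000000080110000000000450009c5000418808aa8080020840000003240c00400005)) (.leaf (spread 10 9 0x20020081a2000210c8014009000c004920200000004121008002021008002010620100000800110000b882200030101102140000))) (.node (.leaf (spread 10 9 0x1408102142028c01208201018000010200801000000080800800000081060720e608200100001909060008800040000000c2004))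 (.leaf (spread 10 9 0x1a2240600000000c0300400000000000025002100000002000109001200002c808020021500004c1040b0150980cc0940200000))))))) (.node (.node (.node (.node (.node (.leaf (spread 10 9 0x211010428712060801410001580400001c0044300010000082010a0002002000c800111010a000020000900000010046000022)) (.leaf (spread 10 9 0x400010000008808010840840220044400c020010000400000424014000003808029d180500030020500020426000000306000904))) (.node (.leaf (spread 10 9 0x420620400020501060080980d00804040000309240000400008041004000010210000200c204584040000c008140101408100000)) (.leaf (spread 10 9 0x492084002100000211004800882028000404100200400821a0003088200001000118000600008801128000201103242081008000)))) (.node (.node (.leaf (spread 10 9 0x8090010000482013000a202080000828041022208c08001002004000015025200011008098100200000921000020803010008020)) (.leaf (spread 10 9 0x4000100020400400412024420010100641010000120800820292001000009010104240080020180820500448000000a10008c144))) (.node (.leaf (spread 10 9 0xe680000000200400000090a042082000021002e090001000200008408004a008002d47080200008000020a060900010010d0000)) (.leaf (spread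 10 9 0x220000009100000a0000a00800000440014020046304060004000019204002300800080000020842280a00801910408805020a10))))) (.node (.node (.node (.leaf (spread 10 9 0x42a0011000b008000000812a090208080014003000820100000848008051a200410844004040020041048040310000008020010)) (.leaf (spread 10 9 0x820004141802041000e00000000080240a20000028110880cc002010008119800000000410c08001000458180004504000020804))) (.node (.leaf (spread 10 9 0x1152890044140402094004200260010000080060020201a004400040000004400008000060044022018040042060089020022000)) (.leaf (spread 10 9 0x8000a0000022028100345000000000a00200800202000400004844008026c041c88800008084001224488200a402802000004100)))) (.node (.node (.leaf (spread 10 9 0x190081200e000000020010400440800001410061000300d004201026480001041801000104050020000884080128019400000800)) (.leaf (spread 10 9 0x10201c10051014010010408001004a0800000a0000000002a04000020001001000001100004022002804804b20028c02c0b0016))) (.node (.leaf (spread 10 9 0x2000010000000240140c0000040400c09840000140008044800802148000242040400112b000400000829140821c0008800432)) (.leaf (spread 10 9 0xa020000000100822000820800828004840200044108023110120040020040000000003181004008802466224404010040094080))))))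 (.node (.node (.node (.node (.leaf (spread 10 9 0x900a41100005500029028100100804000011100610141c00008001002c0040801010600058002204000000000002040500402108)) (.leaf (spread 10 9 0x10480600508000001001080040202a001000006840424320081040400441820082024000200400000044000420140211000420a2))) (.node (.leaf (spread 10 9 0x1005011000000a000000800055490c000a120003100808000200000202484420484c004000043004020050320000004b20000008)) (.leaf (spread 10 9 0x40001c001080808042010200022051080cc10010800030000080002204020800140058201d48000018402001002030010090)))) (.node (.node (.leaf (spread 10 9 0x200400408510821001830046000000b02000c0008a0001080040000a008904000000c000a84000a80004020c00010146002022)) (.leaf (spread 10 9 0xc000c018000c19000502000810000802020004a0014290000005110008a120401420440200002000000000020442508100004a80))) (.node (.leaf (spread 10 9 0x5002028104cc00080000102048410812000a0002800428010220002040000000288018200081c00000e50888043000000401000)) (.leaf (spread 10 9 0x400000001040001018000000400020060818021c400024104480202108020002000820001310008984031994f0049))))) (.node (.node (.node (.leaf (spread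 10 9 0x220000108c08102510220424140000020040000008400045002600001a0904488440042802001000480002001002008080041202)) (.leaf (spread 10 9 0x884001805014004002100001000000200000c008144014512019001021800410280040112082040210008080450201100040800))) (.node (.leaf (spread 10 9 0x400842148000420241c000000092010010041a48000820100302000a3120000400a8000000202c0000860081000124002000048)) (.leaf (spread 10 9 0xa00840040406090200848210004801c0201004080280100008000a40018000200200800402000405200961200404001000088c)))) (.node (.node (.leaf (spread 10 9 0x42e040008000141045800000c02000894100024210005820010000002000048040e90200100424c0010a0200008400040400080)) (.leaf (spread 10 9 0x24020800085027b0000304000080010001424012200403000000180005614200024002011100000000e00001010400004008861))) (.node (.leaf (spread 10 9 0x2600a870004040908880080000080085382820000041000382004132000001800000000000081002000028910020104400441080)) (.leaf (spread 10 9 0x1000009000100000044800080400108008004000008c02100000012006204108001048140414180042064810048821004cc144)))))))) (.node (.node (.node (.node (.node (.node (.node (.leaf (spread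 10 9 0x420410000640a082401900a0021030004103800a00d000080820813280000008840408040002202000800000000000000008c144)) (.leaf (spread 10 9 0xc020080200040210000000000000a80440001004003000858000200a40100c1002020004408000114400122610086450104a8400))) (.leaf (spread 10 9 0x4291001000041e40400020204a00800008804c842c000940440000008082000004910200801008890000040200149080100000))) (.node (.leaf (spread 10 9 0x2a40404420830000141004000040000024004003860084000401020004002208000003c82823e011000040400008204800600000)) (.leaf (spread 10 9 0x204012180000008001010041000010084000000480049d104a44c06080044040002050d10110000000080500001008088102210)))) (.node (.node (.leaf (spread 10 9 0xc181000020008840002050348000202008010c0008191040200404200040008002112e44a000000280008040c0200000140204)) (.leaf (spread 10 9 0x88200008001100011910000c1202c0b0008015005000040108000500c03800014800000100c001040020c00040480420908000))) (.node (.leaf (spread 10 9 0x8008040004202000040280000420004c08040c1010010098100000108484800000400c10308082c000840c00c000824080320004)) (.leaf (spread 10 9 0xe1800040001002000b2001020010100044002c540200084000d0200450008020620000c8250001082000000000000000001018dc)))))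 (.node (.node (.node (.leaf (spread 10 9 0x80002081021200300000810020000841080905000000442200400001003c140084240001032264000a0000000105009012808001)) (.leaf (spread 10 9 0x180004004020020c0888a000100220411081800084011c6004002910000500041102030400001000084110200000080204d000))) (.node (.leaf (spread 10 9 0x412400a44000000401001a2100000808050000004101281120043400804400810080420400289004080200c04085008080002000)) (.leaf (spread 10 9 0x10ac48001084140010010220000108000000190401100010080040442088521800008222000410020006882024a200000014)))) (.node (.node (.leaf (spread 10 9 0x2060000220440a40210804020242000101106200010800428618013004002004000520400000810800003014a20000040000044)) (.leaf (spread 10 9 0x208201010064904008101001000c80050000188410062000000020400c0004008001220408010402003110021418044100008400))) (.node (.leaf (spread 10 9 0x44860048a008309000200100001510001020000000200c81840020040016000800400031000020a46400002012050004040085)) (.leaf (spread 10 9 0x20004040c518020211011c00800184088001420021000202040010210020010800000040001006000028000021214046001432)))))) (.node (.node (.node (.node (.leaf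 (spread 10 9 0x4004081000800000800800a43230400421014040200002080e000884a2080000a020010408022000840102008000482500020081)) (.leaf (spread 10 9 0xc0740820c02540400000022000000a00110000000008000100002800800c8816220001840c800000401200028280c10c00800003))) (.node (.leaf (spread 10 9 0xa0480080c00204002040040180030000106c0617001200801804020001000088a002000000000202a2000820026010008508004)) (.leaf (spread 10 9 0x40608000004848000100260200e100052000000004c08001010005500000802820421a010401440520010301a24080000)))) (.node (.node (.leaf (spread 10 9 0x221080080480002050300411010008400001028ac0100040110001481204210880000108000230000080c00500004008c0081100)) (.leaf (spread 10 9 0x18100004008d480108000501209006000084800000104800000020c0030020001051d3640300000004002422800800010001080))) (.node (.leaf (spread 10 9 0x268004000002c4020a002a0004412400209000000000004100028a1a0002804500200b000410000420020008092011200200600)) (.leaf (spread 10 9 0x2000400258004240110800104200004c884042205400000008289220000020040000110040820002840000a003250024080240))))) (.node (.node (.node (.leaf (spread 10 9 0x40d002400020008208001093040a013401080001100408040200800220c4000620000000411008940808501000082000030002))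 (.leaf (spread 10 9 0x848000101802009082801800804080800844404000000090842021001900100810810800000c0060105028010284000940040000))) (.node (.leaf (spread 10 9 0x40000040020404068001011001820000001420181001110000840042401d00410900842000430001100120800001006850104002)) (.leaf (spread 10 9 0x1020040000006000a04001080c08080016011002100008000a01000810084008000cb4421900000002caa0200080068001006000)))) (.node (.node (.leaf (spread 10 9 0x11003a1000002048000a00000a88015000a110000010000800040444004000424400808100b88900006040080204200800000609)) (.leaf (spread 10 9 0x40481000065300204000100000022220801020008424000290009001040002468a00020024510000024080084054003002010))) (.node (.leaf (spread 10 9 0xe1200808080688000120080000000c200600041010000a036002310100000a18022180040080800040000002002148008000088c)) (.leaf (spread 10 9 0x840000000080081080808400001105c008000000122201820004004c000015000010a40042b002506806422200844a))))))) (.node (.node (.node (.node (.node (.leaf (spread 10 9 0x104220043000100400440488c40020000c400c044014022009000200c461008800a8001400048400000040444000402000404)) (.leaf (spread 10 9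 0x440841048100c200000000000144814010030200002220408c0004424000401800900040802020200414004c010208128010002))) (.node (.leaf (spread 10 9 0x404000001042480000498000c2881000818608210920880520080220000100088000280000002110088200000032010008980100)) (.leaf (spread 10 9 0x60112010200000013008500000010180003180400c2a014803c200000000008020418001001008a0801660040808004401000)))) (.node (.node (.leaf (spread 10 9 0x88225000040442040a4000488008019114808480010500000d0841400010401401800200008000040000610000000800804a80)) (.leaf (spread 10 9 0x200802000000100301a48200200000000104050800000260d7601040000208568000000000000000401047480864201000005c))) (.node (.leaf (spread 10 9 0x3a18002000800001000290809000201200042228800088826000088001080200504200698000108104020101800821000010000)) (.leaf (spread 10 9 0x22800000001240c021040011800008842140090a05480202148110280108000c041080050000000800410406040100a0000))))) (.node (.node (.node (.leaf (spread 10 9 0x48210510180000004c4948000058150020002080800002612003100800002060a20000008600000060000200000810000307200)) (.leaf (spread 10 9 0x841001041000060000280010004aa802000000091a18000042440822008092004044000440201001600404291000000100420400)))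 (.node (.leaf (spread 10 9 0xc000001200000050050a400023000080114805800000400005000880008000008800440000603400960940610500008002010883)) (.leaf (spread 10 9 0x28021e0000a0000000042140120889400200000906100040004800800204804a0080004504008001088300010002082720008)))) (.node (.node (.leaf (spread 10 9 0x80000002000220215400c08b00a000230040200040000048011301424200000880001c412010003102044000000000094c00110)) (.leaf (spread 10 9 0x80900202608400801800000440802000044006040014000000a00800100500004400001c20204013000025909202348061))) (.node (.leaf (spread 10 9 0x1040801000810080080000c6001404021000a004a010d080432188820100200800408011001000100002000a800400184400110)) (.leaf (spread 10 9 0x6002001818004200108001000202940082001088010100030090044c6008000160504000104000000002910480180009008108)))))) (.node (.node (.node (.node (.leaf (spread 10 9 0x2a1002042044800104025200812100002001c000502401800300010c0a0010000084002100000191010120408040009010001)) (.leaf (spread 10 9 0x2040500400120812180000c020910808c04000210202002d28002300010000081942000812080400000802000200004c0840))) (.node (.leaf (spread 10 9 0x30000280a1100c000204a120d404000040600110000002000c4034080042441000080098000001e304400000400401000088))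 (.leaf (spread 10 9 0x4200010020601004300a068030404444200900200040008041220200000065000181080884000a00000000a800087280080)))) (.node (.node (.leaf (spread 10 9 0x680000400840420002010008040043880000e08301000604000018000040b8a0b200000000012012080443000a0400000002c01)) (.leaf (spread 10 9 0x3e81006000001610c1000000a02021020032200101000020008008000200c0001a60030000000040008241110d0081040100800))) (.node (.leaf (spread 10 9 0x8001011000000d4002040001616104222002801100000661004804120244000000000880820000140058b0002001040001006000)) (.leaf (spread 10 9 0x2000a00004300030620000004000000c0010008a4300100000082204020688081890830180000801034000010411800408021100))))) (.node (.node (.node (.leaf (spread 10 9 0x30510004204000000048120000000000011054004044028040040529a2040c910080424201420000082009800900000001100010)) (.leaf (spread 10 9 0x201008200600004080080000001404408c1000072001014344000451004a000062c000028000080008120a0000089080218100))) (.node (.leaf (spread 10 9 0x68004800c02000002408004150000400046002020010090800c0020000080002008501040c5020001308c01000c402800408804)) (.leaf (spread 10 9 0x20008000c000100400410041c00700003410045048000080c040006808000800911208000006000048400820010a81402804040))))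 (.node (.node (.leaf (spread 10 9 0x5004044020080000000000100211089010e4018500001008180a000108040d000000009180b8000a286000000028020200002408)) (.leaf (spread 10 9 0xc0d40060080280000202010200000400200010c0020000000000a00a100001000202082080004c209016400082c2100d00901050))) (.node (.leaf (spread 10 9 0x109043102024000001000411001040050118001400000220480004042000408080903004094a004000090c00900a010100140000)) (.leaf (spread 10 9 0x8414038001c0800070000020010d8000000040000000054082000200002004101040003000810420009948c015ab10100000000))))))))))

/-- A table. -/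
noncomputable def fixOrbMasksLR : BTree := .node fixOrbMasksLRL fixOrbMasksLRR

/-- A table. -/
noncomputable def fixOrbMasksL : BTree := .node fixOrbMasksLL fixOrbMasksLR

/-- Part of a table. -/
noncomputable def fixOrbMasksRLL : BTree := (.node (.node (.node (.node (.node (.node (.node (.node (.node (.leaf (spread 10 9 0xd280c45a8448591d0400020000020202002001004000000065020200050000088050100000040000040000200400008000004253)) (.leaf (spread 10 9 0x242000460040000a00118000000000001a800052800000004400401028000240300000082a000080a84a05420859210814200000))) (.leaf (spread 10 9 0x800010460a020020140001422200204000020300120401142804205100002400003410018000440400020111c002000440840000))) (.node (.leaf (spread 10 9 0x10201404a00040831000202850104420200a00a400014005000001080008000c10520a4000228000220003000a000000a900)) (.leaf (spread 10 9 0x2080880000202ea840004120880c00004622000190292000000004802080801010040100400000810000500204104100018400a)))) (.node (.node (.leaf (spread 10 9 0x30410000100201084000214338403040020009000000101408044801c0002000011200a080401042008180080480290000400080)) (.leaf (spread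 10 9 0x500400310814a0000080000208008020302001021240000c10840040821206030000a001020408090c001020062004000080200))) (.node (.leaf (spread 10 9 0x220808002100008a84881000000000000132a0800400410002840013801080800d01084200020402408008840800000c0008400a)) (.leaf (spread 10 9 0x4001000000082280000004241009040004000803860000000401401400083008091d52c208000000002460121000821010812000))))) (.node (.node (.node (.leaf (spread 10 9 0x80200120840044434409000218901000200804041244201400040000100040000110100500208a20081202000c1005400001)) (.leaf (spread 10 9 0x8a444000044020410490040040080028a110300003800824088205403808001000000200025000a00000100418001400a00))) (.node (.leaf (spread 10 9 0x20903223d1004000810000414000100806000000008a80000050100001042140220020181180090120300008001020000080111)) (.leaf (spread 10 9 0x4300001020000547002001405000033000400044004a82004200020902000810301008020002828200011000000280600a04020)))) (.node (.node (.leaf (spread 10 9 0x408010000220000020880050522000c00a50508210000802041183000000350400e041008004000400000217800800000400044)) (.leaf (spread 10 9 0x104108008500800208049002a0000000000011016040160e00000800502020b00081442080420000280080280a00004024030000)))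 (.node (.leaf (spread 10 9 0x100009081042002800810800900a0082118404008100010490002004111010090000080802002014311804000808090010210000)) (.leaf (spread 10 9 0x2020400400104019080000005024808008809000000100280428c82000100000d910100140200112080140c002010002048a00)))))) (.node (.node (.node (.node (.leaf (spread 10 9 0x432000010000200801000808524218008c004a602a040c0121103020000000200800200400028102202800000801000088100210)) (.leaf (spread 10 9 0x82044040040424000082000001263048010a8000000050080000002048080039a000007000c18060010024040001022040208004))) (.node (.leaf (spread 10 9 0xa000011100958008208000124282110000420008020000030010084000800100642a2428200004042000011111800008001408)) (.leaf (spread 10 9 0x4041110008080d080842c40000001c00d0010800006000881400100000000008a0060002109040002012823140a010000140000)))) (.node (.node (.leaf (spread 10 9 0x9004124608000120100246200c000000040008042000030000401210101100040402102110005a22401203000102004108001000)) (.leaf (spread 10 9 0x80028406040558081600011800000100020201000020000080048404050020a11864400108100000a000000000020404204c02c0))) (.node (.leaf (spread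 10 9 0x4002021030110b40000000425020005082c00080000000200100061544c00d80400048800000000500100103022208410100000)) (.leaf (spread 10 9 0x8820014208000080080110880010009841800600000000404a14010834540000204000000180122c0040440600922200800000))))) (.node (.node (.node (.leaf (spread 10 9 0x43a0000208a00200000010000810228aa000120000e0824000000080048811900914000040008800018022121008201010802000)) (.leaf (spread 10 9 0x2022118010500008802280208000400180000088083000100a80a60202004803010884000000216080000600080122000c01000))) (.node (.leaf (spread 10 9 0x1020004040000008820009020020010c4041404010100400014420206030000200020a001024008330020208100900a50000086)) (.leaf (spread 10 9 0x4000044005080010000480429200a0100088c040602100000009020010102c0002004017404a0200404080022008000224408000)))) (.node (.node (.leaf (spread 10 9 0x40000c05800030020062080700001000126002004000004018000080009c800080821251050800011480030010080004500201)) (.leaf (spread 10 9 0x10080000080510800010090106000010a0a000108048200c01001000000012240140008121b80020046000010110102000024518))) (.node (.leaf (spread 10 9 0xc000001208000040694842000042220020060000240120004000221451200040028801800202140000040408080151200002600))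 (.leaf (spread 10 9 0x140005c00040080004200008424900000008000281240588c0000080420111d10010100000400c002083008000d100440000048))))))) (.node (.node (.node (.node (.node (.leaf (spread 10 9 0x430004140100004050432181200000e4020080080046c0118011020006800000080200080008020210091c00000001800040041)) (.leaf (spread 10 9 0x248004800002002010428820010010420100000100400440002a0000080a40000440222000500400010000048005229443408415))) (.node (.leaf (spread 10 9 0x28028a0c08048000000904000008108950802000400004100447082880001840901000004a00000009000900000010504426000)) (.leaf (spread 10 9 0x1051888041442002006800290020002000140050020000b000020080020005000031204001480801100809405002200008008200)))) (.node (.node (.leaf (spread 10 9 0x8c000024032044030000000100000a822000004040a0041020440000808c10220004a01404201000cb0000000088001190800009)) (.leaf (spread 10 9 0x80800b04144002122000000c290004001000008003420028001012200800018560014002100a0001280011002000232002400))) (.node (.leaf (spread 10 9 0x800000040c85420201080002a00800800017030820040006000001102123602100010000b8100404002000400000005484000220)) (.leaf (spread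 10 9 0x600832000000100f0c400b8700008000012c080144400a00004014002043800080003080000020000000411000005021400003))))) (.node (.node (.node (.leaf (spread 10 9 0xa800402040000400100212001000240003440210040008242306000010090089402700000040808005000a62004000140400011)) (.leaf (spread 10 9 0x44080020040080000a021840a040020000001103080001100000080010800900008118400040282884086000630001c8020c0810))) (.node (.leaf (spread 10 9 0x11c802020180003841000000400348801c0080180020000c5300048002002000084808400000124500000801e4000005000002)) (.leaf (spread 10 9 0x10001004000101300020112080010008800600a0029000048014201032821000210088440600202000080402e000b0000009020)))) (.node (.node (.leaf (spread 10 9 0x618430100000010004060240002220008a0801042412000001a0210ca014001408022240040000021080404000002102060)) (.leaf (spread 10 9 0x1000088000040044007008010000021800021050030920082020500801400002040000420139b200040000184600000419200200))) (.node (.leaf (spread 10 9 0x44200a08010000600100200092a44200000a00000500a2044104000300010000000e58000a050007000008004084200404080a)) (.leaf (spread 10 9 0x20044000802000a004023900001000300002008224300c080400800004840220000020200c02000000a0a041014400626000d04))))))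 (.node (.node (.node (.node (.leaf (spread 10 9 0x201000010c400a000021204100000100000042020608020040501b6010400006068524280000000002101008208422100020801)) (.leaf (spread 10 9 0x10880203c0202030600149820000408000808010020000090028004282412020049048080840000002180000002008c0006020))) (.node (.leaf (spread 10 9 0x102100040124000d000100000800822404c005d46000001802040200404100480020005400602808006002001041a00000060)) (.leaf (spread 10 9 0x8100900800101040001038400400003188c800400800c000058220150810000105000410000200800080454084580b0000)))) (.node (.node (.leaf (spread 10 9 0x112090802421080082000008100300100000208119000020080854140a88001200820100020821004000e00000410480800408)) (.leaf (spread 10 9 0x4428602110011d200001001420002111000050010000200002100010900040012001810020400222000848007000a08048000028))) (.node (.leaf (spread 10 9 0x8000d208020000428001004014100002020044218103010410000502401001050800000026012001210120031206028000100000)) (.leaf (spread 10 9 0x10008040011044120832900000184240000088001400084480342440000100088a4000002140001a0402020a02010000290))))) (.node (.node (.node (.leaf (spread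 10 9 0x20069200000082021130804108011008081124000540c0000040000800040240851200100b00200001400012001300042000410)) (.leaf (spread 10 9 0x20a00080120806046060004180008010106a001144100008814000000008800014000105104c08004000c400840001c08100000))) (.node (.leaf (spread 10 9 0x101040020824150202120c24004000600008100080004000884d100400000101040021001001068409040401200282030000010)) (.leaf (spread 10 9 0x2883042000000002a00200800700009954200410008100546000400800080020000102b60401000812a00000200100a80400)))) (.node (.node (.leaf (spread 10 9 0x800016424010100400400010040000020c00835040206180d020082010c11300000008200210010424000000018100440005008)) (.leaf (spread 10 9 0x800410002244128040146c4000000014850000000000018400420200100802107102400000880912060882010002005000020400))) (.node (.leaf (spread 10 9 0x103884004880012210288a83000110700040008002c00001812002000a0801000000060a000000810008000010020408c2000005)) (.leaf (spread 10 9 0x418004004800000202268410000840000000023442004000008012020040a018201910202042000210325210500a108)))))))) (.node (.node (.node (.node (.node (.node (.node (.leaf (spread 10 9 0x10244100200041602c2040424048290311000221a000000208000101021140002000400084082820000000821800100100041))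 (.leaf (spread 10 9 0x24208000000040020010000020206840108084000000002080204000040800c010404a0088110100a0020b9100a8184028081240))) (.leaf (spread 10 9 0x8202a820000000200204060c408010000000008411821000880010000380a8201140004108106000080404022c01200000064080))) (.node (.leaf (spread 10 9 0x402184a4001100004282000008044004040000088042000420881400a06204003018090100081801000104a40014800080010000)) (.leaf (spread 10 9 0x8062c3080200040220c110200040004b00090041200000008060000300080022000002310400840003000004010403b004000108)))) (.node (.node (.leaf (spread 10 9 0x3428410000020002200088820100002004010002004000001003208028120a08500085402800c00042c000000413240400400005)) (.leaf (spread 10 9 0x8180000c00002a04a20800040010201021002880104400013240208000000008010068520008810808800010208402068001004))) (.node (.leaf (spread 10 9 0x1d1030028001880008000004500002000012028134002001903800000020000031008810016002920000080100c040b000000024)) (.leaf (spread 10 9 0x20006000000100400108009108a40048a8a08261000000402000c010100002005048080b800000814007408108080020002200))))) (.node (.node (.node (.leaf (spread 10 9 0x200840020002904021040240012180204800100400340108b0000102080004008000c14058080102000010201090012410080001))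 (.leaf (spread 10 9 0x33200c081240080400840000030201800004820c8008400010000040408c00400000450200003400901940008100040010101120))) (.node (.leaf (spread 10 9 0x8080080400a080800800603a820200400004400000814104020052820000821051002080080000212a010280140200001100082)) (.leaf (spread 10 9 0x20401400000000e0001102081002120041020000800500000004040499002002010850008011048084005008141141020300504)))) (.node (.node (.leaf (spread 10 9 0x26002c2050800000129404080000020100800016910011100000000021d020184000010840022084a00840000100012804000410)) (.leaf (spread 10 9 0x82680106010000051c100180002000006102e10004002800000600000000a0020124020100000111004148080822020c00250000))) (.node (.leaf (spread 10 9 0x1401003032008880090020400400220002040000104d8402000800090040150040480401405220200184000010011600a00)) (.leaf (spread 10 9 0x50100000100444000000010134800002601102101000102402900010040000000110a180034800020058c800108300a200404100)))))) (.node (.node (.node (.node (.leaf (spread 10 9 0x30044000080000c02020d09828840000488020202008003102030448008200081100001024000000500005002400100080c90001)) (.leaf (spread 10 9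 0x28008082088010040200841000e402001611000180100000043482004000008010200045a2810000800a00408828044020000040))) (.node (.leaf (spread 10 9 0xa8001104003008108040000220010001808012404044502000040005820484001004b000008060010b0001088000900050080010)) (.leaf (spread 10 9 0x8522000000010800000620000044010050a00400200080000000050810649500400040010040990350090012022088030402400)))) (.node (.node (.leaf (spread 10 9 0x10040400030024c000308001042000022800000012a80001220140080002946100c0080020a03000240004088400805100000018)) (.leaf (spread 10 9 0x6880000000308001804020100400810240a0008238402001600082000400c0684000005414040800011002090042800030008))) (.node (.leaf (spread 10 9 0x2210008890c0420a00101881000200086010004020000804204808050270050084100400800010000500202200c810080200)) (.leaf (spread 10 9 0x860015040c4200030810030008009200004004802600000800204210004008181811500000c00004080020009808228009000))))) (.node (.node (.node (.leaf (spread 10 9 0x40408444c8080820000001002200001a80822010000020042688000044000c080090391100080400004000210418080200120100)) (.leaf (spread 10 9 0x10000247001810004024020a000001080000080104200e340882181000180002800888000081002c100201110100400540040000)))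 (.node (.leaf (spread 10 9 0x1811e400a000c001000000c010046010040a02800820020820010082000c00464200800002a8000001080818008410008180)) (.leaf (spread 10 9 0x20008200808388004120202004c000001400428000304200040080000004228a012000000200a01000208424e020004890008808)))) (.node (.node (.leaf (spread 10 9 0x100820200d10220100230210800810420800410200008080100002440101020640050e010204100104200000210100008004808)) (.leaf (spread 10 9 0x2000020a023080000008894003020102120000208080180004000082011500011100000222401200941a2040080c000000110402))) (.node (.leaf (spread 10 9 0x8c800000070241b400000420040602000800410000c00441020210004100944080802a1801000040000000000204208110000609)) (.leaf (spread 10 9 0x1801a00040000f000000180002a00000001810004002800000614000000a262008002000000118a080040c0420c752280802000))))))) (.node (.node (.node (.node (.node (.leaf (spread 10 9 0x20880081040400009030404120098208020000c80015a00090c00048010000108000808108003100000490000848002009010001)) (.leaf (spread 10 9 0x1000200400220401000000010408888222008042100009000200062080284200800c004884000048420100a16840000000020664))) (.node (.leaf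 (spread 10 9 0x401000001c11000200800001440402804046010024008040082001010820420001001000c898020114700801008100a200000018)) (.leaf (spread 10 9 0x9000001a0500000d401a400000008a020c00000241402000101000205000021040001d00005084548024000a010010001400a00)))) (.node (.node (.leaf (spread 10 9 0x80088140080200800821011200841220120000000240080051202000804008004080018e8480c400000a20008002400420800804)) (.leaf (spread 10 9 0x40901000001094800000020012040080104241c024000110002001080040408850040824012200210014000000c0b40000241104))) (.node (.leaf (spread 10 9 0x8290000000c82008800310000100080880000220800840c0210008804002e1800900800d810200024080101008000000880c2008)) (.leaf (spread 10 9 0x809200800002410000120000010140000188000202004441001a100220034180850028008040011000041000a202050104102108))))) (.node (.node (.node (.leaf (spread 10 9 0x10060400010200000080020a840080c2a20080084810005008008440c284928002010005000294002000c0000002300104004)) (.leaf (spread 10 9 0x20041001900000808082a2804180d00003008000200000010322009000060858002002510100200045a0000080240000140204))) (.node (.leaf (spread 10 9 0x20108800008800400840018040c0010014680000005100123640802001001081802a200042000882014000028060004040000030))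 (.leaf (spread 10 9 0x830008102020008c004022009001404a408100420002012080000050600aa02411044004000210200000001118000044021010)))) (.node (.node (.leaf (spread 10 9 0x42980182010180000810c00000800202001100c010162800001400084400000000300a210a800036001d000000c0120000401000)) (.leaf (spread 10 9 0x41d833000100000020001800100001000411602c042000a0800610403000403000410a40001080004000400ac000804002300))) (.node (.leaf (spread 10 9 0x21100080002010890002902084000081001000a802310c0211008400640400083000000806001800000010020104b1100081008)) (.leaf (spread 10 9 0x1104048438020000c080b00080101810078c080800000900010000880044808200000018a0010003054010050080004090)))))) (.node (.node (.node (.node (.leaf (spread 10 9 0x620008010444042010a0054080800088021004101102104000802004124008188100800800401100210004002001022080005040)) (.leaf (spread 10 9 0x104000800000418024802100001820100009102299214840240880000000c05004802000180001b1180000000000450000803080))) (.node (.leaf (spread 10 9 0x6003000b0080000008000023000c2181880200004700204000010480088800000d0310000c808810003028000010010310020040)) (.leaf (spread 10 9 0x480020010140042400a10000200840240400834040000000c8002000200809031018901008805888000002210841022200040))))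 (.node (.node (.leaf (spread 10 9 0x201008a000050810400028202100018100000c000041820410018120194000080480100a0640000142000010138028200000408)) (.leaf (spread 10 9 0x224238000f09000020a1d48800122220000013208000000020000800080005100100100c0000208000020000120101814010006))) (.node (.leaf (spread 10 9 0x500220000809008120a00002101800248a10010210810107020040020100050400040480880400002c000001070200c10100000)) (.leaf (spread 10 9 0x200020480220008810000020a09000000080000404210081440804002000042412820004208802100104100222080d040088238))))) (.node (.node (.node (.leaf (spread 10 9 0x220000004010500082081814900a00221006000002010404860420060001820004000030420e100050002c000000000850001402)) (.leaf (spread 10 9 0x110030004000100401402030000400000240400094052011000002200020000800088844c1200000818300642880149000023040))) (.node (.leaf (spread 10 9 0x8804082404254400400044000100101010020900008200011010000001883021068000560b110040090000002210000409000200)) (.leaf (spread 10 9 0x400010002002001120882210000a00020000808026020180028400020048c280002100004000104848c0040003401400a8200504)))) (.node (.node (.leaf (spread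 10 9 0x80020804304220b002000010910252001000440d00004104000010004020a2c02202010400008028a1000801020400008040800)) (.leaf (spread 10 9 0x40483800000088802920000402020200a282000000000004312801010000002c0846288400028220000801000011401020100504))) (.node (.leaf (spread 10 9 0x80000a40401004041020004200500050034080a0202400240082000014b14280100120280010100001500021010000404002500)) (.leaf (spread 10 9 0x400031001400000443a48184309800000000810804004460070000000000481400000240000091080022100000810000105ba0))))))))) (.node (.node (.node (.node (.node (.node (.node (.node (.leaf (spread 10 9 0x11010a4200901034002002880840004200086190802080884084088005204000006400010040000000120000810010240000809)) (.leaf (spread 10 9 0x48000020040000004500030000020041002000008102008280000140012002040a00a0220015800014a8148c1015200020664))) (.leaf (spread 10 9 0x18104080200a000050308821c020801420400200a0024000800000012081018808002212088006000006000420200010800910))) (.node (.leaf (spread 10 9 0x400021123088c1c00004000000a0042002002000000000c4d160000000248064228820008003d404000021002002000003000100)) (.leaf (spread 10 9 0x105000011001011080482a008040002000131520004000014044200201104e2000580510001080108000020000004608000c40))))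 (.node (.node (.leaf (spread 10 9 0x40a00180000040410206044808c040222022000150004008a20000009410408100000a010300902102000100480000446004)) (.leaf (spread 10 9 0x20880001841020008081440002d00000021020980108000020e40284500280800a0004408000080000001000080d402450000048))) (.node (.leaf (spread 10 9 0x9000000007100005900408480006008023011401300c001904800080a4010080100800720401000000000010600002409200200)) (.leaf (spread 10 9 0x40024040d800404082d00400820009480440108000040110411818080041000108a000040000004000009100001004204c02c0))))) (.node (.node (.node (.leaf (spread 10 9 0x80c000040405411400400801006202080402a100840880080002000801002235800001800890002100000008000810ae00000201)) (.leaf (spread 10 9 0x40108404110420400004d00000a800204800004000a0080720990008000004000110094104482010400002601110100000488000))) (.node (.leaf (spread 10 9 0x200100022020419208031208080003080008499100340c000000800004140410000000d084000011004001000104040c8002041)) (.leaf (spread 10 9 0x40640840022100020000100000080004400220091212400801094814280020800400020000108002488844001050050028400a)))) (.node (.node (.leaf (spread 10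 9 0x104912000800420401801801001000190000102840400a100148000004000090149040004c420004080044028801200100002022)) (.leaf (spread 10 9 0x444000400092c480020822000400000040800089470c00040005000000222002011018009001001200224208208801810000402))) (.node (.leaf (spread 10 9 0x2010800301a430802000020000260021800208410110020018000400488044028010004000c904080002044010000101400180c0)) (.leaf (spread 10 9 0x104109002938009e0400000010491000038008000008010000008004000000000105100a20447006018010860080980050000000)))))) (.node (.node (.node (.node (.leaf (spread 10 9 0x40884522a1024014008080840000c04012050440000a0c0000420001000020c4408010021080010000200890000418004084)) (.leaf (spread 10 9 0x2041100008200082408140000018100042000020c62c002024040810802080202010d002121000000000080408b000800514002))) (.node (.leaf (spread 10 9 0x280000090104882000a200100c080001502c0000320260000080052a20100040400081002028008008014010022000014086800)) (.leaf (spread 10 9 0x4088b100010038002000200c040080001c400002012008b085000220a000000024a0428240088100001100000080600081c00)))) (.node (.node (.leaf (spread 10 9 0x1000260c900090144c24140000240289490000800000000021001800800000040082200040224002854101044080010004a0000))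 (.leaf (spread 10 9 0x8000022c2000200100200004007206110001140110041104a080350004020084020040224020004001400000018103008040110))) (.node (.leaf (spread 10 9 0x84000006801804001402410001044c02104215200002400000640000028030080024040501221002400002000102210508040000)) (.leaf (spread 10 9 0x220001400103000e08000050000000002380200000020020000040110108104008100c00000310170040008008883b4840611080))))) (.node (.node (.node (.leaf (spread 10 9 0x4080000000b9aa00000043014210101002940088100000001000008400012012112269000000000002200386300000018004808)) (.leaf (spread 10 9 0x1046200c100000c008a0c40001000a000a100000a2680028000040080000040ca40200081810210004480100580200840010000))) (.node (.leaf (spread 10 9 0x1001040480010042042308000801001080040001008404848010a000060210108080000020200001010110004880010894f0049)) (.leaf (spread 10 9 0x2005400000600082001120001084002000400002202410890840002400400200028c230468020200019200002000b2010009020)))) (.node (.node (.leaf (spread 10 9 0x80000c000408000004008042400600160000305201012000448003004442000680400012000a425000800030c000181208000012)) (.leaf (spread 10 9 0x220000240008000100181000010000820044000008a19604000401103c082049104000000540f00004000422808220010011080)))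 (.node (.leaf (spread 10 9 0x41000088000400050045281200000600012200101091000104201741000010804080806120010200c00300044001804010002080)) (.leaf (spread 10 9 0x21204818120c0800050400000000280000000408000000828000000000008740200808a284114c209084400000631801a1000000))))))) (.node (.node (.node (.node (.node (.leaf (spread 10 9 0x810000022080503b3001801808000000004000000a0300084803000e008000040060604002c000118062a0000000008e0002001)) (.leaf (spread 10 9 0x811088000044010000408210000020010c0800001400410000100b00100b8a4148054020104200a04000000410010146002022))) (.node (.leaf (spread 10 9 0xa0021c06044204200000068024008301110004280080000020002a0000a2020008018000100ca20200010044041800c4002000)) (.leaf (spread 10 9 0x200402004004c4000000020c10000000500201091400000084102a04000600000d110194030000c1024408020240801001801100)))) (.node (.node (.leaf (spread 10 9 0x140005000800000280c20809600000400005900c100040048010001c20804810240000580401000001088000e40083005400001)) (.leaf (spread 10 9 0x4020206008020000008200100c0a1200804011000800140000a00833204010021100204000000001a0030b56200000200609))) (.node (.leaf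 (spread 10 9 0x20800c0000004860090c0021400000002028002040024e2446000005002048440004280400a10008000184108000450005008)) (.leaf (spread 10 9 0x20c000042040000008800084014160000e1800a0400c00400409011880000e0c000102020010200510008204881800200088000))))) (.node (.node (.node (.leaf (spread 10 9 0x202000100083420080080800305340200c024040200c00800c02200000212a28000080001004a030400100100001004b00000204)) (.leaf (spread 10 9 0x2053c212025100010282900880440000040001280400080200012003000040001000800c0008104a20000050104123000024000))) (.node (.leaf (spread 10 9 0x444000808000001881000000002241800080080883300c2081c8008262000000092006000004188121800000080120400800a08)) (.leaf (spread 10 9 0x4040040140400001491000004004c004826205400080000000020901418011800002202828c004002000c01100418080820100)))) (.node (.node (.leaf (spread 10 9 0x190400208000008011404010c002206000801000240000018002081804a200041921015603000084010100002014002001001040)) (.leaf (spread 10 9 0x19000900000400080140420410084140818110400a0041480c80000c8c0400001000000900002204050020092224080410000000))) (.node (.leaf (spread 10 9 0x1040400c420002400000001024208000004080601912012102000f600000100048000800a62400004000240c2001041401002010))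 (.leaf (spread 10 9 0x2000200ac0a10040844800018003000010000410008002800080000122004004800240a0a0010054000118202800042240300a8)))))) (.node (.node (.node (.node (.leaf (spread 10 9 0x1400080100d212102401058002800005010001000e2000104010181800000004000024810460800081503014100000200108001)) (.leaf (spread 10 9 0x1c00202014000092002000408000040d0a28020000020042000d3024020108820800012010010101001844100020020400020142))) (.node (.leaf (spread 10 9 0x4004100a080000800005ac6a0000200005020a04520100000041045080003000040052040008102002401001002200021200a040)) (.leaf (spread 10 9 0x20000000090100118c4001c000090001a7a000080841102090400050000010020120020400c03020004010000020900001260210)))) (.node (.node (.leaf (spread 10 9 0x26001a040860000000100000018080080800008042320302040060c00a4800000031010090000901290230010084002100201)) (.leaf (spread 10 9 0x7408325a3780100c00002000109c00000028000000004400d00004000000604008000a2013000801a000002000810021000003))) (.node (.leaf (spread 10 9 0x10042201102080400808a028011088080050802000840008000a428110210482000080000004000909180001172200400100000)) (.leaf (spread 10 9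 0x2400000e8002a408010088400100800012081010844088020002400308060002001000000000100200002200008129040c464085))))) (.node (.node (.node (.leaf (spread 10 9 0x202004000002c810824128040048010010008802420030192003800a044041024000280810000054400400000017000000044)) (.leaf (spread 10 9 0x30020902002010330200400000403302230020a4080400002040020090041380100000220044080a00200000a4000004128080))) (.node (.leaf (spread 10 9 0x810004101b24421000000080200004064001041002141040802242002a000220010c00080000424c00210104040020900000440)) (.leaf (spread 10 9 0x1000402040a1000080000088010001080200000200800120008054000401201222002108040440a10080914002148400c404b2)))) (.node (.node (.leaf (spread 10 9 0x80000a680100000220080480900010048010120040c20400002808404180202020018040983010100800082120c0001000800024)) (.leaf (spread 10 9 0xc0944440204c20040082001000020908000482a08008100010000040080c21000000012080000020000080cb0010400800804253))) (.node (.leaf (spread 10 9 0x400444000880000200480093280a01010010200026800082120000800a1a400010210100210000340000000060126000880000c1)) (.leaf (spread 10 9 0x2800000000c002a3a8000033000084810080000021000000020000201000040948010094000c1090220120090116e0a2))))))))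 (.node (.node (.node (.node (.node (.node (.node (.leaf (spread 10 9 0x21a000112600800400402428030480420018018200224028004000500060004003400022450002088000080000800044010101)) (.leaf (spread 10 9 0x41120004180060040180000002100000000052800000024400140028000000310400020a001013a00030951204921280110800))) (.leaf (spread 10 9 0x40002218104202401002200108240208c000848002041020d10842808000000100000008010a410414080101100000a80110000))) (.node (.leaf (spread 10 9 0x14109012c4100802200400000000020cc0002100e20030000c0100410020000800c00884c0040202010000200a11408001120000)) (.leaf (spread 10 9 0x404030000000400800022442004004400140200012042011040000190100100008004420a10050008067403014000100408180c0)))) (.node (.node (.leaf (spread 10 9 0x80080440024020000004200012000824041088048001040008490408180c100000054002803000100a48c0002020001210805001)) (.leaf (spread 10 9 0x100080000200448420005040010a01a080800c0010042004a14200050000900401024120019020800200010000286001210a00))) (.node (.leaf (spread 10 9 0x4620008014028122010000052800040e0004000440093062104010a0800001201040810040030000100101402000290110000)) (.leaf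 (spread 10 9 0x100080688048c0818808000100020020000000432010c1800802200004a010000050004010c00849020150006005010000000a40))))) (.node (.node (.node (.leaf (spread 10 9 0x904100844800000400000002202000008022a3d00404102402820812401420000000a82080400c051000800a1000000c00004010)) (.leaf (spread 10 9 0x88020001580c0060004201080000140062010a10040006b034030000000004400904000040204450210003008002a0100200000))) (.node (.leaf (spread 10 9 0x4800220090040102000108068110a84a00c000000400410808041405080104011000a4000009040c0002100202000c000880200)) (.leaf (spread 10 9 0x54002200000010000208000000802022001080100002046002910b000080482023808204028004012009002004000023111170)))) (.node (.node (.leaf (spread 10 9 0x6040890010000000080600028020040010280000024300ca03201028002000841080802084054042820640000028004020800040)) (.leaf (spread 10 9 0x59088000830000200002084040409000000000002c420401880010004020c10011403018091000a0042800000101202842000410))) (.node (.leaf (spread 10 9 0x1000208810082000410040e0200400408e440000840020400004402202002882425100a0080000000080200000908011160200c0)) (.leaf (spread 10 9 0x127caa2140a51102004121200025280200000041020000a0800000001000040000000000000000000000000000008102460509af))))))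 (.node (.node (.node (.node (.leaf (spread 10 9 0x40980012401000200120c0008a0100800080208010200002012a4a80048040940804066002000020010900000004201041200004)) (.leaf (spread 10 9 0x3c0010000200003020040100600c08d00a844110000080150002003808000030000202980c0080802282000000000c0128080))) (.node (.leaf (spread 10 9 0x20200004001010080000000040200c00808000000003000328200c420028010864690008080201c40003040008080620128381)) (.leaf (spread 10 9 0x4804801a8042344100608c40400000000020c0005020040001884000000240100000120800141420200004008000a83402004040)))) (.node (.node (.leaf (spread 10 9 0x10400848802040421080041020118010004010200080080810180800004000122ea000008838800048100008024080404000a200)) (.leaf (spread 10 9 0x100200020230804910070000142000e904140400100080019a080000b00010800000080220200090000044080000481208200012))) (.node (.leaf (spread 10 9 0x60500c00c0042080202000280c0000400280041210000010000028100482081c1004a11002000080024809400611000480200000)) (.leaf (spread 10 9 0x1020012002204010074840008410100202620600000012000081d2000200410488004008a000000400800044040880041006440))))) (.node (.node (.node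 (.leaf (spread 10 9 0xa00001c801020502200810080010282032000b00020000003020200000400008892510000100428020100a1240028000c020004)) (.leaf (spread 10 9 0x400d00822040e4000909891004004c028000800000000000800a0008000112220402000804408a403010c01200840080000800))) (.node (.leaf (spread 10 9 0x82080000090020a080a01020602000800004040800a000403a8412100140220000032004000002070040424504201041000004)) (.leaf (spread 10 9 0x82062821002550000010210000040040108800000000008100204042140805801202420408040810100010b00202040400500410)))) (.node (.node (.leaf (spread 10 9 0x400002448020001501000301220240028018000840810000250080000010002058006014044a8080000840000089008100514002)) (.leaf (spread 10 9 0x241004000000411090d0083000212803808021051260102000000020000000a50040000100b02000a00000010000900600410c10))) (.node (.leaf (spread 10 9 0x200180c088a800802800080060080109000020000190c0020200002004885c40081200000008883101c000010800450000001080)) (.leaf (spread 10 9 0x200883001000103342000200901000000144800008054200004210000c120008d001000064000002100041840002800a0b8400))))))) (.node (.node (.node (.node (.node (.leaf (spread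 10 9 0x108100800201004008150000106040204a1c00001220c0002002100002421520140801400008120000040020921000000c280002)) (.leaf (spread 10 9 0x8841100c400020000410000428114050002000201404804220082039002010002040420208020001800410000c8002908080040))) (.node (.leaf (spread 10 9 0x85080100009804080000000d0180814a020008820200003000400000c800200402624608040200102040185010000414000500)) (.leaf (spread 10 9 0x48001004900800a02c004030106a080200c040600100051c000001401000050202008000002102000500060010241100408400)))) (.node (.node (.leaf (spread 10 9 0x290800209882040a000400020980a08820000000000a0022c8100005080409000020e4142080002030600000008040041000100)) (.leaf (spread 10 9 0x11000000000200002580000001008000e0000004004005441800e040040002068e0004610000c400108080021614046001432))) (.node (.leaf (spread 10 9 0x802000444404021104020850006000d22000c00000c1000c4010480840004014c0008020002000010408220850201000240800)) (.leaf (spread 10 9 0x440800042002000400801040000810200005004400880004002d081830104816020000020408260100818403800020201801100))))) (.node (.node (.node (.leaf (spread 10 9 0x58904100a0028050000234a050012000000020005202000002800208951010c1410000001008340001088088000008080040))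 (.leaf (spread 10 9 0xaa001300101050000000008c0000a02000000084018120000001000024435014002000b0800e0008208820244100080804090010))) (.node (.leaf (spread 10 9 0x8104082020654000812000000008400010114010004402014a0101212208400002001404184000040000a0010f24080400200000)) (.leaf (spread 10 9 0x44010005870121008921020120c00000001c10081401010a00020040090300300008008080000000000082000808100414110006)))) (.node (.node (.leaf (spread 10 9 0x24000080070080118240200000280440001108004008100003082020140214100042000f00042640058042000000251009)) (.leaf (spread 10 9 0x2000000440001820010000081808c41040200000104020204008160120001022014011800c1110805400448000000210008c144))) (.node (.leaf (spread 10 9 0x80a0000802200040c00110001000004820000001826f01c400100491068020000000101140008580048200004040220020140008)) (.leaf (spread 10 9 0x6082400040e002007900200000000208c200430000c00080109214200500808120000400000840100080204001210005808108)))))) (.node (.node (.node (.node (.leaf (spread 10 9 0x28309804204412080016084000818049060800000021400200184004220000000000006102000310400001800426012000048)) (.leaf (spread 10 9 0x48423140080000046040118000130001001000080041400080404101801002020c040a4000c2244008000100010100100018400a)))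 (.node (.leaf (spread 10 9 0x202820a02504084001150061000000000000182600034001000a4015420041048000320810000012a00010000402420000804)) (.leaf (spread 10 9 0x40010008004009000020000060c080180001840810009000c804040101021d099102000008302100100444081000022604800)))) (.node (.node (.leaf (spread 10 9 0x1810000000048a20c41028c14000001000100010200a602880401200000800000012240801780000840828041002400024800004)) (.leaf (spread 10 9 0x1080009105222a010010410000000e000308000410040001080000890200081010101160004141020084000a008400440205008))) (.node (.leaf (spread 10 9 0x3000000400024a5000a51206c2040100011000008c08828000800468008800000020001000000108188001000540220060500100)) (.leaf (spread 10 9 0x2020000000082443064142801808000a4204030c0844200432000000008028000000810020000854001044050004480b0000))))) (.node (.node (.node (.leaf (spread 10 9 0x11420884026004028024820200814100000400004450120140800000422820000000640001000409102821004100800840080010)) (.leaf (spread 10 9 0x881084032400580824008400000004258100011000810201080000400500100040c000300100024800814004d201010000010240))) (.node (.leaf (spread 10 9 0x61000900c000001402044001104005000090000080020271000000120352001420100400800600802c000000010201582801202))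 (.leaf (spread 10 9 0x40802220003110020840121000000a220000000002800a0005b100000142801620001100000442900044000000040831800170)))) (.node (.node (.leaf (spread 10 9 0x2000421020020000001814000cc060042310084000000020002c0a01c008308000402142880200090400088008480800000000e0)) (.leaf (spread 10 9 0x80420200080000010001028700804030100808c000800000010040020600000000004c2c80008d8013080020010080ae00410c10))) (.node (.leaf (spread 10 9 0x120024040288040002109060100004a08408020100000080404208001306000402304800400120801620000302000008804808)) (.leaf (spread 10 9 0x241110062000012840008000880110845200401082010000220048400c0000000242402000140408010100080001618005008108))))))))))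

/-- Part of a table. -/
noncomputable def fixOrbMasksRLR : BTree := (.node (.node (.node (.node (.node (.node (.node (.node (.node (.leaf (spread 10 9 0x2444c30040a0008021862410100000012029111081340c0080000002008044010010200000080200000000900100012004040085)) (.leaf (spread 10 9 0x1a010003402102100068402000008004440000140030080400000000401001000000082080804c24d00449020046520108004200))) (.leaf (spread 10 9 0x10041440405220110004080800080081400400021010205460040618048442004800028001000890210000040001880014004))) (.node (.leaf (spread 10 9 0x450104110000010410000284181e0001220000822000210005280d002809000402402080000100420400041c1400000200440)) (.leaf (spread 10 9 0xc855002804000c090008c48010000005802000000832800200082000001102000208004001110100209200008280000c02810120)))) (.node (.node (.leaf (spread 10 9 0x122001060000000022010001030000098100000000100000704223243514912120024000c00020180030200000200001b00082)) (.leaf (spread 10 9 0x404100020161011a2802800004001004004808000120080401002001944400009900120000201800200010b0400001189820000))) (.node (.leaf (spread 10 9 0x81104080121101c08820002000088001104203014091a00401000140121000412001088000044000206008000800011500020))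 (.leaf (spread 10 9 0x100100a040011010440802a21000038000000010100000010491012204002110028050040500c000264a800000800030412010))))) (.node (.node (.node (.leaf (spread 10 9 0x180000002080495804320603010010440100410002080000240043080c08000000100028006030000580404c0401020040008004)) (.leaf (spread 10 9 0x4000810002040000002050204062050008000000c904066141604000000014806800a00081401000a0812800200042004001208))) (.node (.leaf (spread 10 9 0xa42604000038a0421090200006020001108002041008900100004000800405401001008008002008a01301080008400000000432)) (.leaf (spread 10 9 0x1024004940028208800201500440811001040000000210880120010800048402000880041044000958000400062001004012006)))) (.node (.node (.leaf (spread 10 9 0x408801290008000100101080004441c01c42000469c50440041000000000060000c000008070002400000426380000001000804)) (.leaf (spread 10 9 0x10800480400000080200040a404120802002144802300d01010200686000800400100800000218000042480910202c002000048))) (.node (.leaf (spread 10 9 0x11884808800600404001000102808000140a0804040000000605082001084400c0070020022700880080800200043040080020)) (.leaf (spread 10 9 0xc014000c12000a80081de4800028400040002809080000106007002400000008150400000008000000000000000002080aaba400))))))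 (.node (.node (.node (.node (.leaf (spread 10 9 0x18504a01a0008200080000801940280c01804010000040400004007040000460c0000301011800800108150c800000022001)) (.leaf (spread 10 9 0x1000008104110520000408400500480000881701020d00010041020000200000802130210001408000841708200202002021002))) (.node (.leaf (spread 10 9 0x108800881000040000114a0010000200118400d080d4214c00004009024010221008000108000200000400402041200010264080)) (.leaf (spread 10 9 0x9640c001220000221002600000400460802a040020420000000800304040050140160801700003408050000002081200200)))) (.node (.node (.leaf (spread 10 9 0x8080120c104851022000e004002004800400200008000000502282000440003488021080000a4220040801800400001889020000)) (.leaf (spread 10 9 0x20100000c100000602140501019304008001400800008262810410200000421218002002205081200200040810000210104004))) (.node (.leaf (spread 10 9 0x201a0400041800030002462092400000008002001800020201404600105104440200004050400820408120084008008402840000)) (.leaf (spread 10 9 0x880110010200a000408093a00001010000c024400000002404004042000d0109060d0c4020010092000000c00000002005c0040))))) (.node (.node (.node (.leaf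 (spread 10 9 0x208000a0000000001400c009008400800000a009201e00008422020c440200140e01001000000064000a0008882010b201400001)) (.leaf (spread 10 9 0x402100320008430000a1800000002010000818003521400041084054900062101000020045000020004042421808201010000000))) (.node (.leaf (spread 10 9 0x10040850008401a00480024100001000010008810800a408000008098003000228204810d0100108480000c40800044012101)) (.leaf (spread 10 9 0x2012000410940241080010108442080004025004404000212200020084000444000200040020000d05002640d040440000048)))) (.node (.node (.leaf (spread 10 9 0x808020001004000400200000488200890080900d821a0300002000050080200044080102402810a08220000840000c0804500201)) (.leaf (spread 10 9 0x100800006080003080288010880050009040210410201001200042200c0001050000480080a02100000400042006071104002108))) (.node (.leaf (spread 10 9 0x4100804000010080a0880905000008640200000800000107044682000011200240a201008000004330684004008000812008008)) (.leaf (spread 10 9 0x8002040006000000140080001040008404000010a0150000020824800c000040044440104050024400828100c008000443c48188))))))) (.node (.node (.node (.node (.node (.leaf (spread 10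 9 0x900e0000022202a4001464100150100030a401002120000100025008008205011188001008080000000400002000000000024518)) (.leaf (spread 10 9 0x100204100100008080c024840300088000a0a800a000c0008101000400800097240001001402020000401060880242080040014))) (.node (.leaf (spread 10 9 0x220840410008805488021000480800419028400004046801802004004810000020000412000020100254004c004800090012000)) (.leaf (spread 10 9 0xe684006004000010c1000200014040838022000408004400000020000810040012c81082020084000208002030c210390000000)))) (.node (.node (.leaf (spread 10 9 0x8b0202008200800003005110304024480804101000802810000024830000000000112650210540080800208000400480020010)) (.leaf (spread 10 9 0x24004108220044012010100488e02808008108002000002020400001000000820040001604100801b004002130001001c2002005))) (.node (.leaf (spread 10 9 0xe78000100a1000400004010200068020600c0411605280080000020002000080040800000204130200159010840000008400600)) (.leaf (spread 10 9 0x2820240208800480201680c18010402104212405200000000014000400000000201004000c2110088600480403020020020028))))) (.node (.node (.node (.leaf (spread 10 9 0x101200002088008002020000110180000190a2001020030060100402200180c4018080000143c40200001800009000a012180001))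 (.leaf (spread 10 9 0x4000200080048081021800210d01000042090408c102300419200410000003240000201022028000008041011220000040404100))) (.node (.leaf (spread 10 9 0x484200000010a41106082440208106000400001014064800110000000120100200492220050020300000c0000080c88000000e0)) (.leaf (spread 10 9 0x33a0084a800048100080020068004300205802000001001010d080a000000000410400000008008008102010940000d000404320)))) (.node (.node (.leaf (spread 10 9 0x8101001000641240402100790002202408080000080010088404080810020401008500881200101041a000000104c200000204)) (.leaf (spread 10 9 0x1401018001010ca041820042c0002100020000180000020008020024028f4120320040100000094404201060000008240800))) (.node (.leaf (spread 10 9 0xc00040040101200004032008040010402208000048a2c0408000034200009000400002012828100100051010440000158400902)) (.leaf (spread 10 9 0x14000000015000004020888c0008000000010008000310040010200080108204896040202a010028a443004000726000d04)))))) (.node (.node (.node (.node (.leaf (spread 10 9 0x41040304400180210080280490044020140000008901b300024040010080000020211800a00a0022000c000600200100090004)) (.leaf (spread 10 9 0x218000018110400020440008200000200a004409044294a0300d200000800040080004004100070022102c09440000000488000)))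 (.node (.leaf (spread 10 9 0x8000094810012000000030009820b040308a80006002000000800000193810800081c00000010050384000200208100068001004)) (.leaf (spread 10 9 0x4000b0801440003480020068109b00005942040001004410006090400000400280000200800000440000200000810800aaa400)))) (.node (.node (.leaf (spread 10 9 0x808001280068d10080301010000000408008000422004084400a460424084000c1001004000008020400d0400c01000000148020)) (.leaf (spread 10 9 0x60040000008488a080206a0441004010091008852008104110000510004200000021308000100002010a020600011001004080))) (.node (.leaf (spread 10 9 0x40110488009460014000008200040081806201002c04000000201502401040000048018020000d05081004402090004010010080)) (.leaf (spread 10 9 0x10000080c4a0000404000408040001800640000020090001448c114502490010008008101404002040144001000014a0012280))))) (.node (.node (.node (.leaf (spread 10 9 0x4000012010002010400418804821040020064010000084d0052001460820100400800001ca014000600088004000048040001402)) (.leaf (spread 10 9 0x80050000a4440c0812000080050110000a02100408102020010804800048802100200850400500400112c1110000040002400080))) (.node (.leaf (spread 10 9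 0x2080000000000002084e2190210012000420080400c1004050e12400000250000020412004044004224200044020600210000014)) (.leaf (spread 10 9 0xed031000010000000128400020000000044c941080000800000022ca00000000025a0000001500000080000000008102460509af)))) (.node (.node (.leaf (spread 10 9 0x2004240428010400004808000812c08020114001200400820401060082012800804004088d0080040000508003004000002200a0)) (.leaf (spread 10 9 0x448905a001520000404480004900004000010040002000200009000000200604482104010b484080510100000004000080409206))) (.node (.leaf (spread 10 9 0x1696104a8100481000084208008002000000000621402500000000004220104000000a0312004a42000404020400408000004a80)) (.leaf (spread 10 9 0x48640300000202100100800701080251000f0080000001880014040300000e00000890400180080006000000a3007c0040)))))))) (.node (.node (.node (.node (.node (.node (.node (.leaf (spread 10 9 0x841c11a000300100000020819001c04200841b015a000000200014004008000500a000800201200000004c0014000040c00011)) (.leaf (spread 10 9 0xc0204800000c00000006004403400880200000a8008050010000a00008002810020000450182014261200402200042024c044200))) (.leaf (spread 10 9 0x5008444480404a0084200008400801001008820202002a0040000026001080402081001000292000010d00004484010104a0000)))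 (.node (.leaf (spread 10 9 0x10180009400046020014110048800512480844000000b004208000080000c090112000210600250000000288502a0000200000)) (.leaf (spread 10 9 0x2888002000800000ad50010000452041c0100101050000424000001804210004028012800010804c808014202c0000204000000)))) (.node (.node (.leaf (spread 10 9 0x8002091200021840000800100002020400924008140800414408800004888001228300152220540800000000020044040800030)) (.leaf (spread 10 9 0x800400040000018010024019122004410020400a000600080010104210412140020000288144c01100e00040808484088000))) (.node (.leaf (spread 10 9 0x10508101a00000048008840900900400580245000000090a0004042081024600b0008000060400000a02220000082100280040)) (.leaf (spread 10 9 0x1200800000101500030c580384101073a00004081004024002088000000000000000000040000091080022120000440831a02003))))) (.node (.node (.node (.leaf (spread 10 9 0x4000020208c41500020402a0080008c200a010020464008c0094104000040002a00000020001404008860600820004002000402)) (.leaf (spread 10 9 0x8040008514a4020034100004001408000002880090008081023088114010001000400a14008001020a800840008000100a80400))) (.node (.leaf (spread 10 9 0x8400440000004a90001080c00204a40c001100020220200028000a40805020082080240840620040411100042400000000200a0))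 (.leaf (spread 10 9 0x1000000000000000101000000000200400104208200020284222010104220012880600d4105065840822802b111883)))) (.node (.node (.leaf (spread 10 9 0x80100200101092088200092800008810800405102008404000400020000210c1406400a909220008008000001110900000400044)) (.leaf (spread 10 9 0x8200041000102050010a0000210000190024000104004021542004014044040000044080001069080a5900002020200014001420))) (.node (.leaf (spread 10 9 0x42011400e090c0204e100010000001000440025010000089c00009480000130200220000010480002024800102001008410048)) (.leaf (spread 10 9 0x544008800040029a24200400000800001a84082100000000000180041200000c8104200015000011100a05004051022004812000)))))) (.node (.node (.node (.node (.leaf (spread 10 9 0x42011000450140084e000086209420800008200900014002c00000200400881010000080200284008260002020401211400001)) (.leaf (spread 10 9 0x3222214040000018800401041000050000202808020000000110821200010043083001201c14004110014000090002000808206))) (.node (.leaf (spread 10 9 0xa0480200445000001a510240882201140c0200000010020000080082800200408200500018242004000000241a200250102)) (.leaf (spread 10 9 0x81000584020101000080000810140004060000a081010018a08c0400080081850004450000140021000090080005418000800a40))))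 (.node (.node (.leaf (spread 10 9 0x4000402000201d0041004480880010191200800002088080021081900a3110000000401100010410280000004200708801040020)) (.leaf (spread 10 9 0x40000004440010020004490001080410c0020010010800000cb041400200110200c000930121001041000220cd10110000000220))) (.node (.leaf (spread 10 9 0x206200a0120520104040310000010000004c00021202000410840040102a9009040820100040801044080022000088420108000)) (.leaf (spread 10 9 0x101008000540340c00080001008001004000008c908000010012028048a809401080814600081082051002400841040400))))) (.node (.node (.node (.leaf (spread 10 9 0x4000404001130a200205200c4500401012802481400100000200400400200000220048010000900889010102408420032000002)) (.leaf (spread 10 9 0x20a000146808140041000854c100044201088022008000201002c6020800020104000400080020001480010a4010104a0000))) (.node (.leaf (spread 10 9 0x2080208000040808101082404008c008000a02010200490800e21000002601002410000001202080000428008200489015400001)) (.leaf (spread 10 9 0x502012b6040002602010200000020000040008002a0010002100946480400000040000c040081602004002800a04100a8a200000)))) (.node (.node (.leaf (spread 10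 9 0x8002930620105400144080400408c80000900200100480080280200010002008628080422040040b08002000480000200a0)) (.leaf (spread 10 9 0x208801000114001c8100404100040a0820020c1010100280800080110800a0000000800012225222820000202410028c00004))) (.node (.leaf (spread 10 9 0x10a040084242210008020600220303100060820040000001c880024000002000002404200404148520000001d010040400004010)) (.leaf (spread 10 9 0x800480200100000600000110002000000204400014052020000000a2102001480212800000220805102100001e262a042030c010))))))) (.node (.node (.node (.node (.node (.leaf (spread 10 9 0x428010022010000202402104a1010202140048300200008482800440842080002618210000091008004004000000000206000904)) (.leaf (spread 10 9 0x8002410008020000201000050180001004810038c000021111033080000201100140800000120000488444032800100042040188))) (.node (.leaf (spread 10 9 0x800020020022800900000000a0820000900114059404024001880800040810802082022288400010a028080002004a0080800a0)) (.leaf (spread 10 9 0x80610002800800000c00140062000106c001a15100003203800100020060000a2080003000000611204010051800441000000000)))) (.node (.node (.leaf (spread 10 9 0x88031000080a212089020040000102004400481500e203100000000041100400000021089580002801322200000480000080040))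 (.leaf (spread 10 9 0xa00400000016081000200084020100202b01000048052220001000c920081110202090001082000108040080090c080003000090))) (.node (.leaf (spread 10 9 0x6000010440004008002001241000211090020410080041408480200419880041048000190a000100280009200410040020201040)) (.leaf (spread 10 9 0x20138304098a0f088000004008a100020202000000080000000012004040060004040010018800802070108200b650004000000))))) (.node (.node (.node (.leaf (spread 10 9 0x1042010c24000a041000068100a1802080800190008000d00400040012640080200001140003240c4000800040400008c0004)) (.leaf (spread 10 9 0x80801400001108041400004040008000030800482114400058900008440129a0101008a00002400002020000102284400814008))) (.node (.leaf (spread 10 9 0x304100c040088080240000800028000800000070208a012201068041818000002000200830540811300010053000001000802000)) (.leaf (spread 10 9 0x44810580295000004120240830040820200d30200008001082001440000001010008014000000a01000005000010002004818206)))) (.node (.node (.leaf (spread 10 9 0x800440140030002002100220000040201084680a1026020200000080040006809400027140180400004080021418000201012)) (.leaf (spread 10 9 0x2084100000080218040c002608010010008400014840018014410004810100880040a200010401a100000110021480800400a2)))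 (.node (.leaf (spread 10 9 0x301040cc000800000501180884100c888000020000080042000009006200000004200a1a040402c04025400608020000020801)) (.leaf (spread 10 9 0x4440200000048080042080098030000084832260900010400040000008020b200089082202200004805000a8800000412210)))))) (.node (.node (.node (.node (.leaf (spread 10 9 0x1440000482040140000080040401440020024820008400400838c0981002000200200a060404000103014003080110400880001)) (.leaf (spread 10 9 0x340804006080000010400820a800000200008403004000102000100020000810014000400113c030062050400740002410700410))) (.node (.leaf (spread 10 9 0x102002280240800820080000020211034401a20220800088002100420140000a0000844008c0140002c002008044040024000c00)) (.leaf (spread 10 9 0xc00000080284e800800803080000048010008207100c20240001100008c021010080080240012048005224002180b0000)))) (.node (.node (.leaf (spread 10 9 0x80200008420200a409091780200000c80000010500002801408210010040040000a401110004c400004000c00028420200800408)) (.leaf (spread 10 9 0x10000001400a80660d0219800000090400400001049404908400202000040400004904008020001901300040100400200106004))) (.node (.leaf (spread 10 9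 0x810000008021002001b0108002d020000020207042008000802c4c0000004004c20005421100000e040080100404000011201040)) (.leaf (spread 10 9 0x60000000000000000098800000000080c4802008469016912200409080cb8031cb0888905253))))) (.node (.node (.node (.leaf (spread 10 9 0x8a0010004240200000800230000020d00804204086080000204080a010491108004208408004010c0010100100cc02100020001)) (.leaf (spread 10 9 0x1000002000a0108422200040004010010890822000100088081102006845028a0120000104010400100007200020208001810840))) (.node (.leaf (spread 10 9 0xa4220000202041b40000011201800008000201200a200081000010080090200162c004442200460081000000300000088008061)) (.leaf (spread 10 9 0x1100202400810000400040004084180020000400001020c000041011802800029200108011400014800180a098280370142)))) (.node (.node (.leaf (spread 10 9 0x1002008020824140841000102010000080000426060004002c101002004122100400006010081230431000000308000068201004)) (.leaf (spread 10 9 0x1040000800410048410240902006a4420a40082000006000004008000382800809000004c1200000400341190000002002402080))) (.node (.leaf (spread 10 9 0x26042821002510210080a1042084100100008c00000040800010000018010420804000230011040101040000300120818100a000))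 (.leaf (spread 10 9 0x419200000040200000008240001020000000000002201e8800100004009090114044000812104aa001e0084001610024880240))))))))) (.node (.node (.node (.node (.node (.node (.node (.node (.leaf (spread 10 9 0x11a402040201428002480002429210c040454800000808001208212203010000100061000000000080800084000800240000086)) (.leaf (spread 10 9 0x82802a800000001180000040800001040074000020000000a306002400002200200801000400b00020780428429206a8c))) (.leaf (spread 10 9 0x3020037605000004001012000000000281500800010042801000d43c0010420000000004000800e0080281401101001104100800))) (.node (.leaf (spread 10 9 0x489020014d2200000031200042000100021021801000020048001000000a2020a6204160000009280001020e004120080002000)) (.leaf (spread 10 9 0x21020001090c001000440202100880002100200810020400140c40021012144408100181082040c04c000000000802484088000)))) (.node (.node (.leaf (spread 10 9 0x40000100100004125140040022041c00000800000318048007141030000012000800c10010400002202c481010000c8000830002)) (.leaf (spread 10 9 0x2a0200884100236a4200000000100800810022200010000039010011142000008800088440020222020000800a000008a8000504)))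 (.node (.leaf (spread 10 9 0x4000002b14028900003040040001140808008940000810400000240600405c1400012110010190120800000001000408022820)) (.leaf (spread 10 9 0x1030004810080008222384082040a000004810208020008844020080280000000602000010c0008108028401102a00848000028))))) (.node (.node (.node (.leaf (spread 10 9 0x40c00403e0401000000002000008080000a40931008e0202080000428400090aa000211000810018004200040410000140800202)) (.leaf (spread 10 9 0x200000aa62001021000810022028000805100020001090010104b00180000080400000522226020090002a880800000200002404))) (.node (.leaf (spread 10 9 0x49500200010001210181c00400815001040418400200480000102088080100208018080180000110a08010010200100400500410)) (.leaf (spread 10 9 0x20000000c01008202100200100001800006052020010020004081a00460404040048200881000108022020094048800004cc144)))) (.node (.node (.leaf (spread 10 9 0x400000000001a0020610480044100181014941010001150411000c0040010d001001040204000008200041280308020000022801)) (.leaf (spread 10 9 0x4000400000850002c0000000460010a0904009a0081008032000003021002003000022000224494440000404a00000401d100020))) (.node (.leaf (spread 10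 9 0x5210400004200008402aac10001100c1030800000002009081000000000109040800046053048000640030800220020140008)) (.leaf (spread 10 9 0x8001810000008041000100080000001000003080050710c4002010b010802204900020000425b400140100021628000003004080)))))) (.node (.node (.node (.node (.leaf (spread 10 9 0x1002182180c200800080050081a0180200010018a804200020000200c0628024240000001008800010402890080600004004001)) (.leaf (spread 10 9 0x810490000100000000005400200080000620000204e82520284002a451044000004a000202000882002002000003406040200902))) (.node (.leaf (spread 10 9 0x160092400050000021800040060040085280000842100045040088000280008602500208002088006182000002000c0a04020)) (.leaf (spread 10 9 0x84280400000800650080442004042090900008000000004000800210400524ca403222040002101080401040c1000900000440)))) (.node (.node (.leaf (spread 10 9 0x91808800a01000100000082060c0150140000000011240200200800101044c00014e0000400060a00a2012060000004810600000)) (.leaf (spread 10 9 0x4000100840002111ae000200000a080222a002200010008008010000952040008530044000010408020204001040040005020a10))) (.node (.leaf (spread 10 9 0x800088061006a8a05400c00003000140100010800000904006000800600050001010022448000021280c5840041000108000000))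 (.leaf (spread 10 9 0xc04802000000042000051002028020004018000400808310804040010800002004008568300000081002260201914c081082000))))) (.node (.node (.node (.leaf (spread 10 9 0x208002020280c000000001160129224000808a0a4000110013000008a10000085400200800006310044000008001018840110)) (.leaf (spread 10 9 0x2002040e04190000010000b02000a04080140088010020820001c6040103802048002000840008000400600001810c0504040000))) (.node (.leaf (spread 10 9 0x80000080090a000040240000040801200208800000805c1042006620040008018408002400818882812000010040402040050824)) (.leaf (spread 10 9 0x820040400c02000040508902100201040011000a021004000008210000024008800102008032641008820000a012201402880100)))) (.node (.node (.leaf (spread 10 9 0xc0600920000000204206000a480000000810008801410000000002008020000600500a011a844a42401404418000020008101003)) (.leaf (spread 10 9 0x40100001020000804024621000010005200400002180200204882c4501100040005001010002c2c400008800421502044002000))) (.node (.leaf (spread 10 9 0x80080080400200c0868800109820b000905802040000470004000000080080708480c04000001020100008240090020000280082)) (.leaf (spread 10 9 0x80000b0005000194100000000a08021041004200101000000008148000200c000002003a6000004000029306010180411e401080)))))))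 (.node (.node (.node (.node (.node (.leaf (spread 10 9 0x31204041004048100480180078803c004000000080098001308000026000002301340000502001000001440002180010000101)) (.leaf (spread 10 9 0xa0000000944051000090100008000416008d80080001180000000a80d001020402204420100108042010441004150000902))) (.node (.leaf (spread 10 9 0x980400200400242000c04c48408220800000400020061040a0801024000000008a00204801118004040804000e24080410200000)) (.leaf (spread 10 9 0x80922112000220205408c900000c028400004005800021c00000000050040800000101100000442901044028000c10000105200)))) (.node (.node (.leaf (spread 10 9 0x1000000080800020400415140094041210000000819058008001a04484400061041001221000024010002200030302000000910)) (.leaf (spread 10 9 0xa0220000500080018000000000002260024048824000c0000268012041003100400420004104606080400080000c1081f02))) (.node (.leaf (spread 10 9 0x87010000020000024000800c08100202000000864580838c00000100800001810414200424011120054110100020000202808040)) (.leaf (spread 10 9 0x1c0020000000000400000420000cc2000000c20210600900204804004124411000000018000244f2340408000400c02006000680))))) (.node (.node (.node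 (.leaf (spread 10 9 0x80080a54010801c0000108548032000200504000100041240000140004c18a0200010001020010642060000000a008002008008)) (.leaf (spread 10 9 0x182602204000010020414120440328080408000021000a10c000014110400000080400600104140400440240000c024100084000))) (.node (.leaf (spread 10 9 0x4092c0042404c0041400001000200140020004e2000084000041004800002600000049a80010a0200014021008e0100020081000)) (.leaf (spread 10 9 0x8008000408010300000800000288004104a100088040220801401010100200456010010040501121403004284800808100000220)))) (.node (.node (.leaf (spread 10 9 0x200a40000000304204009880098c0022400012000020003c02102044200002040080008101494000402050000494002000005400)) (.leaf (spread 10 9 0x44820040a0400040002004068000004000420410081000c400180080000480210100800200204000108200408129040cc64085))) (.node (.leaf (spread 10 9 0x6000000084068002000000086424040010001400002100a0000010000900000044800880cb20500b92100502142026005)) (.leaf (spread 10 9 0x442020840060040080220440004103000004002a1010010040800000090802100000002980021081200105a20010002005814440)))))) (.node (.node (.node (.node (.leaf (spread 10 9 0x4220200000800002641002101084428204a0020200a0542800c0211028400002040002420000500001880200004220400008010))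 (.leaf (spread 10 9 0x45020080006800040200080041415040210020012821050500001c00128300800080208000000410002a00004041020000082111))) (.node (.leaf (spread 10 9 0x241000240010810000c082020001024111a00000128110000320020040828a5100000000320d02004008080200240000890004)) (.leaf (spread 10 9 0x111000000001810240002c00a12c0230300a118200002100804000850021000001400010088000021000000103a42201018800)))) (.node (.node (.leaf (spread 10 9 0x10001050141000821000004428000400402000080814002004001025000111020230081880220100048403002308218000181)) (.leaf (spread 10 9 0xc080004a40210810820011220000a050008200404200008682052400150006001600100000000000040000200000040254141050))) (.node (.leaf (spread 10 9 0x20485008028000000a00040103022f2020020040c000044048080010020400000206000204101800901c80040210101180100000)) (.leaf (spread 10 9 0x100020040000800101800022410c0200224000008500a0000190042108000104000410120002021010800a008481015200020664))))) (.node (.node (.node (.leaf (spread 10 9 0x800000200020502020108008e8500e4008280408040000a800004000c40c004a0020000424000a0060001c000080100002980001)) (.leaf (spread 10 9 0x20803280032000100008046014010100004800411841400200401400014e200002c00200470028000400401000821000812000)))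 (.node (.leaf (spread 10 9 0x44098020830400080000022000c84000000000000614410940898000000c80040901100008402408402020040300184810000006)) (.leaf (spread 10 9 0x11008c4820420050100440180908400001042040108000202040120020062001400010000004000028191400a140000800432)))) (.node (.node (.leaf (spread 10 9 0x80020442910003201030800046541004000080020120a0000000080010541140100100300001290369000020081000000000440)) (.leaf (spread 10 9 0x20001000040bc280010000a0000020a8800180a80088008020008980e0210001000080010104001020280014a00000480c04c000))) (.node (.leaf (spread 10 9 0x6007802000000002002801800120400008281610008084600188204c1000200000000008401541602002400500c0001000021040)) (.leaf (spread 10 9 0x80220400408000021090820400800001008000b8c0800203000000000a100108400001004100106e0421a0084000400062880240)))))))) (.node (.node (.node (.node (.node (.node (.node (.leaf (spread 10 9 0xc000e001830820004180960402408020000306400004000401002d002000081002a840800300240000020000010010200050102)) (.leaf (spread 10 9 0x84021080000200064034000840400003000b058020000000008102240000000030000004604100d208004040833911170))) (.leaf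 (spread 10 9 0x20420000222100101080902801010908201801a000c0002000084108020500080480081c120000100100040211010d000088000))) (.node (.leaf (spread 10 9 0x4a500101200000052000c000051021210000200000c121008402200020012000402d00000020014820c009200701040480200000)) (.leaf (spread 10 9 0x80048040090000002002000001885201020000000400e02841810ca0104008010802003040004820203200040002010310201024)))) (.node (.node (.leaf (spread 10 9 0x8020401000c0100c0a00018808400000001001024010280003120208c00000810064280358010000055020000060020004400042)) (.leaf (spread 10 9 0x1028100041414080a0008a0200821000000100c1b044000000880000f8480000900200008004001490001090000040320220080))) (.node (.leaf (spread 10 9 0x21406144101200000201158404820080004000400180800228404c1000072080200a040400000008000804408140402840000)) (.leaf (spread 10 9 0x3408000018000001000108010000021010080842084001020100400260600800000010400000d04a0205a0086400400420cc02c0))))) (.node (.node (.node (.leaf (spread 10 9 0xc0001114000280002000000000000040100604460c12088804d20000280004943011483000480440000140008000801003802)) (.leaf (spread 10 9 0x9804084000321002810020c01040014005020005008010b90080002000100400104c000c0470000000402034000012010100800)))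 (.node (.leaf (spread 10 9 0x1004004020190002440000104401482000800c040c100808012a0890014000120804005100041006011000000102214140001000)) (.leaf (spread 10 9 0x442820a400404c0080000000000085812400240000800000280016028040001880218008944850000100008200040000a0421028)))) (.node (.node (.leaf (spread 10 9 0x820004040050421a20802989000004450001000402804011400002060008804040200808080100410041a024040011000008002)) (.leaf (spread 10 9 0x2a120144001142020850910810000c000c0004400004001010040805000020009a00004018402022000882000a2080b0000))) (.node (.leaf (spread 10 9 0x4a00000840602401000010204001401220000c408008200204002ce80088000000100d090082008300401800844000002100060)) (.leaf (spread 10 9 0x8848238800300000218400440000004000000400120000002000000200010c0000009b000045e0006368004420101018dc)))))) (.node (.node (.node (.node (.leaf (spread 10 9 0x40040801001010081200082040000000050000014001450400824c0080290200201a4304080c1000100404108000421440002401)) (.leaf (spread 10 9 0x12944040208c240080000010000508098082000400000028600a0400400040880000001100000442940044610400008002010883))) (.node (.leaf (spread 10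 9 0xb48841000013000044000013004082420000080402c01000051100204100001420280000004800040480a8001081000221200c)) (.leaf (spread 10 9 0x1480ac00225000000b842000040000041070200010000085460404082000c00040000000850c000a011100012280600004020)))) (.node (.node (.leaf (spread 10 9 0x8080088200020c04000008802040400a0d0000004004204c14020023120006400400080c0410020400000184090028090000580)) (.leaf (spread 10 9 0x1010400060004c0a0801025000144000000080182e01806401040880020200080014d010020080000020e200000800820410010))) (.node (.leaf (spread 10 9 0x9000120040402208c20100800000ac802100040080902000010000020022400d0420080cc0012009411000205800008000420400)) (.leaf (spread 10 9 0x500010583010808212102084c080200040000404011009000880000000012418110008240a000001800044000190032060800))))) (.node (.node (.node (.leaf (spread 10 9 0x8208000000080000504004c0a03000128060a00020440042004210000210820008201009a060122400004504000021440000401)) (.leaf (spread 10 9 0x4088218101000800800880600000801800090640680000008a40140001080100002200990a220400040101060000802004c01000))) (.node (.leaf (spread 10 9 0x60101000010010080000c04800848014004820446008080000120108024610400014081110070010000020024000180004600821))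 (.leaf (spread 10 9 0x4800908404200090c20008846090800210001408000440000020801008800810400450004008a000402100c080028082048400)))) (.node (.node (.leaf (spread 10 9 0x4004020002a24008800000012610100040100200004000080c20006023012202002d00001000043440000221ec00000484000044)) (.leaf (spread 10 9 0x2010011000150001004040800010150092400000400400520288420480210508001040261000100901000010c4c00809000008))) (.node (.leaf (spread 10 9 0x104912060200a0290080000010401001060008002014800300083080000401001500001008401202a08022008080080008000432)) (.leaf (spread 10 9 0x10200022800480000300408300084a1042414200088000028000b028040020000808001000000900003000402018a4240008286))))))) (.node (.node (.node (.node (.node (.leaf (spread 10 9 0xa60010002003080844001006221218040406002560c00000004000200211101025012001000004000000093018000a00000042)) (.leaf (spread 10 9 0x108004084002800a0902080014848000210401000400004481100801000d00140000560000408040a1200120420041201400001))) (.node (.leaf (spread 10 9 0x11008112840228008000280040401a000810436040020080141060000050400801400000000401a0002001a00020809900008020)) (.leaf (spread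 10 9 0x2080010002800100188800005020814082088111401400080000011c44843800048000884004800400008100840184028080000)))) (.node (.node (.leaf (spread 10 9 0x42606002002004000100142240320401000010408100014090c908500402040001000508004000801100a800028502008002000)) (.leaf (spread 10 9 0x30001030020190000430000401820001000220000044101800000080400110808014050019d0801ca404200000401a206))) (.node (.leaf (spread 10 9 0x43940080280005c4000000004004080000000340726010880000500000000000a42912466800518080030200000200000028000)) (.leaf (spread 10 9 0x4a21840090680000202000220006c00204c808080000090800082c0000004000050004001040104201009418004020808804200))))) (.node (.node (.node (.leaf (spread 10 9 0x432000844202000508030100800000108142821c0000002004820000001440000882441100009005800144a00490004000010080)) (.leaf (spread 10 9 0x210c188100010800506080004000800010c0410000c028a001000000d30040002004208200a3002c00508000000800204d000))) (.node (.leaf (spread 10 9 0x420220901088210088441240062010000000000081000000000008a02108a8027240000d0002000440010102a280002204800000)) (.leaf (spread 10 9 0x200020884022802001030800800003822300003000b0082201020001008850040004000100020201011000a00809081010800484))))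 (.node (.node (.leaf (spread 10 9 0x420100800c0001aa5010410b24000140000020008031008042a011000000022040020410000401208140022120001040200208)) (.leaf (spread 10 9 0x8001008080210084000809010000404800800000010120802000181014c2040412080110022a908000a0002140300e0000104010))) (.node (.leaf (spread 10 9 0x4400809a80441001009000220000200c2022200042401008012115200000000404001000212420021080000002001042110044c0)) (.leaf (spread 10 9 0xc05400b012000200340000018400000040004004000400000000202040000000030400000008000400520900cea508aec4a42000)))))) (.node (.node (.node (.node (.leaf (spread 10 9 0x4080402000023d8488000220000080910840014240000801a2100410414400880004000000044040140000814020208004001420)) (.leaf (spread 10 9 0x200026000500224204111110844200800142208214408008001048100220010c0003140000022001000001004010430001020))) (.node (.leaf (spread 10 9 0x92020000087020200005201e080c8804001802040006120080031000d0000410001c0040800000000d01000000824401200004)) (.leaf (spread 10 9 0x82440000800600290208010000128010250104041444020888404010000000018404400d00802004002b0201000101920000)))) (.node (.node (.leaf (spread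 10 9 0x268008000080c004082010080a80004080004101082044810004609806000041008000810440840422000018048000080070040)) (.leaf (spread 10 9 0x8509080000840000212800006402000a000080112100028140000103004004400a4e00040000503000c0502000600c0020400400))) (.node (.leaf (spread 10 9 0x400090808008000000000180000081040000a0012100049000207ca70901a00d000120020009001400080040421400002482020)) (.leaf (spread 10 9 0x20000202200004205a06002008000002002100402049204000220000081800100e4110201404401002220448002001a008180100))))) (.node (.node (.node (.leaf (spread 10 9 0x20040c00300008004c0080204002004080880080090500106200720040094582481080000100022108220000000002501000088)) (.leaf (spread 10 9 0x8200000300448081408150004800104290201c0052000020009000004018002000009e000090001208840040823000002480020))) (.node (.leaf (spread 10 9 0xa4120000000001010028000400810040004808020a00200c002012026038100841401302001000010804040238000001800420a2)) (.leaf (spread 10 9 0x544020080a820080241000000044504482001c4000081102050400450008101400100400000000000000410421088082212120)))) (.node (.node (.leaf (spread 10 9 0x400424402409003000080891082048400004008044101880100002040844810400800200a2009084008000005100050080020100))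 (.leaf (spread 10 9 0x124000b4000000803710000200080000200044240400100000d0a000684020004200220052000611900042000000000800a0205c))) (.node (.leaf (spread 10 9 0x4202200008050025020024180040000052000400002040050c228448028004a2100000202010001040240220dc00000000488000)) (.leaf (spread 10 9 0x8d5006a000008100208400200008000000000000000000f0000000000804ad00000465613022300212080882010000265040000))))))))))

/-- A table. -/
noncomputable def fixOrbMasksRL : BTree := .node fixOrbMasksRLL fixOrbMasksRLR

/-- Part of a table. -/
noncomputable def fixOrbMasksRRL : BTree := (.node (.node (.node (.node (.node (.node (.node (.node (.node (.leaf (spread 10 9 0xd2140108008408204108d480200508500a4804022808202002001180020c00000020010000000000000000020000400802810883)) (.leaf (spread 10 9 0x90120811010000200080000006000000000002801040d000100000083028400201089010c348010a104860010882041804440))) (.leaf (spread 10 9 0x1a51402022800000051004141040000030241000010020021000a06601000a00000010520018440001a000100419000208002))) (.node (.leaf (spread 10 9 0x41000000440004c0c10004200100120004000940028a088012112010000234e200005200000001c4240000800004008030102010))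 (.leaf (spread 10 9 0x486c009000008008009008000004402692000448045440040009402110001000140400400108802000804002000081a8000504)))) (.node (.node (.leaf (spread 10 9 0xb02000424000810000000258111100144050000010000449900882220000000000011d0080380091080010043000441000802000)) (.leaf (spread 10 9 0x1008008510c0410084042091000000054800022005010a024000090000010000428028210400c08000448120043003000020200))) (.node (.leaf (spread 10 9 0x110080008003008203200086000805208200820b008020960002802008292400004800120828000000048000000100082520008)) (.leaf (spread 10 9 0x200280880000100041002200000000026246840821000080830210000430004282200440c1021080019420200030080002a000))))) (.node (.node (.node (.leaf (spread 10 9 0x402221201400080802030000088800c000020100c8a02004b8100030108080080098000000009a0100214105001002008001)) (.leaf (spread 10 9 0x20024140202200004201100500840002008916010001832070080840401400100000440201640288000000080020080200580))) (.node (.leaf (spread 10 9 0x1a410028200028400200001220008008114801240000100405000880480021408800002280e0002042008088001002000820200c)) (.leaf (spread 10 9 0x10201c00070984010005000841160010000010890008001000000008b1000000002a200000104400868001840005000300a0016))))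 (.node (.node (.leaf (spread 10 9 0x81001a0121820000049000800400a0000000220206802500060c0001001262068020004080000018000008a0e00a000080200102)) (.leaf (spread 10 9 0x10800601a20090180e0000800000940105000011200b002000000000002048404000220c0850300001a002049010000041840400))) (.node (.leaf (spread 10 9 0x83004410000082080040001120005024001a000000940240009100210c0001a0010600a130004008040a0802080044200020020)) (.leaf (spread 10 9 0xc841c03800081f000400180000004073c00100001000021002d8401000000000408000000000000000501004cc0820a000004320)))))) (.node (.node (.node (.node (.leaf (spread 10 9 0x4600024000005050106000120010a01000c4004140c45820001100041044840422040000201400020088000040000002040100a8)) (.leaf (spread 10 9 0x10000cc00040082100105102280820004200000018900103814060000000081482040008400408020002002900504c460000002))) (.node (.leaf (spread 10 9 0x410804010180100020040840089010000030012250000481a180002000920040801a0040011008200120c00050010204d000)) (.leaf (spread 10 9 0x1020008208200000200004500094000004010003c6000042040180200005200800c08ec00808000003c05005080044000a001080)))) (.node (.node (.leaf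 (spread 10 9 0x49040408012044811005a41000000000202009400120000010090001088004a30440800100580000e0000000800000054340a000)) (.leaf (spread 10 9 0x81800442040380020800080004000000300090000860284000000c0018401106480402213900010020080812000081208800012))) (.node (.leaf (spread 10 9 0x198040b4000020002011812410010400000400000000180240008000024890249819500040000708002412050000004800600000)) (.leaf (spread 10 9 0xe0000000020288c0020001200080a2084080410010a000800002448320000d000000001004285c70081001a801000001006000))))) (.node (.node (.node (.leaf (spread 10 9 0x9800403408a05400009000000200006840080000008180800000c01804b810200810003400008888098010044000022000110800)) (.leaf (spread 10 9 0x230640000608000212404040241422004080200000400a0040901502800019001002040120014c4000a8000021400044000000))) (.node (.leaf (spread 10 9 0xa401010080544248000006044610001008000220000038004044422400c20100040a000002188100102010021102400014)) (.leaf (spread 10 9 0x18224636040300004010005000100000000008000002006000009c250108102008100c02000b000800081c040070c40400040000)))) (.node (.node (.leaf (spread 10 9 0x8000a4420040400801040020014802052050000004050019451000a1100080000400140000200008120100143620100000015001))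 (.leaf (spread 10 9 0x84800000000020800000100002040800040a0000050020000c81021001090a02900129000201401040600904d0001950020942))) (.node (.leaf (spread 10 9 0x208089c30804014000020040008010040a000180080010012010080084a002018400886188000500400080861410000001012)) (.leaf (spread 10 9 0x4050300000001000200020004406000800401040a3000200400023090040000008040802c0021000806009040601101489320210))))))) (.node (.node (.node (.node (.node (.leaf (spread 10 9 0x20402002034080000248034083011000c0018822098012089020040204205008200001000008000000821040102010010020000a)) (.leaf (spread 10 9 0x24008000428040000000000410c000001402000020140000c408e084000000802420001002400208008108998120506100027005))) (.node (.leaf (spread 10 9 0x14041100000148d200208202000108008b000002004c40010201000d020a0000220004003000400180c804020488030840000000)) (.leaf (spread 10 9 0x878100000058000a18002000000010007e8160002a0010002100004080400020048000c000000608000a05001051441004100800)))) (.node (.node (.leaf (spread 10 9 0x410401824000000800129020010c0004984105000312c200000108002200008080002302b0400022000a800800000210800404)) (.leaf (spread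 10 9 0x5420150020000008206002c2000000223280000240000c800620040063000040220040040028380a002180140000000005820))) (.node (.leaf (spread 10 9 0x412000000281008a008000210a0018004000002400022511482801040201006800a068200080000000644120100001048008090)) (.leaf (spread 10 9 0x4a2002424002800004800e180010120088004050080102008720418030008008280001000001000020010070028401080024))))) (.node (.node (.node (.leaf (spread 10 9 0x405001000002881200000443410a00a800000100040481028044040a00200c021802c010029010900800020001004200002204)) (.leaf (spread 10 9 0x410000004200140080020000000b5000081040100048108058410240003161020120441004010034000000800430e00800000290))) (.node (.leaf (spread 10 9 0x2100404118000400181009240488a0408400000000010800860c000018102184483200042000001004640010004082000040018)) (.leaf (spread 10 9 0xc10001004010098808009010020008008800825140020408000918100280004000284000428081000202801805000002005c010)))) (.node (.node (.leaf (spread 10 9 0xa80810a410604400822008040001810000040080089020024080000020c850200000101400006101090481080c00000220020080)) (.leaf (spread 10 9 0x8000080112046010c0809a030100004210000c48024000840800000008001220120830000044000c04081000025408300240000)))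 (.node (.leaf (spread 10 9 0xc000080080800444020052010240300001940000040400040206000410000212400005880819040080020202012000001a80702)) (.leaf (spread 10 9 0x80000a0081000004000400a4000c00200000c28020a01c02204804000404280000000061a000001000488c3a210000082005c010)))))) (.node (.node (.node (.node (.leaf (spread 10 9 0x20100404000401d100030004000201010010441000051022987204201e00000201010002000000004241100c012401000040041)) (.leaf (spread 10 9 0x40800200402002026800f03010040461008040108000081100002000024000062211080020080498140000420070010010c000))) (.node (.leaf (spread 10 9 0x8300001e20a00103802a00000000033004082000081000001a4000402000009400004002800104d44a402000213000020040001)) (.leaf (spread 10 9 0x12800005042210008200060020152000804060c408000000404240001904080010005000680024002020c01460420020808000)))) (.node (.node (.leaf (spread 10 9 0x808800900080008080200158000404080011102101000810080474408441004400000003040280c440040040209000800042300)) (.leaf (spread 10 9 0x100088489848400100820020200200880044200088000020123201000c000d00005000800008210018580a810080004010000240))) (.node (.leaf (spread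 10 9 0x4802022810400001000070048845401004080048100418002409091001000000404000210022402680408000501001800020200)) (.leaf (spread 10 9 0x800400400800040110201000000100000602a0880422250200012012310022420000009c400840030020480000a81402204040))))) (.node (.node (.node (.leaf (spread 10 9 0x40290001704130902884002000049026020020040000010700280008500000e0800100008600000020000000000060839800880)) (.leaf (spread 10 9 0x4804010800800405a2008400a2140a0802a00000002000080c08020062040000002200000410008a30240ac09000040402000800))) (.node (.leaf (spread 10 9 0x3428000004000003041250000000008c10840800000104001241440800004040100ca0000c008040e20681006008000000824005)) (.leaf (spread 10 9 0x102420000a8200e003000000801012201022180004282004840008440000000802061020080020801600280203082250800000)))) (.node (.node (.leaf (spread 10 9 0x240c02010800280203042060166061000080880100801008000a0812024501040210100001008001008400004002801010020)) (.leaf (spread 10 9 0x1110000001081010044004002800002183200008004280000041588650808007080020000021021481400c44004800080012000))) (.node (.leaf (spread 10 9 0xe1a0084a00900a1000000001941550004000000040068070000000010501000000019000408080914c002230000000000000005c))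 (.leaf (spread 10 9 0x8014005008800800b520002100d000000002c804002802000000025050100400105900200088000001000028400c580100a8400)))))))) (.node (.node (.node (.node (.node (.node (.node (.leaf (spread 10 9 0x2044200005092000113100a1000020028c400088047001a0180080680001008080c200000200308000408000000080000404080a)) (.leaf (spread 10 9 0x855403812080800042c41000000400004000058020008120000000010008200200000c0450001112000124510082050004a8400))) (.leaf (spread 10 9 0x5020122000004000420200c008500022000000280040a08000000100cca010110414080104032808200034024020008004084800))) (.node (.leaf (spread 10 9 0x800b848080080800a08000408130880200c0081100020010882410000002a20004000101140a102480001800025400200040000)) (.leaf (spread 10 9 0xc841002800800c0082020002030580818082008004004024600a0400204000480000280200004800001480888010040010101120)))) (.node (.node (.leaf (spread 10 9 0x200000004020031201020000041600402800481100310904104104004380c1008100080805000600220200804240020000000284)) (.leaf (spread 10 9 0x20800003100400a0405009080000433000960000a010002020040004001028200014009820110000820a122000031920000008)))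 (.node (.leaf (spread 10 9 0x41000008008001110405221005061006082050000000200000000081454a80808010880941000000c18081500200001000002210)) (.leaf (spread 10 9 0x80010000208b008008018100004800004005200000009c00400002200640804490800100002be78008000000100045100a802000))))) (.node (.node (.node (.leaf (spread 10 9 0x20680540040c0101108000001006010022002438408d400004100094840000020000200220148c0000006004081010000220004)) (.leaf (spread 10 9 0x20004200002090448004020020080081928048268000020ca100180080009000800048000a81405280000c04080004000012080))) (.node (.leaf (spread 10 9 0x80042400040a240004800001000ae0022000020000081d004441022804240100804002402001808000040c280000604004200012)) (.leaf (spread 10 9 0x10040020001000c18860804000006281080012100008140183410018000300820000520420110080000004810420080008201240)))) (.node (.node (.leaf (spread 10 9 0x4010001020480187000000008080850104000000010800109410800000043028901f100080044340040020860004000040600011)) (.leaf (spread 10 9 0x85c12000005800009400120000001002d87140000100428010000108001040000184000600001022004018840820900c00240000))) (.node (.leaf (spread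 10 9 0x4060081080200040091002144500080430000004c04410080c180604000300088020081204104004000004410c84c000)) (.leaf (spread 10 9 0x80000000222c01608003a290000410300000c0000801020100042a0060000410001000c001000050840000414060c200340440)))))) (.node (.node (.node (.node (.leaf (spread 10 9 0x800000a21810002008000418488440000c8180098002130087009008800200020000006000100a00400007800c00040200108001)) (.leaf (spread 10 9 0xc0600832000002100c000000000000004004a902a00020000d20004482020007800000004880001144500220cc0000a021000003))) (.node (.leaf (spread 10 9 0x8020000000980003080a2082a020000090000144200802000240010000041090289000024000188450184100000100020a84421)) (.leaf (spread 10 9 0x800000208102004202008104042040000021008060800600020000840080013080028000002274203c0500000c808010068200c0)))) (.node (.node (.leaf (spread 10 9 0x2020a80022404008888500010000020840000018c21202000402c112284000200000202011a00040c00000000684400214008)) (.leaf (spread 10 9 0x80200140001200020448f0a00030100000000045010002088001105000060008814d040080104080002040190028000100c6000))) (.node (.leaf (spread 10 9 0x104008881440100208a0400400022480400400008000204038084000020040020c0230000921a001501801004000100230020080))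 (.leaf (spread 10 9 0x200300b00864840820000002080800105000808880d00488080164100000005900000044000800004860420012049100400))))) (.node (.node (.node (.leaf (spread 10 9 0x8040c0482001040040001000010aa6430483080444080008414200a01300001000400000000000008004046c000000a0c0081100)) (.leaf (spread 10 9 0x3021000084000400405815000100580000001d004082000010344c081000702400000500100200400022893100a00c0000000000))) (.node (.leaf (spread 10 9 0x2002a800000889808000340040081080000010100610182820010002000842010005202028a10008400898020401200005001)) (.leaf (spread 10 9 0x82022c3000000090d80180000008000060206052800000004400092028000000300000004a080044a0008200418008214a802000)))) (.node (.node (.leaf (spread 10 9 0x4008c004020080104c0100100004b70010000008004006000802101080408440e20089080010002011a808100004000101010020)) (.leaf (spread 10 9 0x105020c4200880002408c00100000c960180000000000000020081283582030000004004040102041a02100200a40000c20002))) (.node (.leaf (spread 10 9 0x4048b80122280800100020000020001288400002028000881288000900068004088000009000900c806004000408824000040104)) (.leaf (spread 10 9 0x842200000000000400006020890c00200000000100080800000010083004a210414445004010442180810802930c00801060210)))))))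 (.node (.node (.node (.node (.node (.leaf (spread 10 9 0x410442040328011003400000000004c441800048802200408090404213000204890000080020880010840000020800188004002)) (.leaf (spread 10 9 0x200000000301040008000241200000022380001200a000a82100001000015020120800800220128000588140001150110038400a))) (.node (.leaf (spread 10 9 0x300000880000050029400811840071041068011100140200000100000444400400605480010000480080014040000410d100020)) (.leaf (spread 10 9 0x5000002004908010012002008009008200a2408e80200008a880000202007003090088020200480000a00200241080250000000)))) (.node (.node (.leaf (spread 10 9 0x4120000000800008c40146052300100024940000201022610000200405000072040001640002000804100222000100480022010)) (.leaf (spread 10 9 0x105000040000402000c0008002d0401014223020000088800008000801880c11c48800100a00000a0880000100300a8000106010))) (.node (.leaf (spread 10 9 0x9008002000090001001a60608030008200400040000092800411910001009218418000010000102504010018180000091400040)) (.leaf (spread 10 9 0x4361d06134000f440100001840a0000190000040004000000002800400000600200000a20000008001010068408e58010000000))))) (.node (.node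 (.node (.leaf (spread 10 9 0x10622003020000840000d2050040100040104600815002250140040046000220000508404009140080100000000084600110)) (.leaf (spread 10 9 0x1100000800000428004282000000e00c10009000182000004812021200404910040034104640804080202004000d00801500020))) (.node (.leaf (spread 10 9 0x4a10408080801000000208210068100218c0448821044000098000000010004081040200880b84110104000000008080c04400)) (.leaf (spread 10 9 0x801010041040420041080006a00c0008011002290824800140040029004004200004160220004000804001008620012040020400)))) (.node (.node (.leaf (spread 10 9 0x240000000000020501101000401000080088181288020800084800026020800004901008054000a0a42c0000a002050804040085)) (.leaf (spread 10 9 0x240000102008138000a0000000070000182800000001100084102208500438494001091012008000084090000000090102e022))) (.node (.leaf (spread 10 9 0x42001010000000805040274402104196002001000102440200022029080000100014000b2080020080080800484242000080820)) (.leaf (spread 10 9 0x2400000744800008048484040084040192120010810000810080c404188001040024000010a00000000000000101212124082240)))))) (.node (.node (.node (.node (.leaf (spread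 10 9 0x91000d80000400010160801109100101000020520680030144000101002120004200004401080048030100006020080008001240)) (.leaf (spread 10 9 0x104802460040000900000a00000000000a0808a840c0020044001012061000486140410003100020042201000108002100002432))) (.node (.leaf (spread 10 9 0x100221001881000009080800001805a500408001401461000802018801042000804084004800040808001842800008400120200)) (.leaf (spread 10 9 0x1041800230000030008841001006000200136200004220040a80410084a00102800000260048408591900200088000)))) (.node (.node (.leaf (spread 10 9 0x20000100000ac3121180000502042000000001091038148440001828c00000000003061001000040204202280200a00010420002)) (.leaf (spread 10 9 0xc008e21812881902040520000025000200001009000000220000200a000082002202008004020004012009002404028008206200))) (.node (.leaf (spread 10 9 0x30202810061210001010009000140200018000000000001000200400200000000292024004e050020ac02214608044500380010)) (.leaf (spread 10 9 0x401000440008010110000011400010c0030080080082080a000000008800000082280228486020a90410080a010391280024))))) (.node (.node (.node (.leaf (spread 10 9 0x8090001000010452410a00006504002000020800081048400400001001024b8a0100400090042204222910000000004220002008))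 (.leaf (spread 10 9 0x2002400a820001400068002004012804c00821200102310000010500002000080880000226100a04900420000800500180404400))) (.node (.leaf (spread 10 9 0x220601081100040c90600420108644000008012000800010902010440218300000000000c8002464802804a000000081200)) (.leaf (spread 10 9 0x102000000000102008000040c07004001028000806000010030100084081440120eca810080028000602900a0000014882004010)))) (.node (.node (.leaf (spread 10 9 0x43a000400c020040200008000004400a14821000684100483000a00401241000460800a000001100010100a6006020080002000)) (.leaf (spread 10 9 0x10c0400c004001000000630005022604002220004040230040202200020110000800400121240200c06403040100010080004090))) (.node (.leaf (spread 10 9 0x60030020100000060202826000cc00000000c20040200a0d2048040022c402800000080001002818002028804010008041080800)) (.leaf (spread 10 9 0x40081880000002f120001200000a000280520000010042801000000800104060002000040000003d0008040000d86f4040411080))))))))) (.node (.node (.node (.node (.node (.node (.node (.node (.leaf (spread 10 9 0x88004108a8094c3000b0083520000040000400002a000000800c00a9a0800100004082400200000080044000002882080001011))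 (.leaf (spread 10 9 0x800100800080000000010700400003800003000d380d0000e00100e304002000c2000000800100041840002880aa16320))) (.leaf (spread 10 9 0x1200c90410008200010c280240020041000110209040000a4000a10420144000000201c40002600280100000050088100001c0))) (.node (.leaf (spread 10 9 0x41c012100108a04004000c0020401010010124041250080020800400022205101000282000902088000a49004400200000800)) (.leaf (spread 10 9 0x4000000000000013000026100003a00280102002006080500040080000d88ca222000004503000004088000b8288000000c18020)))) (.node (.node (.leaf (spread 10 9 0x100080000528430106805100040260800001000010a0024066000000800001004800a20001058000084c82000080208014804001)) (.leaf (spread 10 9 0x4065c0200102640088004000000000840080800c001160128449420000908000050004000000a0408280401000000105020a10))) (.node (.leaf (spread 10 9 0x11800000072008410406010c2006000a080010030018007010042000a000026044080c000002020800308060010000000002d00)) (.leaf (spread 10 9 0x4006008000420410b908403010800100c084400454000010010240000000a00282800100050200400400002001a0030101a800))))) (.node (.node (.node (.leaf (spread 10 9 0x4522200000008480044014008040010c020009602000052611210000020004a60000202000028001201081240840080000002101))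 (.leaf (spread 10 9 0x40100200204a00040a50c00444042110004800002029000a100c01013204200100000040c0000008006008820009020100000811))) (.node (.leaf (spread 10 9 0x141001049004200001002402180a00002009100004800026909208100c1208011000880000002214104002400000002484000044)) (.leaf (spread 10 9 0x400080400000800400040a1000301000088020301000204481000404000200008048802009410020402020a80317d0000e09)))) (.node (.node (.leaf (spread 10 9 0x10c912806082000000830000892028010100005080000460200a0000000240201400200708400801100000b090000000800400a2)) (.leaf (spread 10 9 0x880820100000028000001204a480800880405000404040b40000040c0109042d0005000000a8088000840040201100002c00208))) (.node (.leaf (spread 10 9 0x4010901d00a41000400000808134000000400249284010000001110c804004002404090000022080020082000004110040294080)) (.leaf (spread 10 9 0x60000808c0810040010000011204940000000000000400000100140528055801002078882109010400200108920050008180100)))))) (.node (.node (.node (.node (.leaf (spread 10 9 0x800004d004100c01c00108c0a1120924000040280084002202000080200002008620001024480000020048000628013000001)) (.leaf (spread 10 9 0x40c300100200212080020001001201040908800080210c90032082064210000000c00040000004e08000400140012014200410)))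 (.node (.leaf (spread 10 9 0x2040c021200400010104c00000000108c20207020080884882800000050100008200880a220000804105600008408001440008)) (.leaf (spread 10 9 0x401005062010a004280410000000000008008441500014a030603c0018000106000020425008100000892000000001044009010)))) (.node (.node (.leaf (spread 10 9 0x20c810190420c00480004810080001420a4000a80280081000c80800200000002000400001014200083050101c08006000008400)) (.leaf (spread 10 9 0x104200201041020001000080542b0c30000a092400400201250002000844180024808000400000040000ca00400410c000140))) (.node (.leaf (spread 10 9 0x80610000004010001010002a0000110088160088052008b408030200000900024120280044011842040188080020210002000000)) (.leaf (spread 10 9 0x20080940010000950000200000080000050200002a0010022100405080400000042000cb200006000001381f4022802410842000))))) (.node (.node (.node (.leaf (spread 10 9 0x300019880048010008100100810030608200000028182008102061020002180c214100001000000010088300401114000800420)) (.leaf (spread 10 9 0x2a000801000400e08080418002d0020000202420000880100209001210020082c00252000000008a010009e02201040480000000))) (.node (.leaf (spread 10 9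 0x100100010000140802000608004020500090900008204000003a1000200848008000210300100040011a0031952080000300609)) (.leaf (spread 10 9 0x8800000000000100480000089820b400122800a0030000000b040008a84002000190c48000000400128a0020010068c001010a00)))) (.node (.node (.leaf (spread 10 9 0x100c20110108200002089203002098401000000810040000100a0020124008105200a1810204004080280204018000002208008)) (.leaf (spread 10 9 0x40140002000104448400002010000000000058240808a2002582044502000a400050488000800a06404001000a4000004128080))) (.node (.leaf (spread 10 9 0x20089004008803020c0014104201c10000010000981002020200082000401002620200100030090451400408020020800010c000)) (.leaf (spread 10 9 0x44202100041014000800240022446900000090200002010184402008000000000040002420020503202409211400240108208200))))))) (.node (.node (.node (.node (.node (.leaf (spread 10 9 0x30802024880c18420804a400c242080208300001000010281800308280000000084000010200006040004000421012400014)) (.leaf (spread 10 9 0x100a020201c80008000080400000000222000100200010b05002a400043020110a200c00401240890020000012000001a80702))) (.node (.leaf (spread 10 9 0x110832205802a0020902080000080048040050004440400080000404091420000c0004000081380003200802201082240800000))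 (.leaf (spread 10 9 0x11201000110010004020000000080209004420808004d0428108040b8004080190119000140c00200044000000680d100020)))) (.node (.node (.leaf (spread 10 9 0x1308100040001c110000810088004700000208200000806602000c9002020000301011e04802000100005003000080102081004)) (.leaf (spread 10 9 0x1000200122804140049001000020200008012000122000502440000100361c240020202400001800892000018040000040850824))) (.node (.leaf (spread 10 9 0x492000008b0000030003804100408010100808686400061001004002080040300000201100028000aa0044020800010404424000)) (.leaf (spread 10 9 0x201040200002884401240200400010c044002026008002008081040001008608002001612c40c100100002000020300080420808))))) (.node (.node (.node (.leaf (spread 10 9 0x10810080842000100101100002a200100020910045010000a0020a10140222205600040004024004000080229008102200000042)) (.leaf (spread 10 9 0x502412204000018000410320000128100142100080000001800022189106400004000404100040a10002c02010c0240000009040))) (.node (.leaf (spread 10 9 0x82680000810001000000080e100000000a1000ac29800441002402200800040220085c08010008c200200000000840a0c0000e00)) (.leaf (spread 10 9 0x1008081600080064008800001000c0200084c19000028112000000d80040200210000214c8002109000010200844140208200))))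 (.node (.node (.leaf (spread 10 9 0x81580000008080800000a12040000100044200420091080702504510041210842018c02008401200002000000000000b00380)) (.leaf (spread 10 9 0xc08044400048000402040102480200040010004a2231200000002000121000000a000000006200000320000020218b0088105253))) (.node (.leaf (spread 10 9 0x208000000000138000001400800040800029061020100080201060200800050302020440a4281410001020020120000116c0a2)) (.leaf (spread 10 9 0xc0000200000010202008000100082000a10000240000352002402200080440220080015200021008148c41a0108010aa000c010)))))) (.node (.node (.node (.node (.leaf (spread 10 9 0x120040004890001000082d204090050500400c0000384d0010002070000800000010012808a020018000e000100048200000404)) (.leaf (spread 10 9 0x4428206000000c40100044800450010100000024810181000000000084130000000392a000432009200021600302004800000028))) (.node (.leaf (spread 10 9 0x40008904a01cc0100000080100018000300000000040202204002c400000112210101141481600880c000820000880180001011)) (.leaf (spread 10 9 0x81280010ca410080210004000240100050020610001000000408071052014000800860408001020004010008060050060010480)))) (.node (.node (.leaf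 (spread 10 9 0x4080480400109944016002010100000402002100c4018100200001010921000800004044001c8000040402180081518000020004)) (.leaf (spread 10 9 0x224221484a8300588000101004130020112800000000108000220280000020880400001140000a1000141002000008004018206))) (.node (.leaf (spread 10 9 0x48580104050080000803201000080042021240001402c000804216000850000000042460000820200201508001210c004000080)) (.leaf (spread 10 9 0x88028280c000400a0042a3000102c010410204248100001200000000000000420000a00281004080810ca40c200000000a206))))) (.node (.node (.node (.leaf (spread 10 9 0x2090260012024401020200100150d808014008100000000a80700003000184400000810600000028e0000088020001200000181)) (.leaf (spread 10 9 0xa40208080000201504014400092001210201005c010000201020882000804200180000920000a9120040000a22100000808010))) (.node (.leaf (spread 10 9 0x3b018000120011000000004410408002020000040082800400051100400101001420022092801220401900418100020008101003)) (.leaf (spread 10 9 0x11550802000500300018000041400810010010a2404000005040010401000280004810c400011400001000020120000116c0a2)))) (.node (.node (.leaf (spread 10 9 0x4060011000900002080a1006004001000800a041491c0440020019080004a40001040000c041001150000000a2240000000a010))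 (.leaf (spread 10 9 0x2600801000051000401800144600880d0040c0a104000800202000410080238004482801088004000000040209000000a40300))) (.node (.leaf (spread 10 9 0x2000200d2a0002010000100843320108080050008a40020000100021040600940010001240001100903800020080200000142204)) (.leaf (spread 10 9 0x34888312001510304218000000007380004080100002000a280000000200610000000a2000000800000000100083500a41005c)))))))) (.node (.node (.node (.node (.node (.node (.node (.leaf (spread 10 9 0x4640044c6002100004009028001400800620106130080402804200400301001000280020200400002020002160030080000201)) (.leaf (spread 10 9 0x8c000008803010000803084080000040000140401800d00000002041c040000032c0000031001002028400c58010105ba0))) (.leaf (spread 10 9 0x4002004002008010640000070108e53002800060c00004004001408010000401834000200000888080120c400844000e04000000))) (.node (.leaf (spread 10 9 0x21a0018a101021010000008000002030021084a80000041010602400a100001a0101020020080400024022844a0400020081000)) (.leaf (spread 10 9 0x10100200103600088008020012000100200100280041006c049000d0064000220028820220800020844200002004092000060400)))) (.node (.node (.leaf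 (spread 10 9 0x6048100020000800010101080c220200001004108140800482c8812008000000010014f04c0000804140000011011d000000044)) (.leaf (spread 10 9 0xa80010204000000244200b06410003012000018822081050241140002000080202040404114000000800814180c044400))) (.node (.leaf (spread 10 9 0x8b0401080102800105018013282800032000060060200004290000001f000011d0000300008000000012000034800610000)) (.leaf (spread 10 9 0xe1940041121002000042000803101080400000800140404808200020002241810104003080080020000010040008200800a0205c))))) (.node (.node (.node (.leaf (spread 10 9 0x404000010800047c04000000000008000001090031a048900701010000020010094b02004080380c60000140008000020b00081)) (.leaf (spread 10 9 0x4008000232400bc0100004004024000089008310003020048008002600041440800100c0c4100100040000000d0208850010000))) (.node (.leaf (spread 10 9 0x9400010004048202010080260222000c200280020040008c2001090080020031800204002082403004c002008400007000020400)) (.leaf (spread 10 9 0x218080440004158008101800000888738000280410000206020820244000020003040000008800004400006100000000001a9c80)))) (.node (.node (.leaf (spread 10 9 0x20950000002810080000420401004090008410124440100120001506810001008000108c00418144020a1000000000e0a00001))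 (.leaf (spread 10 9 0x8278000101a100400000100000082a02000500414208000088040482008008120212003042000400040620040090001110021040))) (.node (.leaf (spread 10 9 0x12000080100304e81000000402100400481020000820104682400026440003000890000080212240020001484802109000008)) (.leaf (spread 10 9 0x10001a500030318418000030000180102080000000003004000800004000800002000400b0900230c0148080e2012a381)))))) (.node (.node (.node (.node (.leaf (spread 10 9 0xb0200000201000046840018404000820042005000041e800104a00003800181002250041212200000060000001200a0000104010)) (.leaf (spread 10 9 0x20001006260000200048200000010218c0104020010414800010e404822008080008808041040000010100a88101104106001000))) (.node (.leaf (spread 10 9 0x20200400020200a04480082800002018001040000000200008000000200408c80014003e042012488204480013122010880111)) (.leaf (spread 10 9 0x820000000099810000100160000030000180404a800021002ab003000000003c3880000000028820102181801402000c0004020)))) (.node (.node (.leaf (spread 10 9 0x400000200a000c008050648800228281001000100004944021000c440051080801400400400140802000008002000b0900009020)) (.leaf (spread 10 9 0x20000024220109184000400200000008300040110023000806110380080060400200000c4a4086002800c1006010000040208008)))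 (.node (.leaf (spread 10 9 0x38100300828008010202050008c00002000c10048002000200000003805022204408c0047000008838002401008201000802000)) (.leaf (spread 10 9 0x1001011048084d8800000a84004200000818a080a800c000018910080002800000040200008020042010000080a0102a020c010))))) (.node (.node (.node (.leaf (spread 10 9 0x401011481010040000d00085100801080020891040040400c20804004860000448002002420000180000101005404470000002)) (.leaf (spread 10 9 0x48000038182200021000a0000b000100202001c09088102002040068800040200000102d1210002020480004404000040190200))) (.node (.leaf (spread 10 9 0x4080040280411482000402044c00408000600540002000000044808004c000988804808800401000890000000402201482001202)) (.leaf (spread 10 9 0x4000110010000220008110a4100a00042040810081410c10020400402401000630400004204000281008100e000a2006008400)))) (.node (.node (.leaf (spread 10 9 0x45060000048000000808018020400002000010142110050442800080060800c100302100400c424001c000100060401200002181)) (.leaf (spread 10 9 0x480290019020008800040a404c2000080446240000008402400000c8200070010000100c041000210000000800c024220200100a))) (.node (.leaf (spread 10 9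 0x9070042824010050000a90c1004004000020106000410000405000300102020402680000842000000f0a000000031020002008)) (.leaf (spread 10 9 0x48080d00208000000a0018040004880446a04100120100404003080000008038048000080104000a0002000b600080412a080))))))) (.node (.node (.node (.node (.node (.leaf (spread 10 9 0x26000090200010030000880602040009412a1142058020208060004000412050010008041201020000000c0148000001001802)) (.leaf (spread 10 9 0x48000108202214028044140040102212041000420808000420a080001100801000081020484400000070008884500100005400))) (.node (.leaf (spread 10 9 0x80002000008180000400001804000080222a8a0040806100388001202100430409048080a800400020011200000280e00006020)) (.leaf (spread 10 9 0x250000104000400402006000108304001810910008200189810000284043830100a000000002240008020480401020080205040)))) (.node (.node (.leaf (spread 10 9 0x80030003426004211800800800040804234001000000242c80030003100500800001805284000011010001a0000021280000800)) (.leaf (spread 10 9 0x21004001120c024000400008200008005148010001400002050008800020020088000a0112604a42020404000000040831800170))) (.node (.leaf (spread 10 9 0x4020400000010480448140a000201001200000044a008361812800c10084006000409011001000000202220000300200c402080))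 (.leaf (spread 10 9 0xc00001010800402000a0000430801000001220898101004222900100100020202000009821b001240028002602801001001100))))) (.node (.node (.node (.leaf (spread 10 9 0x214081200400112940060000200080020868008e6008200460020080470c00480000110200800000400000410000000000303120)) (.leaf (spread 10 9 0x60030a0000040104002900100001000002085410140520800000206800200c180000802200350400040502000809004191080000))) (.node (.leaf (spread 10 9 0x40800192110080000210010004804400000980000280528493021620040201000600800000000006080441408280102204800000)) (.leaf (spread 10 9 0x10282001000080400006a044028b430108300020540001020000020184201000000200210880004401a89000080002083004)))) (.node (.node (.leaf (spread 10 9 0x800104100400800100080223020143000440004004b0000a02000238080008909420000000600c000030d00300288000000c2)) (.leaf (spread 10 9 0x20000020001200240004000441000290108080008101830480004104980000280000c2401ce0024000400000048964000240104))) (.node (.leaf (spread 10 9 0x41000010c0025000021b280100001100144000000002b0246a01080800100000e0208200002808010008808840220040400060)) (.leaf (spread 10 9 0xc04000312000220007420056004000084000048000800000000000000080002000004c082000688808542010cc0000a0001a9c80))))))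 (.node (.node (.node (.node (.leaf (spread 10 9 0x28308088904082080a020200804084004010c000484020020021820a0c00000020000040a02000d0800800080062400000a08)) (.leaf (spread 10 9 0x34091010408008000884040006080141000000108108000000240140008800200a42028500148810120010200300012004100108))) (.node (.leaf (spread 10 9 0x1c002060080400022003013000a510010000820000054888400d08000040001b0800000a00000440041422000011004040000902)) (.leaf (spread 10 9 0x800a48040440081080008040281204008821100808048000060c9105000001058020020804002010000040040090022062800)))) (.node (.node (.leaf (spread 10 9 0x49000009418004308210000806041000008820020008008010090023350020020400c0804040000440040090a002050004000410)) (.leaf (spread 10 9 0x48000000100c010194480100000324004800001004a1620000000184002124408200b2008500144000002800800008200031200))) (.node (.leaf (spread 10 9 0x100000800082200100d1801018089000a40000001008024808808046001022210202200300088400002080e100a0010008900)) (.leaf (spread 10 9 0x10020000209000240088804040202200304000080010104220910022010300210005600422800800040240408404085000040220))))) (.node (.node (.node (.leaf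 (spread 10 9 0x10d00000200000500004d510481828081b04800080000400192008020011002000221010002c8400200012800024200008002)) (.leaf (spread 10 9 0x1090810000401240242809000080810800200025800000204802011101204a008204084100010300500005069000002020020))) (.node (.leaf (spread 10 9 0xa00000000031000108008340000800c10d81060000001c880940000094050400120000422100220000002d280000048001102010)) (.leaf (spread 10 9 0x800284060000e0081003500000000008020400420000840290410008200440a00008a001040010024000220001820c210900a108)))) (.node (.node (.leaf (spread 10 9 0x800442424004200048a24400400200180021800100241210800000012808000200083028140412200000001009048c0000480100)) (.leaf (spread 10 9 0xa000804000000080082188080918020140002200240000ca430000e8901020001000020ca508000000005005000000000a803080))) (.node (.leaf (spread 10 9 0x4208040021220040010000420100880048a4110129000000c824900000100900000840184880080904500000200000f000088000)) (.leaf (spread 10 9 0x3380004148238000034200220000040020000480000000000000800000000000000800004013001101b01204b40820d800eaa400))))))))))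

/-- Part of a table. -/
noncomputable def fixOrbMasksRRR : BTree := (.node (.node (.node (.node (.node (.node (.node (.node (.node (.leaf (spread 10 9 0xd2000008120008408205280258a08020119680099003870400000c40000110000000000000000000000000000000060018303003)) (.leaf (spread 10 9 0x20080800018400800000020000000012010604010000009000000090810644000410046251110480000489440201001589120210))) (.leaf (spread 10 9 0x840008210a044040000080002804040c201808004011220c380180210a200682010000000004000003091005002020200000030))) (.node (.leaf (spread 10 9 0x8000421018121010009002080000800808010809140000a0a4802801000a1002002000a204120808888008002144000022000100)) (.leaf (spread 10 9 0x20002008c10000020000042028410504a4614800c4000202400812206841080000801000401030000100001404c00420000280)))) (.node (.node (.leaf (spread 10 9 0x1204802000002500300002800000042800025820404084008800004000014200268000a9a2141000c0c000002088880000c1)) (.leaf (spread 10 9 0x2100400044290409010685a010002001a02004c80a02808080088000100104400000000200800000400000020400408265242000))) (.node (.leaf (spread 10 9 0x400400010080100103081080200b0004000000000212492002011800a10204d62000820004044103000812000a0820000000e0))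 (.leaf (spread 10 9 0x48a801002000004000a00844b0800e010404044a08108040120090030000000000045100100401000020424080a00100041104))))) (.node (.node (.node (.leaf (spread 10 9 0x863031208043242400002200000018848000220082002000d2081020c02001601810000008000000000000400878018000050)) (.leaf (spread 10 9 0x2001010000212001000889084112410100007400208401802400102810012c104800200200008048000a00010880028001006000))) (.node (.leaf (spread 10 9 0xc09c224a00000812000accc400400020000000805880020000000000050001400000122292001220040900200100000802810050)) (.leaf (spread 10 9 0x40201c00000088000062c0c5000008000a2208024008104001100400005000200001200104200402061000102802422200844a)))) (.node (.node (.leaf (spread 10 9 0x3000084120014105408b04002000030000000090400004404442020002ca4580082400982000046000010000807000000018)) (.leaf (spread 10 9 0x201850000020400a8008898015022124002200800080004004802010200103020008020200244000680a02040c10000806000000))) (.node (.leaf (spread 10 9 0x80120010000009200844842006293902000800030308002000041102288000001900008048000004000400902000800300036800)) (.leaf (spread 10 9 0x8000080820c0289002043a0400004001000000420004001408800a300102020408092000181000400052000c0240104400b010))))))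 (.node (.node (.node (.node (.leaf (spread 10 9 0x8949042102582002014042802090280ac0000400100a000400080000010028268000020d00000000021800046008010014)) (.leaf (spread 10 9 0x200100008040211002000080002104022300401508a10021010100400002500044a0002800940600201104054001041401000010))) (.node (.leaf (spread 10 9 0x4020009008c0085082000022d0800288402010000024801024000823000008028904500000140040400201000680001004a040)) (.leaf (spread 10 9 0x2401038000240480001000000088092002003180480201818d0420000080029801101002400000002314402210408840000)))) (.node (.node (.leaf (spread 10 9 0x408a60001800190410898240000800002000191148004000200000202102090a200000000204080806018800200008c028880000)) (.leaf (spread 10 9 0x20200401000000008080402212f30040000163040828020001001000100612c02010200400042010803100004041000408020820))) (.node (.leaf (spread 10 9 0x19008800025000005014006008408100800600000022082000021000c00a07007018440040084420100c08040100400081000200)) (.leaf (spread 10 9 0x1c00600000400100800000000a10021018200a00101000400008818400200e20000200300000109b080008c04020562400852000))))) (.node (.node (.node (.leaf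 (spread 10 9 0x10120004100010240001088504080018b40110000000010080000210101a0849240004080000410a421880201002808000400044)) (.leaf (spread 10 9 0x8003819a02020401000b000008800204460040a002000c401100000000000412000100180588465c000000800502a0100000000))) (.node (.leaf (spread 10 9 0x8081c0000000020000080910200820104070801400280000110940100004060000544801024308220004004400c0104400821)) (.leaf (spread 10 9 0x2000201200040080002280280801000052002100a00560000e080848000000101800840066000040828e00600808008041800100)))) (.node (.node (.leaf (spread 10 9 0x400094000080000010024a410200108a08b504020020000a0480000c00800092000001120400620000808253400402024000004)) (.leaf (spread 10 9 0x2100010232002030400840104800400828100020000110100000a2008800210602500020880400200000808804108580100009a0))) (.node (.leaf (spread 10 9 0x41010000a000892006000051000001104004000098a122a00a2064110000010000300a02000820208000808180404200220020)) (.leaf (spread 10 9 0x81d62001618000b800000018410100002a20004000400420000350040000200022000004000009108102251840002800a010000))))))) (.node (.node (.node (.node (.node (.leaf (spread 10 9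 0x88401002080a60205500c4442000000000840000200408404820e00840000002002040800302002104066400000088400020081)) (.leaf (spread 10 9 0x302008460200100880060028a040000080102004100081408000040008000044240000222c040a08a02008014000082002a301))) (.node (.leaf (spread 10 9 0x20e010a410440000810120300040081180000002900280000242802000400000028438d00008c1000010006020082a200800000)) (.leaf (spread 10 9 0x820000000010068002944100c0810202004004305006004002408000004000004010038801c0801e840882000002000484000044)))) (.node (.node (.leaf (spread 10 9 0x780529300400160020000200000000c800021004a5910001c00000082200001001888104a004800310a08000020000000440)) (.leaf (spread 10 9 0x200000080204104119202842800420200808850400100004040008000810604010044040202000110000880010894f0049))) (.node (.leaf (spread 10 9 0x820000020a0200a50440040008002004840003100010830500223000020004100880c03000000a04c000a3061040000000000488)) (.leaf (spread 10 9 0x40000202a0401400080000004000100001200001082820b580000000003180106208601808811210021280010000601c02080100))))) (.node (.node (.node (.leaf (spread 10 9 0x4020c400000000000400000608030040043009042a4000082160102023100046001a0000020408830010002028000041c8000041))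 (.leaf (spread 10 9 0x1240010c0c0000104010800002211220440000808405005400041401000440484010008022f04080004000101041000011404))) (.node (.leaf (spread 10 9 0x11c20c008000149a4400000861082160028118000020000800008804000002100184000180000080080100480206004280401080)) (.leaf (spread 10 9 0x440008108080004010062001028011000820910008240000a000023e40008000000100894449800010080010404c80800480100)))) (.node (.node (.leaf (spread 10 9 0x80040000460406020100000201101402000200401100090406400340020a01634100005024090040030100800040805000000018)) (.leaf (spread 10 9 0x4c41800800120408860000c02104002002111240000c40021000024000008010040000824028080402c0008a20040984040000))) (.node (.leaf (spread 10 9 0x40800800221008208000202120208010001000604110a4088200cc4101010000400801000100a000840016100802020405001004)) (.leaf (spread 10 9 0xa0280010021000a400040401030008084082100080018211000004000001000400000064004402800004d240241041489120210)))))) (.node (.node (.node (.node (.leaf (spread 10 9 0x1940000200100833000000044000080000900400140281035807200a4410000300480058400010080061000000080601a00002)) (.leaf (spread 10 9 0x500400448202608000480040200260001080480844092800000c000400a000c0030004040009140003030003000020240880200)))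 (.node (.leaf (spread 10 9 0x20043001030082001080414000100110008c03000002000001120d8820040142078a000800800000800000802001140120c0810)) (.leaf (spread 10 9 0x880420002806046020441000411110190502a080000100001000012000101030220010808900000800004802020042010044c0)))) (.node (.node (.leaf (spread 10 9 0x49008018010514000800090400880400101000149040100190895101000001020500800010402000400000018101302000064080)) (.leaf (spread 10 9 0x28004044200000001010102008c0268280005a0000620220000000a5010403900048000200086011022000404000c42000100800))) (.node (.leaf (spread 10 9 0x400aa080020808008080200480209006001004040040840008001c480081a00200200048001002340a28004204c0020000401000)) (.leaf (spread 10 9 0x8200102082000010004a0110a0600ac4008420402000481180031040400900040100000008040100400084400e200a4180000))))) (.node (.node (.node (.leaf (spread 10 9 0x3000c01000700108600081c09000a6000028018001003800000300000007000810104006e0000200400020000540080004500201)) (.leaf (spread 10 9 0x810150182a808000802008201000400144006410003001020200024002080811100900001120023000012080140200000a80400))) (.node (.leaf (spread 10 9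 0x280010220403a4000220400000001400100024252044201c00c40a0000001010081004011001504a0800001008400044021010)) (.leaf (spread 10 9 0x102a0086012000128090800100180201040508000000010020040000140000000481000101100c010444448800c4493111)))) (.node (.node (.leaf (spread 10 9 0x1104be00001003000000022081444104000000000002802401840210300004020408800050a0c020200320040810000000051009)) (.leaf (spread 10 9 0x2800010001c018330200804000200400010001000814003080658860000800501802000000104157000204001a00080002a000))) (.node (.leaf (spread 10 9 0x2080a0000000008000017900640b30d050440010020080c00400481028000000000204100a890440001100000080e01002002)) (.leaf (spread 10 9 0x442153101400064444e400000020000190000880000000200d008200000020041040000008800804c0020711000005000501880)))))))) (.node (.node (.node (.node (.node (.node (.node (.leaf (spread 10 9 0x800a0401c40c0002608014080090005210010e30821c00100000020000208020882010000000c60000000104021110000001012)) (.leaf (spread 10 9 0x21a0084e00040890031000020008c8000001040000000016082040100002020100800000000000840802295102a50806c4040000))) (.leaf (spread 10 9 0x20011000000001010700040228080440003004000140a00110610401002a1402014900100800000093448004004500801010020)))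 (.node (.leaf (spread 10 9 0x400050203400001411008248020080a2412200440018011200000088040a0830000000220300021020010080602002210810000)) (.leaf (spread 10 9 0x108041018000209202002000009180220700001801280010513000042010000000800000a810c400408128030286000040040000)))) (.node (.node (.leaf (spread 10 9 0x808800004400411400100040e80202002008050802104010008b000021004800a10100002020240002223000014008c002100201)) (.leaf (spread 10 9 0x8080002aa002014000d000000081800800220000001100002232208400141468000000002421201048aa000200051001006080))) (.node (.leaf (spread 10 9 0x10b8100142244400604009408820001020000420011002208100020300114000000841301880000400081a8000201000040800)) (.leaf (spread 10 9 0x4802114000860004680000100012001026c4040109021210000040c8000e04000000002011100002000402800804000a0208400a))))) (.node (.node (.node (.leaf (spread 10 9 0x40042040000000100c0808a0021000810d0904804005002a480004008010010080404214834a3000000001000108000001442008)) (.leaf (spread 10 9 0x20081000040010230002400a0004050240c0402004204834084244000288006a00000804012100004000008040881c4000801000))) (.node (.leaf (spread 10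 9 0x41a0003220830200000000800070000000000870200084400106024484000020200021025023e008304022100800800000001080)) (.leaf (spread 10 9 0x8000400020040410012402100200a10300000408114000908000400010020214240123102002402019a4250008286)))) (.node (.node (.leaf (spread 10 9 0x305042100002040211800080c0002100202000210080089002040020100044a0406a00400022304226800180004000020100010)) (.leaf (spread 10 9 0x440041c000200a020010c28840000c2010040000000001020cc0000480010000200231000140420031018000e08482014000048))) (.node (.leaf (spread 10 9 0x200000004500010840148c0a81100803804020047000008010008028104020022000590000c20080000082010006000034002c00)) (.leaf (spread 10 9 0x2108a20200801312010120000025c006400004050030003400000000401000000008004001910100608200430280400400101050)))))) (.node (.node (.node (.node (.leaf (spread 10 9 0x420000800d2010020040182701200283002010006021000100a400000100a81080001004300480044141010100000080490001)) (.leaf (spread 10 9 0x40080004400000000104420b14088d0040a080220001402008205080844002808080822800010008810200010004085000040220))) (.node (.leaf (spread 10 9 0xa04011c08040000002010008a242020488000002881200000100208208500800930010000000088328000220104301041800004))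 (.leaf (spread 10 9 0x2080100048041804081d14080008c0810800080410000000202428000042300000080110020600a01240280042000a0006008400)))) (.node (.node (.leaf (spread 10 9 0x400080a8020004470600181900444000040028100414000205000000100000030040050c01a80924400001801400000001040a0)) (.leaf (spread 10 9 0x10040200020081088104402b049010412404010020004200000040001000028020b0012008421110008006098400005100020400))) (.node (.leaf (spread 10 9 0x1400131048000c400005000a404028000910008080008200004004440042400004410084020c0041204420211204020900100000)) (.leaf (spread 10 9 0x600020100830812030100000008080005820000a89240b000040024080080484400008104000002000852201018c828080000))))) (.node (.node (.node (.leaf (spread 10 9 0x80001010c2200000006108003052080010842c0000040880004000804308820060010020006000480408d9220400000015001)) (.leaf (spread 10 9 0x600000224000404012662000030210080200000004120000402a009031082401200080100408604100801180802d0000400080))) (.node (.leaf (spread 10 9 0x2000a4000202081000204024334000040100020008000240090000481c08204004240008022006040c014005c100000400019001)) (.leaf (spread 10 9 0x508040050000800502800500080004208a000008022080004c000010021011000a0040100010820001a4c2149280100000810420))))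 (.node (.node (.leaf (spread 10 9 0x1c0024200012220200040000040002610000061050001010020d001804a00002c80000940004009281100800000a402080200102)) (.leaf (spread 10 9 0x10002020020440460005012011250020001540005000908001a0000204a012002210200000000808002011804002000048600902))) (.node (.leaf (spread 10 9 0x2001000010c30001080101488048011505c44000010010140440000000882208088208000000a852040000000084014803000010)) (.leaf (spread 10 9 0xc8014001000c02000842000184008800400128a00404100400004014284020000080220012000600900040021000445010404320))))))) (.node (.node (.node (.node (.node (.leaf (spread 10 9 0x40300001440000000020200209908002019140001048800040100802048492160014000002140c02001820020080000008660001)) (.leaf (spread 10 9 0x460000a000021000100c4831002001122400800030008408028209484400022082008000000082002102202020200090420808))) (.node (.leaf (spread 10 9 0x8800800000009800c401204204811021b0d00008a0004a20000000000000080040822300440050200020081cc000000091200200)) (.leaf (spread 10 9 0x280480000000106180400000c050048002a8901a4408040100440010400080001020100082800880014813408011800002200000)))) (.node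 (.node (.leaf (spread 10 9 0x14904004a00400101008011000001403000010040002002041440ca002005a810820480010002240202406040000040620000100)) (.leaf (spread 10 9 0xa00000010406084812240240402200280202800100000608008044010010003180388200008011221000000000802d2000402080))) (.node (.leaf (spread 10 9 0x140001000004010001044113045230412000001108100604400408020086004109000084010c0050004502800040802000004100)) (.leaf (spread 10 9 0x8210800010800200000012008000892004000000040d00000048c0a01901100060c5000000200340104101809660002040404100))))) (.node (.node (.node (.leaf (spread 10 9 0x40902420000020041202800b00d04080000228340a0825000000000040808c2080c004002000021040044128320000000008010)) (.leaf (spread 10 9 0x2013820080040010205040900000010100808441100300d0100400201803380000000002100a020066000900010000443408000))) (.node (.leaf (spread 10 9 0x500e2102000038000000c00000440f40110a0000800012610404002000080800308200008820402220688004408000000081200)) (.leaf (spread 10 9 0x1280004b80004850026002020000820015001010000808060000080a800c0206000a01000811000000800000040002824c246200)))) (.node (.node (.leaf (spread 10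 9 0x88200000010080800080603000000041040e00010280002001a010a000140140014404c02018c2020800008000090a202240021)) (.leaf (spread 10 9 0x809484001218402003040000008000012022022104020080140001470120080000000000000400a0013000125801202148061))) (.node (.leaf (spread 10 9 0x82400801028651000401c4040200400000069820000000050a000c0008000254400000840924010000185200000180601000002)) (.leaf (spread 10 9 0x48a941002200840800621010200082228a01002202088100004100004840004004000000044002000050a00820800820040504)))))) (.node (.node (.node (.node (.leaf (spread 10 9 0x80080039308000448200222000082000802000851001000314900101100008000800581014200420081a80040001100000a002)) (.leaf (spread 10 9 0x6000d40101200000a4004000102200800168010001000a4121000818010002004110048000054240080240201100000004008861))) (.node (.leaf (spread 10 9 0x10020140000600000910181500150011024000180008220a500830008010000800000204c13804400c0300020000000080082802)) (.leaf (spread 10 9 0x405400b0004080440001818010480000000000048130800004000020030a7450600c200090800000001914800430002280)))) (.node (.node (.leaf (spread 10 9 0x201000102608002400802080000620802c080000020042000018210004809840400ca428010200408040004033c00000100041))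 (.leaf (spread 10 9 0x801060010040848402880140880100480058022208102000080110040048062000000130000080002100830600201220000000c2))) (.node (.leaf (spread 10 9 0x2200000a0000c0008000aa420d090000520002088003080892400842000400200008210001083000000078001002028201001100)) (.leaf (spread 10 9 0x2180004000000000080c4000008000000000280c0008050008202204400e10410a50010240640011024002004800812000105ba0))))) (.node (.node (.node (.leaf (spread 10 9 0x4088c000061060440601810018040000040008180320001800880000221480042a00040002000009012118810004004000020804)) (.leaf (spread 10 9 0x1100000288800a8002000400402022e014949208008c00001010090020090080010040002001048020010000000c109028041020))) (.node (.leaf (spread 10 9 0x40c838000010080000088049080000009000c0044820900010080003010111050800040026008100058302501004000100800104)) (.leaf (spread 10 9 0x80020000a0000224000080409830b8001008000004140020300140020c0000000080c00640000a05500000201000010484424518)))) (.node (.node (.leaf (spread 10 9 0x803c2100104c00000080000000840805400804298620002050024044216600200000002000020248400001190020004020090)) (.leaf (spread 10 9 0xa40204004098004010010086408200a4100200420003201c0a00c004200090100020040000020000000042000180082108002432)))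 (.node (.leaf (spread 10 9 0x100000420344820900000210900501010401000041008059448800000400a00c0042040000000441060010106004180008000812)) (.leaf (spread 10 9 0xa82425a8011100c00900001200200020012011000a000804401480120008000030280000080000840004040010882060820028))))))))) (.node (.node (.node (.node (.node (.node (.node (.node (.leaf (spread 10 9 0x80a08144a418100000820000200182040418002028100280060100f588000080810020000010088008084000000800202040021)) (.leaf (spread 10 9 0x40000028004000008030000800102000000181401000202000080090300610011018061400203100881404a22805040088238))) (.leaf (spread 10 9 0x500000122480000081804010022220c0800080840000004021000880208a0020290024040103c800000930008001002010148020))) (.node (.leaf (spread 10 9 0x20640c0001665100018000000040008104201020200040a00301002400100080404421403226850000004000200200011040020)) (.leaf (spread 10 9 0x14404008808080008201004020004205490040c00003040a0100100000407022c00988001000449200000000049081000000484)))) (.node (.node (.leaf (spread 10 9 0x1800000010804004481000402000084002000482411200200315500804092040001004a01008000021d808040080520000080082))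 (.leaf (spread 10 9 0x20045c000008a6e012002040200020200002000000000c4002848008100400c0452244000019400004002000004100203220210))) (.node (.leaf (spread 10 9 0x801840100840100c0090000004804008a0001330404000840102020000081000454081200300080e0c8080021008000200002042)) (.leaf (spread 10 9 0x100400008e0100020004400008119880200e01006002100010904100002040000080200a8a108008402041204a20010040020400))))) (.node (.node (.node (.leaf (spread 10 9 0x4040010202008000d0018000008030482014090810410930080000508001200280220a000080017400c000080400000010160002)) (.leaf (spread 10 9 0x340d10000020481080802a00400005010010208200c200000884002022008c80080000405000c0040a0004030c00100400400108))) (.node (.leaf (spread 10 9 0x3681000020040040000082a000c00000000c22c0d20281020480400080410200000740400001110890148000800010200820040)) (.leaf (spread 10 9 0x8002800000000224010110860090102810001040000008008048400000100a284490054124404000004000018510102000024518)))) (.node (.node (.leaf (spread 10 9 0x80004250b000100108200502000250048110000b021888200000200000a00080400020885c22100000000848200c000000408804)) (.leaf (spread 10 9 0x440000800a0700002400050038000004042002020849800c00c580400100000a000000a000008000e9480004034004000318008)))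 (.node (.leaf (spread 10 9 0x800c002c004840000048130000000008412100c118000210a200001000a00c20001648008080245000022046000040190200)) (.leaf (spread 10 9 0x1000080000108041000500400040001208103000000480188000039070428082840044000038c0000004802c1201410000810240)))))) (.node (.node (.node (.node (.leaf (spread 10 9 0xa510808020008200043c5400808008252001020560004000402080248004010000400044088004028000010003340000000022)) (.leaf (spread 10 9 0x1011000008212008000261000010088020803950800008111004102080011830002110500088000020a204440031020000008))) (.node (.leaf (spread 10 9 0x600300080020814004100800400009038201a06410800c000011002000200c000c210420088082000011000108480000c0000e00)) (.leaf (spread 10 9 0x4040308000030260a4000050000200000020000000020022000001010108100009140c09200300000003211b5003003014902800)))) (.node (.node (.leaf (spread 10 9 0x14000d00000000010014400850020000000200c004021212804204400154001801210200820800000400580d18200c0a0040002)) (.leaf (spread 10 9 0x280060084085a04680000000000b4811d0104000080000828010202804000040000900001042001108801004040000005016440))) (.node (.leaf (spread 10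 9 0x2110050043014c8210000480a00002020140410840010000000000c03080c2008201288200008020282040800048906000000)) (.leaf (spread 10 9 0x11003000020240400000050004200000002100001440200302000084412010008002a801212008000068841a018000986000c810))))) (.node (.node (.node (.leaf (spread 10 9 0x1a008c0430641000040c110090400000040270011400000000000801a0200088c086000900040200041120006002002100060)) (.leaf (spread 10 9 0x600000448010020000103100620011068000082288000a01a400002600208200040020383808010010000040000820080a300800))) (.node (.leaf (spread 10 9 0x200840000a01104400c0040003001820600c11104328800800241000002040000a00000002080a08040491100090002000230008)) (.leaf (spread 10 9 0x50000441000884a00004000200000400002003402821030000221000109100800288802010430801801230082040004c02020100)))) (.node (.node (.leaf (spread 10 9 0x32262000000002002000c08000004a0004042200810080268810011028800241201200400d00100000480040e00184010000006)) (.leaf (spread 10 9 0x200240006022804001160608304000016024000410004000c800120000402400008101400802018101110400000800100c844400))) (.node (.leaf (spread 10 9 0x40c8140a00b00800800801001004800021140001614c8000001000206c012004010040008005805400000000300010028600004))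 (.leaf (spread 10 9 0x12221000210100000000600008020000000002814010012000100000b030924002028c0000c08208c80c00c2800098022060800))))))) (.node (.node (.node (.node (.node (.leaf (spread 10 9 0x8a1095000000220c40128003020402068ca0003300aa21000008480020d0000000001000000000004100020800000002100420c)) (.leaf (spread 10 9 0x1001200001010210800821000402804300012500800400800200210008840400000611040000010040000880a8031ec0000e09))) (.node (.leaf (spread 10 9 0x10020041004080011000040240406480800000008004a000020004800c004400044c028004032041421018426014004800020804)) (.leaf (spread 10 9 0xc08900000080210810000800200000400c00809226608408020680068000220000024008064003401140404024200020204000)))) (.node (.node (.leaf (spread 10 9 0x4c0000008a002501000101000001090001402084006083888000100340112121e20080020000440000022280001001200002060)) (.leaf (spread 10 9 0x10044001090104060002b000010450000000010800001841000000000120040800020200d100425e8030952000000250609))) (.node (.leaf (spread 10 9 0x85090800020000080004280400004640014020820e84110c040000190000288008003041000004081002240270008000000c4000)) (.leaf (spread 10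 9 0x100c0040006000010000a0000600008408000a1490091002020000108c000420004140810010300200102800012204610100b108))))) (.node (.node (.node (.leaf (spread 10 9 0x20100422000380000900106001008200019010801000204040109002080881040c0118000400041a00200004a0c0014c00008001)) (.leaf (spread 10 9 0x5000800080100080021810010c040020640804080008804010980001300030202040100070a00541040300800044080000040018))) (.node (.leaf (spread 10 9 0x12041a200003008000a0020204081081a00200211880200008001008e0104440200000808108080a002000810088010444004)) (.leaf (spread 10 9 0x1400051001008000010800884994880000400830028808409020202010008030c00801000000026080300140030200300000014)))) (.node (.node (.leaf (spread 10 9 0x290201000882000890008a0000018089c4101004405001120000020c05040810040000100200102001901042040900004401000)) (.leaf (spread 10 9 0x8404002880240040000101100001022011a00000080000000334080000001400400000a100002218004448221210e210880191))) (.node (.leaf (spread 10 9 0x801001092004040040a430000004204310000c00238001000008800901c000600000100080200000520006120210c009000088c)) (.leaf (spread 10 9 0x1c0c80188400200810000000008a0a012c00046000202040000810810008102200000810c3000c100021408100044023010))))))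 (.node (.node (.node (.node (.leaf (spread 10 9 0x42010020002080081232200004060040100910040018100431080445304021004000080040000820820041800210401800000210)) (.leaf (spread 10 9 0x4000021060400001492024104000400000010280802c020002000000008044a20001168002144840400024008024012008708004))) (.node (.leaf (spread 10 9 0x2004020102008000010208000848048530a800000040600008000c0183101302854000010a008c0010000801200280030002010)) (.leaf (spread 10 9 0x48000040001000102089c980200080010100080001a204021200022000094118211400402400a80218406090000060400)))) (.node (.node (.leaf (spread 10 9 0x1200208e000408c0880100102208400600200008140840080038130240000000020014100400000040ea8000201482001202)) (.leaf (spread 10 9 0xf44860602d20000224003a0000480c040000180570081000000000207000000000200000001004000909410104810000000003))) (.node (.leaf (spread 10 9 0x80a810024008001000824204090800d0200023000b40020000000a400201042880000004094044808008100800088380240000)) (.leaf (spread 10 9 0x4400000040000806180000400004229000000008604000120801801021000c0018404002050805021400126084008c0c480a))))) (.node (.node (.node (.leaf (spread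 10 9 0x1490048088001018041910001200008000040424040000109010010012443020100a880014000250000624000000882000208004)) (.leaf (spread 10 9 0x2200800101210002200000004422400800040400210002204000018100400910081400000011190135420001308220801000b040))) (.node (.leaf (spread 10 9 0x2200c00016440102020080100004004140b00012040000001281005000c102011241880300c104804008080000000100110140)) (.leaf (spread 10 9 0x800a0020200820000001220a2e081200000040059024021400040008120000108010000040001400080c101008090280170142)))) (.node (.node (.leaf (spread 10 9 0x40421000a0100810010800c8032980c020000000004408224910c40020000920002042a40104009003000400000018000004100)) (.leaf (spread 10 9 0x8c8000000104002481011080000344080840c800900808c00800818000212000008201010200403020c008080000000800050609))) (.node (.leaf (spread 10 9 0x100204400042001040040108d20808020e0c06001800020220880241402400204082011100008000a000a8000000000648100)) (.leaf (spread 10 9 0x8004020000040042100800000041000021000028010405000001000083009880010082944044050920114802820042240300a8)))))))) (.node (.node (.node (.node (.node (.node (.node (.leaf (spread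 10 9 0x201004410000200500429243a0000040100080384008690280701000008000001200200a0014100040180008000021440200401)) (.leaf (spread 10 9 0x1a01400100180000084e400000101000200028880000004000d0800400000020400000082080000c4402092202a54c06d4040000))) (.leaf (spread 10 9 0x120000120400001905097000032000d0002004050400400002000001604000000001a8000000c800000480cb0010400800804253))) (.node (.leaf (spread 10 9 0x9400000122180002140420000001021210c40800408450000081200080200800000421840484100e01220100c000400440840000)) (.leaf (spread 10 9 0x889a24008829102022b6002002504022400009100000821000080000000085000000006000000000410002080210c08b1800000)))) (.node (.node (.leaf (spread 10 9 0x10008000870022094204140800462000042010010428221602020000a08020000108408c0808200000020001102000084804008)) (.leaf (spread 10 9 0x402000004000802080620500021200c00f140083200a0410042280000140000001280002160008400014000020110060210480))) (.node (.leaf (spread 10 9 0x100080102910040021000010008c0200124201040000b00000a100003800030800062004d1a20200000b00008000220020142008)) (.leaf (spread 10 9 0x3394004012000000080000018400000020012804000400000000e01440000000028000010000104200198488955210d100501880)))))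 (.node (.node (.node (.leaf (spread 10 9 0xa00000482000000010200000007084008080900008210000240030003b1800015a2110203100020001200022906200008000481)) (.leaf (spread 10 9 0x88000088801022428000a20090008091080a0200a810300040005008240002603000220080044810000000000148880404400))) (.node (.leaf (spread 10 9 0x1000830c21022041140040000049000001002070104001400041010002201380210400480001220082102100c808000220001)) (.leaf (spread 10 9 0x2001000805000004004400418000008010800010c200061586480080c000600410084080088420c14100001000000d484000220)))) (.node (.node (.leaf (spread 10 9 0x40002450108801080024008a003002091000004024230810001000049010c0002200030020422004000003053110000000000488)) (.leaf (spread 10 9 0x40120004300000240104c24304292100500000004013000020010082200020400100400c10088c0800500800008180a200088000))) (.node (.leaf (spread 10 9 0x100104800020104200c0020840410248800500004023050020008400400040080010004181000828101200008104021110a0049)) (.leaf (spread 10 9 0x881014040210220428840220080010048000304000005011500000040009850a000008604000000000200000280020429004a8c)))))) (.node (.node (.node (.node (.leaf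 (spread 10 9 0x180000401020002020010840412840005200200820020300c00510c0101500090004202811100800041a0080000002420000a002)) (.leaf (spread 10 9 0x326220000a05000000001000603a002400002000082805004414001005001041001024000c40800088802084008000404110006))) (.node (.leaf (spread 10 9 0x402001001020080000098010010a061004080c012e000080230050204008401840618000000000020004500b08000000888c0008)) (.leaf (spread 10 9 0x90000004000010008800000033204010c0812004000010080a000000486aa0200040001029a200603020000049902228009000)))) (.node (.node (.leaf (spread 10 9 0x10002048820040402008010480289004800190823002090000040c400020500200012008181008400020004000081400c0002e00)) (.leaf (spread 10 9 0x6000540001010000280034420882c000239000003200c06000000810025018010000401044001000104000002200100088208061))) (.node (.leaf (spread 10 9 0x8505000004002c08209122a000022000000020080a501000080c802000004004901100400021a408401204001000100222200400)) (.leaf (spread 10 9 0x80100105221020004084920000060204200004412000290e0021101500004080021800000008000001000418000020a4c844200))))) (.node (.node (.node (.leaf (spread 10 9 0x8000c8490800000000100000d0821282030404304122000041020104014008000141800000006110088200a20002888000008004))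 (.leaf (spread 10 9 0x2408500480028650108040000010090000820800000200500a2088006002400002400200440218052480a401010000402200800))) (.node (.leaf (spread 10 9 0x800020240000620c60028080000040000048200208a200011800024200a0480860100c4020000450c4400000200118028400004)) (.leaf (spread 10 9 0x100200030000008020a009050100001008800020c2200804042101800010100801c1088204800024112025008800400120810020)))) (.node (.node (.leaf (spread 10 9 0x484230020000200000002000100000a104440d0002100000080004c9c8800042cc00000080d8109080608000040008020240000a)) (.leaf (spread 10 9 0x400800a0aa4140090090000280000040240000c0003400c80018200200001262000400080014256010a0004200801022000040))) (.node (.leaf (spread 10 9 0x12004118000c08204500004448400800081004040481000800000200e04040c60050201208040000040000200042100902810050)) (.leaf (spread 10 9 0x800000040000b002008000100280000010030200000310002a10000000c84020808224002028108120280102d42010410d0824))))))) (.node (.node (.node (.node (.node (.leaf (spread 10 9 0x900020800128800044120880c0800a0600002474440220080014400800c020020020041010040210000008000082001110200024)) (.leaf (spread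 10 9 0x10800025800090400880440000010a004441000429a400000210900080020608000020010080080925118210180000002180001))) (.node (.leaf (spread 10 9 0x800480004104180004512089000100800a0020080c0020e0100400a0100820021022400004400810002028000012800006200680)) (.leaf (spread 10 9 0x8a04000524440000070010228804720000c048001090100000220082000008001e840001000000000027200b0100820081000)))) (.node (.node (.leaf (spread 10 9 0x1404128000006d180c000220001000004004812a0050000024200210160000100411000014024030040204820400002081001400)) (.leaf (spread 10 9 0x5441200008002040a60000008041002c00139800000d101500800a00001000800a000000910000408000430000400244141050))) (.node (.leaf (spread 10 9 0x80710100002100c88008000410000b00800000000808414006810014080208920208524b0102008000a200800080020001004000)) (.leaf (spread 10 9 0x2082010c004101c00000608000800c20800020280008401c42210204602201000a00000000000200088041102880022082048400))))) (.node (.node (.node (.leaf (spread 10 9 0x8400c2c8020080820829048002020302000000014080000049028002810000000044280c94401000010000200015028001c00400)) (.leaf (spread 10 9 0x24000040010140014318200000010e020514000245000005100004090002d801082020205000011000060100000c40800300800)))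 (.node (.leaf (spread 10 9 0x4002110000000108100210400c000000880b9080a2008008000102960088010001404000004000081004920d02042001008415)) (.leaf (spread 10 9 0x8111200228000000000040460000c0841e4001c400004004030080c108000080610200820188000200000802109048808090)))) (.node (.node (.leaf (spread 10 9 0x108018000081800008000008033004400000d080001040080410408031007802006088802002400023080002841090008804001)) (.leaf (spread 10 9 0x44208000010260000102608100212200000000000000a021000100488050002004818048000202000210809a2080088c0c480a))) (.node (.leaf (spread 10 9 0x888000390000020800102104a004004084020101008100200498082900100030005412000010001080840802420043040000208)) (.leaf (spread 10 9 0x10701020190220020300501410000421834802000200000000229080000000000c0100800043020008040862000888060020028)))))) (.node (.node (.node (.node (.leaf (spread 10 9 0x2200200028408100380012008800a28040010000089209020023020200480a00000c002002100085880200001090018804001)) (.leaf (spread 10 9 0x406800040080000028820000110400020a1420431008d002400000883808050c100000008014640080800001080420004020090))) (.node (.leaf (spread 10 9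 0x7004800421042000800451088048800400100204021a404080010d002000008008000a000a000002a10d214000040001100010)) (.leaf (spread 10 9 0x202080026000000002065000830210c400042224000444001442020000009020210000804c00000a8000098200044124230000)))) (.node (.node (.leaf (spread 10 9 0x804000800015c021010410c00009220208510000410d00002000018060004054000001801880010e000400040040000c00019001)) (.leaf (spread 10 9 0x49c0c380050042042480080000100085010900000041004182001402000001c00184000000000040000281004109212104802000))) (.node (.leaf (spread 10 9 0x8000002820081120010814a874900044a10400400002300880085000000000004020054000100001800034000c80400124800020)) (.leaf (spread 10 9 0x200c1012440204042000004802080044101016200128000000000a42000040080a000200710000069000208000040a75840000))))) (.node (.node (.node (.leaf (spread 10 9 0x4002000048008447300000000000080008028100302101808802202601614304020922804400101100002000000000800007820)) (.leaf (spread 10 9 0x4010104000a800200180400040010000030802022b888022100000000000008084a246900800828020c08048400224c08000))) (.node (.leaf (spread 10 9 0x24021400000401f0006080000480004004020000108220021124108010021000034148200011300054008040000100400208061))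 (.leaf (spread 10 9 0x400100000c001020000210004410000001410041004010060401000620612401286d4400080010008001502004004014a0010280)))) (.node (.node (.leaf (spread 10 9 0x200406814000000080004001502a14080000012200016214810c8001800082100090402028041100100080000084600000082820)) (.leaf (spread 10 9 0x804206004480a0005400000400800000400040000000800000001c000404020001444008201080800a4c0c422870004c10641080))) (.node (.leaf (spread 10 9 0x40080008b00110140002080100101c005148001080800990080006048812000890000aa000880001800040000080480a600000)) (.leaf (spread 10 9 0x2010300851814040800000861003160210030000020000a000014000000003000000000800000590042a1110901460904210000))))))))))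

/-- A table. -/
noncomputable def fixOrbMasksRR : BTree := .node fixOrbMasksRRL fixOrbMasksRRR

/-- A table. -/
noncomputable def fixOrbMasksR : BTree := .node fixOrbMasksRL fixOrbMasksRR

/-- A table. -/
noncomputable def fixOrbMasks : BTree := .node fixOrbMasksL fixOrbMasksR

/-- Part of a table. -/
noncomputable def fixOrbParL : BTree := (.node (.node (.node (.node (.node (.node (.node (.node (.node (.node (.node (.leaf 0) (.leaf 15956)) (.leaf 5355)) (.node (.leaf 2434) (.leaf 9136))) (.node (.node (.leaf 1210) (.leaf 7140)) (.node (.leaf 3828) (.leaf 11843)))) (.node (.node (.node (.leaf 605) (.leaf 6184)) (.node (.leaf 3131) (.leaf 10513))) (.node (.node (.leaf 1829) (.leaf 8065)) (.node (.leaf 4537) (.leaf 13587))))) (.node (.node (.node (.node (.leaf 288) (.leaf 5789)) (.node (.leaf 2781) (.leaf 9892))) (.node (.node (.leaf 1507) (.leaf 7561)) (.node (.leaf 4179) (.leaf 12773)))) (.node (.node (.node (.leaf 907) (.leaf 6580)) (.node (.leaf 3484) (.leaf 11209))) (.node (.node (.leaf 2131) (.leaf 8577)) (.node (.leaf 4933) (.leaf 14653)))))) (.node (.node (.node (.node (.node (.leaf 139)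 (.leaf 5620)) (.node (.leaf 2584) (.leaf 9547))) (.node (.node (.leaf 1354) (.leaf 7357)) (.node (.leaf 4010) (.leaf 12284)))) (.node (.node (.node (.leaf 749) (.leaf 6384)) (.node (.leaf 3293) (.leaf 10817))) (.node (.node (.leaf 1978) (.leaf 8376)) (.node (.leaf 4756) (.leaf 14185))))) (.node (.node (.node (.node (.leaf 442) (.leaf 6011)) (.node (.leaf 2946) (.leaf 10237))) (.node (.node (.leaf 1653) (.leaf 7821)) (.node (.leaf 4378) (.leaf 13169)))) (.node (.node (.node (.leaf 1064) (.leaf 6837)) (.node (.leaf 3640) (.leaf 11533))) (.node (.node (.leaf 2281) (.leaf 8835)) (.node (.leaf 5153) (.leaf 15232))))))) (.node (.node (.node (.node (.node (.node (.node (.leaf 69) (.leaf 16242)) (.leaf 5451)) (.node (.leaf 2497) (.leaf 9320))) (.node (.node (.leaf 1281) (.leaf 7257)) (.node (.leaf 3901) (.leaf 12027)))) (.node (.node (.node (.leaf 673) (.leaf 6282)) (.node (.leaf 3211) (.leaf 10621))) (.node (.node (.leaf 1912) (.leaf 8288)) (.node (.leaf 4628) (.leaf 13917))))) (.node (.node (.node (.node (.leaf 369) (.leaf 5882)) (.node (.leaf 2857) (.leaf 10116))) (.node (.node (.leaf 1585) (.leaf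 7673)) (.node (.leaf 4276) (.leaf 12979)))) (.node (.node (.node (.leaf 995) (.leaf 6731)) (.node (.leaf 3554) (.leaf 11386))) (.node (.node (.leaf 2193) (.leaf 8685)) (.node (.leaf 5066) (.leaf 14933)))))) (.node (.node (.node (.node (.node (.leaf 217) (.leaf 5709)) (.node (.leaf 2688) (.leaf 9684))) (.node (.node (.leaf 1435) (.leaf 7461)) (.node (.leaf 4080) (.leaf 12500)))) (.node (.node (.node (.leaf 821) (.leaf 6461)) (.node (.leaf 3368) (.leaf 10960))) (.node (.node (.leaf 2060) (.leaf 8477)) (.node (.leaf 4842) (.leaf 14392))))) (.node (.node (.node (.node (.leaf 513) (.leaf 6098)) (.node (.leaf 3025) (.leaf 10387))) (.node (.node (.leaf 1729) (.leaf 7948)) (.node (.leaf 4458) (.leaf 13409)))) (.node (.node (.node (.leaf 1138) (.leaf 7067)) (.node (.leaf 3731) (.leaf 11713))) (.node (.node (.leaf 2357) (.leaf 9029)) (.node (.leaf 5234) (.leaf 15658)))))))) (.node (.node (.node (.node (.node (.node (.node (.node (.leaf 33) (.leaf 16088)) (.leaf 5401)) (.node (.leaf 2466) (.leaf 9201))) (.node (.node (.leaf 1253) (.leaf 7227)) (.node (.leaf 3864) (.leaf 11970)))) (.node (.node (.node (.leaf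 649) (.leaf 6221)) (.node (.leaf 3177) (.leaf 10561))) (.node (.node (.leaf 1876) (.leaf 8196)) (.node (.leaf 4597) (.leaf 13810))))) (.node (.node (.node (.node (.leaf 333) (.leaf 5842)) (.node (.leaf 2811) (.leaf 10036))) (.node (.node (.leaf 1540) (.leaf 7626)) (.node (.leaf 4227) (.leaf 12917)))) (.node (.node (.node (.leaf 953) (.leaf 6665)) (.node (.leaf 3517) (.leaf 11317))) (.node (.node (.leaf 2162) (.leaf 8618)) (.node (.leaf 4978) (.leaf 14797)))))) (.node (.node (.node (.node (.node (.leaf 173) (.leaf 5676)) (.node (.leaf 2635) (.leaf 9596))) (.node (.node (.leaf 1395) (.leaf 7421)) (.node (.leaf 4043) (.leaf 12381)))) (.node (.node (.node (.leaf 781) (.leaf 6428)) (.node (.leaf 3336) (.leaf 10883))) (.node (.node (.leaf 2025) (.leaf 8419)) (.node (.leaf 4792) (.leaf 14265))))) (.node (.node (.node (.node (.leaf 473) (.leaf 6058)) (.node (.leaf 2985) (.leaf 10330))) (.node (.node (.leaf 1698) (.leaf 7892)) (.node (.leaf 4418) (.leaf 13285)))) (.node (.node (.node (.leaf 1101) (.leaf 6980)) (.node (.leaf 3673) (.leaf 11629))) (.node (.node (.leaf 2317) (.leaf 8921)) (.node (.leaf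 5194) (.leaf 15563))))))) (.node (.node (.node (.node (.node (.node (.node (.leaf 101) (.leaf 16393)) (.leaf 5554)) (.node (.leaf 2545) (.leaf 9459))) (.node (.node (.leaf 1317) (.leaf 7307)) (.node (.leaf 3956) (.leaf 12161)))) (.node (.node (.node (.leaf 714) (.leaf 6324)) (.node (.leaf 3264) (.leaf 10697))) (.node (.node (.leaf 1945) (.leaf 8329)) (.node (.leaf 4669) (.leaf 14069))))) (.node (.node (.node (.node (.leaf 405) (.leaf 5938)) (.node (.leaf 2904) (.leaf 10181))) (.node (.node (.leaf 1624) (.leaf 7765)) (.node (.leaf 4309) (.leaf 13114)))) (.node (.node (.node (.leaf 1021) (.leaf 6772)) (.node (.leaf 3597) (.leaf 11459))) (.node (.node (.leaf 2235) (.leaf 8777)) (.node (.leaf 5106) (.leaf 15072)))))) (.node (.node (.node (.node (.node (.leaf 252) (.leaf 5746)) (.node (.leaf 2733) (.leaf 9833))) (.node (.node (.leaf 1474) (.leaf 7506)) (.node (.leaf 4133) (.leaf 12619)))) (.node (.node (.node (.leaf 865) (.leaf 6493)) (.node (.leaf 3442) (.leaf 11130))) (.node (.node (.leaf 2099) (.leaf 8533)) (.node (.leaf 4897) (.leaf 14521))))) (.node (.node (.node (.node (.leaf 561) (.leaf 6141))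 (.node (.leaf 3069) (.leaf 10443))) (.node (.node (.leaf 1773) (.leaf 8017)) (.node (.leaf 4506) (.leaf 13524)))) (.node (.node (.node (.leaf 1176) (.leaf 7105)) (.node (.leaf 3778) (.leaf 11778))) (.node (.node (.leaf 2401) (.leaf 9073)) (.node (.leaf 5273) (.leaf 15777))))))))) (.node (.node (.node (.node (.node (.node (.node (.node (.node (.leaf 16) (.leaf 15997)) (.leaf 5377)) (.node (.leaf 2449) (.leaf 9161))) (.node (.node (.leaf 1243) (.leaf 7180)) (.node (.leaf 3842) (.leaf 11937)))) (.node (.node (.node (.leaf 621) (.leaf 6195)) (.node (.leaf 3154) (.leaf 10539))) (.node (.node (.leaf 1853) (.leaf 8121)) (.node (.leaf 4555) (.leaf 13688))))) (.node (.node (.node (.node (.leaf 314) (.leaf 5818)) (.node (.leaf 2796) (.leaf 9916))) (.node (.node (.leaf 1523) (.leaf 7597)) (.node (.leaf 4195) (.leaf 12867)))) (.node (.node (.node (.leaf 924) (.leaf 6642)) (.node (.leaf 3506) (.leaf 11252))) (.node (.node (.leaf 2141) (.leaf 8601)) (.node (.leaf 4961) (.leaf 14713)))))) (.node (.node (.node (.node (.node (.leaf 153) (.leaf 5637)) (.node (.leaf 2605) (.leaf 9570))) (.node (.node (.leaf 1376)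 (.leaf 7411)) (.node (.leaf 4032) (.leaf 12305)))) (.node (.node (.node (.leaf 771) (.leaf 6408)) (.node (.leaf 3314) (.leaf 10853))) (.node (.node (.leaf 2005) (.leaf 8387)) (.node (.leaf 4771) (.leaf 14245))))) (.node (.node (.node (.node (.leaf 453) (.leaf 6036)) (.node (.leaf 2965) (.leaf 10280))) (.node (.node (.leaf 1674) (.leaf 7858)) (.node (.leaf 4395) (.leaf 13189)))) (.node (.node (.node (.leaf 1091) (.leaf 6948)) (.node (.leaf 3653) (.leaf 11603))) (.node (.node (.leaf 2298) (.leaf 8860)) (.node (.leaf 5170) (.leaf 15365))))))) (.node (.node (.node (.node (.node (.node (.node (.leaf 81) (.leaf 16297)) (.leaf 5476)) (.node (.leaf 2522) (.leaf 9338))) (.node (.node (.leaf 1304) (.leaf 7277)) (.node (.leaf 3921) (.leaf 12108)))) (.node (.node (.node (.leaf 698) (.leaf 6306)) (.node (.leaf 3233) (.leaf 10658))) (.node (.node (.leaf 1925) (.leaf 8312)) (.node (.leaf 4649) (.leaf 13971))))) (.node (.node (.node (.node (.leaf 389) (.leaf 5916)) (.node (.leaf 2884) (.leaf 10140))) (.node (.node (.leaf 1602) (.leaf 7705)) (.node (.leaf 4299) (.leaf 13044)))) (.node (.node (.node (.leaf 1011)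 (.leaf 6753)) (.node (.leaf 3581) (.leaf 11397))) (.node (.node (.leaf 2210) (.leaf 8741)) (.node (.leaf 5088) (.leaf 14949)))))) (.node (.node (.node (.node (.node (.leaf 229) (.leaf 5729)) (.node (.leaf 2714) (.leaf 9756))) (.node (.node (.leaf 1457) (.leaf 7480)) (.node (.leaf 4100) (.leaf 12546)))) (.node (.node (.node (.leaf 845) (.leaf 6475)) (.node (.leaf 3403) (.leaf 11083))) (.node (.node (.leaf 2084) (.leaf 8515)) (.node (.leaf 4880) (.leaf 14432))))) (.node (.node (.node (.node (.leaf 540) (.leaf 6121)) (.node (.leaf 3045) (.leaf 10413))) (.node (.node (.leaf 1753) (.leaf 7989)) (.node (.leaf 4491) (.leaf 13448)))) (.node (.node (.node (.leaf 1154) (.leaf 7083)) (.node (.leaf 3756) (.leaf 11763))) (.node (.node (.leaf 2381) (.leaf 9050)) (.node (.leaf 5250) (.leaf 15690)))))))) (.node (.node (.node (.node (.node (.node (.node (.node (.leaf 44) (.leaf 16147)) (.leaf 5425)) (.node (.leaf 2482) (.leaf 9288))) (.node (.node (.leaf 1268) (.leaf 7245)) (.node (.leaf 3882) (.leaf 11993)))) (.node (.node (.node (.leaf 660) (.leaf 6261)) (.node (.leaf 3192) (.leaf 10597))) (.node (.node (.leaf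 1889) (.leaf 8234)) (.node (.leaf 4616) (.leaf 13901))))) (.node (.node (.node (.node (.leaf 355) (.leaf 5865)) (.node (.leaf 2829) (.leaf 10061))) (.node (.node (.leaf 1557) (.leaf 7649)) (.node (.leaf 4250) (.leaf 12940)))) (.node (.node (.node (.leaf 976) (.leaf 6709)) (.node (.leaf 3533) (.leaf 11373))) (.node (.node (.leaf 2178) (.leaf 8658)) (.node (.leaf 5043) (.leaf 14906)))))) (.node (.node (.node (.node (.node (.leaf 202) (.leaf 5691)) (.node (.leaf 2651) (.leaf 9629))) (.node (.node (.leaf 1416) (.leaf 7443)) (.node (.leaf 4061) (.leaf 12425)))) (.node (.node (.node (.leaf 801) (.leaf 6443)) (.node (.leaf 3347) (.leaf 10920))) (.node (.node (.leaf 2045) (.leaf 8451)) (.node (.leaf 4817) (.leaf 14297))))) (.node (.node (.node (.node (.leaf 496) (.leaf 6074)) (.node (.leaf 3005) (.leaf 10361))) (.node (.node (.leaf 1715) (.leaf 7913)) (.node (.leaf 4429) (.leaf 13365)))) (.node (.node (.node (.leaf 1117) (.leaf 7005)) (.node (.leaf 3700) (.leaf 11673))) (.node (.node (.leaf 2337) (.leaf 8980)) (.node (.leaf 5217) (.leaf 15626))))))) (.node (.node (.node (.node (.node (.node (.node (.leaf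 124) (.leaf 16484)) (.leaf 5588)) (.node (.leaf 2562) (.leaf 9491))) (.node (.node (.leaf 1338) (.leaf 7323)) (.node (.leaf 3987) (.leaf 12226)))) (.node (.node (.node (.leaf 739) (.leaf 6360)) (.node (.leaf 3275) (.leaf 10754))) (.node (.node (.leaf 1963) (.leaf 8360)) (.node (.leaf 4724) (.leaf 14141))))) (.node (.node (.node (.node (.leaf 433) (.leaf 5972)) (.node (.leaf 2925) (.leaf 10212))) (.node (.node (.leaf 1634) (.leaf 7794)) (.node (.leaf 4340) (.leaf 13137)))) (.node (.node (.node (.leaf 1041) (.leaf 6820)) (.node (.leaf 3617) (.leaf 11493))) (.node (.node (.leaf 2253) (.leaf 8809)) (.node (.leaf 5130) (.leaf 15152)))))) (.node (.node (.node (.node (.node (.leaf 267) (.leaf 5772)) (.node (.leaf 2754) (.leaf 9860))) (.node (.node (.leaf 1490) (.leaf 7529)) (.node (.leaf 4154) (.leaf 12637)))) (.node (.node (.node (.leaf 882) (.leaf 6556)) (.node (.leaf 3465) (.leaf 11185))) (.node (.node (.leaf 2113) (.leaf 8560)) (.node (.leaf 4914) (.leaf 14572))))) (.node (.node (.node (.node (.leaf 586) (.leaf 6162)) (.node (.leaf 3097) (.leaf 10484))) (.node (.node (.leaf 1793) (.leaf 8037))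 (.node (.leaf 4522) (.leaf 13565)))) (.node (.node (.node (.leaf 1193) (.leaf 7123)) (.node (.leaf 3803) (.leaf 11810))) (.node (.node (.leaf 2418) (.leaf 9109)) (.node (.leaf 5323) (.leaf 15857)))))))))) (.node (.node (.node (.node (.node (.node (.node (.node (.node (.node (.leaf 9) (.leaf 15988)) (.leaf 5370)) (.node (.leaf 2440) (.leaf 9149))) (.node (.node (.leaf 1227) (.leaf 7171)) (.node (.leaf 3833) (.leaf 11859)))) (.node (.node (.node (.leaf 613) (.leaf 6189)) (.node (.leaf 3141) (.leaf 10532))) (.node (.node (.leaf 1844) (.leaf 8092)) (.node (.leaf 4541) (.leaf 13597))))) (.node (.node (.node (.node (.leaf 297) (.leaf 5803)) (.node (.leaf 2787) (.leaf 9900))) (.node (.node (.leaf 1516) (.leaf 7578)) (.node (.leaf 4188) (.leaf 12796)))) (.node (.node (.node (.leaf 921) (.leaf 6627)) (.node (.leaf 3493) (.leaf 11240))) (.node (.node (.leaf 2133) (.leaf 8586)) (.node (.leaf 4948) (.leaf 14696)))))) (.node (.node (.node (.node (.node (.leaf 141) (.leaf 5629)) (.node (.leaf 2589) (.leaf 9560))) (.node (.node (.leaf 1365) (.leaf 7376)) (.node (.leaf 4018) (.leaf 12293)))) (.node (.node (.node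 (.leaf 757) (.leaf 6394)) (.node (.leaf 3305) (.leaf 10848))) (.node (.node (.leaf 1986) (.leaf 8381)) (.node (.leaf 4764) (.leaf 14216))))) (.node (.node (.node (.node (.leaf 445) (.leaf 6027)) (.node (.leaf 2961) (.leaf 10251))) (.node (.node (.leaf 1659) (.leaf 7834)) (.node (.leaf 4381) (.leaf 13186)))) (.node (.node (.node (.leaf 1074) (.leaf 6913)) (.node (.leaf 3649) (.leaf 11569))) (.node (.node (.leaf 2290) (.leaf 8850)) (.node (.leaf 5157) (.leaf 15274))))))) (.node (.node (.node (.node (.node (.node (.node (.leaf 76) (.leaf 16275)) (.leaf 5467)) (.node (.leaf 2501) (.leaf 9330))) (.node (.node (.leaf 1293) (.leaf 7274)) (.node (.leaf 3912) (.leaf 12049)))) (.node (.node (.node (.leaf 685) (.leaf 6290)) (.node (.leaf 3228) (.leaf 10632))) (.node (.node (.leaf 1921) (.leaf 8293)) (.node (.leaf 4635) (.leaf 13938))))) (.node (.node (.node (.node (.leaf 387) (.leaf 5899)) (.node (.leaf 2881) (.leaf 10123))) (.node (.node (.leaf 1594) (.leaf 7688)) (.node (.leaf 4288) (.leaf 13001)))) (.node (.node (.node (.leaf 1002) (.leaf 6733)) (.node (.leaf 3577) (.leaf 11393))) (.node (.node (.leaf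 2202) (.leaf 8705)) (.node (.leaf 5077) (.leaf 14940)))))) (.node (.node (.node (.node (.node (.leaf 220) (.leaf 5722)) (.node (.leaf 2707) (.leaf 9748))) (.node (.node (.leaf 1448) (.leaf 7472)) (.node (.leaf 4092) (.leaf 12523)))) (.node (.node (.node (.leaf 832) (.leaf 6468)) (.node (.leaf 3377) (.leaf 11005))) (.node (.node (.leaf 2068) (.leaf 8508)) (.node (.leaf 4850) (.leaf 14410))))) (.node (.node (.node (.node (.leaf 523) (.leaf 6116)) (.node (.leaf 3040) (.leaf 10389))) (.node (.node (.leaf 1746) (.leaf 7971)) (.node (.leaf 4472) (.leaf 13418)))) (.node (.node (.node (.leaf 1145) (.leaf 7076)) (.node (.leaf 3747) (.leaf 11736))) (.node (.node (.leaf 2370) (.leaf 9040)) (.node (.leaf 5241) (.leaf 15666)))))))) (.node (.node (.node (.node (.node (.node (.node (.node (.leaf 37) (.leaf 16120)) (.leaf 5418)) (.node (.leaf 2473) (.leaf 9229))) (.node (.node (.leaf 1265) (.leaf 7240)) (.node (.leaf 3869) (.leaf 11986)))) (.node (.node (.node (.leaf 653) (.leaf 6244)) (.node (.leaf 3181) (.leaf 10584))) (.node (.node (.leaf 1883) (.leaf 8217)) (.node (.leaf 4603) (.leaf 13865))))) (.node (.node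 (.node (.node (.leaf 344) (.leaf 5849)) (.node (.leaf 2824) (.leaf 10051))) (.node (.node (.leaf 1555) (.leaf 7642)) (.node (.leaf 4236) (.leaf 12936)))) (.node (.node (.node (.leaf 962) (.leaf 6706)) (.node (.leaf 3525) (.leaf 11368))) (.node (.node (.leaf 2169) (.leaf 8634)) (.node (.leaf 5019) (.leaf 14899)))))) (.node (.node (.node (.node (.node (.leaf 181) (.leaf 5684)) (.node (.leaf 2644) (.leaf 9627))) (.node (.node (.leaf 1405) (.leaf 7429)) (.node (.leaf 4052) (.leaf 12401)))) (.node (.node (.node (.leaf 794) (.leaf 6437)) (.node (.leaf 3341) (.leaf 10897))) (.node (.node (.leaf 2035) (.leaf 8442)) (.node (.leaf 4811) (.leaf 14288))))) (.node (.node (.node (.node (.leaf 485) (.leaf 6065)) (.node (.leaf 2995) (.leaf 10333))) (.node (.node (.leaf 1701) (.leaf 7907)) (.node (.leaf 4427) (.leaf 13333)))) (.node (.node (.node (.leaf 1115) (.leaf 6997)) (.node (.leaf 3683) (.leaf 11667))) (.node (.node (.leaf 2328) (.leaf 8940)) (.node (.leaf 5197) (.leaf 15585))))))) (.node (.node (.node (.node (.node (.node (.node (.leaf 117) (.leaf 16403)) (.leaf 5569)) (.node (.leaf 2555) (.leaf 9483)))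 (.node (.node (.leaf 1325) (.leaf 7309)) (.node (.leaf 3980) (.leaf 12213)))) (.node (.node (.node (.leaf 731) (.leaf 6345)) (.node (.leaf 3269) (.leaf 10715))) (.node (.node (.leaf 1955) (.leaf 8333)) (.node (.leaf 4681) (.leaf 14123))))) (.node (.node (.node (.node (.leaf 417) (.leaf 5963)) (.node (.leaf 2917) (.leaf 10193))) (.node (.node (.leaf 1629) (.leaf 7785)) (.node (.leaf 4324) (.leaf 13125)))) (.node (.node (.node (.leaf 1035) (.leaf 6779)) (.node (.leaf 3611) (.leaf 11489))) (.node (.node (.leaf 2241) (.leaf 8795)) (.node (.leaf 5122) (.leaf 15121)))))) (.node (.node (.node (.node (.node (.leaf 260) (.leaf 5763)) (.node (.leaf 2739) (.leaf 9836))) (.node (.node (.leaf 1481) (.leaf 7513)) (.node (.leaf 4146) (.leaf 12621)))) (.node (.node (.node (.leaf 875) (.leaf 6514)) (.node (.leaf 3451) (.leaf 11156))) (.node (.node (.leaf 2101) (.leaf 8549)) (.node (.leaf 4906) (.leaf 14545))))) (.node (.node (.node (.node (.leaf 577) (.leaf 6153)) (.node (.leaf 3091) (.leaf 10459))) (.node (.node (.leaf 1784) (.leaf 8032)) (.node (.leaf 4513) (.leaf 13560)))) (.node (.node (.node (.leaf 1185)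 (.leaf 7109)) (.node (.leaf 3785) (.leaf 11801))) (.node (.node (.leaf 2411) (.leaf 9091)) (.node (.leaf 5314) (.leaf 15817))))))))) (.node (.node (.node (.node (.node (.node (.node (.node (.node (.leaf 21) (.leaf 16012)) (.leaf 5392)) (.node (.leaf 2459) (.leaf 9178))) (.node (.node (.leaf 1250) (.leaf 7204)) (.node (.leaf 3850) (.leaf 11955)))) (.node (.node (.node (.leaf 633) (.leaf 6204)) (.node (.leaf 3161) (.leaf 10555))) (.node (.node (.leaf 1864) (.leaf 8137)) (.node (.leaf 4564) (.leaf 13800))))) (.node (.node (.node (.node (.leaf 317) (.leaf 5825)) (.node (.leaf 2805) (.leaf 9981))) (.node (.node (.leaf 1531) (.leaf 7616)) (.node (.leaf 4211) (.leaf 12912)))) (.node (.node (.node (.leaf 941) (.leaf 6658)) (.node (.leaf 3515) (.leaf 11305))) (.node (.node (.leaf 2149) (.leaf 8610)) (.node (.leaf 4970) (.leaf 14740)))))) (.node (.node (.node (.node (.node (.leaf 162) (.leaf 5667)) (.node (.leaf 2612) (.leaf 9587))) (.node (.node (.leaf 1385) (.leaf 7413)) (.node (.leaf 4037) (.leaf 12355)))) (.node (.node (.node (.leaf 773) (.leaf 6419)) (.node (.leaf 3322) (.leaf 10868))) (.node (.node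 (.leaf 2016) (.leaf 8400)) (.node (.leaf 4777) (.leaf 14256))))) (.node (.node (.node (.node (.leaf 467) (.leaf 6043)) (.node (.leaf 2976) (.leaf 10306))) (.node (.node (.leaf 1683) (.leaf 7889)) (.node (.leaf 4397) (.leaf 13241)))) (.node (.node (.node (.leaf 1098) (.leaf 6977)) (.node (.leaf 3664) (.leaf 11611))) (.node (.node (.leaf 2314) (.leaf 8899)) (.node (.leaf 5187) (.leaf 15453))))))) (.node (.node (.node (.node (.node (.node (.node (.leaf 91) (.leaf 16329)) (.leaf 5484)) (.node (.leaf 2531) (.leaf 9428))) (.node (.node (.leaf 1314) (.leaf 7292)) (.node (.leaf 3931) (.leaf 12149)))) (.node (.node (.node (.leaf 705) (.leaf 6315)) (.node (.leaf 3250) (.leaf 10691))) (.node (.node (.leaf 1936) (.leaf 8317)) (.node (.leaf 4664) (.leaf 13980))))) (.node (.node (.node (.node (.leaf 397) (.leaf 5928)) (.node (.leaf 2893) (.leaf 10176))) (.node (.node (.leaf 1610) (.leaf 7722)) (.node (.leaf 4306) (.leaf 13053)))) (.node (.node (.node (.leaf 1018) (.leaf 6756)) (.node (.leaf 3589) (.leaf 11404))) (.node (.node (.leaf 2228) (.leaf 8754)) (.node (.leaf 5096) (.leaf 15013)))))) (.node (.node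 (.node (.node (.node (.leaf 248) (.leaf 5738)) (.node (.leaf 2728) (.leaf 9779))) (.node (.node (.leaf 1467) (.leaf 7490)) (.node (.leaf 4123) (.leaf 12563)))) (.node (.node (.node (.leaf 856) (.leaf 6489)) (.node (.leaf 3435) (.leaf 11115))) (.node (.node (.leaf 2089) (.leaf 8521)) (.node (.leaf 4885) (.leaf 14499))))) (.node (.node (.node (.node (.leaf 549) (.leaf 6137)) (.node (.leaf 3060) (.leaf 10425))) (.node (.node (.leaf 1762) (.leaf 8005)) (.node (.leaf 4500) (.leaf 13493)))) (.node (.node (.node (.leaf 1165) (.leaf 7098)) (.node (.leaf 3765) (.leaf 11769))) (.node (.node (.leaf 2392) (.leaf 9068)) (.node (.leaf 5257) (.leaf 15723)))))))) (.node (.node (.node (.node (.node (.node (.node (.node (.leaf 64) (.leaf 16233)) (.leaf 5436)) (.node (.leaf 2490) (.leaf 9309))) (.node (.node (.leaf 1275) (.leaf 7252)) (.node (.leaf 3892) (.leaf 12002)))) (.node (.node (.node (.leaf 667) (.leaf 6273)) (.node (.leaf 3201) (.leaf 10608))) (.node (.node (.leaf 1901) (.leaf 8273)) (.node (.leaf 4621) (.leaf 13909))))) (.node (.node (.node (.node (.leaf 357) (.leaf 5873)) (.node (.leaf 2851) (.leaf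 10105))) (.node (.node (.leaf 1571) (.leaf 7658)) (.node (.leaf 4257) (.leaf 12948)))) (.node (.node (.node (.leaf 985) (.leaf 6724)) (.node (.leaf 3545) (.leaf 11379))) (.node (.node (.leaf 2187) (.leaf 8667)) (.node (.leaf 5049) (.leaf 14931)))))) (.node (.node (.node (.node (.node (.leaf 205) (.leaf 5697)) (.node (.leaf 2674) (.leaf 9660))) (.node (.node (.leaf 1425) (.leaf 7449)) (.node (.leaf 4067) (.leaf 12491)))) (.node (.node (.node (.leaf 810) (.leaf 6456)) (.node (.leaf 3356) (.leaf 10925))) (.node (.node (.leaf 2051) (.leaf 8461)) (.node (.leaf 4829) (.leaf 14307))))) (.node (.node (.node (.node (.leaf 504) (.leaf 6085)) (.node (.leaf 3016) (.leaf 10378))) (.node (.node (.leaf 1717) (.leaf 7931)) (.node (.leaf 4437) (.leaf 13403)))) (.node (.node (.node (.leaf 1125) (.leaf 7018)) (.node (.leaf 3712) (.leaf 11689))) (.node (.node (.leaf 2347) (.leaf 9025)) (.node (.leaf 5227) (.leaf 15649))))))) (.node (.node (.node (.node (.node (.node (.node (.leaf 129) (.leaf 16521)) (.leaf 5600)) (.node (.leaf 2569) (.leaf 9500))) (.node (.node (.leaf 1345) (.leaf 7354)) (.node (.leaf 4001) (.leaf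 12257)))) (.node (.node (.node (.leaf 746) (.leaf 6372)) (.node (.leaf 3284) (.leaf 10777))) (.node (.node (.leaf 1969) (.leaf 8365)) (.node (.leaf 4752) (.leaf 14165))))) (.node (.node (.node (.node (.leaf 436) (.leaf 5980)) (.node (.leaf 2937) (.leaf 10232))) (.node (.node (.leaf 1648) (.leaf 7811)) (.node (.leaf 4355) (.leaf 13152)))) (.node (.node (.node (.leaf 1053) (.leaf 6833)) (.node (.leaf 3629) (.leaf 11522))) (.node (.node (.leaf 2275) (.leaf 8818)) (.node (.leaf 5137) (.leaf 15221)))))) (.node (.node (.node (.node (.node (.leaf 273) (.leaf 5781)) (.node (.leaf 2776) (.leaf 9888))) (.node (.node (.leaf 1498) (.leaf 7537)) (.node (.leaf 4163) (.leaf 12699)))) (.node (.node (.node (.leaf 898) (.leaf 6569)) (.node (.leaf 3481) (.leaf 11200))) (.node (.node (.leaf 2122) (.leaf 8570)) (.node (.leaf 4928) (.leaf 14616))))) (.node (.node (.node (.node (.leaf 600) (.leaf 6170)) (.node (.leaf 3112) (.leaf 10493))) (.node (.node (.leaf 1826) (.leaf 8043)) (.node (.leaf 4530) (.leaf 13581)))) (.node (.node (.node (.leaf 1202) (.leaf 7132)) (.node (.leaf 3809) (.leaf 11818))) (.node (.node (.leaf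 2425) (.leaf 9122)) (.node (.leaf 5346) (.leaf 15947)))))))))))

/-- Part of a table. -/
noncomputable def fixOrbParR : BTree := (.node (.node (.node (.node (.node (.node (.node (.node (.node (.node (.node (.leaf 2) (.leaf 15986)) (.leaf 5356)) (.node (.leaf 2436) (.leaf 9141))) (.node (.node (.leaf 1219) (.leaf 7168)) (.node (.leaf 3829) (.leaf 11852)))) (.node (.node (.node (.leaf 612) (.leaf 6186)) (.node (.leaf 3139) (.leaf 10524))) (.node (.node (.leaf 1833) (.leaf 8080)) (.node (.leaf 4539) (.leaf 13589))))) (.node (.node (.node (.node (.leaf 290) (.leaf 5793)) (.node (.leaf 2785) (.leaf 9893))) (.node (.node (.leaf 1514) (.leaf 7571)) (.node (.leaf 4186) (.leaf 12788)))) (.node (.node (.node (.leaf 916) (.leaf 6609)) (.node (.leaf 3485) (.leaf 11225))) (.node (.node (.leaf 2132) (.leaf 8584)) (.node (.leaf 4937) (.leaf 14672)))))) (.node (.node (.node (.node (.node (.leaf 140) (.leaf 5628)) (.node (.leaf 2587) (.leaf 9549))) (.node (.node (.leaf 1363) (.leaf 7361)) (.node (.leaf 4017) (.leaf 12289)))) (.node (.node (.node (.leaf 755) (.leaf 6386)) (.node (.leaf 3301) (.leaf 10833))) (.node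 (.node (.leaf 1985) (.leaf 8378)) (.node (.leaf 4757) (.leaf 14201))))) (.node (.node (.node (.node (.leaf 444) (.leaf 6020)) (.node (.leaf 2953) (.leaf 10243))) (.node (.node (.leaf 1657) (.leaf 7832)) (.node (.leaf 4380) (.leaf 13171)))) (.node (.node (.node (.leaf 1066) (.leaf 6845)) (.node (.leaf 3642) (.leaf 11547))) (.node (.node (.leaf 2288) (.leaf 8841)) (.node (.leaf 5155) (.leaf 15256))))))) (.node (.node (.node (.node (.node (.node (.node (.leaf 74) (.leaf 16250)) (.leaf 5464)) (.node (.leaf 2499) (.leaf 9328))) (.node (.node (.leaf 1290) (.leaf 7267)) (.node (.leaf 3905) (.leaf 12036)))) (.node (.node (.node (.leaf 683) (.leaf 6289)) (.node (.leaf 3221) (.leaf 10625))) (.node (.node (.leaf 1914) (.leaf 8291)) (.node (.leaf 4633) (.leaf 13931))))) (.node (.node (.node (.node (.leaf 384) (.leaf 5890)) (.node (.leaf 2868) (.leaf 10121))) (.node (.node (.leaf 1592) (.leaf 7675)) (.node (.leaf 4283) (.leaf 12993)))) (.node (.node (.node (.leaf 1000) (.leaf 6732)) (.node (.leaf 3571) (.leaf 11388))) (.node (.node (.leaf 2200) (.leaf 8701)) (.node (.leaf 5074) (.leaf 14938)))))) (.node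 (.node (.node (.node (.node (.leaf 219) (.leaf 5713)) (.node (.leaf 2690) (.leaf 9699))) (.node (.node (.leaf 1441) (.leaf 7465)) (.node (.leaf 4083) (.leaf 12514)))) (.node (.node (.node (.leaf 825) (.leaf 6466)) (.node (.leaf 3370) (.leaf 10962))) (.node (.node (.leaf 2066) (.leaf 8500)) (.node (.leaf 4848) (.leaf 14394))))) (.node (.node (.node (.node (.leaf 514) (.leaf 6107)) (.node (.leaf 3026) (.leaf 10388))) (.node (.node (.leaf 1736) (.leaf 7949)) (.node (.leaf 4465) (.leaf 13416)))) (.node (.node (.node (.leaf 1141) (.leaf 7074)) (.node (.leaf 3738) (.leaf 11729))) (.node (.node (.leaf 2363) (.leaf 9033)) (.node (.leaf 5237) (.leaf 15665)))))))) (.node (.node (.node (.node (.node (.node (.node (.node (.leaf 35) (.leaf 16113)) (.leaf 5416)) (.node (.leaf 2469) (.leaf 9203))) (.node (.node (.leaf 1257) (.leaf 7233)) (.node (.leaf 3866) (.leaf 11979)))) (.node (.node (.node (.leaf 651) (.leaf 6241)) (.node (.leaf 3179) (.leaf 10573))) (.node (.node (.leaf 1877) (.leaf 8213)) (.node (.leaf 4601) (.leaf 13843))))) (.node (.node (.node (.node (.leaf 337) (.leaf 5845)) (.node (.leaf 2813)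 (.leaf 10044))) (.node (.node (.leaf 1552) (.leaf 7640)) (.node (.leaf 4234) (.leaf 12924)))) (.node (.node (.node (.leaf 960) (.leaf 6668)) (.node (.leaf 3524) (.leaf 11353))) (.node (.node (.leaf 2165) (.leaf 8627)) (.node (.leaf 4987) (.leaf 14897)))))) (.node (.node (.node (.node (.node (.leaf 180) (.leaf 5677)) (.node (.leaf 2642) (.leaf 9624))) (.node (.node (.leaf 1403) (.leaf 7427)) (.node (.leaf 4050) (.leaf 12388)))) (.node (.node (.node (.leaf 785) (.leaf 6434)) (.node (.leaf 3338) (.leaf 10885))) (.node (.node (.leaf 2026) (.leaf 8433)) (.node (.leaf 4794) (.leaf 14275))))) (.node (.node (.node (.node (.leaf 482) (.leaf 6061)) (.node (.leaf 2986) (.leaf 10332))) (.node (.node (.leaf 1700) (.leaf 7905)) (.node (.leaf 4420) (.leaf 13331)))) (.node (.node (.node (.leaf 1105) (.leaf 6996)) (.node (.leaf 3674) (.leaf 11645))) (.node (.node (.leaf 2321) (.leaf 8939)) (.node (.leaf 5196) (.leaf 15581))))))) (.node (.node (.node (.node (.node (.node (.node (.leaf 115) (.leaf 16396)) (.leaf 5557)) (.node (.leaf 2552) (.leaf 9474))) (.node (.node (.leaf 1323) (.leaf 7308)) (.node (.leaf 3978)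 (.leaf 12178)))) (.node (.node (.node (.leaf 722) (.leaf 6332)) (.node (.leaf 3266) (.leaf 10706))) (.node (.node (.leaf 1946) (.leaf 8331)) (.node (.leaf 4676) (.leaf 14116))))) (.node (.node (.node (.node (.leaf 409) (.leaf 5947)) (.node (.leaf 2916) (.leaf 10189))) (.node (.node (.leaf 1626) (.leaf 7781)) (.node (.leaf 4321) (.leaf 13116)))) (.node (.node (.node (.leaf 1025) (.leaf 6773)) (.node (.leaf 3601) (.leaf 11468))) (.node (.node (.leaf 2237) (.leaf 8786)) (.node (.leaf 5115) (.leaf 15089)))))) (.node (.node (.node (.node (.node (.leaf 253) (.leaf 5754)) (.node (.leaf 2737) (.leaf 9835))) (.node (.node (.leaf 1477) (.leaf 7509)) (.node (.leaf 4139) (.leaf 12620)))) (.node (.node (.node (.leaf 866) (.leaf 6504)) (.node (.leaf 3444) (.leaf 11141))) (.node (.node (.leaf 2100) (.leaf 8537)) (.node (.leaf 4904) (.leaf 14528))))) (.node (.node (.node (.node (.leaf 568) (.leaf 6149)) (.node (.leaf 3073) (.leaf 10445))) (.node (.node (.leaf 1777) (.leaf 8024)) (.node (.leaf 4509) (.leaf 13539)))) (.node (.node (.node (.leaf 1178) (.leaf 7107)) (.node (.leaf 3781) (.leaf 11785))) (.node (.node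 (.leaf 2402) (.leaf 9082)) (.node (.leaf 5280) (.leaf 15808))))))))) (.node (.node (.node (.node (.node (.node (.node (.node (.node (.leaf 19) (.leaf 16001)) (.leaf 5385)) (.node (.leaf 2450) (.leaf 9177))) (.node (.node (.leaf 1245) (.leaf 7185)) (.node (.leaf 3849) (.leaf 11946)))) (.node (.node (.node (.leaf 625) (.leaf 6202)) (.node (.leaf 3157) (.leaf 10541))) (.node (.node (.leaf 1857) (.leaf 8128)) (.node (.leaf 4557) (.leaf 13748))))) (.node (.node (.node (.node (.leaf 316) (.leaf 5821)) (.node (.leaf 2802) (.leaf 9923))) (.node (.node (.leaf 1528) (.leaf 7609)) (.node (.leaf 4196) (.leaf 12875)))) (.node (.node (.node (.leaf 939) (.leaf 6644)) (.node (.leaf 3512) (.leaf 11296))) (.node (.node (.leaf 2147) (.leaf 8608)) (.node (.leaf 4968) (.leaf 14716)))))) (.node (.node (.node (.node (.node (.leaf 160) (.leaf 5649)) (.node (.leaf 2610) (.leaf 9572))) (.node (.node (.leaf 1378) (.leaf 7412)) (.node (.leaf 4034) (.leaf 12312)))) (.node (.node (.node (.leaf 772) (.leaf 6413)) (.node (.leaf 3321) (.leaf 10865))) (.node (.node (.leaf 2009) (.leaf 8389)) (.node (.leaf 4773) (.leaf 14249)))))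 (.node (.node (.node (.node (.leaf 457) (.leaf 6041)) (.node (.leaf 2969) (.leaf 10299))) (.node (.node (.leaf 1677) (.leaf 7867)) (.node (.leaf 4396) (.leaf 13237)))) (.node (.node (.node (.leaf 1093) (.leaf 6957)) (.node (.leaf 3657) (.leaf 11604))) (.node (.node (.leaf 2307) (.leaf 8869)) (.node (.leaf 5179) (.leaf 15410))))))) (.node (.node (.node (.node (.node (.node (.node (.leaf 89) (.leaf 16322)) (.leaf 5481)) (.node (.leaf 2524) (.leaf 9424))) (.node (.node (.leaf 1306) (.leaf 7289)) (.node (.leaf 3922) (.leaf 12115)))) (.node (.node (.node (.leaf 701) (.leaf 6313)) (.node (.leaf 3249) (.leaf 10689))) (.node (.node (.leaf 1929) (.leaf 8315)) (.node (.leaf 4657) (.leaf 13978))))) (.node (.node (.node (.node (.leaf 396) (.leaf 5917)) (.node (.leaf 2885) (.leaf 10155))) (.node (.node (.leaf 1609) (.leaf 7721)) (.node (.leaf 4301) (.leaf 13045)))) (.node (.node (.node (.leaf 1013) (.leaf 6755)) (.node (.leaf 3588) (.leaf 11402))) (.node (.node (.leaf 2219) (.leaf 8745)) (.node (.leaf 5090) (.leaf 14963)))))) (.node (.node (.node (.node (.node (.leaf 233) (.leaf 5736)) (.node (.leaf 2723)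 (.leaf 9764))) (.node (.node (.leaf 1458) (.leaf 7482)) (.node (.leaf 4114) (.leaf 12548)))) (.node (.node (.node (.leaf 849) (.leaf 6476)) (.node (.leaf 3412) (.leaf 11093))) (.node (.node (.leaf 2085) (.leaf 8517)) (.node (.leaf 4883) (.leaf 14434))))) (.node (.node (.node (.node (.leaf 548) (.leaf 6130)) (.node (.leaf 3049) (.leaf 10419))) (.node (.node (.leaf 1760) (.leaf 7993)) (.node (.leaf 4498) (.leaf 13483)))) (.node (.node (.node (.leaf 1162) (.leaf 7084)) (.node (.leaf 3763) (.leaf 11765))) (.node (.node (.leaf 2385) (.leaf 9059)) (.node (.leaf 5252) (.leaf 15698)))))))) (.node (.node (.node (.node (.node (.node (.node (.node (.leaf 45) (.leaf 16201)) (.leaf 5427)) (.node (.leaf 2484) (.leaf 9292))) (.node (.node (.leaf 1269) (.leaf 7250)) (.node (.leaf 3884) (.leaf 12000)))) (.node (.node (.node (.leaf 661) (.leaf 6265)) (.node (.leaf 3194) (.leaf 10601))) (.node (.node (.leaf 1898) (.leaf 8241)) (.node (.leaf 4619) (.leaf 13906))))) (.node (.node (.node (.node (.leaf 356) (.leaf 5869)) (.node (.leaf 2836) (.leaf 10099))) (.node (.node (.leaf 1564) (.leaf 7651)) (.node (.leaf 4252)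 (.leaf 12941)))) (.node (.node (.node (.leaf 978) (.leaf 6722)) (.node (.leaf 3537) (.leaf 11376))) (.node (.node (.leaf 2185) (.leaf 8660)) (.node (.leaf 5045) (.leaf 14908)))))) (.node (.node (.node (.node (.node (.leaf 204) (.leaf 5693)) (.node (.leaf 2667) (.leaf 9651))) (.node (.node (.leaf 1418) (.leaf 7445)) (.node (.leaf 4065) (.leaf 12489)))) (.node (.node (.node (.leaf 808) (.leaf 6445)) (.node (.leaf 3354) (.leaf 10922))) (.node (.node (.leaf 2049) (.leaf 8459)) (.node (.leaf 4826) (.leaf 14298))))) (.node (.node (.node (.node (.leaf 498) (.leaf 6083)) (.node (.leaf 3009) (.leaf 10368))) (.node (.node (.leaf 1716) (.leaf 7922)) (.node (.leaf 4435) (.leaf 13369)))) (.node (.node (.node (.leaf 1123) (.leaf 7009)) (.node (.leaf 3701) (.leaf 11685))) (.node (.node (.leaf 2338) (.leaf 8988)) (.node (.leaf 5218) (.leaf 15634))))))) (.node (.node (.node (.node (.node (.node (.node (.leaf 125) (.leaf 16490)) (.leaf 5595)) (.node (.leaf 2564) (.leaf 9498))) (.node (.node (.leaf 1341) (.leaf 7347)) (.node (.leaf 3988) (.leaf 12235)))) (.node (.node (.node (.leaf 741) (.leaf 6364)) (.node (.leaf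 3282) (.leaf 10762))) (.node (.node (.leaf 1965) (.leaf 8364)) (.node (.leaf 4738) (.leaf 14153))))) (.node (.node (.node (.node (.leaf 435) (.leaf 5978)) (.node (.leaf 2929) (.leaf 10213))) (.node (.node (.leaf 1643) (.leaf 7802)) (.node (.leaf 4347) (.leaf 13144)))) (.node (.node (.node (.leaf 1050) (.leaf 6821)) (.node (.leaf 3626) (.leaf 11501))) (.node (.node (.leaf 2257) (.leaf 8816)) (.node (.leaf 5133) (.leaf 15181)))))) (.node (.node (.node (.node (.node (.leaf 269) (.leaf 5780)) (.node (.leaf 2757) (.leaf 9861))) (.node (.node (.leaf 1492) (.leaf 7533)) (.node (.leaf 4161) (.leaf 12652)))) (.node (.node (.node (.leaf 891) (.leaf 6563)) (.node (.leaf 3468) (.leaf 11193))) (.node (.node (.leaf 2120) (.leaf 8562)) (.node (.leaf 4923) (.leaf 14588))))) (.node (.node (.node (.node (.leaf 593) (.leaf 6169)) (.node (.leaf 3105) (.leaf 10485))) (.node (.node (.leaf 1794) (.leaf 8041)) (.node (.leaf 4524) (.leaf 13576)))) (.node (.node (.node (.leaf 1200) (.leaf 7125)) (.node (.leaf 3805) (.leaf 11817))) (.node (.node (.leaf 2421) (.leaf 9113)) (.node (.leaf 5341) (.leaf 15889)))))))))) (.node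 (.node (.node (.node (.node (.node (.node (.node (.node (.node (.leaf 11) (.leaf 15995)) (.leaf 5373)) (.node (.leaf 2442) (.leaf 9153))) (.node (.node (.leaf 1236) (.leaf 7173)) (.node (.leaf 3840) (.leaf 11868)))) (.node (.node (.node (.leaf 619) (.leaf 6193)) (.node (.leaf 3145) (.leaf 10533))) (.node (.node (.leaf 1845) (.leaf 8100)) (.node (.leaf 4552) (.leaf 13612))))) (.node (.node (.node (.node (.leaf 307) (.leaf 5805)) (.node (.leaf 2794) (.leaf 9913))) (.node (.node (.leaf 1521) (.leaf 7589)) (.node (.leaf 4193) (.leaf 12835)))) (.node (.node (.node (.leaf 923) (.leaf 6635)) (.node (.leaf 3497) (.leaf 11243))) (.node (.node (.leaf 2140) (.leaf 8597)) (.node (.leaf 4957) (.leaf 14708)))))) (.node (.node (.node (.node (.node (.leaf 149) (.leaf 5635)) (.node (.leaf 2603) (.leaf 9563))) (.node (.node (.leaf 1369) (.leaf 7403)) (.node (.leaf 4027) (.leaf 12297)))) (.node (.node (.node (.leaf 761) (.leaf 6403)) (.node (.leaf 3312) (.leaf 10851))) (.node (.node (.leaf 1995) (.leaf 8385)) (.node (.leaf 4765) (.leaf 14218))))) (.node (.node (.node (.node (.leaf 451) (.leaf 6034)) (.node (.leaf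 2963) (.leaf 10265))) (.node (.node (.leaf 1668) (.leaf 7842)) (.node (.leaf 4385) (.leaf 13188)))) (.node (.node (.node (.leaf 1083) (.leaf 6916)) (.node (.leaf 3651) (.leaf 11573))) (.node (.node (.leaf 2297) (.leaf 8852)) (.node (.leaf 5161) (.leaf 15355))))))) (.node (.node (.node (.node (.node (.node (.node (.leaf 77) (.leaf 16289)) (.leaf 5469)) (.node (.leaf 2515) (.leaf 9337))) (.node (.node (.leaf 1297) (.leaf 7276)) (.node (.leaf 3914) (.leaf 12096)))) (.node (.node (.node (.leaf 689) (.leaf 6299)) (.node (.leaf 3229) (.leaf 10642))) (.node (.node (.leaf 1923) (.leaf 8300)) (.node (.leaf 4636) (.leaf 13953))))) (.node (.node (.node (.node (.leaf 388) (.leaf 5907)) (.node (.leaf 2883) (.leaf 10124))) (.node (.node (.leaf 1600) (.leaf 7693)) (.node (.leaf 4293) (.leaf 13008)))) (.node (.node (.node (.leaf 1005) (.leaf 6741)) (.node (.leaf 3580) (.leaf 11395))) (.node (.node (.leaf 2209) (.leaf 8725)) (.node (.leaf 5081) (.leaf 14947)))))) (.node (.node (.node (.node (.node (.leaf 221) (.leaf 5725)) (.node (.leaf 2713) (.leaf 9754))) (.node (.node (.leaf 1450) (.leaf 7474)) (.node (.leaf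 4097) (.leaf 12539)))) (.node (.node (.node (.leaf 834) (.leaf 6473)) (.node (.leaf 3401) (.leaf 11060))) (.node (.node (.leaf 2082) (.leaf 8509)) (.node (.leaf 4857) (.leaf 14412))))) (.node (.node (.node (.node (.leaf 538) (.leaf 6117)) (.node (.leaf 3042) (.leaf 10408))) (.node (.node (.leaf 1749) (.leaf 7980)) (.node (.leaf 4474) (.leaf 13441)))) (.node (.node (.node (.leaf 1152) (.leaf 7081)) (.node (.leaf 3754) (.leaf 11738))) (.node (.node (.leaf 2372) (.leaf 9042)) (.node (.leaf 5243) (.leaf 15675)))))))) (.node (.node (.node (.node (.node (.node (.node (.node (.leaf 42) (.leaf 16137)) (.leaf 5421)) (.node (.leaf 2475) (.leaf 9257))) (.node (.node (.leaf 1267) (.leaf 7243)) (.node (.leaf 3873) (.leaf 11988)))) (.node (.node (.node (.leaf 658) (.leaf 6259)) (.node (.leaf 3185) (.leaf 10594))) (.node (.node (.leaf 1885) (.leaf 8232)) (.node (.leaf 4605) (.leaf 13896))))) (.node (.node (.node (.node (.leaf 353) (.leaf 5858)) (.node (.leaf 2827) (.leaf 10059))) (.node (.node (.leaf 1556) (.leaf 7645)) (.node (.leaf 4237) (.leaf 12939)))) (.node (.node (.node (.leaf 969) (.leaf 6708)) (.node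 (.leaf 3531) (.leaf 11370))) (.node (.node (.leaf 2176) (.leaf 8643)) (.node (.leaf 5021) (.leaf 14901)))))) (.node (.node (.node (.node (.node (.leaf 185) (.leaf 5685)) (.node (.leaf 2645) (.leaf 9628))) (.node (.node (.leaf 1409) (.leaf 7433)) (.node (.leaf 4058) (.leaf 12408)))) (.node (.node (.node (.leaf 797) (.leaf 6441)) (.node (.leaf 3345) (.leaf 10901))) (.node (.node (.leaf 2040) (.leaf 8444)) (.node (.leaf 4813) (.leaf 14290))))) (.node (.node (.node (.node (.leaf 489) (.leaf 6072)) (.node (.leaf 3000) (.leaf 10337))) (.node (.node (.leaf 1705) (.leaf 7909)) (.node (.leaf 4428) (.leaf 13349)))) (.node (.node (.node (.leaf 1116) (.leaf 7003)) (.node (.leaf 3691) (.leaf 11669))) (.node (.node (.leaf 2330) (.leaf 8964)) (.node (.leaf 5201) (.leaf 15601))))))) (.node (.node (.node (.node (.node (.node (.node (.leaf 122) (.leaf 16465)) (.leaf 5572)) (.node (.leaf 2557) (.leaf 9489))) (.node (.node (.leaf 1329) (.leaf 7316)) (.node (.leaf 3985) (.leaf 12217)))) (.node (.node (.node (.leaf 736) (.leaf 6348)) (.node (.leaf 3273) (.leaf 10747))) (.node (.node (.leaf 1961) (.leaf 8340)) (.node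 (.leaf 4700) (.leaf 14139))))) (.node (.node (.node (.node (.leaf 426) (.leaf 5970)) (.node (.leaf 2923) (.leaf 10203))) (.node (.node (.leaf 1633) (.leaf 7792)) (.node (.leaf 4336) (.leaf 13133)))) (.node (.node (.node (.leaf 1037) (.leaf 6787)) (.node (.leaf 3613) (.leaf 11492))) (.node (.node (.leaf 2250) (.leaf 8805)) (.node (.leaf 5124) (.leaf 15145)))))) (.node (.node (.node (.node (.node (.leaf 261) (.leaf 5770)) (.node (.leaf 2748) (.leaf 9851))) (.node (.node (.leaf 1483) (.leaf 7522)) (.node (.leaf 4148) (.leaf 12629)))) (.node (.node (.node (.leaf 881) (.leaf 6516)) (.node (.leaf 3452) (.leaf 11169))) (.node (.node (.leaf 2109) (.leaf 8553)) (.node (.leaf 4913) (.leaf 14563))))) (.node (.node (.node (.node (.leaf 584) (.leaf 6160)) (.node (.leaf 3093) (.leaf 10476))) (.node (.node (.leaf 1786) (.leaf 8034)) (.node (.leaf 4515) (.leaf 13562)))) (.node (.node (.node (.leaf 1189) (.leaf 7120)) (.node (.leaf 3794) (.leaf 11808))) (.node (.node (.leaf 2416) (.leaf 9100)) (.node (.leaf 5321) (.leaf 15836))))))))) (.node (.node (.node (.node (.node (.node (.node (.node (.node (.leaf 26)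 (.leaf 16019)) (.leaf 5394)) (.node (.leaf 2464) (.leaf 9194))) (.node (.node (.leaf 1252) (.leaf 7225)) (.node (.leaf 3859) (.leaf 11961)))) (.node (.node (.node (.leaf 642) (.leaf 6210)) (.node (.leaf 3170) (.leaf 10557))) (.node (.node (.leaf 1866) (.leaf 8147)) (.node (.leaf 4594) (.leaf 13802))))) (.node (.node (.node (.node (.leaf 321) (.leaf 5834)) (.node (.leaf 2809) (.leaf 10000))) (.node (.node (.leaf 1533) (.leaf 7625)) (.node (.leaf 4213) (.leaf 12915)))) (.node (.node (.node (.leaf 945) (.leaf 6660)) (.node (.leaf 3516) (.leaf 11312))) (.node (.node (.leaf 2153) (.leaf 8617)) (.node (.leaf 4977) (.leaf 14748)))))) (.node (.node (.node (.node (.node (.leaf 171) (.leaf 5675)) (.node (.leaf 2613) (.leaf 9594))) (.node (.node (.leaf 1386) (.leaf 7420)) (.node (.leaf 4041) (.leaf 12376)))) (.node (.node (.node (.leaf 779) (.leaf 6426)) (.node (.leaf 3331) (.leaf 10880))) (.node (.node (.leaf 2018) (.leaf 8405)) (.node (.leaf 4785) (.leaf 14258))))) (.node (.node (.node (.node (.leaf 469) (.leaf 6044)) (.node (.leaf 2978) (.leaf 10323))) (.node (.node (.leaf 1685) (.leaf 7891)) (.node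 (.leaf 4405) (.leaf 13283)))) (.node (.node (.node (.leaf 1100) (.leaf 6979)) (.node (.leaf 3666) (.leaf 11626))) (.node (.node (.leaf 2316) (.leaf 8908)) (.node (.leaf 5189) (.leaf 15524))))))) (.node (.node (.node (.node (.node (.node (.node (.leaf 93) (.leaf 16372)) (.leaf 5505)) (.node (.leaf 2532) (.leaf 9429))) (.node (.node (.leaf 1316) (.leaf 7304)) (.node (.leaf 3947) (.leaf 12157)))) (.node (.node (.node (.leaf 712) (.leaf 6322)) (.node (.leaf 3259) (.leaf 10693))) (.node (.node (.leaf 1938) (.leaf 8324)) (.node (.leaf 4667) (.leaf 14020))))) (.node (.node (.node (.node (.leaf 403) (.leaf 5937)) (.node (.leaf 2897) (.leaf 10179))) (.node (.node (.leaf 1619) (.leaf 7745)) (.node (.leaf 4308) (.leaf 13080)))) (.node (.node (.node (.leaf 1020) (.leaf 6768)) (.node (.leaf 3595) (.leaf 11436))) (.node (.node (.leaf 2229) (.leaf 8773)) (.node (.leaf 5098) (.leaf 15041)))))) (.node (.node (.node (.node (.node (.leaf 251) (.leaf 5744)) (.node (.leaf 2730) (.leaf 9809))) (.node (.node (.leaf 1472) (.leaf 7499)) (.node (.leaf 4128) (.leaf 12617)))) (.node (.node (.node (.leaf 858) (.leaf 6491))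 (.node (.leaf 3437) (.leaf 11124))) (.node (.node (.leaf 2097) (.leaf 8531)) (.node (.leaf 4893) (.leaf 14513))))) (.node (.node (.node (.node (.leaf 557) (.leaf 6140)) (.node (.leaf 3061) (.leaf 10429))) (.node (.node (.leaf 1769) (.leaf 8013)) (.node (.leaf 4504) (.leaf 13515)))) (.node (.node (.node (.leaf 1169) (.leaf 7101)) (.node (.leaf 3769) (.leaf 11776))) (.node (.node (.leaf 2394) (.leaf 9069)) (.node (.leaf 5269) (.leaf 15764)))))))) (.node (.node (.node (.node (.node (.node (.node (.node (.leaf 67) (.leaf 16240)) (.leaf 5449)) (.node (.leaf 2493) (.leaf 9313))) (.node (.node (.leaf 1277) (.leaf 7253)) (.node (.leaf 3893) (.leaf 12025)))) (.node (.node (.node (.leaf 669) (.leaf 6280)) (.node (.leaf 3202) (.leaf 10610))) (.node (.node (.leaf 1905) (.leaf 8275)) (.node (.leaf 4626) (.leaf 13915))))) (.node (.node (.node (.node (.leaf 365) (.leaf 5880)) (.node (.leaf 2853) (.leaf 10107))) (.node (.node (.leaf 1581) (.leaf 7660)) (.node (.leaf 4260) (.leaf 12955)))) (.node (.node (.node (.leaf 986) (.leaf 6729)) (.node (.leaf 3552) (.leaf 11381))) (.node (.node (.leaf 2189) (.leaf 8668))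 (.node (.leaf 5057) (.leaf 14932)))))) (.node (.node (.node (.node (.node (.leaf 209) (.leaf 5707)) (.node (.leaf 2681) (.leaf 9681))) (.node (.node (.leaf 1426) (.leaf 7458)) (.node (.leaf 4069) (.leaf 12498)))) (.node (.node (.node (.leaf 818) (.leaf 6459)) (.node (.leaf 3361) (.leaf 10953))) (.node (.node (.leaf 2058) (.leaf 8474)) (.node (.leaf 4833) (.leaf 14370))))) (.node (.node (.node (.node (.leaf 506) (.leaf 6089)) (.node (.leaf 3018) (.leaf 10385))) (.node (.node (.leaf 1725) (.leaf 7939)) (.node (.leaf 4450) (.leaf 13405)))) (.node (.node (.node (.leaf 1129) (.leaf 7058)) (.node (.leaf 3722) (.leaf 11709))) (.node (.node (.leaf 2352) (.leaf 9027)) (.node (.leaf 5232) (.leaf 15656))))))) (.node (.node (.node (.node (.node (.node (.node (.leaf 137) (.leaf 16580)) (.leaf 5619)) (.node (.leaf 2572) (.leaf 9545))) (.node (.node (.leaf 1352) (.leaf 7356)) (.node (.leaf 4008) (.leaf 12275)))) (.node (.node (.node (.leaf 748) (.leaf 6379)) (.node (.leaf 3291) (.leaf 10801))) (.node (.node (.leaf 1976) (.leaf 8371)) (.node (.leaf 4755) (.leaf 14169))))) (.node (.node (.node (.node (.leaf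 437) (.leaf 5989)) (.node (.leaf 2944) (.leaf 10236))) (.node (.node (.leaf 1650) (.leaf 7817)) (.node (.leaf 4357) (.leaf 13161)))) (.node (.node (.node (.leaf 1057) (.leaf 6836)) (.node (.leaf 3633) (.leaf 11525))) (.node (.node (.leaf 2277) (.leaf 8826)) (.node (.leaf 5146) (.leaf 15225)))))) (.node (.node (.node (.node (.node (.leaf 281) (.leaf 5787)) (.node (.leaf 2778) (.leaf 9891))) (.node (.node (.leaf 1505) (.leaf 7546)) (.node (.leaf 4165) (.leaf 12748)))) (.node (.node (.node (.leaf 905) (.leaf 6571)) (.node (.leaf 3483) (.leaf 11202))) (.node (.node (.leaf 2128) (.leaf 8573)) (.node (.leaf 4930) (.leaf 14624))))) (.node (.node (.node (.node (.leaf 603) (.leaf 6179)) (.node (.leaf 3114) (.leaf 10504))) (.node (.node (.leaf 1828) (.leaf 8052)) (.node (.leaf 4533) (.leaf 13585)))) (.node (.node (.node (.leaf 1209) (.leaf 7137)) (.node (.leaf 3826) (.leaf 11827))) (.node (.node (.leaf 2427) (.leaf 9131)) (.node (.leaf 5353) (.leaf 15954)))))))))))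

/-- A table. -/
noncomputable def fixOrbPar : BTree := .node fixOrbParL fixOrbParR

/-- Part of a table. -/
noncomputable def fixOrbNext0L : BTree := (.node (.node (.node (.node (.node (.node (.node (.node (.node (.node (.node (.leaf 0) (.leaf 1997)) (.leaf 1012)) (.node (.leaf 534) (.leaf 1142))) (.node (.node (.leaf 152) (.leaf 1307)) (.node (.leaf 1108) (.leaf 1481)))) (.node (.node (.node (.leaf 213) (.leaf 773)) (.node (.leaf 633) (.leaf 1664))) (.node (.node (.leaf 241) (.leaf 1597)) (.node (.leaf 1281) (.leaf 1699))))) (.node (.node (.node (.node (.leaf 36) (.leaf 728)) (.node (.leaf 904) (.leaf 1857))) (.node (.node (.leaf 189) (.leaf 1084)) (.node (.leaf 1219) (.leaf 1729)))) (.node (.node (.node (.leaf 114) (.leaf 1231)) (.node (.leaf 441) (.leaf 1851))) (.node (.node (.leaf 722) (.leaf 1783)) (.node (.leaf 689) (.leaf 1832)))))) (.node (.node (.node (.node (.node (.leaf 22) (.leaf 1056)) (.node (.leaf 323) (.leaf 1196))) (.node (.node (.leaf 484) (.leaf 1498)) (.node (.leaf 1186) (.leaf 1870)))) (.node (.node (.node (.leaf 98) (.leaf 798)) (.node (.leaf 999) (.leaf 1715))) (.node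 (.node (.leaf 678) (.leaf 1047)) (.node (.leaf 1317) (.leaf 1952))))) (.node (.node (.node (.node (.leaf 158) (.leaf 752)) (.node (.leaf 584) (.leaf 1877))) (.node (.node (.leaf 582) (.leaf 994)) (.node (.leaf 549) (.leaf 1744)))) (.node (.node (.node (.leaf 133) (.leaf 1335)) (.node (.leaf 455) (.leaf 1944))) (.node (.node (.leaf 771) (.leaf 1808)) (.node (.leaf 992) (.leaf 1904))))))) (.node (.node (.node (.node (.node (.node (.node (.leaf 26) (.leaf 2057)) (.leaf 1364)) (.node (.leaf 314) (.leaf 1165))) (.node (.node (.leaf 459) (.leaf 1645)) (.node (.leaf 1119) (.leaf 1504)))) (.node (.node (.node (.leaf 243) (.leaf 1556)) (.node (.leaf 1011) (.leaf 1341))) (.node (.node (.leaf 239) (.leaf 1036)) (.node (.leaf 580) (.leaf 1791))))) (.node (.node (.node (.node (.leaf 80) (.leaf 1503)) (.node (.leaf 438) (.leaf 1865))) (.node (.node (.leaf 560) (.leaf 1703)) (.node (.leaf 820) (.leaf 1623)))) (.node (.node (.node (.leaf 354) (.leaf 1210)) (.node (.leaf 1081) (.leaf 1888))) (.node (.node (.leaf 750) (.leaf 1091)) (.node (.leaf 986) (.leaf 1869)))))) (.node (.node (.node (.node (.node (.leaf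 81) (.leaf 1454)) (.node (.leaf 336) (.leaf 1596))) (.node (.node (.leaf 511) (.leaf 942)) (.node (.leaf 510) (.leaf 1987)))) (.node (.node (.node (.leaf 119) (.leaf 1490)) (.node (.leaf 421) (.leaf 1370))) (.node (.node (.leaf 697) (.leaf 1075)) (.node (.leaf 944) (.leaf 1799))))) (.node (.node (.node (.node (.leaf 112) (.leaf 1269)) (.node (.leaf 666) (.leaf 1889))) (.node (.node (.leaf 607) (.leaf 1100)) (.node (.leaf 701) (.leaf 2016)))) (.node (.node (.node (.leaf 382) (.leaf 1615)) (.node (.leaf 1120) (.leaf 1784))) (.node (.node (.leaf 492) (.leaf 1387)) (.node (.leaf 1183) (.leaf 2065)))))))) (.node (.node (.node (.node (.node (.node (.node (.node (.leaf 14) (.leaf 2011)) (.leaf 1035)) (.node (.leaf 828) (.leaf 1612))) (.node (.node (.leaf 437) (.leaf 906)) (.node (.leaf 483) (.leaf 1650)))) (.node (.node (.node (.leaf 83) (.leaf 1172)) (.node (.leaf 411) (.leaf 1679))) (.node (.node (.leaf 470) (.leaf 1411)) (.node (.leaf 576) (.leaf 1727))))) (.node (.node (.node (.node (.leaf 103) (.leaf 760)) (.node (.leaf 608) (.leaf 1485))) (.node (.node (.leaf 193) (.leaf 954)) (.node (.leaf 531)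 (.leaf 1995)))) (.node (.node (.node (.leaf 339) (.leaf 871)) (.node (.leaf 1065) (.leaf 1704))) (.node (.node (.leaf 284) (.leaf 1078)) (.node (.leaf 623) (.leaf 1852)))))) (.node (.node (.node (.node (.node (.leaf 61) (.leaf 711)) (.node (.leaf 330) (.leaf 1575))) (.node (.node (.leaf 497) (.leaf 1667)) (.node (.leaf 506) (.leaf 1984)))) (.node (.node (.node (.leaf 271) (.leaf 1444)) (.node (.leaf 417) (.leaf 1736))) (.node (.node (.leaf 428) (.leaf 1439)) (.node (.leaf 599) (.leaf 1960))))) (.node (.node (.node (.node (.leaf 178) (.leaf 988)) (.node (.leaf 958) (.leaf 1880))) (.node (.node (.leaf 214) (.leaf 1373)) (.node (.leaf 553) (.leaf 1874)))) (.node (.node (.node (.leaf 141) (.leaf 875)) (.node (.leaf 824) (.leaf 1471))) (.node (.node (.leaf 749) (.leaf 1811)) (.node (.leaf 993) (.leaf 2024))))))) (.node (.node (.node (.node (.node (.node (.node (.leaf 35) (.leaf 2072)) (.leaf 827)) (.node (.leaf 850) (.leaf 1403))) (.node (.node (.leaf 452) (.leaf 1502)) (.node (.leaf 1177) (.leaf 1977)))) (.node (.node (.node (.leaf 256) (.leaf 1445)) (.node (.leaf 408) (.leaf 1688))) (.node (.node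 (.leaf 664) (.leaf 1432)) (.node (.leaf 1099) (.leaf 1760))))) (.node (.node (.node (.node (.leaf 132) (.leaf 743)) (.node (.leaf 363) (.leaf 1620))) (.node (.node (.leaf 203) (.leaf 1049)) (.node (.leaf 1245) (.leaf 1640)))) (.node (.node (.node (.leaf 362) (.leaf 1604)) (.node (.leaf 1088) (.leaf 1752))) (.node (.node (.leaf 730) (.leaf 1300)) (.node (.leaf 639) (.leaf 1884)))))) (.node (.node (.node (.node (.node (.leaf 94) (.leaf 1482)) (.node (.leaf 895) (.leaf 1531))) (.node (.node (.leaf 526) (.leaf 1675)) (.node (.leaf 744) (.leaf 1578)))) (.node (.node (.node (.leaf 311) (.leaf 815)) (.node (.leaf 431) (.leaf 1720))) (.node (.node (.leaf 703) (.leaf 1771)) (.node (.leaf 1350) (.leaf 2041))))) (.node (.node (.node (.node (.leaf 201) (.leaf 1139)) (.node (.leaf 398) (.leaf 1806))) (.node (.node (.leaf 251) (.leaf 1726)) (.node (.leaf 1270) (.leaf 1912)))) (.node (.node (.node (.leaf 147) (.leaf 1622)) (.node (.leaf 1096) (.leaf 1776))) (.node (.node (.leaf 804) (.leaf 1528)) (.node (.leaf 1413) (.leaf 2040))))))))) (.node (.node (.node (.node (.node (.node (.node (.node (.node (.leaf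 2) (.leaf 2004)) (.leaf 1354)) (.node (.leaf 823) (.leaf 1702))) (.node (.node (.leaf 156) (.leaf 1253)) (.node (.leaf 1150) (.leaf 1745)))) (.node (.node (.node (.leaf 88) (.leaf 775)) (.node (.leaf 977) (.leaf 1321))) (.node (.node (.leaf 238) (.leaf 1733)) (.node (.leaf 901) (.leaf 1711))))) (.node (.node (.node (.node (.leaf 105) (.leaf 949)) (.node (.leaf 912) (.leaf 1240))) (.node (.node (.leaf 324) (.leaf 1492)) (.node (.leaf 826) (.leaf 1795)))) (.node (.node (.node (.leaf 153) (.leaf 1122)) (.node (.leaf 925) (.leaf 1407))) (.node (.node (.leaf 280) (.leaf 1787)) (.node (.leaf 1361) (.leaf 1988)))))) (.node (.node (.node (.node (.node (.leaf 64) (.leaf 716)) (.node (.leaf 327) (.leaf 1844))) (.node (.node (.leaf 172) (.leaf 927)) (.node (.leaf 504) (.leaf 1983)))) (.node (.node (.node (.leaf 267) (.leaf 801)) (.node (.leaf 651) (.leaf 1921))) (.node (.node (.leaf 657) (.leaf 1192)) (.node (.leaf 603) (.leaf 2025))))) (.node (.node (.node (.node (.leaf 162) (.leaf 756)) (.node (.leaf 413) (.leaf 1285))) (.node (.node (.leaf 210) (.leaf 983)) (.node (.leaf 898) (.leaf 1969)))) (.node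 (.node (.node (.leaf 142) (.leaf 1274)) (.node (.leaf 479) (.leaf 1764))) (.node (.node (.leaf 288) (.leaf 1508)) (.node (.leaf 996) (.leaf 1922))))))) (.node (.node (.node (.node (.node (.node (.node (.leaf 37) (.leaf 2068)) (.leaf 686)) (.node (.leaf 316) (.leaf 1168))) (.node (.node (.leaf 163) (.leaf 1496)) (.node (.leaf 778) (.leaf 1812)))) (.node (.node (.node (.leaf 221) (.leaf 1160)) (.node (.leaf 1017) (.leaf 1333))) (.node (.node (.leaf 631) (.leaf 1039)) (.node (.leaf 916) (.leaf 1940))))) (.node (.node (.node (.node (.leaf 138) (.leaf 768)) (.node (.leaf 365) (.leaf 1624))) (.node (.node (.leaf 564) (.leaf 1040)) (.node (.leaf 538) (.leaf 1631)))) (.node (.node (.node (.leaf 127) (.leaf 1598)) (.node (.leaf 450) (.leaf 1426))) (.node (.node (.leaf 277) (.leaf 1348)) (.node (.leaf 636) (.leaf 2052)))))) (.node (.node (.node (.node (.node (.leaf 79) (.leaf 1477)) (.node (.leaf 340) (.leaf 1223))) (.node (.node (.leaf 519) (.leaf 935)) (.node (.leaf 848) (.leaf 1572)))) (.node (.node (.node (.leaf 118) (.leaf 1191)) (.node (.leaf 426) (.leaf 1716))) (.node (.node (.leaf 263) (.leaf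 1068)) (.node (.leaf 610) (.leaf 1804))))) (.node (.node (.node (.node (.leaf 90) (.leaf 1140)) (.node (.leaf 661) (.leaf 1647))) (.node (.node (.leaf 614) (.leaf 1027)) (.node (.leaf 766) (.leaf 1681)))) (.node (.node (.node (.leaf 409) (.leaf 1137)) (.node (.leaf 1124) (.leaf 1947))) (.node (.node (.leaf 335) (.leaf 1132)) (.node (.leaf 1024) (.leaf 2028)))))))) (.node (.node (.node (.node (.node (.node (.node (.node (.leaf 18) (.leaf 2060)) (.leaf 1424)) (.node (.leaf 833) (.leaf 1161))) (.node (.node (.leaf 165) (.leaf 1497)) (.node (.leaf 796) (.leaf 1972)))) (.node (.node (.node (.leaf 231) (.leaf 1015)) (.node (.leaf 399) (.leaf 1337))) (.node (.node (.leaf 396) (.leaf 1158)) (.node (.leaf 577) (.leaf 2022))))) (.node (.node (.node (.node (.leaf 49) (.leaf 1392)) (.node (.leaf 732) (.leaf 1544))) (.node (.node (.leaf 331) (.leaf 1698)) (.node (.leaf 1229) (.leaf 1999)))) (.node (.node (.node (.leaf 122) (.leaf 843)) (.node (.leaf 1060) (.leaf 1934))) (.node (.node (.leaf 745) (.leaf 1486)) (.node (.leaf 649) (.leaf 2047)))))) (.node (.node (.node (.node (.node (.leaf 27) (.leaf 1460))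 (.node (.leaf 555) (.leaf 1850))) (.node (.node (.leaf 177) (.leaf 938)) (.node (.leaf 509) (.leaf 1836)))) (.node (.node (.node (.leaf 292) (.leaf 1568)) (.node (.leaf 419) (.leaf 1365))) (.node (.node (.leaf 424) (.leaf 1452)) (.node (.leaf 940) (.leaf 1964))))) (.node (.node (.node (.node (.leaf 62) (.leaf 1524)) (.node (.leaf 963) (.leaf 1886))) (.node (.node (.leaf 595) (.leaf 1388)) (.node (.leaf 879) (.leaf 2013)))) (.node (.node (.node (.leaf 387) (.leaf 1262)) (.node (.leaf 487) (.leaf 1772))) (.node (.node (.leaf 496) (.leaf 1589)) (.node (.leaf 1402) (.leaf 2036))))))) (.node (.node (.node (.node (.node (.node (.node (.leaf 45) (.leaf 2076)) (.leaf 1046)) (.node (.leaf 321) (.leaf 1187))) (.node (.node (.leaf 456) (.leaf 1653)) (.node (.leaf 780) (.leaf 1820)))) (.node (.node (.node (.leaf 260) (.leaf 795)) (.node (.leaf 410) (.leaf 1487))) (.node (.node (.leaf 611) (.leaf 1045)) (.node (.leaf 593) (.leaf 1781))))) (.node (.node (.node (.node (.leaf 155) (.leaf 1443)) (.node (.leaf 933) (.leaf 1629))) (.node (.node (.leaf 205) (.leaf 1613)) (.node (.leaf 663) (.leaf 2008)))) (.node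 (.node (.node (.leaf 373) (.leaf 855)) (.node (.leaf 588) (.leaf 1438))) (.node (.node (.leaf 734) (.leaf 1805)) (.node (.leaf 1128) (.leaf 1894)))))) (.node (.node (.node (.node (.node (.leaf 39) (.leaf 1344)) (.node (.leaf 345) (.leaf 1584))) (.node (.node (.leaf 532) (.leaf 1340)) (.node (.leaf 520) (.leaf 1992)))) (.node (.node (.node (.leaf 111) (.leaf 1494)) (.node (.leaf 1054) (.leaf 1890))) (.node (.node (.leaf 719) (.leaf 1070)) (.node (.leaf 615) (.leaf 2005))))) (.node (.node (.node (.node (.leaf 207) (.leaf 1542)) (.node (.leaf 980) (.leaf 1858))) (.node (.node (.leaf 626) (.leaf 1351)) (.node (.leaf 914) (.leaf 1915)))) (.node (.node (.node (.leaf 422) (.leaf 1627)) (.node (.leaf 767) (.leaf 1965))) (.node (.node (.leaf 811) (.leaf 1538)) (.node (.leaf 1415) (.leaf 2044)))))))))) (.node (.node (.node (.node (.node (.node (.node (.node (.node (.node (.leaf 4) (.leaf 2002)) (.leaf 1090)) (.node (.leaf 305) (.leaf 1532))) (.node (.node (.leaf 334) (.leaf 1634)) (.node (.leaf 1147) (.leaf 1483)))) (.node (.node (.node (.leaf 86) (.leaf 1149)) (.node (.leaf 758) (.leaf 1319))) (.node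 (.node (.leaf 235) (.leaf 1013)) (.node (.leaf 868) (.leaf 2020))))) (.node (.node (.node (.node (.leaf 66) (.leaf 1026)) (.node (.leaf 349) (.leaf 1855))) (.node (.node (.leaf 541) (.leaf 1083)) (.node (.leaf 525) (.leaf 1660)))) (.node (.node (.node (.leaf 329) (.leaf 830)) (.node (.leaf 443) (.leaf 1405))) (.node (.node (.leaf 724) (.leaf 1465)) (.node (.leaf 907) (.leaf 1837)))))) (.node (.node (.node (.node (.node (.leaf 23) (.leaf 714)) (.node (.leaf 863) (.leaf 1195))) (.node (.node (.leaf 463) (.leaf 922)) (.node (.leaf 503) (.leaf 1537)))) (.node (.node (.node (.leaf 100) (.leaf 800)) (.node (.leaf 1030) (.leaf 1356))) (.node (.node (.leaf 249) (.leaf 1759)) (.node (.leaf 601) (.leaf 1777))))) (.node (.node (.node (.node (.leaf 160) (.leaf 1220)) (.node (.leaf 948) (.leaf 1282))) (.node (.node (.leaf 208) (.leaf 1273)) (.node (.leaf 551) (.leaf 1724)))) (.node (.node (.node (.leaf 226) (.leaf 1607)) (.node (.leaf 738) (.leaf 1603))) (.node (.node (.leaf 774) (.leaf 1601)) (.node (.leaf 1376) (.leaf 2018))))))) (.node (.node (.node (.node (.node (.node (.node (.leaf 12) (.leaf 2035))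 (.leaf 1433)) (.node (.leaf 839) (.leaf 1625))) (.node (.node (.leaf 171) (.leaf 1646)) (.node (.leaf 489) (.leaf 1793)))) (.node (.node (.node (.leaf 219) (.leaf 787)) (.node (.leaf 782) (.leaf 1329))) (.node (.node (.leaf 250) (.leaf 1748)) (.node (.leaf 892) (.leaf 1847))))) (.node (.node (.node (.node (.leaf 137) (.leaf 1241)) (.node (.leaf 926) (.leaf 1535))) (.node (.node (.leaf 283) (.leaf 961)) (.node (.leaf 536) (.leaf 1896)))) (.node (.node (.node (.leaf 356) (.leaf 1558)) (.node (.leaf 448) (.leaf 1746))) (.node (.node (.leaf 751) (.leaf 1200)) (.node (.leaf 645) (.leaf 2050)))))) (.node (.node (.node (.node (.node (.leaf 77) (.leaf 1455)) (.node (.leaf 474) (.leaf 1221))) (.node (.node (.leaf 181) (.leaf 934)) (.node (.leaf 513) (.leaf 1839)))) (.node (.node (.node (.leaf 104) (.leaf 810)) (.node (.leaf 682) (.leaf 1527))) (.node (.node (.leaf 557) (.leaf 1066)) (.node (.leaf 921) (.leaf 1882))))) (.node (.node (.node (.node (.leaf 192) (.leaf 1143)) (.node (.leaf 380) (.leaf 1800))) (.node (.node (.leaf 245) (.leaf 1394)) (.node (.leaf 559) (.leaf 1901)))) (.node (.node (.node (.leaf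 406) (.leaf 1135)) (.node (.leaf 469) (.leaf 1467))) (.node (.node (.leaf 793) (.leaf 1130)) (.node (.leaf 1409) (.leaf 1959)))))))) (.node (.node (.node (.node (.node (.node (.node (.node (.leaf 6) (.leaf 2015)) (.leaf 1397)) (.node (.leaf 829) (.leaf 1543))) (.node (.node (.leaf 447) (.leaf 905)) (.node (.leaf 788) (.leaf 1661)))) (.node (.node (.node (.leaf 84) (.leaf 1182)) (.node (.leaf 973) (.leaf 1323))) (.node (.node (.leaf 634) (.leaf 1205)) (.node (.leaf 1288) (.leaf 1918))))) (.node (.node (.node (.node (.leaf 43) (.leaf 910)) (.node (.leaf 353) (.leaf 1259))) (.node (.node (.leaf 552) (.leaf 1028)) (.node (.leaf 1227) (.leaf 1617)))) (.node (.node (.node (.leaf 342) (.leaf 841)) (.node (.leaf 1058) (.leaf 1421))) (.node (.node (.leaf 742) (.leaf 1080)) (.node (.leaf 694) (.leaf 1863)))))) (.node (.node (.node (.node (.node (.leaf 59) (.leaf 1458)) (.node (.leaf 873) (.leaf 1848))) (.node (.node (.leaf 198) (.leaf 1669)) (.node (.leaf 1202) (.leaf 1985)))) (.node (.node (.node (.leaf 273) (.leaf 806)) (.node (.leaf 690) (.leaf 1706))) (.node (.node (.leaf 692) (.leaf 1450)) (.node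 (.leaf 1324) (.leaf 1786))))) (.node (.node (.node (.node (.leaf 70) (.leaf 1522)) (.node (.leaf 585) (.leaf 1801))) (.node (.node (.leaf 216) (.leaf 1519)) (.node (.leaf 1255) (.leaf 1671)))) (.node (.node (.node (.leaf 278) (.leaf 1173)) (.node (.leaf 1114) (.leaf 1463))) (.node (.node (.leaf 291) (.leaf 1514)) (.node (.leaf 1369) (.leaf 2026))))))) (.node (.node (.node (.node (.node (.node (.node (.leaf 16) (.leaf 2055)) (.leaf 1446)) (.node (.leaf 852) (.leaf 1838))) (.node (.node (.leaf 454) (.leaf 1655)) (.node (.leaf 499) (.leaf 1814)))) (.node (.node (.node (.leaf 195) (.leaf 1557)) (.node (.leaf 624) (.leaf 1690))) (.node (.node (.leaf 668) (.leaf 1043)) (.node (.leaf 1314) (.leaf 1946))))) (.node (.node (.node (.node (.leaf 116) (.leaf 746)) (.node (.leaf 931) (.leaf 1875))) (.node (.node (.leaf 573) (.leaf 1712)) (.node (.leaf 543) (.leaf 1970)))) (.node (.node (.node (.leaf 145) (.leaf 849)) (.node (.leaf 472) (.leaf 1469))) (.node (.node (.leaf 562) (.leaf 1312)) (.node (.leaf 976) (.leaf 2010)))))) (.node (.node (.node (.node (.node (.leaf 41) (.leaf 1254)) (.node (.leaf 343) (.leaf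 1238))) (.node (.node (.leaf 528) (.leaf 1338)) (.node (.leaf 836) (.leaf 1580)))) (.node (.node (.node (.leaf 315) (.leaf 1232)) (.node (.leaf 685) (.leaf 1722))) (.node (.node (.leaf 705) (.leaf 1773)) (.node (.leaf 1352) (.leaf 1978))))) (.node (.node (.node (.node (.leaf 204) (.leaf 1358)) (.node (.leaf 394) (.leaf 1633))) (.node (.node (.leaf 223) (.leaf 1004)) (.node (.leaf 1275) (.leaf 1695)))) (.node (.node (.node (.leaf 402) (.leaf 1252)) (.node (.leaf 886) (.leaf 1962))) (.node (.node (.leaf 808) (.leaf 1621)) (.node (.leaf 665) (.leaf 2042))))))))) (.node (.node (.node (.node (.node (.node (.node (.node (.node (.leaf 10) (.leaf 2073)) (.leaf 674)) (.node (.leaf 825) (.leaf 1148))) (.node (.node (.leaf 435) (.leaf 1277)) (.node (.leaf 482) (.leaf 1585)))) (.node (.node (.node (.leaf 134) (.leaf 1420)) (.node (.leaf 646) (.leaf 1897))) (.node (.node (.leaf 233) (.leaf 1735)) (.node (.leaf 571) (.leaf 1725))))) (.node (.node (.node (.node (.leaf 106) (.leaf 923)) (.node (.leaf 352) (.leaf 1525))) (.node (.node (.leaf 547) (.leaf 952)) (.node (.leaf 529) (.leaf 1614)))) (.node (.node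 (.node (.leaf 298) (.leaf 1587)) (.node (.leaf 1063) (.leaf 1705))) (.node (.node (.leaf 282) (.leaf 1790)) (.node (.leaf 1366) (.leaf 1989)))))) (.node (.node (.node (.node (.node (.leaf 30) (.leaf 1315)) (.node (.leaf 865) (.leaf 1199))) (.node (.node (.leaf 495) (.leaf 929)) (.node (.leaf 1194) (.leaf 1713)))) (.node (.node (.node (.leaf 269) (.leaf 803)) (.node (.leaf 416) (.leaf 1540))) (.node (.node (.leaf 252) (.leaf 1050)) (.node (.leaf 1330) (.leaf 1782))))) (.node (.node (.node (.node (.leaf 69) (.leaf 1115)) (.node (.leaf 372) (.leaf 1293))) (.node (.node (.leaf 590) (.leaf 1367)) (.node (.leaf 897) (.leaf 2012)))) (.node (.node (.node (.leaf 139) (.leaf 1082)) (.node (.leaf 458) (.leaf 1766))) (.node (.node (.leaf 403) (.leaf 1113)) (.node (.leaf 671) (.leaf 1932))))))) (.node (.node (.node (.node (.node (.node (.node (.leaf 32) (.leaf 2070)) (.leaf 1052)) (.node (.leaf 512) (.leaf 1234))) (.node (.node (.leaf 234) (.leaf 915)) (.node (.leaf 1174) (.leaf 1818)))) (.node (.node (.node (.leaf 253) (.leaf 790)) (.node (.leaf 407) (.leaf 1902))) (.node (.node (.leaf 242) (.leaf 1429))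 (.node (.leaf 583) (.leaf 1750))))) (.node (.node (.node (.node (.leaf 130) (.leaf 741)) (.node (.leaf 367) (.leaf 1272))) (.node (.node (.leaf 202) (.leaf 966)) (.node (.leaf 969) (.leaf 2006)))) (.node (.node (.node (.leaf 360) (.leaf 1594)) (.node (.leaf 1086) (.leaf 1942))) (.node (.node (.leaf 392) (.leaf 1212)) (.node (.leaf 637) (.leaf 1878)))))) (.node (.node (.node (.node (.node (.leaf 31) (.leaf 1480)) (.node (.leaf 341) (.leaf 1854))) (.node (.node (.leaf 523) (.leaf 937)) (.node (.leaf 1215) (.leaf 1571)))) (.node (.node (.node (.leaf 107) (.leaf 1206)) (.node (.leaf 970) (.leaf 1718))) (.node (.node (.leaf 592) (.leaf 1462)) (.node (.leaf 1347) (.leaf 1974))))) (.node (.node (.node (.node (.leaf 180) (.leaf 1536)) (.node (.leaf 397) (.leaf 1305))) (.node (.node (.leaf 617) (.leaf 1393)) (.node (.leaf 762) (.leaf 2014)))) (.node (.node (.node (.leaf 371) (.leaf 888)) (.node (.leaf 642) (.leaf 1958))) (.node (.node (.leaf 299) (.leaf 1518)) (.node (.leaf 681) (.leaf 1966)))))))) (.node (.node (.node (.node (.node (.node (.node (.node (.leaf 8) (.leaf 2062)) (.leaf 1427)) (.node (.leaf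 312) (.leaf 1399))) (.node (.node (.leaf 167) (.leaf 1345)) (.node (.leaf 658) (.leaf 1656)))) (.node (.node (.node (.leaf 228) (.leaf 1553)) (.node (.leaf 1007) (.leaf 1326))) (.node (.node (.leaf 632) (.leaf 1741)) (.node (.leaf 1098) (.leaf 1740))))) (.node (.node (.node (.node (.leaf 51) (.leaf 1501)) (.node (.leaf 358) (.leaf 1862))) (.node (.node (.leaf 258) (.leaf 1146)) (.node (.leaf 1239) (.leaf 1824)))) (.node (.node (.node (.leaf 350) (.leaf 845)) (.node (.leaf 1079) (.leaf 1937))) (.node (.node (.leaf 289) (.leaf 1484)) (.node (.leaf 1371) (.leaf 1867)))))) (.node (.node (.node (.node (.node (.leaf 29) (.leaf 1468)) (.node (.leaf 433) (.leaf 1211))) (.node (.node (.leaf 507) (.leaf 1678)) (.node (.leaf 1207) (.leaf 1562)))) (.node (.node (.node (.leaf 295) (.leaf 807)) (.node (.leaf 1044) (.leaf 1709))) (.node (.node (.leaf 257) (.leaf 1072)) (.node (.leaf 1328) (.leaf 2038))))) (.node (.node (.node (.node (.leaf 63) (.leaf 1495)) (.node (.leaf 377) (.leaf 1298))) (.node (.node (.leaf 597) (.leaf 1390)) (.node (.leaf 877) (.leaf 1686)))) (.node (.node (.node (.leaf 388) (.leaf 1260))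 (.node (.leaf 464) (.leaf 1774))) (.node (.node (.leaf 791) (.leaf 1526)) (.node (.leaf 1406) (.leaf 2063))))))) (.node (.node (.node (.node (.node (.node (.node (.leaf 38) (.leaf 2078)) (.leaf 700)) (.node (.leaf 859) (.leaf 1595))) (.node (.node (.leaf 481) (.leaf 1599)) (.node (.leaf 1184) (.leaf 1822)))) (.node (.node (.node (.leaf 96) (.leaf 1162)) (.node (.leaf 857) (.leaf 1431))) (.node (.node (.leaf 675) (.leaf 1756)) (.node (.leaf 594) (.leaf 1775))))) (.node (.node (.node (.node (.leaf 56) (.leaf 1118)) (.node (.leaf 945) (.leaf 1279))) (.node (.node (.leaf 206) (.leaf 1383)) (.node (.leaf 545) (.leaf 1644)))) (.node (.node (.node (.leaf 149) (.leaf 1025)) (.node (.leaf 476) (.leaf 1441))) (.node (.node (.leaf 739) (.leaf 1304)) (.node (.leaf 990) (.leaf 1910)))))) (.node (.node (.node (.node (.node (.leaf 108) (.leaf 726)) (.node (.leaf 347) (.leaf 1236))) (.node (.node (.leaf 318) (.leaf 1342)) (.node (.leaf 1218) (.leaf 1590)))) (.node (.node (.node (.leaf 190) (.leaf 1505)) (.node (.leaf 702) (.leaf 1400))) (.node (.node (.leaf 609) (.leaf 1767)) (.node (.leaf 616) (.leaf 1827)))))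 (.node (.node (.node (.node (.leaf 75) (.leaf 772)) (.node (.leaf 389) (.leaf 1803))) (.node (.node (.leaf 240) (.leaf 1006)) (.node (.leaf 567) (.leaf 1930)))) (.node (.node (.node (.leaf 425) (.leaf 893)) (.node (.leaf 884) (.leaf 1478))) (.node (.node (.leaf 816) (.leaf 1534)) (.node (.leaf 669) (.leaf 2046)))))))))))

/-- Part of a table. -/
noncomputable def fixOrbNext0R : BTree := (.node (.node (.node (.node (.node (.node (.node (.node (.node (.node (.node (.leaf 1) (.leaf 2001)) (.leaf 1246)) (.node (.leaf 818) (.leaf 1826))) (.node (.node (.leaf 430) (.leaf 896)) (.node (.leaf 1109) (.leaf 1810)))) (.node (.node (.node (.leaf 85) (.leaf 1381)) (.node (.leaf 757) (.leaf 1457))) (.node (.node (.leaf 391) (.leaf 1010)) (.node (.leaf 870) (.leaf 1700))))) (.node (.node (.node (.node (.leaf 113) (.leaf 817)) (.node (.leaf 908) (.leaf 1506))) (.node (.node (.leaf 540) (.leaf 1294)) (.node (.leaf 524) (.leaf 1600)))) (.node (.node (.node (.leaf 328) (.leaf 1249)) (.node (.leaf 442) (.leaf 1856))) (.node (.node (.leaf 723) (.leaf 1073)) (.node (.leaf 1362) (.leaf 1834)))))) (.node (.node (.node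 (.node (.node (.leaf 21) (.leaf 713)) (.node (.leaf 862) (.leaf 1197))) (.node (.node (.leaf 462) (.leaf 1663)) (.node (.leaf 1188) (.leaf 1825)))) (.node (.node (.node (.leaf 99) (.leaf 1561)) (.node (.leaf 951) (.leaf 1917))) (.node (.node (.leaf 680) (.leaf 1758)) (.node (.leaf 1318) (.leaf 1961))))) (.node (.node (.node (.node (.leaf 159) (.leaf 1515)) (.node (.leaf 446) (.leaf 1658))) (.node (.node (.leaf 586) (.leaf 979)) (.node (.leaf 550) (.leaf 1648)))) (.node (.node (.node (.leaf 381) (.leaf 1217)) (.node (.leaf 1105) (.leaf 1511))) (.node (.node (.leaf 286) (.leaf 1214)) (.node (.leaf 1000) (.leaf 1907))))))) (.node (.node (.node (.node (.node (.node (.node (.leaf 11) (.leaf 2032)) (.leaf 683)) (.node (.leaf 838) (.leaf 1166))) (.node (.node (.leaf 170) (.leaf 909)) (.node (.leaf 1167) (.leaf 1583)))) (.node (.node (.node (.leaf 218) (.leaf 1169)) (.node (.leaf 420) (.leaf 1908))) (.node (.node (.leaf 655) (.leaf 1747)) (.node (.leaf 1303) (.leaf 1742))))) (.node (.node (.node (.node (.leaf 48) (.leaf 737)) (.node (.leaf 924) (.leaf 1866))) (.node (.node (.leaf 199) (.leaf 964)) (.node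 (.leaf 1242) (.leaf 1895)))) (.node (.node (.node (.leaf 125) (.leaf 1559)) (.node (.leaf 947) (.leaf 1796))) (.node (.node (.leaf 275) (.leaf 1093)) (.node (.leaf 644) (.leaf 2049)))))) (.node (.node (.node (.node (.node (.leaf 76) (.leaf 1473)) (.node (.leaf 477) (.leaf 1798))) (.node (.node (.leaf 514) (.leaf 1682)) (.node (.leaf 1089) (.leaf 1565)))) (.node (.node (.node (.leaf 300) (.leaf 809)) (.node (.leaf 960) (.leaf 1830))) (.node (.node (.leaf 558) (.leaf 1665)) (.node (.leaf 606) (.leaf 1892))))) (.node (.node (.node (.node (.leaf 65) (.leaf 1268)) (.node (.leaf 379) (.leaf 1797))) (.node (.node (.leaf 217) (.leaf 1398)) (.node (.leaf 1175) (.leaf 1677)))) (.node (.node (.node (.leaf 384) (.leaf 1141)) (.node (.leaf 831) (.leaf 1954))) (.node (.node (.leaf 296) (.leaf 1693)) (.node (.leaf 967) (.leaf 2033)))))))) (.node (.node (.node (.node (.node (.node (.node (.node (.leaf 5) (.leaf 2064)) (.leaf 677)) (.node (.leaf 467) (.leaf 1151))) (.node (.node (.leaf 445) (.leaf 1061)) (.node (.leaf 1159) (.leaf 1642)))) (.node (.node (.node (.leaf 82) (.leaf 1548)) (.node (.leaf 972) (.leaf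 1899))) (.node (.node (.leaf 471) (.leaf 1491)) (.node (.leaf 1290) (.leaf 1731))))) (.node (.node (.node (.node (.leaf 123) (.leaf 761)) (.node (.leaf 618) (.leaf 1257))) (.node (.node (.leaf 194) (.leaf 955)) (.node (.leaf 1226) (.leaf 1616)))) (.node (.node (.node (.leaf 120) (.leaf 837)) (.node (.leaf 1057) (.leaf 1931))) (.node (.node (.leaf 285) (.leaf 1792)) (.node (.leaf 854) (.leaf 1993)))))) (.node (.node (.node (.node (.node (.leaf 58) (.leaf 712)) (.node (.leaf 872) (.leaf 1203))) (.node (.node (.leaf 197) (.leaf 1668)) (.node (.leaf 1201) (.leaf 1549)))) (.node (.node (.node (.leaf 287) (.leaf 805)) (.node (.leaf 1014) (.leaf 1734))) (.node (.node (.leaf 254) (.leaf 1235)) (.node (.leaf 1334) (.leaf 1953))))) (.node (.node (.node (.node (.leaf 68) (.leaf 989)) (.node (.leaf 374) (.leaf 1881))) (.node (.node (.leaf 215) (.leaf 1385)) (.node (.leaf 554) (.leaf 1670)))) (.node (.node (.node (.leaf 390) (.leaf 1609)) (.node (.leaf 460) (.leaf 1475))) (.node (.node (.leaf 786) (.leaf 1513)) (.node (.leaf 1163) (.leaf 1956))))))) (.node (.node (.node (.node (.node (.node (.node (.leaf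 15) (.leaf 2054)) (.leaf 1368)) (.node (.leaf 319) (.leaf 1185))) (.node (.node (.leaf 453) (.leaf 1654)) (.node (.leaf 498) (.leaf 1523)))) (.node (.node (.node (.leaf 196) (.leaf 792)) (.node (.leaf 1018) (.leaf 1689))) (.node (.node (.leaf 244) (.leaf 1042)) (.node (.leaf 946) (.leaf 1945))))) (.node (.node (.node (.node (.leaf 151) (.leaf 1510)) (.node (.leaf 930) (.leaf 1554))) (.node (.node (.leaf 572) (.leaf 1002)) (.node (.leaf 670) (.leaf 1641)))) (.node (.node (.node (.leaf 369) (.leaf 1106)) (.node (.leaf 587) (.leaf 1435))) (.node (.node (.leaf 731) (.leaf 1292)) (.node (.leaf 1181) (.leaf 2009)))))) (.node (.node (.node (.node (.node (.leaf 95) (.leaf 720)) (.node (.leaf 899) (.leaf 1237))) (.node (.node (.leaf 527) (.leaf 1676)) (.node (.leaf 518) (.leaf 1579)))) (.node (.node (.node (.leaf 109) (.leaf 813)) (.node (.leaf 432) (.leaf 1499))) (.node (.node (.leaf 704) (.leaf 1474)) (.node (.leaf 613) (.leaf 1816))))) (.node (.node (.node (.node (.leaf 71) (.leaf 1509)) (.node (.leaf 640) (.leaf 1893))) (.node (.node (.leaf 622) (.leaf 1003)) (.node (.leaf 1271) (.leaf 1757)))) (.node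 (.node (.node (.leaf 418) (.leaf 1378)) (.node (.leaf 1097) (.leaf 1785))) (.node (.node (.leaf 301) (.leaf 1619)) (.node (.leaf 660) (.leaf 1976))))))))) (.node (.node (.node (.node (.node (.node (.node (.node (.node (.leaf 9) (.leaf 2053)) (.leaf 1419)) (.node (.leaf 307) (.leaf 1541))) (.node (.node (.leaf 157) (.leaf 1636)) (.node (.leaf 1152) (.leaf 1649)))) (.node (.node (.node (.leaf 224) (.leaf 1349)) (.node (.leaf 978) (.leaf 1322))) (.node (.node (.leaf 638) (.leaf 1016)) (.node (.leaf 900) (.leaf 1925))))) (.node (.node (.node (.node (.leaf 102) (.leaf 1489)) (.node (.leaf 351) (.leaf 1859))) (.node (.node (.leaf 191) (.leaf 1157)) (.node (.leaf 1225) (.leaf 1611)))) (.node (.node (.node (.leaf 297) (.leaf 1586)) (.node (.leaf 439) (.leaf 1412))) (.node (.node (.leaf 281) (.leaf 1076)) (.node (.leaf 621) (.leaf 1990)))))) (.node (.node (.node (.node (.node (.leaf 20) (.leaf 1289)) (.node (.leaf 864) (.leaf 1845))) (.node (.node (.leaf 493) (.leaf 928)) (.node (.leaf 1193) (.leaf 1539)))) (.node (.node (.node (.leaf 268) (.leaf 1111)) (.node (.leaf 1033) (.leaf 1701))) (.node (.node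 (.leaf 688) (.leaf 1176)) (.node (.leaf 604) (.leaf 2031))))) (.node (.node (.node (.node (.leaf 173) (.leaf 1053)) (.node (.leaf 953) (.leaf 1637))) (.node (.node (.leaf 211) (.leaf 1153)) (.node (.leaf 1251) (.leaf 1657)))) (.node (.node (.node (.leaf 143) (.leaf 1284)) (.node (.leaf 1110) (.leaf 1765))) (.node (.node (.leaf 779) (.leaf 1145)) (.node (.leaf 997) (.leaf 1927))))))) (.node (.node (.node (.node (.node (.node (.node (.leaf 33) (.leaf 2069)) (.leaf 1436)) (.node (.leaf 317) (.leaf 1178))) (.node (.node (.leaf 468) (.leaf 1651)) (.node (.leaf 491) (.leaf 1813)))) (.node (.node (.node (.leaf 222) (.leaf 1258)) (.node (.leaf 628) (.leaf 1685))) (.node (.node (.leaf 423) (.leaf 1430)) (.node (.leaf 707) (.leaf 1749))))) (.node (.node (.node (.node (.leaf 129) (.leaf 769)) (.node (.leaf 366) (.leaf 1530))) (.node (.node (.leaf 566) (.leaf 1708)) (.node (.leaf 539) (.leaf 1632)))) (.node (.node (.node (.leaf 128) (.leaf 1593)) (.node (.leaf 1085) (.leaf 1941))) (.node (.node (.leaf 754) (.leaf 1299)) (.node (.leaf 1379) (.leaf 1980)))))) (.node (.node (.node (.node (.node (.leaf 67)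 (.leaf 717)) (.node (.leaf 891) (.leaf 1516))) (.node (.node (.leaf 183) (.leaf 1684)) (.node (.leaf 515) (.leaf 1573)))) (.node (.node (.node (.leaf 306) (.leaf 1418)) (.node (.leaf 835) (.leaf 1815))) (.node (.node (.leaf 264) (.leaf 1069)) (.node (.leaf 1092) (.leaf 1891))))) (.node (.node (.node (.node (.leaf 175) (.leaf 1265)) (.node (.leaf 851) (.leaf 1308))) (.node (.node (.leaf 220) (.leaf 1034)) (.node (.leaf 763) (.leaf 1909)))) (.node (.node (.node (.leaf 370) (.leaf 1136)) (.node (.leaf 641) (.leaf 1948))) (.node (.node (.leaf 799) (.leaf 1606)) (.node (.leaf 1410) (.leaf 1963)))))))) (.node (.node (.node (.node (.node (.node (.node (.node (.leaf 19) (.leaf 2061)) (.leaf 679)) (.node (.leaf 834) (.leaf 1833))) (.node (.node (.leaf 166) (.leaf 1638)) (.node (.leaf 1155) (.leaf 1500)))) (.node (.node (.node (.leaf 232) (.leaf 1552)) (.node (.leaf 1005) (.leaf 1905))) (.node (.node (.leaf 630) (.leaf 1738)) (.node (.leaf 1297) (.leaf 1739))))) (.node (.node (.node (.node (.leaf 50) (.leaf 765)) (.node (.leaf 355) (.leaf 1372))) (.node (.node (.leaf 259) (.leaf 957)) (.node (.leaf 1230)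 (.leaf 2000)))) (.node (.node (.node (.leaf 348) (.leaf 844)) (.node (.leaf 1077) (.leaf 1422))) (.node (.node (.leaf 461) (.leaf 1608)) (.node (.leaf 650) (.leaf 2048)))))) (.node (.node (.node (.node (.node (.leaf 28) (.leaf 1461)) (.node (.leaf 434) (.leaf 1581))) (.node (.node (.leaf 505) (.leaf 939)) (.node (.leaf 1209) (.leaf 1986)))) (.node (.node (.node (.leaf 101) (.leaf 1569)) (.node (.leaf 698) (.leaf 1710))) (.node (.node (.leaf 627) (.leaf 1071)) (.node (.leaf 1327) (.leaf 1788))))) (.node (.node (.node (.node (.leaf 185) (.leaf 1375)) (.node (.leaf 965) (.leaf 1296))) (.node (.node (.leaf 596) (.leaf 1389)) (.node (.leaf 878) (.leaf 1906)))) (.node (.node (.node (.leaf 383) (.leaf 1023)) (.node (.leaf 488) (.leaf 1466))) (.node (.node (.leaf 293) (.leaf 1127)) (.node (.leaf 653) (.leaf 1955))))))) (.node (.node (.node (.node (.node (.node (.node (.leaf 46) (.leaf 2077)) (.leaf 1125)) (.node (.leaf 322) (.leaf 1841))) (.node (.node (.leaf 457) (.leaf 919)) (.node (.leaf 1179) (.leaf 1871)))) (.node (.node (.node (.leaf 261) (.leaf 985)) (.node (.leaf 1022) (.leaf 1521))) (.node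 (.node (.leaf 612) (.leaf 1755)) (.node (.leaf 708) (.leaf 1949))))) (.node (.node (.node (.node (.leaf 55) (.leaf 1117)) (.node (.leaf 605) (.leaf 1628))) (.node (.node (.leaf 578) (.leaf 1384)) (.node (.leaf 667) (.leaf 1643)))) (.node (.node (.node (.leaf 148) (.leaf 856)) (.node (.leaf 475) (.leaf 1913))) (.node (.node (.leaf 561) (.leaf 1102)) (.node (.leaf 1129) (.leaf 1900)))))) (.node (.node (.node (.node (.node (.leaf 40) (.leaf 725)) (.node (.leaf 346) (.leaf 1408))) (.node (.node (.leaf 533) (.leaf 1680)) (.node (.leaf 522) (.leaf 1853)))) (.node (.node (.node (.leaf 320) (.leaf 1243)) (.node (.leaf 880) (.leaf 1926))) (.node (.node (.leaf 265) (.leaf 1754)) (.node (.leaf 1357) (.leaf 1981))))) (.node (.node (.node (.node (.leaf 209) (.leaf 1154)) (.node (.leaf 982) (.leaf 1802))) (.node (.node (.leaf 225) (.leaf 1730)) (.node (.leaf 1278) (.leaf 1697)))) (.node (.node (.node (.leaf 150) (.leaf 1286)) (.node (.leaf 1101) (.leaf 1789))) (.node (.node (.leaf 812) (.leaf 1533)) (.node (.leaf 1019) (.leaf 2045)))))))))) (.node (.node (.node (.node (.node (.node (.node (.node (.node (.node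 (.leaf 3) (.leaf 2003)) (.leaf 1396)) (.node (.leaf 821) (.leaf 1829))) (.node (.node (.leaf 333) (.leaf 1267)) (.node (.leaf 480) (.leaf 1860)))) (.node (.node (.node (.leaf 87) (.leaf 781)) (.node (.leaf 643) (.leaf 1320))) (.node (.node (.leaf 236) (.leaf 1416)) (.node (.leaf 569) (.leaf 1923))))) (.node (.node (.node (.node (.leaf 53) (.leaf 1488)) (.node (.leaf 911) (.leaf 1762))) (.node (.node (.leaf 544) (.leaf 950)) (.node (.leaf 693) (.leaf 1605)))) (.node (.node (.node (.leaf 154) (.leaf 832)) (.node (.leaf 917) (.leaf 1929))) (.node (.node (.leaf 279) (.leaf 1769)) (.node (.leaf 620) (.leaf 1840)))))) (.node (.node (.node (.node (.node (.leaf 24) (.leaf 715)) (.node (.leaf 326) (.leaf 1846))) (.node (.node (.leaf 490) (.leaf 1062)) (.node (.leaf 1190) (.leaf 1982)))) (.node (.node (.node (.leaf 276) (.leaf 1564)) (.node (.leaf 414) (.leaf 1920))) (.node (.node (.leaf 684) (.leaf 1116)) (.node (.leaf 602) (.leaf 2029))))) (.node (.node (.node (.node (.leaf 161) (.leaf 755)) (.node (.leaf 412) (.leaf 1879))) (.node (.node (.leaf 589) (.leaf 981)) (.node (.leaf 691) (.leaf 1973)))) (.node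 (.node (.node (.leaf 227) (.leaf 869)) (.node (.leaf 478) (.leaf 1447))) (.node (.node (.leaf 776) (.leaf 1591)) (.node (.leaf 995) (.leaf 2019))))))) (.node (.node (.node (.node (.node (.node (.node (.leaf 13) (.leaf 2067)) (.leaf 1434)) (.node (.leaf 840) (.leaf 1555))) (.node (.node (.leaf 465) (.leaf 1493)) (.node (.leaf 1170) (.leaf 1512)))) (.node (.node (.node (.leaf 248) (.leaf 1247)) (.node (.leaf 783) (.leaf 1331))) (.node (.node (.leaf 486) (.leaf 1038)) (.node (.leaf 1302) (.leaf 1967))))) (.node (.node (.node (.node (.leaf 136) (.leaf 1107)) (.node (.leaf 364) (.leaf 1529))) (.node (.node (.leaf 200) (.leaf 1707)) (.node (.leaf 629) (.leaf 1626)))) (.node (.node (.node (.leaf 357) (.leaf 1449)) (.node (.leaf 449) (.leaf 1425))) (.node (.node (.leaf 521) (.leaf 1417)) (.node (.leaf 1377) (.leaf 2051)))))) (.node (.node (.node (.node (.node (.leaf 78) (.leaf 1456)) (.node (.leaf 887) (.leaf 1222))) (.node (.node (.leaf 517) (.leaf 1683)) (.node (.leaf 1095) (.leaf 1843)))) (.node (.node (.node (.leaf 303) (.leaf 1577)) (.node (.leaf 867) (.leaf 1696))) (.node (.node (.leaf 262) (.leaf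 1067)) (.node (.leaf 721) (.leaf 1883))))) (.node (.node (.node (.node (.leaf 91) (.leaf 1144)) (.node (.leaf 429) (.leaf 1301))) (.node (.node (.leaf 246) (.leaf 1395)) (.node (.leaf 1263) (.leaf 2017)))) (.node (.node (.node (.leaf 144) (.leaf 1283)) (.node (.leaf 1123) (.leaf 1935))) (.node (.node (.leaf 794) (.leaf 1817)) (.node (.leaf 656) (.leaf 2066)))))))) (.node (.node (.node (.node (.node (.node (.node (.node (.leaf 17) (.leaf 2059)) (.leaf 1032)) (.node (.leaf 310) (.leaf 1831))) (.node (.node (.leaf 164) (.leaf 1639)) (.node (.leaf 485) (.leaf 1662)))) (.node (.node (.node (.leaf 230) (.leaf 1001)) (.node (.leaf 676) (.leaf 1336))) (.node (.node (.leaf 635) (.leaf 1029)) (.node (.leaf 962) (.leaf 1737))))) (.node (.node (.node (.node (.leaf 126) (.leaf 920)) (.node (.leaf 729) (.leaf 1861))) (.node (.node (.leaf 332) (.leaf 1031)) (.node (.leaf 1228) (.leaf 1998)))) (.node (.node (.node (.leaf 344) (.leaf 842)) (.node (.leaf 1059) (.leaf 1933))) (.node (.node (.leaf 272) (.leaf 1794)) (.node (.leaf 695) (.leaf 1864)))))) (.node (.node (.node (.node (.node (.leaf 74) (.leaf 1459))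 (.node (.leaf 556) (.leaf 1849))) (.node (.node (.leaf 502) (.leaf 1674)) (.node (.leaf 508) (.leaf 1551)))) (.node (.node (.node (.leaf 274) (.leaf 1570)) (.node (.leaf 1041) (.leaf 1363))) (.node (.node (.leaf 255) (.leaf 1451)) (.node (.leaf 1325) (.leaf 2037))))) (.node (.node (.node (.node (.leaf 182) (.leaf 759)) (.node (.leaf 375) (.leaf 1885))) (.node (.node (.leaf 600) (.leaf 1520)) (.node (.leaf 1256) (.leaf 1673)))) (.node (.node (.node (.leaf 386) (.leaf 1610)) (.node (.leaf 747) (.leaf 1464))) (.node (.node (.leaf 789) (.leaf 1121)) (.node (.leaf 1401) (.leaf 2027))))))) (.node (.node (.node (.node (.node (.node (.node (.leaf 44) (.leaf 2075)) (.leaf 699)) (.node (.leaf 853) (.leaf 1807))) (.node (.node (.leaf 338) (.leaf 1280)) (.node (.leaf 1180) (.leaf 1819)))) (.node (.node (.node (.leaf 92) (.leaf 797)) (.node (.leaf 861) (.leaf 1691))) (.node (.node (.leaf 648) (.leaf 1753)) (.node (.leaf 1094) (.leaf 1780))))) (.node (.node (.node (.node (.leaf 115) (.leaf 1126)) (.node (.leaf 932) (.leaf 1276))) (.node (.node (.leaf 574) (.leaf 974)) (.node (.leaf 542) (.leaf 1971)))) (.node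 (.node (.node (.leaf 146) (.leaf 1213)) (.node (.leaf 473) (.leaf 1437))) (.node (.node (.leaf 733) (.leaf 1721)) (.node (.leaf 975) (.leaf 2056)))))) (.node (.node (.node (.node (.node (.leaf 42) (.leaf 1346)) (.node (.leaf 902) (.leaf 1566))) (.node (.node (.leaf 186) (.leaf 1339)) (.node (.leaf 1048) (.leaf 1728)))) (.node (.node (.node (.leaf 187) (.leaf 1582)) (.node (.leaf 1051) (.leaf 1423))) (.node (.node (.leaf 706) (.leaf 1778)) (.node (.leaf 1353) (.leaf 1979))))) (.node (.node (.node (.node (.leaf 73) (.leaf 770)) (.node (.leaf 395) (.leaf 1311))) (.node (.node (.leaf 625) (.leaf 1560)) (.node (.leaf 565) (.leaf 1916)))) (.node (.node (.node (.leaf 376) (.leaf 890)) (.node (.leaf 885) (.leaf 1476))) (.node (.node (.leaf 302) (.leaf 1592)) (.node (.leaf 1021) (.leaf 2043))))))))) (.node (.node (.node (.node (.node (.node (.node (.node (.node (.leaf 7) (.leaf 2074)) (.leaf 1355)) (.node (.leaf 308) (.leaf 1546))) (.node (.node (.leaf 436) (.leaf 1287)) (.node (.leaf 1156) (.leaf 1968)))) (.node (.node (.node (.leaf 135) (.leaf 777)) (.node (.leaf 647) (.leaf 1898))) (.node (.node (.leaf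 385) (.leaf 1020)) (.node (.leaf 575) (.leaf 2021))))) (.node (.node (.node (.node (.leaf 121) (.leaf 819)) (.node (.leaf 918) (.leaf 1250))) (.node (.node (.leaf 548) (.leaf 1404)) (.node (.leaf 530) (.leaf 1994)))) (.node (.node (.node (.leaf 337) (.leaf 1588)) (.node (.leaf 1064) (.leaf 1414))) (.node (.node (.leaf 736) (.leaf 1479)) (.node (.leaf 1009) (.leaf 1991)))))) (.node (.node (.node (.node (.node (.leaf 60) (.leaf 710)) (.node (.leaf 866) (.leaf 1576))) (.node (.node (.leaf 174) (.leaf 1666)) (.node (.leaf 1198) (.leaf 1547)))) (.node (.node (.node (.leaf 270) (.leaf 1204)) (.node (.leaf 1037) (.leaf 1360))) (.node (.node (.leaf 405) (.leaf 1763)) (.node (.leaf 1332) (.leaf 2034))))) (.node (.node (.node (.node (.leaf 72) (.leaf 1517)) (.node (.leaf 956) (.leaf 1291))) (.node (.node (.leaf 591) (.leaf 1374)) (.node (.leaf 1224) (.leaf 1873)))) (.node (.node (.node (.leaf 140) (.leaf 874)) (.node (.leaf 1112) (.leaf 1470))) (.node (.node (.leaf 748) (.leaf 1761)) (.node (.leaf 672) (.leaf 2023))))))) (.node (.node (.node (.node (.node (.node (.node (.leaf 34) (.leaf 2071)) (.leaf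 1440)) (.node (.leaf 847) (.leaf 1233))) (.node (.node (.leaf 451) (.leaf 913)) (.node (.leaf 494) (.leaf 1717)))) (.node (.node (.node (.leaf 89) (.leaf 881)) (.node (.leaf 860) (.leaf 1903))) (.node (.node (.leaf 662) (.leaf 1694)) (.node (.leaf 1309) (.leaf 1943))))) (.node (.node (.node (.node (.leaf 131) (.leaf 1189)) (.node (.leaf 936) (.leaf 1872))) (.node (.node (.leaf 570) (.leaf 1382)) (.node (.leaf 1244) (.leaf 1635)))) (.node (.node (.node (.leaf 361) (.leaf 846)) (.node (.leaf 1087) (.leaf 1743))) (.node (.node (.leaf 393) (.leaf 1134)) (.node (.leaf 1380) (.leaf 2007)))))) (.node (.node (.node (.node (.node (.leaf 93) (.leaf 718)) (.node (.leaf 894) (.leaf 1507))) (.node (.node (.leaf 184) (.leaf 1248)) (.node (.leaf 516) (.leaf 1938)))) (.node (.node (.node (.leaf 309) (.leaf 814)) (.node (.leaf 971) (.leaf 1719))) (.node (.node (.leaf 709) (.leaf 1770)) (.node (.leaf 673) (.leaf 2039))))) (.node (.node (.node (.node (.leaf 176) (.leaf 1138)) (.node (.leaf 404) (.leaf 1306))) (.node (.node (.leaf 619) (.leaf 1550)) (.node (.leaf 563) (.leaf 1911)))) (.node (.node (.node (.leaf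 415) (.leaf 889)) (.node (.leaf 1131) (.leaf 1472))) (.node (.node (.leaf 802) (.leaf 1714)) (.node (.leaf 1164) (.leaf 1975)))))))) (.node (.node (.node (.node (.node (.node (.node (.node (.leaf 25) (.leaf 2030)) (.leaf 1428)) (.node (.leaf 313) (.leaf 1835))) (.node (.node (.leaf 168) (.leaf 1359)) (.node (.leaf 659) (.leaf 1563)))) (.node (.node (.node (.leaf 229) (.leaf 785)) (.node (.leaf 401) (.leaf 1672))) (.node (.node (.leaf 652) (.leaf 1723)) (.node (.leaf 579) (.leaf 1779))))) (.node (.node (.node (.node (.leaf 52) (.leaf 735)) (.node (.leaf 359) (.leaf 1264))) (.node (.node (.leaf 500) (.leaf 1295)) (.node (.leaf 535) (.leaf 1821)))) (.node (.node (.node (.leaf 124) (.leaf 1216)) (.node (.leaf 444) (.leaf 1751))) (.node (.node (.leaf 290) (.leaf 1692)) (.node (.leaf 987) (.leaf 1868)))))) (.node (.node (.node (.node (.node (.leaf 47) (.leaf 1453)) (.node (.leaf 882) (.leaf 1809))) (.node (.node (.leaf 179) (.leaf 941)) (.node (.leaf 1208) (.leaf 1842)))) (.node (.node (.node (.leaf 117) (.leaf 1574)) (.node (.leaf 959) (.leaf 1924))) (.node (.node (.leaf 696) (.leaf 1074)) (.node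 (.leaf 943) (.leaf 1939))))) (.node (.node (.node (.node (.leaf 188) (.leaf 1266)) (.node (.leaf 968) (.leaf 1652))) (.node (.node (.leaf 598) (.leaf 1391)) (.node (.leaf 876) (.leaf 1687)))) (.node (.node (.node (.leaf 400) (.leaf 883)) (.node (.leaf 466) (.leaf 1950))) (.node (.node (.leaf 294) (.leaf 1386)) (.node (.leaf 654) (.leaf 1957))))))) (.node (.node (.node (.node (.node (.node (.node (.leaf 54) (.leaf 2079)) (.leaf 1055)) (.node (.leaf 858) (.leaf 1567))) (.node (.node (.leaf 169) (.leaf 1659)) (.node (.leaf 501) (.leaf 1823)))) (.node (.node (.node (.leaf 97) (.leaf 1008)) (.node (.leaf 998) (.leaf 1914))) (.node (.node (.leaf 247) (.leaf 1448)) (.node (.leaf 1316) (.leaf 1951))))) (.node (.node (.node (.node (.leaf 57) (.leaf 784)) (.node (.leaf 368) (.leaf 1876))) (.node (.node (.leaf 581) (.leaf 1133)) (.node (.leaf 546) (.leaf 1887)))) (.node (.node (.node (.leaf 378) (.leaf 1171)) (.node (.leaf 1103) (.leaf 1442))) (.node (.node (.leaf 740) (.leaf 1104)) (.node (.leaf 991) (.leaf 2058)))))) (.node (.node (.node (.node (.node (.leaf 110) (.leaf 727)) (.node (.leaf 903) (.leaf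 1310))) (.node (.node (.leaf 537) (.leaf 1343)) (.node (.leaf 753) (.leaf 1602)))) (.node (.node (.node (.leaf 325) (.leaf 822)) (.node (.leaf 440) (.leaf 1928))) (.node (.node (.leaf 266) (.leaf 1768)) (.node (.leaf 687) (.leaf 1828))))) (.node (.node (.node (.node (.leaf 212) (.leaf 1545)) (.node (.leaf 984) (.leaf 1313))) (.node (.node (.leaf 237) (.leaf 1732)) (.node (.leaf 568) (.leaf 1919)))) (.node (.node (.node (.leaf 427) (.leaf 1630)) (.node (.leaf 764) (.leaf 1936))) (.node (.node (.leaf 304) (.leaf 1618)) (.node (.leaf 1261) (.leaf 1996)))))))))))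

/-- A table. -/
noncomputable def fixOrbNext0 : BTree := .node fixOrbNext0L fixOrbNext0R

/-- Part of a table. -/
noncomputable def fixOrbNext1L : BTree := (.node (.node (.node (.node (.node (.node (.node (.node (.node (.node (.node (.leaf 0) (.leaf 2071)) (.leaf 1160)) (.node (.leaf 819) (.leaf 1825))) (.node (.node (.leaf 429) (.leaf 1631)) (.node (.leaf 634) (.leaf 1607)))) (.node (.node (.node (.leaf 217) (.leaf 1189)) (.node (.leaf 469) (.leaf 1314))) (.node (.node (.leaf 633) (.leaf 1008)) (.node (.leaf 567) (.leaf 2019))))) (.node (.node (.node (.node (.leaf 112) (.leaf 1490)) (.node (.leaf 889) (.leaf 1238))) (.node (.node (.leaf 538) (.leaf 945)) (.node (.leaf 523) (.leaf 1872)))) (.node (.node (.node (.leaf 326) (.leaf 827)) (.node (.leaf 1056) (.leaf 1401))) (.node (.node (.leaf 267) (.leaf 1072)) (.node (.leaf 754) (.leaf 1924)))))) (.node (.node (.node (.node (.node (.leaf 55) (.leaf 704)) (.node (.leaf 356) (.leaf 1843))) (.node (.node (.leaf 337) (.leaf 1363)) (.node (.leaf 503) (.leaf 1981)))) (.node (.node (.node (.leaf 272) (.leaf 1158)) (.node (.leaf 1028) (.leaf 1352)))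 (.node (.node (.leaf 416) (.leaf 1708)) (.node (.leaf 596) (.leaf 1773))))) (.node (.node (.node (.node (.leaf 68) (.leaf 1007)) (.node (.leaf 944) (.leaf 1306))) (.node (.node (.leaf 568) (.leaf 1640)) (.node (.leaf 1250) (.leaf 1646)))) (.node (.node (.node (.leaf 380) (.leaf 1486)) (.node (.leaf 899) (.leaf 1661))) (.node (.node (.leaf 285) (.leaf 1113)) (.node (.leaf 644) (.leaf 2016))))))) (.node (.node (.node (.node (.node (.node (.node (.leaf 30) (.leaf 2077)) (.leaf 1429)) (.node (.leaf 312) (.leaf 1759))) (.node (.node (.leaf 160) (.leaf 907)) (.node (.leaf 1166) (.leaf 1584)))) (.node (.node (.node (.leaf 84) (.leaf 1259)) (.node (.leaf 997) (.leaf 1907))) (.node (.node (.leaf 654) (.leaf 1746)) (.node (.leaf 1299) (.leaf 1896))))) (.node (.node (.node (.node (.leaf 46) (.leaf 743)) (.node (.leaf 357) (.leaf 1616))) (.node (.node (.leaf 198) (.leaf 959)) (.node (.leaf 1052) (.leaf 1856)))) (.node (.node (.node (.leaf 304) (.leaf 1595)) (.node (.leaf 1078) (.leaf 1939))) (.node (.node (.leaf 274) (.leaf 1198)) (.node (.leaf 1372) (.leaf 2053)))))) (.node (.node (.node (.node (.node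 (.leaf 27) (.leaf 1472)) (.node (.leaf 482) (.leaf 1808))) (.node (.node (.leaf 208) (.leaf 1681)) (.node (.leaf 1086) (.leaf 1840)))) (.node (.node (.node (.leaf 299) (.leaf 818)) (.node (.leaf 1047) (.leaf 1915))) (.node (.node (.leaf 259) (.leaf 1456)) (.node (.leaf 608) (.leaf 1968))))) (.node (.node (.node (.node (.leaf 64) (.leaf 1523)) (.node (.leaf 378) (.leaf 1877))) (.node (.node (.leaf 216) (.leaf 1720)) (.node (.leaf 1049) (.leaf 1676)))) (.node (.node (.node (.leaf 402) (.leaf 1264)) (.node (.leaf 638) (.leaf 1464))) (.node (.node (.leaf 313) (.leaf 1816)) (.node (.leaf 1408) (.leaf 1959)))))))) (.node (.node (.node (.node (.node (.node (.node (.node (.leaf 4) (.leaf 2021)) (.leaf 675)) (.node (.leaf 829) (.leaf 1150))) (.node (.node (.leaf 444) (.leaf 1637)) (.node (.leaf 824) (.leaf 1969)))) (.node (.node (.node (.leaf 81) (.leaf 1024)) (.node (.leaf 397) (.leaf 1320))) (.node (.node (.leaf 392) (.leaf 1546)) (.node (.leaf 1289) (.leaf 2012))))) (.node (.node (.node (.node (.leaf 122) (.leaf 1000)) (.node (.leaf 919) (.leaf 1256))) (.node (.node (.leaf 550) (.leaf 1696)) (.node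 (.leaf 529) (.leaf 1869)))) (.node (.node (.node (.leaf 119) (.leaf 833)) (.node (.leaf 1070) (.leaf 1430))) (.node (.node (.leaf 738) (.leaf 1636)) (.node (.leaf 1367) (.leaf 1926)))))) (.node (.node (.node (.node (.node (.leaf 71) (.leaf 1064)) (.node (.leaf 856) (.leaf 1202))) (.node (.node (.leaf 410) (.leaf 1672)) (.node (.leaf 1199) (.leaf 1580)))) (.node (.node (.node (.leaf 286) (.leaf 1566)) (.node (.leaf 958) (.leaf 1361))) (.node (.node (.leaf 253) (.leaf 1243)) (.node (.leaf 1315) (.leaf 1783))))) (.node (.node (.node (.node (.leaf 59) (.leaf 1518)) (.node (.leaf 373) (.leaf 1376))) (.node (.node (.leaf 594) (.leaf 1715)) (.node (.leaf 1254) (.leaf 1936)))) (.node (.node (.node (.leaf 389) (.leaf 1608)) (.node (.leaf 459) (.leaf 1768))) (.node (.node (.leaf 785) (.leaf 1115)) (.node (.leaf 1096) (.leaf 2024))))))) (.node (.node (.node (.node (.node (.node (.node (.leaf 24) (.leaf 2049)) (.leaf 1443)) (.node (.leaf 318) (.leaf 1380))) (.node (.node (.leaf 474) (.leaf 914)) (.node (.leaf 859) (.leaf 1520)))) (.node (.node (.node (.leaf 91) (.leaf 969)) (.node (.leaf 751) (.leaf 1337)))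 (.node (.node (.leaf 243) (.leaf 1041)) (.node (.leaf 1313) (.leaf 1795))))) (.node (.node (.node (.node (.leaf 150) (.leaf 802)) (.node (.leaf 925) (.leaf 1873))) (.node (.node (.leaf 519) (.leaf 1122)) (.node (.leaf 552) (.leaf 2007)))) (.node (.node (.node (.leaf 368) (.leaf 847)) (.node (.leaf 1094) (.leaf 1433))) (.node (.node (.leaf 297) (.leaf 1097)) (.node (.leaf 1183) (.leaf 2008)))))) (.node (.node (.node (.node (.node (.leaf 33) (.leaf 1478)) (.node (.leaf 352) (.leaf 1229))) (.node (.node (.leaf 528) (.leaf 1685)) (.node (.leaf 776) (.leaf 1743)))) (.node (.node (.node (.leaf 108) (.leaf 1208)) (.node (.leaf 1050) (.leaf 1392))) (.node (.node (.leaf 710) (.leaf 1776)) (.node (.leaf 612) (.leaf 1815))))) (.node (.node (.node (.node (.leaf 70) (.leaf 1539)) (.node (.leaf 975) (.leaf 1308))) (.node (.node (.leaf 621) (.leaf 1002)) (.node (.leaf 1272) (.leaf 1841)))) (.node (.node (.node (.leaf 417) (.leaf 888)) (.node (.leaf 760) (.leaf 1784))) (.node (.node (.leaf 300) (.leaf 1134)) (.node (.leaf 659) (.leaf 1972))))))))) (.node (.node (.node (.node (.node (.node (.node (.node (.node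 (.leaf 8) (.leaf 2069)) (.leaf 672)) (.node (.leaf 306) (.leaf 1145))) (.node (.node (.leaf 161) (.leaf 1222)) (.node (.leaf 1148) (.leaf 1492)))) (.node (.node (.node (.leaf 223) (.leaf 1420)) (.node (.leaf 992) (.leaf 1813))) (.node (.node (.leaf 637) (.leaf 1015)) (.node (.leaf 570) (.leaf 1984))))) (.node (.node (.node (.node (.leaf 96) (.leaf 1001)) (.node (.leaf 810) (.leaf 1811))) (.node (.node (.leaf 545) (.leaf 1201)) (.node (.leaf 697) (.leaf 1610)))) (.node (.node (.node (.leaf 331) (.leaf 843)) (.node (.leaf 446) (.leaf 1572))) (.node (.node (.leaf 732) (.leaf 1075)) (.node (.leaf 620) (.leaf 1839)))))) (.node (.node (.node (.node (.node (.leaf 19) (.leaf 1060)) (.node (.leaf 867) (.leaf 1732))) (.node (.node (.leaf 492) (.leaf 1513)) (.node (.leaf 574) (.leaf 1538)))) (.node (.node (.node (.leaf 105) (.leaf 887)) (.node (.leaf 1031) (.leaf 1662))) (.node (.node (.leaf 687) (.leaf 1761)) (.node (.leaf 1321) (.leaf 2030))))) (.node (.node (.node (.node (.leaf 172) (.leaf 1355)) (.node (.leaf 952) (.leaf 1480))) (.node (.node (.leaf 544) (.leaf 1560)) (.node (.leaf 874) (.leaf 1658))))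 (.node (.node (.node (.leaf 137) (.leaf 1257)) (.node (.leaf 740) (.leaf 1764))) (.node (.node (.leaf 779) (.leaf 1108)) (.node (.leaf 653) (.leaf 2020))))))) (.node (.node (.node (.node (.node (.node (.node (.leaf 10) (.leaf 2037)) (.leaf 1435)) (.node (.leaf 846) (.leaf 1802))) (.node (.node (.leaf 467) (.leaf 1629)) (.node (.leaf 490) (.leaf 1666)))) (.node (.node (.node (.leaf 250) (.leaf 1258)) (.node (.leaf 404) (.leaf 1487))) (.node (.node (.leaf 660) (.leaf 1703)) (.node (.leaf 581) (.leaf 1747))))) (.node (.node (.node (.node (.leaf 144) (.leaf 1508)) (.node (.leaf 928) (.leaf 1269))) (.node (.node (.leaf 561) (.leaf 963)) (.node (.leaf 1218) (.leaf 1633)))) (.node (.node (.node (.leaf 131) (.leaf 844)) (.node (.leaf 1089) (.leaf 1748))) (.node (.node (.leaf 628) (.leaf 1796)) (.node (.leaf 980) (.leaf 1966)))))) (.node (.node (.node (.node (.node (.leaf 90) (.leaf 716)) (.node (.leaf 890) (.leaf 1221))) (.node (.node (.leaf 182) (.leaf 1665)) (.node (.leaf 1212) (.leaf 1844)))) (.node (.node (.node (.leaf 305) (.leaf 1578)) (.node (.leaf 837) (.leaf 1386))) (.node (.node (.leaf 270)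 (.leaf 1460)) (.node (.leaf 658) (.leaf 2040))))) (.node (.node (.node (.node (.leaf 116) (.leaf 765)) (.node (.leaf 468) (.leaf 1649))) (.node (.node (.leaf 219) (.leaf 1723)) (.node (.leaf 565) (.leaf 1908)))) (.node (.node (.node (.leaf 174) (.leaf 1594)) (.node (.leaf 987) (.leaf 1902))) (.node (.node (.leaf 798) (.leaf 1438)) (.node (.leaf 1170) (.leaf 2067)))))))) (.node (.node (.node (.node (.node (.node (.node (.node (.leaf 7) (.leaf 2060)) (.leaf 678)) (.node (.leaf 835) (.leaf 1281))) (.node (.node (.leaf 449) (.leaf 1643)) (.node (.leaf 1161) (.leaf 1499)))) (.node (.node (.node (.leaf 85) (.leaf 1551)) (.node (.leaf 1004) (.leaf 1904))) (.node (.node (.leaf 236) (.leaf 1156)) (.node (.leaf 1091) (.leaf 1852))))) (.node (.node (.node (.node (.leaf 127) (.leaf 733)) (.node (.leaf 901) (.leaf 1543))) (.node (.node (.leaf 327) (.leaf 956)) (.node (.leaf 1236) (.leaf 1619)))) (.node (.node (.node (.leaf 347) (.leaf 1415)) (.node (.leaf 1076) (.leaf 1918))) (.node (.node (.leaf 737) (.leaf 1598)) (.node (.leaf 1163) (.leaf 2001)))))) (.node (.node (.node (.node (.node (.leaf 75) (.leaf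 715)) (.node (.leaf 334) (.leaf 1832))) (.node (.node (.leaf 504) (.leaf 1670)) (.node (.leaf 750) (.leaf 1553)))) (.node (.node (.node (.leaf 100) (.leaf 1571)) (.node (.leaf 1042) (.leaf 1440))) (.node (.node (.leaf 666) (.leaf 1059)) (.node (.leaf 602) (.leaf 1787))))) (.node (.node (.node (.node (.leaf 184) (.leaf 763)) (.node (.leaf 964) (.leaf 1295))) (.node (.node (.leaf 364) (.leaf 989)) (.node (.leaf 1261) (.leaf 1990)))) (.node (.node (.node (.leaf 396) (.leaf 1374)) (.node (.leaf 1118) (.leaf 1459))) (.node (.node (.leaf 292) (.leaf 1175)) (.node (.leaf 652) (.leaf 1987))))))) (.node (.node (.node (.node (.node (.node (.node (.leaf 18) (.leaf 2076)) (.leaf 848)) (.node (.leaf 857) (.leaf 1596))) (.node (.node (.leaf 470) (.leaf 1656)) (.node (.leaf 777) (.leaf 1529)))) (.node (.node (.node (.leaf 93) (.leaf 870)) (.node (.leaf 858) (.leaf 1660))) (.node (.node (.leaf 671) (.leaf 1754)) (.node (.leaf 591) (.leaf 2026))))) (.node (.node (.node (.node (.leaf 54) (.leaf 1507)) (.node (.leaf 943) (.leaf 1278))) (.node (.node (.leaf 577) (.leaf 976)) (.node (.leaf 543) (.leaf 1642)))) (.node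 (.node (.node (.leaf 130) (.leaf 1586)) (.node (.leaf 452) (.leaf 1879))) (.node (.node (.leaf 766) (.leaf 1101)) (.node (.leaf 1385) (.leaf 1928)))))) (.node (.node (.node (.node (.node (.leaf 99) (.leaf 1457)) (.node (.leaf 850) (.leaf 1564))) (.node (.node (.leaf 431) (.leaf 941)) (.node (.leaf 537) (.leaf 1932)))) (.node (.node (.node (.leaf 319) (.leaf 820)) (.node (.leaf 433) (.leaf 1398))) (.node (.node (.leaf 264) (.leaf 1468)) (.node (.leaf 1356) (.leaf 2043))))) (.node (.node (.node (.node (.leaf 179) (.leaf 772)) (.node (.leaf 387) (.leaf 1692))) (.node (.node (.leaf 224) (.leaf 1035)) (.node (.leaf 1279) (.leaf 1851)))) (.node (.node (.node (.leaf 149) (.leaf 891)) (.node (.leaf 764) (.leaf 1963))) (.node (.node (.leaf 813) (.leaf 1822)) (.node (.leaf 701) (.leaf 1982)))))))))) (.node (.node (.node (.node (.node (.node (.node (.node (.node (.node (.leaf 1) (.leaf 2050)) (.leaf 1087)) (.node (.leaf 485) (.leaf 1828))) (.node (.node (.leaf 426) (.leaf 897)) (.node (.leaf 479) (.leaf 1861)))) (.node (.node (.node (.leaf 220) (.leaf 806)) (.node (.leaf 990) (.leaf 1812))) (.node (.node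 (.leaf 487) (.leaf 1197)) (.node (.leaf 1285) (.leaf 1883))))) (.node (.node (.node (.node (.leaf 37) (.leaf 730)) (.node (.leaf 909) (.leaf 1858))) (.node (.node (.leaf 525) (.leaf 1310)) (.node (.leaf 1223) (.leaf 1602)))) (.node (.node (.node (.leaf 115) (.leaf 852)) (.node (.leaf 1061) (.leaf 1730))) (.node (.node (.leaf 729) (.leaf 1474)) (.node (.leaf 962) (.leaf 2045)))))) (.node (.node (.node (.node (.node (.leaf 62) (.leaf 1058)) (.node (.leaf 546) (.leaf 1570))) (.node (.node (.leaf 489) (.leaf 1664)) (.node (.leaf 1112) (.leaf 1826)))) (.node (.node (.node (.leaf 275) (.leaf 1563)) (.node (.leaf 413) (.leaf 1919))) (.node (.node (.leaf 683) (.leaf 1705)) (.node (.leaf 1319) (.leaf 1954))))) (.node (.node (.node (.node (.leaf 169) (.leaf 1368)) (.node (.leaf 370) (.leaf 1557))) (.node (.node (.leaf 587) (.leaf 983)) (.node (.leaf 1225) (.leaf 2010)))) (.node (.node (.node (.leaf 379) (.leaf 864)) (.node (.leaf 456) (.leaf 1446))) (.node (.node (.leaf 560) (.leaf 1810)) (.node (.leaf 994) (.leaf 2018))))))) (.node (.node (.node (.node (.node (.node (.node (.leaf 28) (.leaf 2066)) (.leaf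 684)) (.node (.leaf 831) (.leaf 1611))) (.node (.node (.leaf 464) (.leaf 1647)) (.node (.leaf 1169) (.leaf 1506)))) (.node (.node (.node (.leaf 247) (.leaf 1012)) (.node (.leaf 948) (.leaf 1682))) (.node (.node (.leaf 240) (.leaf 1211)) (.node (.leaf 1304) (.leaf 1745))))) (.node (.node (.node (.node (.leaf 49) (.leaf 746)) (.node (.leaf 360) (.leaf 1867))) (.node (.node (.leaf 202) (.leaf 1706)) (.node (.leaf 572) (.leaf 1625)))) (.node (.node (.node (.leaf 210) (.leaf 1587)) (.node (.leaf 447) (.leaf 1424))) (.node (.node (.leaf 390) (.leaf 1088)) (.node (.leaf 1293) (.leaf 1870)))))) (.node (.node (.node (.node (.node (.leaf 83) (.leaf 1327)) (.node (.leaf 343) (.leaf 1244))) (.node (.node (.leaf 516) (.leaf 1330)) (.node (.leaf 1200) (.leaf 1673)))) (.node (.node (.node (.leaf 302) (.leaf 1576)) (.node (.leaf 422) (.leaf 1882))) (.node (.node (.leaf 693) (.leaf 1458)) (.node (.leaf 1343) (.leaf 1970))))) (.node (.node (.node (.node (.leaf 186) (.leaf 1138)) (.node (.leaf 427) (.leaf 1307))) (.node (.node (.leaf 610) (.leaf 1006)) (.node (.leaf 775) (.leaf 1689)))) (.node (.node (.node (.leaf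 143) (.leaf 893)) (.node (.leaf 960) (.leaf 1778))) (.node (.node (.leaf 795) (.leaf 1522)) (.node (.leaf 655) (.leaf 2034)))))))) (.node (.node (.node (.node (.node (.node (.node (.node (.leaf 20) (.leaf 2075)) (.leaf 1422)) (.node (.leaf 309) (.leaf 1416))) (.node (.node (.leaf 158) (.leaf 1290)) (.node (.leaf 509) (.leaf 1556)))) (.node (.node (.node (.leaf 233) (.leaf 1549)) (.node (.leaf 1003) (.leaf 1690))) (.node (.node (.leaf 394) (.leaf 1027)) (.node (.leaf 1291) (.leaf 1733))))) (.node (.node (.node (.node (.leaf 125) (.leaf 731)) (.node (.leaf 726) (.leaf 1860))) (.node (.node (.leaf 195) (.leaf 1697)) (.node (.leaf 1230) (.leaf 1866)))) (.node (.node (.node (.leaf 338) (.leaf 1591)) (.node (.leaf 1073) (.leaf 1914))) (.node (.node (.leaf 271) (.leaf 1609)) (.node (.leaf 1245) (.leaf 2046)))))) (.node (.node (.node (.node (.node (.leaf 73) (.leaf 713)) (.node (.leaf 333) (.leaf 1204))) (.node (.node (.leaf 501) (.leaf 1565)) (.node (.leaf 580) (.leaf 1550)))) (.node (.node (.node (.leaf 278) (.leaf 1110)) (.node (.leaf 1009) (.leaf 1362))) (.node (.node (.leaf 258) (.leaf 1450)) (.node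 (.leaf 938) (.leaf 1962))))) (.node (.node (.node (.node (.leaf 181) (.leaf 758)) (.node (.leaf 618) (.leaf 1884))) (.node (.node (.leaf 599) (.leaf 1716)) (.node (.leaf 868) (.leaf 1898)))) (.node (.node (.node (.leaf 234) (.leaf 1172)) (.node (.leaf 1106) (.leaf 1770))) (.node (.node (.leaf 788) (.leaf 1317)) (.node (.leaf 1400) (.leaf 1948))))))) (.node (.node (.node (.node (.node (.node (.node (.leaf 47) (.leaf 2074)) (.leaf 696)) (.node (.leaf 320) (.leaf 1562))) (.node (.node (.leaf 477) (.leaf 1632)) (.node (.leaf 1177) (.leaf 1978)))) (.node (.node (.node (.leaf 257) (.leaf 793)) (.node (.leaf 428) (.leaf 1674))) (.node (.node (.leaf 296) (.leaf 1434)) (.node (.leaf 585) (.leaf 1946))))) (.node (.node (.node (.node (.leaf 52) (.leaf 825)) (.node (.leaf 940) (.leaf 1274))) (.node (.node (.leaf 211) (.leaf 973)) (.node (.leaf 668) (.leaf 1714)))) (.node (.node (.node (.leaf 361) (.leaf 1605)) (.node (.leaf 1090) (.leaf 1436))) (.node (.node (.leaf 280) (.leaf 1390)) (.node (.leaf 1382) (.leaf 1890)))))) (.node (.node (.node (.node (.node (.leaf 97) (.leaf 1481)) (.node (.leaf 900) (.leaf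 1268))) (.node (.node (.leaf 185) (.leaf 939)) (.node (.leaf 1217) (.leaf 1726)))) (.node (.node (.node (.leaf 114) (.leaf 1583)) (.node (.leaf 534) (.leaf 1407))) (.node (.node (.leaf 717) (.leaf 1777)) (.node (.leaf 1151) (.leaf 1818))))) (.node (.node (.node (.node (.leaf 72) (.leaf 769)) (.node (.leaf 768) (.leaf 1892))) (.node (.node (.leaf 624) (.leaf 1515)) (.node (.leaf 564) (.leaf 1738)))) (.node (.node (.node (.leaf 148) (.leaf 1626)) (.node (.leaf 473) (.leaf 1475))) (.node (.node (.leaf 349) (.leaf 1333)) (.node (.leaf 839) (.leaf 1977))))))))) (.node (.node (.node (.node (.node (.node (.node (.node (.node (.leaf 6) (.leaf 2035)) (.leaf 1421)) (.node (.leaf 822) (.leaf 1411))) (.node (.node (.leaf 439) (.leaf 902)) (.node (.leaf 1155) (.leaf 1933)))) (.node (.node (.node (.leaf 79) (.leaf 1184)) (.node (.leaf 395) (.leaf 1324))) (.node (.node (.leaf 466) (.leaf 1017)) (.node (.leaf 1286) (.leaf 1992))))) (.node (.node (.node (.node (.leaf 120) (.leaf 728)) (.node (.leaf 917) (.leaf 1447))) (.node (.node (.leaf 192) (.leaf 1695)) (.node (.leaf 547) (.leaf 1993)))) (.node (.node (.node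 (.leaf 336) (.leaf 1284)) (.node (.leaf 440) (.leaf 1413))) (.node (.node (.leaf 735) (.leaf 1080)) (.node (.leaf 623) (.leaf 1900)))))) (.node (.node (.node (.node (.node (.leaf 38) (.leaf 721)) (.node (.leaf 328) (.leaf 1417))) (.node (.node (.leaf 173) (.leaf 1318)) (.node (.leaf 1154) (.leaf 1545)))) (.node (.node (.node (.leaf 283) (.leaf 1510)) (.node (.leaf 1036) (.leaf 1923))) (.node (.node (.leaf 690) (.leaf 1762)) (.node (.leaf 597) (.leaf 2033))))) (.node (.node (.node (.node (.leaf 167) (.leaf 1051)) (.node (.leaf 955) (.leaf 1638))) (.node (.node (.leaf 358) (.leaf 986)) (.node (.leaf 1180) (.leaf 1655)))) (.node (.node (.node (.leaf 289) (.leaf 872)) (.node (.leaf 1111) (.leaf 1453))) (.node (.node (.leaf 382) (.leaf 1190)) (.node (.leaf 649) (.leaf 1985))))))) (.node (.node (.node (.node (.node (.node (.node (.leaf 39) (.leaf 2041)) (.leaf 1437)) (.node (.leaf 698) (.leaf 1179))) (.node (.node (.leaf 170) (.leaf 1651)) (.node (.leaf 1171) (.leaf 1975)))) (.node (.node (.node (.leaf 88) (.leaf 879)) (.node (.leaf 861) (.leaf 1909))) (.node (.node (.leaf 661) (.leaf 1736)) (.node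 (.leaf 918) (.leaf 2023))))) (.node (.node (.node (.node (.leaf 147) (.leaf 1194)) (.node (.leaf 935) (.leaf 1833))) (.node (.node (.leaf 569) (.leaf 1613)) (.node (.leaf 1246) (.leaf 1657)))) (.node (.node (.node (.leaf 214) (.leaf 1600)) (.node (.leaf 586) (.leaf 1427))) (.node (.node (.leaf 284) (.leaf 1779)) (.node (.leaf 1121) (.leaf 1891)))))) (.node (.node (.node (.node (.node (.leaf 92) (.leaf 720)) (.node (.leaf 823) (.leaf 1379))) (.node (.node (.leaf 189) (.leaf 1083)) (.node (.leaf 518) (.leaf 1846)))) (.node (.node (.node (.leaf 308) (.leaf 811)) (.node (.leaf 430) (.leaf 1801))) (.node (.node (.leaf 261) (.leaf 1065)) (.node (.leaf 1191) (.leaf 1897))))) (.node (.node (.node (.node (.leaf 199) (.leaf 767)) (.node (.leaf 782) (.leaf 1303))) (.node (.node (.leaf 374) (.leaf 1724)) (.node (.leaf 571) (.leaf 1910)))) (.node (.node (.node (.leaf 414) (.leaf 1381)) (.node (.leaf 1130) (.leaf 1471))) (.node (.node (.leaf 801) (.leaf 1526)) (.node (.leaf 657) (.leaf 2038)))))))) (.node (.node (.node (.node (.node (.node (.node (.node (.leaf 14) (.leaf 2029)) (.leaf 1038)) (.node (.leaf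 325) (.leaf 1834))) (.node (.node (.leaf 436) (.leaf 1641)) (.node (.leaf 630) (.leaf 1502)))) (.node (.node (.node (.leaf 87) (.leaf 784)) (.node (.leaf 400) (.leaf 1678))) (.node (.node (.leaf 651) (.leaf 1034)) (.node (.leaf 1277) (.leaf 1835))))) (.node (.node (.node (.node (.leaf 133) (.leaf 734)) (.node (.leaf 862) (.leaf 1263))) (.node (.node (.leaf 556) (.leaf 1701)) (.node (.leaf 532) (.leaf 2002)))) (.node (.node (.node (.leaf 123) (.leaf 842)) (.node (.leaf 443) (.leaf 1423))) (.node (.node (.leaf 747) (.leaf 1248)) (.node (.leaf 631) (.leaf 1998)))))) (.node (.node (.node (.node (.node (.leaf 80) (.leaf 712)) (.node (.leaf 881) (.leaf 1853))) (.node (.node (.leaf 178) (.leaf 931)) (.node (.leaf 1043) (.leaf 1955)))) (.node (.node (.node (.leaf 244) (.leaf 1488)) (.node (.leaf 686) (.leaf 1735))) (.node (.node (.leaf 694) (.leaf 1454)) (.node (.leaf 1342) (.leaf 2004))))) (.node (.node (.node (.node (.leaf 187) (.leaf 1528)) (.node (.leaf 967) (.leaf 1888))) (.node (.node (.leaf 605) (.leaf 1498)) (.node (.leaf 871) (.leaf 1780)))) (.node (.node (.node (.leaf 399) (.leaf 1445)) (.node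 (.leaf 812) (.leaf 1461))) (.node (.node (.leaf 663) (.leaf 1128)) (.node (.leaf 1394) (.leaf 1956))))))) (.node (.node (.node (.node (.node (.node (.node (.leaf 16) (.leaf 2065)) (.leaf 1449)) (.node (.leaf 321) (.leaf 1192))) (.node (.node (.leaf 168) (.leaf 1346)) (.node (.leaf 500) (.leaf 1532)))) (.node (.node (.node (.leaf 266) (.leaf 1153)) (.node (.leaf 499) (.leaf 1347))) (.node (.node (.leaf 246) (.leaf 1524)) (.node (.leaf 1117) (.leaf 2027))))) (.node (.node (.node (.node (.leaf 155) (.leaf 748)) (.node (.leaf 367) (.leaf 1653))) (.node (.node (.leaf 507) (.leaf 1260)) (.node (.leaf 590) (.leaf 2009)))) (.node (.node (.node (.leaf 377) (.leaf 854)) (.node (.leaf 1102) (.leaf 1859))) (.node (.node (.leaf 757) (.leaf 1806)) (.node (.leaf 642) (.leaf 2057)))))) (.node (.node (.node (.node (.node (.leaf 34) (.leaf 816)) (.node (.leaf 804) (.leaf 1484))) (.node (.node (.leaf 536) (.leaf 942)) (.node (.leaf 1219) (.leaf 1597)))) (.node (.node (.node (.leaf 323) (.leaf 821)) (.node (.leaf 435) (.leaf 1850))) (.node (.node (.leaf 708) (.leaf 1675)) (.node (.leaf 680) (.leaf 2044))))) (.node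 (.node (.node (.node (.leaf 77) (.leaf 1544)) (.node (.leaf 752) (.leaf 1700))) (.node (.node (.leaf 486) (.leaf 1731)) (.node (.leaf 1159) (.leaf 1740)))) (.node (.node (.node (.leaf 153) (.leaf 1628)) (.node (.leaf 476) (.leaf 1875))) (.node (.node (.leaf 303) (.leaf 1141)) (.node (.leaf 1247) (.leaf 1994)))))))))))

/-- Part of a table. -/
noncomputable def fixOrbNext1R : BTree := (.node (.node (.node (.node (.node (.node (.node (.node (.node (.node (.node (.leaf 2) (.leaf 2072)) (.leaf 1383)) (.node (.leaf 355) (.leaf 1827))) (.node (.node (.leaf 154) (.leaf 1548)) (.node (.leaf 1146) (.leaf 1485)))) (.node (.node (.node (.leaf 215) (.leaf 1182)) (.node (.leaf 641) (.leaf 1332))) (.node (.node (.leaf 229) (.leaf 1409)) (.node (.leaf 1282) (.leaf 1921))))) (.node (.node (.node (.node (.leaf 109) (.leaf 724)) (.node (.leaf 348) (.leaf 1251))) (.node (.node (.leaf 542) (.leaf 1691)) (.node (.leaf 1224) (.leaf 1763)))) (.node (.node (.node (.leaf 317) (.leaf 826)) (.node (.leaf 705) (.leaf 1403))) (.node (.node (.leaf 268) (.leaf 1785)) (.node (.leaf 617) (.leaf 2022)))))) (.node (.node (.node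 (.node (.node (.leaf 56) (.leaf 1451)) (.node (.leaf 324) (.leaf 1569))) (.node (.node (.leaf 230) (.leaf 920)) (.node (.leaf 502) (.leaf 1536)))) (.node (.node (.node (.leaf 260) (.leaf 1185)) (.node (.leaf 1029) (.leaf 1354))) (.node (.node (.leaf 248) (.leaf 1123)) (.node (.leaf 1323) (.leaf 1775))))) (.node (.node (.node (.node (.leaf 58) (.leaf 982)) (.node (.leaf 369) (.leaf 1876))) (.node (.node (.leaf 207) (.leaf 1377)) (.node (.leaf 1227) (.leaf 1727)))) (.node (.node (.node (.leaf 135) (.leaf 873)) (.node (.leaf 460) (.leaf 1444))) (.node (.node (.leaf 773) (.leaf 1105)) (.node (.leaf 1391) (.leaf 2059))))))) (.node (.node (.node (.node (.node (.node (.node (.leaf 31) (.leaf 2078)) (.leaf 1432)) (.node (.leaf 840) (.leaf 1836))) (.node (.node (.leaf 461) (.leaf 1491)) (.node (.leaf 488) (.leaf 1511)))) (.node (.node (.node (.leaf 237) (.leaf 786)) (.node (.leaf 1014) (.leaf 1328))) (.node (.node (.leaf 647) (.leaf 1037)) (.node (.leaf 579) (.leaf 1849))))) (.node (.node (.node (.node (.leaf 136) (.leaf 1505)) (.node (.leaf 593) (.leaf 1265))) (.node (.node (.leaf 288) (.leaf 1704))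 (.node (.leaf 1053) (.leaf 1624)))) (.node (.node (.node (.leaf 311) (.leaf 1215)) (.node (.leaf 1062) (.leaf 1938))) (.node (.node (.leaf 527) (.leaf 1575)) (.node (.leaf 1375) (.leaf 1996)))))) (.node (.node (.node (.node (.node (.leaf 82) (.leaf 714)) (.node (.leaf 340) (.leaf 1213))) (.node (.node (.leaf 180) (.leaf 933)) (.node (.leaf 511) (.leaf 1912)))) (.node (.node (.node (.leaf 103) (.leaf 1348)) (.node (.leaf 423) (.leaf 1373))) (.node (.node (.leaf 700) (.leaf 1084)) (.node (.leaf 1344) (.leaf 1800))))) (.node (.node (.node (.node (.leaf 191) (.leaf 1525)) (.node (.leaf 863) (.leaf 1652))) (.node (.node (.leaf 609) (.leaf 1393)) (.node (.leaf 558) (.leaf 1905)))) (.node (.node (.node (.leaf 405) (.leaf 1617)) (.node (.leaf 971) (.leaf 1466))) (.node (.node (.leaf 791) (.leaf 1129)) (.node (.leaf 682) (.leaf 1958)))))))) (.node (.node (.node (.node (.node (.node (.node (.node (.leaf 15) (.leaf 2014)) (.leaf 1353)) (.node (.leaf 495) (.leaf 1830))) (.node (.node (.leaf 157) (.leaf 904)) (.node (.leaf 796) (.leaf 1718)))) (.node (.node (.node (.leaf 228) (.leaf 780)) (.node (.leaf 998)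 (.leaf 1842))) (.node (.node (.leaf 643) (.leaf 1574)) (.node (.leaf 575) (.leaf 1929))))) (.node (.node (.node (.node (.leaf 42) (.leaf 1496)) (.node (.leaf 922) (.leaf 1482))) (.node (.node (.leaf 539) (.leaf 1033)) (.node (.leaf 1231) (.leaf 1997)))) (.node (.node (.node (.leaf 341) (.leaf 866)) (.node (.leaf 1066) (.leaf 1419))) (.node (.node (.leaf 741) (.leaf 1082)) (.node (.leaf 1176) (.leaf 1862)))))) (.node (.node (.node (.node (.node (.leaf 69) (.leaf 1462)) (.node (.leaf 549) (.leaf 1847))) (.node (.node (.leaf 472) (.leaf 932)) (.node (.leaf 1203) (.leaf 1622)))) (.node (.node (.node (.leaf 98) (.leaf 1567)) (.node (.leaf 1039) (.leaf 1442))) (.node (.node (.leaf 691) (.leaf 1054)) (.node (.leaf 1331) (.leaf 1961))))) (.node (.node (.node (.node (.leaf 164) (.leaf 1521)) (.node (.leaf 961) (.leaf 1294))) (.node (.node (.leaf 218) (.leaf 988)) (.node (.leaf 1249) (.leaf 1974)))) (.node (.node (.node (.leaf 138) (.leaf 1252)) (.node (.leaf 517) (.leaf 1949))) (.node (.node (.leaf 290) (.leaf 1316)) (.node (.leaf 1092) (.leaf 2061))))))) (.node (.node (.node (.node (.node (.node (.node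 (.leaf 25) (.leaf 2079)) (.leaf 880)) (.node (.leaf 828) (.leaf 1837))) (.node (.node (.leaf 197) (.leaf 915)) (.node (.leaf 1178) (.leaf 1757)))) (.node (.node (.node (.leaf 254) (.leaf 794)) (.node (.leaf 1019) (.leaf 1906))) (.node (.node (.leaf 667) (.leaf 1752)) (.node (.leaf 1311) (.leaf 1945))))) (.node (.node (.node (.node (.leaf 51) (.leaf 1504)) (.node (.leaf 601) (.leaf 1874))) (.node (.node (.leaf 345) (.leaf 1711)) (.node (.leaf 540) (.leaf 1881)))) (.node (.node (.node (.leaf 128) (.leaf 1559)) (.node (.leaf 450) (.leaf 1943))) (.node (.node (.leaf 762) (.leaf 1389)) (.node (.leaf 1253) (.leaf 1886)))))) (.node (.node (.node (.node (.node (.leaf 101) (.leaf 1255)) (.node (.leaf 342) (.leaf 1683))) (.node (.node (.leaf 496) (.leaf 1688)) (.node (.leaf 1114) (.leaf 1937)))) (.node (.node (.node (.leaf 314) (.leaf 1209)) (.node (.leaf 836) (.leaf 1721))) (.node (.node (.leaf 711) (.leaf 1067)) (.node (.leaf 1351) (.leaf 2042))))) (.node (.node (.node (.node (.leaf 203) (.leaf 1540)) (.node (.leaf 384) (.leaf 1878))) (.node (.node (.leaf 222) (.leaf 1728)) (.node (.leaf 576) (.leaf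 1895)))) (.node (.node (.node (.leaf 249) (.leaf 1623)) (.node (.leaf 1135) (.leaf 1473))) (.node (.node (.leaf 807) (.leaf 1820)) (.node (.leaf 1414) (.leaf 2070))))))))) (.node (.node (.node (.node (.node (.node (.node (.node (.node (.leaf 3) (.leaf 2000)) (.leaf 673)) (.node (.leaf 745) (.leaf 1147))) (.node (.node (.leaf 438) (.leaf 898)) (.node (.leaf 481) (.leaf 1967)))) (.node (.node (.node (.leaf 78) (.leaf 1547)) (.node (.leaf 995) (.leaf 1669))) (.node (.node (.leaf 232) (.leaf 1734)) (.node (.leaf 588) (.leaf 1971))))) (.node (.node (.node (.node (.leaf 41) (.leaf 1493)) (.node (.leaf 916) (.leaf 1242))) (.node (.node (.leaf 526) (.leaf 951)) (.node (.leaf 692) (.leaf 1794)))) (.node (.node (.node (.leaf 281) (.leaf 1588)) (.node (.leaf 709) (.leaf 1930))) (.node (.node (.leaf 727) (.leaf 1789)) (.node (.leaf 1365) (.leaf 1911)))))) (.node (.node (.node (.node (.node (.leaf 66) (.leaf 706)) (.node (.leaf 553) (.leaf 1749))) (.node (.node (.leaf 407) (.leaf 1514)) (.node (.leaf 1195) (.leaf 1829)))) (.node (.node (.node (.leaf 117) (.leaf 1152)) (.node (.leaf 415) (.leaf 1358))) (.node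 (.node (.leaf 251) (.leaf 1262)) (.node (.leaf 1329) (.leaf 1781))))) (.node (.node (.node (.node (.leaf 57) (.leaf 755)) (.node (.leaf 371) (.leaf 1288))) (.node (.node (.leaf 592) (.leaf 1270)) (.node (.leaf 875) (.leaf 2011)))) (.node (.node (.node (.leaf 385) (.leaf 985)) (.node (.leaf 457) (.leaf 1765))) (.node (.node (.leaf 514) (.leaf 1509)) (.node (.leaf 656) (.leaf 2056))))))) (.node (.node (.node (.node (.node (.node (.node (.leaf 11) (.leaf 2052)) (.leaf 685)) (.node (.leaf 845) (.leaf 1634))) (.node (.node (.leaf 391) (.leaf 911)) (.node (.leaf 1173) (.leaf 1668)))) (.node (.node (.node (.leaf 252) (.leaf 789)) (.node (.leaf 406) (.leaf 1336))) (.node (.node (.leaf 241) (.leaf 1040)) (.node (.leaf 582) (.leaf 1941))))) (.node (.node (.node (.node (.leaf 140) (.leaf 1109)) (.node (.leaf 934) (.leaf 1855))) (.node (.node (.leaf 201) (.leaf 965)) (.node (.leaf 627) (.leaf 1648)))) (.node (.node (.node (.leaf 363) (.leaf 1599)) (.node (.leaf 451) (.leaf 1573))) (.node (.node (.leaf 640) (.leaf 1093)) (.node (.leaf 639) (.leaf 2055)))))) (.node (.node (.node (.node (.node (.leaf 29) (.leaf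 1479)) (.node (.leaf 884) (.leaf 1235))) (.node (.node (.leaf 522) (.leaf 1530)) (.node (.leaf 1214) (.leaf 1991)))) (.node (.node (.node (.leaf 106) (.leaf 1579)) (.node (.leaf 434) (.leaf 1717))) (.node (.node (.leaf 707) (.leaf 1774)) (.node (.leaf 611) (.leaf 1927))))) (.node (.node (.node (.node (.leaf 165) (.leaf 1534)) (.node (.leaf 381) (.leaf 1630))) (.node (.node (.leaf 616) (.leaf 999)) (.node (.leaf 1267) (.leaf 1686)))) (.node (.node (.node (.leaf 411) (.leaf 1620)) (.node (.leaf 478) (.leaf 1957))) (.node (.node (.leaf 298) (.leaf 1137)) (.node (.leaf 1395) (.leaf 2068)))))))) (.node (.node (.node (.node (.node (.node (.node (.node (.leaf 13) (.leaf 2025)) (.leaf 1425)) (.node (.leaf 322) (.leaf 1162))) (.node (.node (.leaf 455) (.leaf 978)) (.node (.leaf 799) (.leaf 1805)))) (.node (.node (.node (.leaf 239) (.leaf 783)) (.node (.leaf 996) (.leaf 1325))) (.node (.node (.leaf 648) (.leaf 1030)) (.node (.leaf 578) (.leaf 1798))))) (.node (.node (.node (.node (.leaf 126) (.leaf 1500)) (.node (.leaf 923) (.leaf 1366))) (.node (.node (.leaf 554) (.leaf 1699)) (.node (.leaf 533) (.leaf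 1864)))) (.node (.node (.node (.leaf 301) (.leaf 1592)) (.node (.leaf 442) (.leaf 1917))) (.node (.node (.leaf 273) (.leaf 1793)) (.node (.leaf 1370) (.leaf 1865)))))) (.node (.node (.node (.node (.node (.leaf 45) (.leaf 1467)) (.node (.leaf 877) (.leaf 1207))) (.node (.node (.leaf 205) (.leaf 1677)) (.node (.leaf 508) (.leaf 1561)))) (.node (.node (.node (.leaf 294) (.leaf 1410)) (.node (.leaf 1045) (.leaf 1371))) (.node (.node (.leaf 256) (.leaf 1766)) (.node (.leaf 1340) (.leaf 1965))))) (.node (.node (.node (.node (.leaf 65) (.leaf 1133)) (.node (.leaf 376) (.leaf 1887))) (.node (.node (.leaf 365) (.leaf 1497)) (.node (.leaf 557) (.leaf 1671)))) (.node (.node (.node (.leaf 145) (.leaf 876)) (.node (.leaf 749) (.leaf 1952))) (.node (.node (.leaf 295) (.leaf 1739)) (.node (.leaf 1405) (.leaf 2062))))))) (.node (.node (.node (.node (.node (.node (.node (.leaf 53) (.leaf 2064)) (.leaf 849)) (.node (.leaf 855) (.leaf 1322))) (.node (.node (.leaf 480) (.leaf 1309)) (.node (.leaf 1181) (.leaf 1979)))) (.node (.node (.node (.leaf 265) (.leaf 797)) (.node (.leaf 1023) (.leaf 1693))) (.node (.node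 (.leaf 674) (.leaf 1046)) (.node (.leaf 600) (.leaf 1769))))) (.node (.node (.node (.node (.leaf 156) (.leaf 926)) (.node (.leaf 366) (.leaf 1300))) (.node (.node (.leaf 506) (.leaf 1713)) (.node (.leaf 662) (.leaf 1885)))) (.node (.node (.node (.leaf 375) (.leaf 970)) (.node (.leaf 1100) (.leaf 1817))) (.node (.node (.leaf 282) (.leaf 1627)) (.node (.leaf 1388) (.leaf 2013)))))) (.node (.node (.node (.node (.node (.leaf 107) (.leaf 723)) (.node (.leaf 445) (.leaf 1854))) (.node (.node (.leaf 193) (.leaf 1341)) (.node (.leaf 520) (.leaf 1582)))) (.node (.node (.node (.leaf 310) (.leaf 1585)) (.node (.leaf 1020) (.leaf 1399))) (.node (.node (.leaf 573) (.leaf 1095)) (.node (.leaf 957) (.leaf 1824))))) (.node (.node (.node (.node (.leaf 74) (.leaf 771)) (.node (.leaf 388) (.leaf 1760))) (.node (.node (.leaf 629) (.leaf 1005)) (.node (.leaf 1266) (.leaf 1741)))) (.node (.node (.node (.leaf 424) (.leaf 910)) (.node (.leaf 1140) (.leaf 1477))) (.node (.node (.leaf 778) (.leaf 1139)) (.node (.leaf 695) (.leaf 1986)))))))))) (.node (.node (.node (.node (.node (.node (.node (.node (.node (.node (.leaf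 5) (.leaf 2051)) (.leaf 1418)) (.node (.leaf 307) (.leaf 1144))) (.node (.node (.leaf 432) (.leaf 1635)) (.node (.leaf 1149) (.leaf 1944)))) (.node (.node (.node (.leaf 212) (.leaf 774)) (.node (.leaf 393) (.leaf 1667))) (.node (.node (.leaf 636) (.leaf 1542)) (.node (.leaf 736) (.leaf 1702))))) (.node (.node (.node (.node (.leaf 67) (.leaf 908)) (.node (.leaf 913) (.leaf 1239))) (.node (.node (.leaf 190) (.leaf 1694)) (.node (.leaf 524) (.leaf 1758)))) (.node (.node (.node (.leaf 330) (.leaf 830)) (.node (.leaf 437) (.leaf 1406))) (.node (.node (.leaf 725) (.leaf 1786)) (.node (.leaf 1364) (.leaf 2028)))))) (.node (.node (.node (.node (.node (.leaf 63) (.leaf 1452)) (.node (.leaf 838) (.leaf 1196))) (.node (.node (.leaf 171) (.leaf 936)) (.node (.leaf 1187) (.leaf 1537)))) (.node (.node (.node (.leaf 95) (.leaf 803)) (.node (.leaf 1032) (.leaf 1357))) (.node (.node (.leaf 419) (.leaf 1048)) (.node (.leaf 1326) (.leaf 1838))))) (.node (.node (.node (.node (.leaf 60) (.leaf 1441)) (.node (.leaf 949) (.leaf 1283))) (.node (.node (.leaf 513) (.leaf 1590)) (.node (.leaf 548) (.leaf 2006)))) (.node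 (.node (.node (.leaf 359) (.leaf 1601)) (.node (.leaf 1107) (.leaf 1857))) (.node (.node (.leaf 287) (.leaf 1116)) (.node (.leaf 645) (.leaf 1920))))))) (.node (.node (.node (.node (.node (.node (.node (.leaf 36) (.leaf 2036)) (.leaf 814)) (.node (.leaf 315) (.leaf 1167))) (.node (.node (.leaf 162) (.leaf 912)) (.node (.leaf 491) (.leaf 1604)))) (.node (.node (.node (.leaf 86) (.leaf 790)) (.node (.leaf 1016) (.leaf 1593))) (.node (.node (.leaf 619) (.leaf 1750)) (.node (.leaf 1305) (.leaf 1744))))) (.node (.node (.node (.node (.leaf 50) (.leaf 739)) (.node (.leaf 927) (.leaf 1868))) (.node (.node (.leaf 563) (.leaf 1312)) (.node (.leaf 851) (.leaf 1790)))) (.node (.node (.node (.leaf 346) (.leaf 1589)) (.node (.leaf 1085) (.leaf 1940))) (.node (.node (.leaf 276) (.leaf 1297)) (.node (.leaf 635) (.leaf 1871)))))) (.node (.node (.node (.node (.node (.leaf 89) (.leaf 1476)) (.node (.leaf 339) (.leaf 1234))) (.node (.node (.leaf 515) (.leaf 937)) (.node (.leaf 512) (.leaf 1568)))) (.node (.node (.node (.leaf 124) (.leaf 809)) (.node (.leaf 425) (.leaf 1384))) (.node (.node (.leaf 702) (.leaf 1772))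 (.node (.leaf 607) (.leaf 1925))))) (.node (.node (.node (.node (.leaf 194) (.leaf 1533)) (.node (.leaf 853) (.leaf 1302))) (.node (.node (.leaf 613) (.leaf 1013)) (.node (.leaf 883) (.leaf 1680)))) (.node (.node (.node (.leaf 408) (.leaf 885)) (.node (.leaf 1125) (.leaf 1494))) (.node (.node (.leaf 670) (.leaf 1136)) (.node (.leaf 815) (.leaf 2054)))))))) (.node (.node (.node (.node (.node (.node (.node (.node (.leaf 21) (.leaf 2017)) (.leaf 1404)) (.node (.leaf 832) (.leaf 1157))) (.node (.node (.leaf 448) (.leaf 906)) (.node (.leaf 484) (.leaf 1719)))) (.node (.node (.node (.leaf 139) (.leaf 972)) (.node (.leaf 398) (.leaf 1470))) (.node (.node (.leaf 646) (.leaf 1737)) (.node (.leaf 1296) (.leaf 1831))))) (.node (.node (.node (.node (.leaf 44) (.leaf 991)) (.node (.leaf 354) (.leaf 1554))) (.node (.node (.leaf 196) (.leaf 1124)) (.node (.leaf 1220) (.leaf 1618)))) (.node (.node (.node (.leaf 121) (.leaf 865)) (.node (.leaf 1068) (.leaf 1517))) (.node (.node (.leaf 744) (.leaf 1791)) (.node (.leaf 753) (.leaf 1995)))))) (.node (.node (.node (.node (.node (.leaf 23) (.leaf 1465)) (.node (.leaf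 551) (.leaf 1205))) (.node (.node (.leaf 176) (.leaf 929)) (.node (.leaf 1206) (.leaf 1934)))) (.node (.node (.node (.leaf 291) (.leaf 805)) (.node (.leaf 418) (.leaf 1707))) (.node (.node (.leaf 626) (.leaf 1057)) (.node (.leaf 1338) (.leaf 1788))))) (.node (.node (.node (.node (.leaf 61) (.leaf 1131)) (.node (.leaf 403) (.leaf 1292))) (.node (.node (.leaf 213) (.leaf 1387)) (.node (.leaf 869) (.leaf 1899)))) (.node (.node (.node (.leaf 235) (.leaf 1168)) (.node (.leaf 462) (.leaf 1951))) (.node (.node (.leaf 787) (.leaf 1402)) (.node (.leaf 650) (.leaf 1950))))))) (.node (.node (.node (.node (.node (.node (.node (.leaf 48) (.leaf 2058)) (.leaf 1126)) (.node (.leaf 329) (.leaf 1186))) (.node (.node (.leaf 166) (.leaf 1650)) (.node (.leaf 498) (.leaf 1527)))) (.node (.node (.node (.leaf 94) (.leaf 1558)) (.node (.leaf 409) (.leaf 1345))) (.node (.node (.leaf 245) (.leaf 1044)) (.node (.leaf 589) (.leaf 1947))))) (.node (.node (.node (.node (.leaf 152) (.leaf 1512)) (.node (.leaf 603) (.leaf 1501))) (.node (.node (.leaf 204) (.leaf 1709)) (.node (.leaf 792) (.leaf 1922)))) (.node (.node (.node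 (.leaf 372) (.leaf 1448)) (.node (.leaf 1098) (.leaf 1935))) (.node (.node (.leaf 475) (.leaf 1804)) (.node (.leaf 756) (.leaf 1893)))))) (.node (.node (.node (.node (.node (.leaf 104) (.leaf 1334)) (.node (.leaf 886) (.leaf 1232))) (.node (.node (.leaf 531) (.leaf 1679)) (.node (.leaf 1216) (.leaf 1916)))) (.node (.node (.node (.leaf 110) (.leaf 1426)) (.node (.leaf 535) (.leaf 1396))) (.node (.node (.leaf 718) (.leaf 1069)) (.node (.leaf 614) (.leaf 1821))))) (.node (.node (.node (.node (.leaf 206) (.leaf 1541)) (.node (.leaf 979) (.leaf 1659))) (.node (.node (.leaf 226) (.leaf 1729)) (.node (.leaf 1276) (.leaf 1712)))) (.node (.node (.node (.leaf 421) (.leaf 1103)) (.node (.leaf 1132) (.leaf 1964))) (.node (.node (.leaf 350) (.leaf 1335)) (.node (.leaf 665) (.leaf 1980))))))))) (.node (.node (.node (.node (.node (.node (.node (.node (.node (.leaf 12) (.leaf 2005)) (.leaf 676)) (.node (.leaf 344) (.leaf 1612))) (.node (.node (.leaf 159) (.leaf 903)) (.node (.leaf 882) (.leaf 1495)))) (.node (.node (.node (.leaf 225) (.leaf 894)) (.node (.leaf 401) (.leaf 1901))) (.node (.node (.leaf 277) (.leaf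 1228)) (.node (.leaf 1287) (.leaf 1973))))) (.node (.node (.node (.node (.leaf 40) (.leaf 1469)) (.node (.leaf 351) (.leaf 1792))) (.node (.node (.leaf 332) (.leaf 953)) (.node (.leaf 1018) (.leaf 1615)))) (.node (.node (.node (.leaf 118) (.leaf 834)) (.node (.leaf 441) (.leaf 1710))) (.node (.node (.leaf 269) (.leaf 1077)) (.node (.leaf 622) (.leaf 1845)))))) (.node (.node (.node (.node (.node (.leaf 22) (.leaf 1063)) (.node (.leaf 555) (.leaf 1489))) (.node (.node (.leaf 493) (.leaf 930)) (.node (.leaf 505) (.leaf 1931)))) (.node (.node (.node (.leaf 102) (.leaf 950)) (.node (.leaf 679) (.leaf 1428))) (.node (.node (.leaf 689) (.leaf 1606)) (.node (.leaf 598) (.leaf 2032))))) (.node (.node (.node (.node (.leaf 177) (.leaf 1439)) (.node (.leaf 615) (.leaf 1639))) (.node (.node (.leaf 227) (.leaf 1025)) (.node (.leaf 878) (.leaf 1913)))) (.node (.node (.node (.leaf 383) (.leaf 1081)) (.node (.leaf 1104) (.leaf 1767))) (.node (.node (.leaf 386) (.leaf 1809)) (.node (.leaf 1397) (.leaf 1942))))))) (.node (.node (.node (.node (.node (.node (.node (.leaf 43) (.leaf 2048)) (.leaf 688)) (.node (.leaf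 699) (.leaf 1241))) (.node (.node (.leaf 175) (.leaf 1654)) (.node (.leaf 497) (.leaf 1976)))) (.node (.node (.node (.leaf 255) (.leaf 1516)) (.node (.leaf 494) (.leaf 1687))) (.node (.node (.leaf 293) (.leaf 1751)) (.node (.leaf 584) (.leaf 1753))))) (.node (.node (.node (.node (.leaf 142) (.leaf 742)) (.node (.leaf 362) (.leaf 1273))) (.node (.node (.leaf 562) (.leaf 968)) (.node (.leaf 541) (.leaf 1756)))) (.node (.node (.node (.leaf 129) (.leaf 1603)) (.node (.leaf 453) (.leaf 1431))) (.node (.node (.leaf 759) (.leaf 1799)) (.node (.leaf 1378) (.leaf 1880)))))) (.node (.node (.node (.node (.node (.leaf 32) (.leaf 1271)) (.node (.leaf 896) (.leaf 1226))) (.node (.node (.leaf 209) (.leaf 1531)) (.node (.leaf 566) (.leaf 1577)))) (.node (.node (.node (.leaf 111) (.leaf 1581)) (.node (.leaf 1021) (.leaf 1803))) (.node (.node (.leaf 262) (.leaf 1071)) (.node (.leaf 1349) (.leaf 1814))))) (.node (.node (.node (.node (.leaf 200) (.leaf 1519)) (.node (.leaf 974) (.leaf 1894))) (.node (.node (.leaf 221) (.leaf 1725)) (.node (.leaf 1188) (.leaf 1989)))) (.node (.node (.node (.leaf 146) (.leaf 1079))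 (.node (.leaf 471) (.leaf 1960))) (.node (.node (.leaf 800) (.leaf 1819)) (.node (.leaf 1412) (.leaf 2039)))))))) (.node (.node (.node (.node (.node (.node (.node (.node (.leaf 9) (.leaf 2063)) (.leaf 681)) (.node (.leaf 465) (.leaf 1164))) (.node (.node (.leaf 458) (.leaf 1644)) (.node (.leaf 1165) (.leaf 1503)))) (.node (.node (.node (.leaf 242) (.leaf 1555)) (.node (.leaf 1010) (.leaf 1339))) (.node (.node (.leaf 238) (.leaf 1742)) (.node (.leaf 1301) (.leaf 1755))))) (.node (.node (.node (.node (.leaf 134) (.leaf 1275)) (.node (.leaf 924) (.leaf 1863))) (.node (.node (.leaf 559) (.leaf 1359)) (.node (.leaf 1240) (.leaf 2003)))) (.node (.node (.node (.leaf 353) (.leaf 841)) (.node (.leaf 895) (.leaf 1848))) (.node (.node (.leaf 463) (.leaf 1684)) (.node (.leaf 632) (.leaf 1999)))))) (.node (.node (.node (.node (.node (.leaf 26) (.leaf 1463)) (.node (.leaf 335) (.leaf 1210))) (.node (.node (.leaf 510) (.leaf 1074)) (.node (.leaf 1011) (.leaf 1988)))) (.node (.node (.node (.leaf 279) (.leaf 808)) (.node (.leaf 420) (.leaf 1369))) (.node (.node (.leaf 316) (.leaf 1455)) (.node (.leaf 604) (.leaf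 1797))))) (.node (.node (.node (.node (.leaf 183) (.leaf 761)) (.node (.leaf 966) (.leaf 1298))) (.node (.node (.leaf 606) (.leaf 993)) (.node (.leaf 1174) (.leaf 2015)))) (.node (.node (.node (.leaf 141) (.leaf 1614)) (.node (.leaf 664) (.leaf 1953))) (.node (.node (.leaf 521) (.leaf 1143)) (.node (.leaf 1120) (.leaf 2031))))))) (.node (.node (.node (.node (.node (.node (.node (.leaf 17) (.leaf 2073)) (.leaf 703)) (.node (.leaf 860) (.leaf 1193))) (.node (.node (.leaf 483) (.leaf 921)) (.node (.leaf 781) (.leaf 1535)))) (.node (.node (.node (.leaf 263) (.leaf 984)) (.node (.leaf 412) (.leaf 1350))) (.node (.node (.leaf 677) (.leaf 1127)) (.node (.leaf 595) (.leaf 1771))))) (.node (.node (.node (.node (.leaf 163) (.leaf 1119)) (.node (.leaf 947) (.leaf 1280))) (.node (.node (.leaf 583) (.leaf 977)) (.node (.leaf 625) (.leaf 1645)))) (.node (.node (.node (.leaf 132) (.leaf 1022)) (.node (.leaf 454) (.leaf 1552))) (.node (.node (.leaf 770) (.leaf 1807)) (.node (.leaf 1099) (.leaf 1903)))))) (.node (.node (.node (.node (.node (.leaf 35) (.leaf 1026)) (.node (.leaf 905) (.leaf 1237))) (.node (.node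 (.leaf 188) (.leaf 946)) (.node (.leaf 530) (.leaf 1621)))) (.node (.node (.node (.leaf 113) (.leaf 1233)) (.node (.leaf 1055) (.leaf 1889))) (.node (.node (.leaf 722) (.leaf 1782)) (.node (.leaf 1360) (.leaf 1983))))) (.node (.node (.node (.node (.leaf 76) (.leaf 954)) (.node (.leaf 981) (.leaf 1663))) (.node (.node (.leaf 231) (.leaf 1722)) (.node (.leaf 719) (.leaf 1698)))) (.node (.node (.node (.leaf 151) (.leaf 892)) (.node (.leaf 1142) (.leaf 1483))) (.node (.node (.leaf 817) (.leaf 1823)) (.node (.leaf 669) (.leaf 2047)))))))))))

/-- A table. -/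
noncomputable def fixOrbNext1 : BTree := .node fixOrbNext1L fixOrbNext1R

/-- Part of a table. -/
noncomputable def fixOrbNext2L : BTree := (.node (.node (.node (.node (.node (.node (.node (.node (.node (.node (.node (.leaf 1) (.leaf 2066)) (.leaf 1011)) (.node (.leaf 304) (.leaf 1526))) (.node (.node (.leaf 151) (.leaf 893)) (.node (.leaf 1143) (.leaf 1762)))) (.node (.node (.node (.leaf 128) (.leaf 1381)) (.node (.leaf 986) (.leaf 1479))) (.node (.node (.leaf 631) (.leaf 1010)) (.node (.leaf 569) (.leaf 1829))))) (.node (.node (.node (.node (.leaf 113) (.leaf 1461)) (.node (.leaf 907) (.leaf 1240))) (.node (.node (.leaf 540) (.leaf 1692)) (.node (.leaf 1222) (.leaf 1730)))) (.node (.node (.node (.leaf 195) (.leaf 1531)) (.node (.leaf 436) (.leaf 1585))) (.node (.node (.leaf 448) (.leaf 1784)) (.node (.leaf 688) (.leaf 1995)))))) (.node (.node (.node (.node (.node (.leaf 22) (.leaf 738)) (.node (.leaf 325) (.leaf 1844))) (.node (.node (.leaf 169) (.leaf 1661)) (.node (.leaf 501) (.leaf 1616)))) (.node (.node (.node (.leaf 269) (.leaf 1561)) (.node (.leaf 999) (.leaf 1448))) (.node (.node (.leaf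 247) (.leaf 1758)) (.node (.leaf 610) (.leaf 1952))))) (.node (.node (.node (.node (.leaf 55) (.leaf 752)) (.node (.leaf 368) (.leaf 1869))) (.node (.node (.leaf 585) (.leaf 978)) (.node (.leaf 547) (.leaf 1723)))) (.node (.node (.node (.leaf 381) (.leaf 856)) (.node (.leaf 1105) (.leaf 1442))) (.node (.node (.leaf 772) (.leaf 1578)) (.node (.leaf 992) (.leaf 1980))))))) (.node (.node (.node (.node (.node (.node (.node (.leaf 26) (.leaf 2030)) (.leaf 1040)) (.node (.leaf 314) (.leaf 1610))) (.node (.node (.leaf 460) (.leaf 1626)) (.node (.leaf 1164) (.leaf 1848)))) (.node (.node (.node (.leaf 244) (.leaf 785)) (.node (.leaf 1012) (.leaf 1328))) (.node (.node (.leaf 655) (.leaf 1741)) (.node (.leaf 1302) (.leaf 1740))))) (.node (.node (.node (.node (.leaf 135) (.leaf 735)) (.node (.leaf 925) (.leaf 1824))) (.node (.node (.leaf 561) (.leaf 961)) (.node (.leaf 818) (.leaf 1872)))) (.node (.node (.node (.leaf 354) (.leaf 1207)) (.node (.leaf 444) (.leaf 1423))) (.node (.node (.leaf 464) (.leaf 1488)) (.node (.leaf 633) (.leaf 1877)))))) (.node (.node (.node (.node (.node (.leaf 31) (.leaf 1072))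 (.node (.leaf 477) (.leaf 1211))) (.node (.node (.leaf 512) (.leaf 1680)) (.node (.leaf 1209) (.leaf 1989)))) (.node (.node (.node (.leaf 298) (.leaf 1435)) (.node (.leaf 960) (.leaf 1830))) (.node (.node (.leaf 699) (.leaf 1769)) (.node (.leaf 605) (.leaf 1892))))) (.node (.node (.node (.node (.leaf 190) (.leaf 762)) (.node (.leaf 867) (.leaf 1890))) (.node (.node (.leaf 608) (.leaf 1163)) (.node (.leaf 557) (.leaf 2005)))) (.node (.node (.node (.leaf 142) (.leaf 1535)) (.node (.leaf 1120) (.leaf 1783))) (.node (.node (.leaf 495) (.leaf 1129)) (.node (.leaf 654) (.leaf 1957)))))))) (.node (.node (.node (.node (.node (.node (.node (.node (.leaf 14) (.leaf 2011)) (.leaf 1003)) (.node (.leaf 308) (.leaf 1612))) (.node (.node (.leaf 442) (.leaf 1638)) (.node (.leaf 1159) (.leaf 1496)))) (.node (.node (.node (.leaf 94) (.leaf 778)) (.node (.leaf 411) (.leaf 1678))) (.node (.node (.leaf 451) (.leaf 1410)) (.node (.leaf 962) (.leaf 1726))))) (.node (.node (.node (.node (.leaf 103) (.leaf 730)) (.node (.leaf 607) (.leaf 1447))) (.node (.node (.leaf 333) (.leaf 953)) (.node (.leaf 1229) (.leaf 1832))))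 (.node (.node (.node (.leaf 340) (.leaf 1284)) (.node (.leaf 450) (.leaf 1583))) (.node (.node (.leaf 270) (.leaf 1077)) (.node (.leaf 622) (.leaf 1893)))))) (.node (.node (.node (.node (.node (.leaf 24) (.leaf 723)) (.node (.leaf 872) (.leaf 1574))) (.node (.node (.leaf 498) (.leaf 1320)) (.node (.leaf 1201) (.leaf 1864)))) (.node (.node (.node (.leaf 282) (.leaf 964)) (.node (.leaf 1014) (.leaf 1809))) (.node (.node (.leaf 428) (.leaf 1696)) (.node (.leaf 1334) (.leaf 1951))))) (.node (.node (.node (.node (.leaf 179) (.leaf 757)) (.node (.leaf 959) (.leaf 1291))) (.node (.node (.leaf 212) (.leaf 987)) (.node (.leaf 552) (.leaf 1662)))) (.node (.node (.node (.leaf 387) (.leaf 873)) (.node (.leaf 516) (.leaf 1948))) (.node (.node (.leaf 783) (.leaf 1810)) (.node (.leaf 649) (.leaf 2024))))))) (.node (.node (.node (.node (.node (.node (.node (.leaf 40) (.leaf 2072)) (.leaf 694)) (.node (.leaf 319) (.leaf 1402))) (.node (.node (.leaf 471) (.leaf 1501)) (.node (.leaf 1020) (.leaf 1641)))) (.node (.node (.node (.leaf 89) (.leaf 1368)) (.node (.leaf 1018) (.leaf 1688))) (.node (.node (.leaf 665)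 (.leaf 1706)) (.node (.leaf 588) (.leaf 1759))))) (.node (.node (.node (.node (.leaf 52) (.leaf 742)) (.node (.leaf 924) (.leaf 1277))) (.node (.node (.leaf 572) (.leaf 1176)) (.node (.leaf 1248) (.leaf 1639)))) (.node (.node (.node (.leaf 366) (.leaf 1600)) (.node (.leaf 1069) (.leaf 1462))) (.node (.node (.leaf 760) (.leaf 1800)) (.node (.leaf 638) (.leaf 2041)))))) (.node (.node (.node (.node (.node (.leaf 83) (.leaf 718)) (.node (.leaf 898) (.leaf 1231))) (.node (.node (.leaf 184) (.leaf 938)) (.node (.leaf 823) (.leaf 1808)))) (.node (.node (.node (.leaf 312) (.leaf 812)) (.node (.leaf 430) (.leaf 1391))) (.node (.node (.leaf 440) (.leaf 1771)) (.node (.leaf 1151) (.leaf 1884))))) (.node (.node (.node (.node (.leaf 202) (.leaf 769)) (.node (.leaf 973) (.leaf 1805))) (.node (.node (.leaf 222) (.leaf 1727)) (.node (.leaf 563) (.leaf 1853)))) (.node (.node (.node (.leaf 418) (.leaf 890)) (.node (.leaf 472) (.leaf 1472))) (.node (.node (.leaf 805) (.leaf 1820)) (.node (.leaf 1016) (.leaf 2069))))))))) (.node (.node (.node (.node (.node (.node (.node (.node (.node (.leaf 4) (.leaf 2006)) (.leaf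 1353)) (.node (.leaf 744) (.leaf 1295))) (.node (.node (.leaf 435) (.leaf 1224)) (.node (.leaf 480) (.leaf 1967)))) (.node (.node (.node (.leaf 79) (.leaf 1349)) (.node (.leaf 394) (.leaf 1460))) (.node (.node (.leaf 635) (.leaf 1412)) (.node (.leaf 1267) (.leaf 1924))))) (.node (.node (.node (.node (.leaf 39) (.leaf 727)) (.node (.leaf 915) (.leaf 1857))) (.node (.node (.leaf 227) (.leaf 1489)) (.node (.leaf 825) (.leaf 1795)))) (.node (.node (.node (.leaf 116) (.leaf 830)) (.node (.leaf 438) (.leaf 1427))) (.node (.node (.leaf 393) (.leaf 1788)) (.node (.leaf 1192) (.leaf 1988)))))) (.node (.node (.node (.node (.node (.leaf 65) (.leaf 706)) (.node (.leaf 863) (.leaf 1196))) (.node (.node (.leaf 493) (.leaf 1316)) (.node (.leaf 1193) (.leaf 1644)))) (.node (.node (.node (.leaf 278) (.leaf 1189)) (.node (.leaf 414) (.leaf 1918))) (.node (.node (.leaf 657) (.leaf 1361)) (.node (.leaf 1327) (.leaf 2025))))) (.node (.node (.node (.node (.leaf 143) (.leaf 1517)) (.node (.leaf 371) (.leaf 1314))) (.node (.node (.leaf 209) (.leaf 982)) (.node (.leaf 895) (.leaf 1968)))) (.node (.node (.node (.leaf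 382) (.leaf 1271)) (.node (.leaf 457) (.leaf 1513))) (.node (.node (.leaf 287) (.leaf 1508)) (.node (.leaf 646) (.leaf 1982))))))) (.node (.node (.node (.node (.node (.node (.node (.leaf 38) (.leaf 2068)) (.leaf 1052)) (.node (.leaf 315) (.leaf 1167))) (.node (.node (.leaf 468) (.leaf 1650)) (.node (.leaf 1172) (.leaf 1945)))) (.node (.node (.node (.leaf 87) (.leaf 788)) (.node (.leaf 690) (.leaf 1332))) (.node (.node (.leaf 241) (.leaf 1041)) (.node (.leaf 1206) (.leaf 1940))))) (.node (.node (.node (.node (.leaf 57) (.leaf 1138)) (.node (.leaf 361) (.leaf 1286))) (.node (.node (.leaf 200) (.leaf 1364)) (.node (.leaf 969) (.leaf 1999)))) (.node (.node (.node (.leaf 360) (.leaf 846)) (.node (.leaf 1065) (.leaf 1751))) (.node (.node (.leaf 276) (.leaf 1093)) (.node (.leaf 1379) (.leaf 1878)))))) (.node (.node (.node (.node (.node (.leaf 88) (.leaf 1478)) (.node (.leaf 339) (.leaf 1634))) (.node (.node (.leaf 520) (.leaf 1684)) (.node (.leaf 513) (.leaf 1568)))) (.node (.node (.node (.leaf 106) (.leaf 1190)) (.node (.leaf 860) (.leaf 1716))) (.node (.node (.leaf 704) (.leaf 1668)) (.node (.leaf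 1317) (.leaf 1891))))) (.node (.node (.node (.node (.leaf 196) (.leaf 1534)) (.node (.leaf 971) (.leaf 1651))) (.node (.node (.leaf 615) (.leaf 1491)) (.node (.leaf 1265) (.leaf 1821)))) (.node (.node (.node (.leaf 144) (.leaf 1215)) (.node (.leaf 1127) (.leaf 1947))) (.node (.node (.leaf 500) (.leaf 1131)) (.node (.leaf 656) (.leaf 1961)))))))) (.node (.node (.node (.node (.node (.node (.node (.node (.leaf 21) (.leaf 2060)) (.leaf 1422)) (.node (.leaf 310) (.leaf 1505))) (.node (.node (.leaf 159) (.leaf 910)) (.node (.leaf 485) (.leaf 1973)))) (.node (.node (.node (.leaf 235) (.leaf 784)) (.node (.leaf 1005) (.leaf 1903))) (.node (.node (.leaf 647) (.leaf 1029)) (.node (.leaf 1290) (.leaf 1966))))) (.node (.node (.node (.node (.leaf 76) (.leaf 1001)) (.node (.leaf 920) (.leaf 1544))) (.node (.node (.leaf 332) (.leaf 1697)) (.node (.leaf 531) (.leaf 1631)))) (.node (.node (.node (.leaf 348) (.leaf 1558)) (.node (.leaf 443) (.leaf 1936))) (.node (.node (.leaf 272) (.leaf 1082)) (.node (.leaf 993) (.leaf 1863)))))) (.node (.node (.node (.node (.node (.leaf 25) (.leaf 1321)) (.node (.leaf 879)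 (.leaf 1306))) (.node (.node (.leaf 505) (.leaf 1675)) (.node (.leaf 1208) (.leaf 1719)))) (.node (.node (.node (.leaf 293) (.leaf 1572)) (.node (.leaf 698) (.leaf 1710))) (.node (.node (.leaf 424) (.leaf 1452)) (.node (.leaf 1339) (.leaf 1964))))) (.node (.node (.node (.node (.leaf 185) (.leaf 759)) (.node (.leaf 929) (.leaf 1828))) (.node (.node (.leaf 595) (.leaf 1388)) (.node (.leaf 555) (.leaf 1775)))) (.node (.node (.node (.leaf 141) (.leaf 878)) (.node (.leaf 658) (.leaf 1785))) (.node (.node (.leaf 294) (.leaf 1586)) (.node (.leaf 1403) (.leaf 1953))))))) (.node (.node (.node (.node (.node (.node (.node (.leaf 50) (.leaf 2076)) (.leaf 1044)) (.node (.leaf 320) (.leaf 1841))) (.node (.node (.leaf 167) (.leaf 1308)) (.node (.leaf 779) (.leaf 1528)))) (.node (.node (.node (.leaf 262) (.leaf 1261)) (.node (.leaf 1022) (.leaf 1344))) (.node (.node (.leaf 611) (.leaf 1436)) (.node (.leaf 600) (.leaf 1768))))) (.node (.node (.node (.node (.leaf 155) (.leaf 1446)) (.node (.leaf 367) (.leaf 1629))) (.node (.node (.leaf 204) (.leaf 974)) (.node (.leaf 692) (.leaf 1976)))) (.node (.node (.node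 (.leaf 374) (.leaf 1171)) (.node (.leaf 1099) (.leaf 1756))) (.node (.node (.leaf 765) (.leaf 1806)) (.node (.leaf 641) (.leaf 1894)))))) (.node (.node (.node (.node (.node (.leaf 105) (.leaf 1487)) (.node (.leaf 344) (.leaf 1582))) (.node (.node (.leaf 186) (.leaf 1340)) (.node (.leaf 519) (.leaf 1657)))) (.node (.node (.node (.leaf 110) (.leaf 923)) (.node (.leaf 494) (.leaf 1889))) (.node (.node (.leaf 720) (.leaf 1754)) (.node (.leaf 614) (.leaf 2016))))) (.node (.node (.node (.node (.leaf 73) (.leaf 770)) (.node (.leaf 981) (.leaf 1311))) (.node (.node (.leaf 627) (.leaf 1213)) (.node (.leaf 565) (.leaf 1914)))) (.node (.node (.node (.leaf 423) (.leaf 1627)) (.node (.leaf 739) (.leaf 1476))) (.node (.node (.leaf 302) (.leaf 1509)) (.node (.leaf 792) (.leaf 2044)))))))))) (.node (.node (.node (.node (.node (.node (.node (.node (.node (.node (.leaf 2) (.leaf 2073)) (.leaf 671)) (.node (.leaf 821) (.leaf 1145))) (.node (.node (.leaf 433) (.leaf 1223)) (.node (.leaf 1148) (.leaf 1483)))) (.node (.node (.node (.leaf 130) (.leaf 1546)) (.node (.leaf 731) (.leaf 1666))) (.node (.node (.leaf 231)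 (.leaf 1416)) (.node (.leaf 568) (.leaf 1827))))) (.node (.node (.node (.node (.leaf 47) (.leaf 998)) (.node (.leaf 911) (.leaf 1602))) (.node (.node (.leaf 543) (.leaf 947)) (.node (.leaf 1225) (.leaf 1659)))) (.node (.node (.node (.leaf 194) (.leaf 1122)) (.node (.leaf 1060) (.leaf 1856))) (.node (.node (.leaf 712) (.leaf 1073)) (.node (.leaf 904) (.leaf 1931)))))) (.node (.node (.node (.node (.node (.leaf 19) (.leaf 1058)) (.node (.leaf 327) (.leaf 1198))) (.node (.node (.leaf 171) (.leaf 1636)) (.node (.leaf 502) (.leaf 1818)))) (.node (.node (.node (.leaf 229) (.leaf 799)) (.node (.leaf 1031) (.leaf 1917))) (.node (.node (.leaf 248) (.leaf 1760)) (.node (.leaf 601) (.leaf 2029))))) (.node (.node (.node (.node (.leaf 166) (.leaf 1218)) (.node (.leaf 928) (.leaf 1588))) (.node (.node (.leaf 208) (.leaf 979)) (.node (.leaf 897) (.leaf 1648)))) (.node (.node (.node (.leaf 134) (.leaf 1591)) (.node (.leaf 1056) (.leaf 1792))) (.node (.node (.leaf 286) (.leaf 1106)) (.node (.leaf 645) (.leaf 1909))))))) (.node (.node (.node (.node (.node (.node (.node (.leaf 33) (.leaf 2048)) (.leaf 817)) (.node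 (.leaf 313) (.leaf 1166))) (.node (.node (.leaf 463) (.leaf 909)) (.node (.leaf 1170) (.leaf 1512)))) (.node (.node (.node (.leaf 146) (.leaf 786)) (.node (.leaf 748) (.leaf 1621))) (.node (.node (.leaf 250) (.leaf 1743)) (.node (.leaf 891) (.leaf 1742))))) (.node (.node (.node (.node (.leaf 139) (.leaf 1506)) (.node (.leaf 375) (.leaf 1615))) (.node (.node (.leaf 199) (.leaf 1703)) (.node (.leaf 537) (.leaf 1803)))) (.node (.node (.node (.leaf 125) (.leaf 843)) (.node (.leaf 722) (.leaf 1919))) (.node (.node (.leaf 275) (.leaf 1753)) (.node (.leaf 1376) (.leaf 2054)))))) (.node (.node (.node (.node (.node (.leaf 28) (.leaf 715)) (.node (.leaf 885) (.leaf 1516))) (.node (.node (.leaf 517) (.leaf 1683)) (.node (.leaf 848) (.leaf 1838)))) (.node (.node (.node (.leaf 303) (.leaf 1418)) (.node (.leaf 660) (.leaf 1815))) (.node (.node (.leaf 701) (.leaf 1066)) (.node (.leaf 606) (.leaf 1801))))) (.node (.node (.node (.node (.leaf 154) (.leaf 1108)) (.node (.leaf 429) (.leaf 1300))) (.node (.node (.leaf 218) (.leaf 1394)) (.node (.leaf 1263) (.leaf 1677)))) (.node (.node (.node (.leaf 407) (.leaf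 1619)) (.node (.leaf 1123) (.leaf 1935))) (.node (.node (.leaf 296) (.leaf 1817)) (.node (.leaf 1408) (.leaf 1958)))))))) (.node (.node (.node (.node (.node (.node (.node (.node (.leaf 10) (.leaf 2074)) (.leaf 677)) (.node (.leaf 829) (.leaf 1154))) (.node (.node (.leaf 439) (.leaf 908)) (.node (.leaf 1160) (.leaf 1498)))) (.node (.node (.node (.leaf 95) (.leaf 781)) (.node (.leaf 398) (.leaf 1595))) (.node (.node (.leaf 644) (.leaf 1202)) (.node (.leaf 1293) (.leaf 1921))))) (.node (.node (.node (.node (.leaf 74) (.leaf 1497)) (.node (.leaf 918) (.leaf 1552))) (.node (.node (.leaf 553) (.leaf 955)) (.node (.leaf 1233) (.leaf 1630)))) (.node (.node (.node (.leaf 120) (.leaf 838)) (.node (.leaf 714) (.leaf 1933))) (.node (.node (.leaf 743) (.leaf 1079)) (.node (.leaf 827) (.leaf 2047)))))) (.node (.node (.node (.node (.node (.leaf 59) (.leaf 1458)) (.node (.leaf 875) (.leaf 1504))) (.node (.node (.leaf 176) (.leaf 950)) (.node (.leaf 1205) (.leaf 1834)))) (.node (.node (.node (.leaf 99) (.leaf 1569)) (.node (.leaf 1017) (.leaf 1432))) (.node (.node (.leaf 663) (.leaf 1055)) (.node (.leaf 1336)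 (.leaf 2037))))) (.node (.node (.node (.node (.leaf 180) (.leaf 1523)) (.node (.leaf 582) (.leaf 1882))) (.node (.node (.leaf 597) (.leaf 1133)) (.node (.leaf 1255) (.leaf 1898)))) (.node (.node (.node (.leaf 267) (.leaf 1173)) (.node (.leaf 1115) (.leaf 1897))) (.node (.node (.leaf 789) (.leaf 1118)) (.node (.leaf 1398) (.leaf 2026))))))) (.node (.node (.node (.node (.node (.node (.node (.leaf 16) (.leaf 2058)) (.leaf 1443)) (.node (.leaf 854) (.leaf 1839))) (.node (.node (.leaf 168) (.leaf 1580)) (.node (.leaf 1179) (.leaf 1826)))) (.node (.node (.node (.leaf 114) (.leaf 1449)) (.node (.leaf 691) (.leaf 1581))) (.node (.node (.leaf 669) (.leaf 1429)) (.node (.leaf 1285) (.leaf 1946))))) (.node (.node (.node (.node (.leaf 153) (.leaf 1126)) (.node (.leaf 931) (.leaf 1296))) (.node (.node (.leaf 545) (.leaf 1713)) (.node (.leaf 541) (.leaf 1642)))) (.node (.node (.node (.leaf 370) (.leaf 1009)) (.node (.leaf 1096) (.leaf 1468))) (.node (.node (.leaf 763) (.leaf 1802)) (.node (.leaf 640) (.leaf 2053)))))) (.node (.node (.node (.node (.node (.leaf 41) (.leaf 1484)) (.node (.leaf 343) (.leaf 1230)))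 (.node (.node (.leaf 528) (.leaf 1689)) (.node (.leaf 518) (.leaf 1655)))) (.node (.node (.node (.leaf 316) (.leaf 814)) (.node (.leaf 684) (.leaf 1722))) (.node (.node (.leaf 264) (.leaf 1673)) (.node (.leaf 613) (.leaf 1978))))) (.node (.node (.node (.node (.leaf 205) (.leaf 1357)) (.node (.leaf 977) (.leaf 1658))) (.node (.node (.leaf 625) (.leaf 1560)) (.node (.leaf 1272) (.leaf 1916)))) (.node (.node (.node (.leaf 402) (.leaf 889)) (.node (.leaf 1136) (.leaf 1963))) (.node (.node (.leaf 809) (.leaf 1329)) (.node (.leaf 664) (.leaf 2042))))))))) (.node (.node (.node (.node (.node (.node (.node (.node (.node (.leaf 6) (.leaf 2002)) (.leaf 1355)) (.node (.leaf 826) (.leaf 1147))) (.node (.node (.leaf 156) (.leaf 1620)) (.node (.leaf 481) (.leaf 1851)))) (.node (.node (.node (.leaf 226) (.leaf 1419)) (.node (.leaf 996) (.leaf 1463))) (.node (.node (.leaf 385) (.leaf 1605)) (.node (.leaf 571) (.leaf 2021))))) (.node (.node (.node (.node (.leaf 118) (.leaf 1494)) (.node (.leaf 618) (.leaf 1249))) (.node (.node (.leaf 549) (.leaf 1545)) (.node (.leaf 1226) (.leaf 1831)))) (.node (.node (.node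 (.leaf 119) (.leaf 832)) (.node (.leaf 1063) (.leaf 1707))) (.node (.node (.leaf 271) (.leaf 1076)) (.node (.leaf 621) (.leaf 1987)))))) (.node (.node (.node (.node (.node (.leaf 20) (.leaf 1315)) (.node (.leaf 869) (.leaf 1576))) (.node (.node (.leaf 492) (.leaf 963)) (.node (.leaf 1197) (.leaf 1712)))) (.node (.node (.node (.leaf 98) (.leaf 1204)) (.node (.leaf 415) (.leaf 1359))) (.node (.node (.leaf 405) (.leaf 1116)) (.node (.leaf 1331) (.leaf 2034))))) (.node (.node (.node (.node (.leaf 175) (.leaf 1114)) (.node (.leaf 956) (.leaf 1288))) (.node (.node (.leaf 217) (.leaf 1125)) (.node (.leaf 551) (.leaf 2012)))) (.node (.node (.node (.leaf 137) (.leaf 1486)) (.node (.leaf 1112) (.leaf 1766))) (.node (.node (.leaf 289) (.leaf 1113)) (.node (.leaf 1090) (.leaf 2038))))))) (.node (.node (.node (.node (.node (.node (.node (.leaf 32) (.leaf 2070)) (.leaf 686)) (.node (.leaf 511) (.leaf 1228))) (.node (.node (.leaf 164) (.leaf 912)) (.node (.leaf 1175) (.leaf 1537)))) (.node (.node (.node (.leaf 254) (.leaf 881)) (.node (.leaf 406) (.leaf 1686))) (.node (.node (.leaf 662) (.leaf 1043)) (.node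 (.leaf 586) (.leaf 1846))))) (.node (.node (.node (.node (.leaf 86) (.leaf 1110)) (.node (.leaf 933) (.leaf 1275))) (.node (.node (.leaf 201) (.leaf 965)) (.node (.leaf 538) (.leaf 2004)))) (.node (.node (.node (.leaf 127) (.leaf 845)) (.node (.leaf 726) (.leaf 1571))) (.node (.node (.leaf 279) (.leaf 1094)) (.node (.leaf 1380) (.leaf 2052)))))) (.node (.node (.node (.node (.node (.leaf 81) (.leaf 717)) (.node (.leaf 894) (.leaf 1590))) (.node (.node (.leaf 524) (.leaf 936)) (.node (.leaf 1137) (.leaf 1942)))) (.node (.node (.node (.leaf 309) (.leaf 916)) (.node (.leaf 1048) (.leaf 1718))) (.node (.node (.leaf 708) (.leaf 1752)) (.node (.leaf 1322) (.leaf 1974))))) (.node (.node (.node (.node (.leaf 70) (.leaf 1518)) (.node (.leaf 383) (.leaf 1849))) (.node (.node (.leaf 220) (.leaf 1002)) (.node (.leaf 1269) (.leaf 1910)))) (.node (.node (.node (.leaf 413) (.leaf 887)) (.node (.leaf 473) (.leaf 1959))) (.node (.node (.leaf 802) (.leaf 1536)) (.node (.leaf 680) (.leaf 2022)))))))) (.node (.node (.node (.node (.node (.node (.node (.node (.leaf 8) (.leaf 2062)) (.leaf 1407)) (.node (.leaf 311)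 (.leaf 1721))) (.node (.node (.leaf 456) (.leaf 1521)) (.node (.leaf 487) (.leaf 1500)))) (.node (.node (.node (.leaf 240) (.leaf 1554)) (.node (.leaf 1008) (.leaf 1672))) (.node (.node (.leaf 650) (.leaf 1036)) (.node (.leaf 1292) (.leaf 1791))))) (.node (.node (.node (.node (.leaf 46) (.leaf 1502)) (.node (.leaf 369) (.leaf 1547))) (.node (.node (.leaf 558) (.leaf 957)) (.node (.leaf 1236) (.leaf 1865)))) (.node (.node (.node (.leaf 351) (.leaf 1594)) (.node (.leaf 1080) (.leaf 1938))) (.node (.node (.leaf 403) (.leaf 1254)) (.node (.leaf 1372) (.leaf 2049)))))) (.node (.node (.node (.node (.node (.leaf 78) (.leaf 1469)) (.node (.leaf 334) (.leaf 1596))) (.node (.node (.leaf 508) (.leaf 1679)) (.node (.leaf 1210) (.leaf 1842)))) (.node (.node (.node (.leaf 101) (.leaf 1570)) (.node (.leaf 1046) (.leaf 1708))) (.node (.node (.leaf 696) (.leaf 1454)) (.node (.leaf 1341) (.leaf 1932))))) (.node (.node (.node (.node (.leaf 188) (.leaf 761)) (.node (.leaf 968) (.leaf 1297))) (.node (.node (.leaf 216) (.leaf 1555)) (.node (.leaf 1260) (.leaf 1902)))) (.node (.node (.node (.leaf 395) (.leaf 877))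 (.node (.leaf 750) (.leaf 1943))) (.node (.node (.leaf 700) (.leaf 1142)) (.node (.leaf 679) (.leaf 2064))))))) (.node (.node (.node (.node (.node (.node (.node (.leaf 37) (.leaf 2078)) (.leaf 791)) (.node (.leaf 835) (.leaf 1323))) (.node (.node (.leaf 482) (.leaf 919)) (.node (.leaf 1185) (.leaf 1822)))) (.node (.node (.node (.leaf 93) (.leaf 1155)) (.node (.leaf 1025) (.leaf 1694))) (.node (.node (.leaf 676) (.leaf 1438)) (.node (.leaf 619) (.leaf 2013))))) (.node (.node (.node (.node (.leaf 136) (.leaf 1514)) (.node (.leaf 946) (.leaf 1866))) (.node (.node (.leaf 581) (.leaf 985)) (.node (.leaf 573) (.leaf 1983)))) (.node (.node (.node (.leaf 376) (.leaf 857)) (.node (.leaf 1101) (.leaf 1440))) (.node (.node (.leaf 767) (.leaf 1102)) (.node (.leaf 1389) (.leaf 2014)))))) (.node (.node (.node (.node (.node (.leaf 109) (.leaf 1086)) (.node (.leaf 903) (.leaf 1239))) (.node (.node (.leaf 187) (.leaf 1342)) (.node (.leaf 1220) (.leaf 1854)))) (.node (.node (.node (.leaf 112) (.leaf 1161)) (.node (.leaf 461) (.leaf 1928))) (.node (.node (.leaf 265) (.leaf 1071)) (.node (.leaf 687) (.leaf 2020)))))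 (.node (.node (.node (.node (.leaf 126) (.leaf 771)) (.node (.leaf 984) (.leaf 1896))) (.node (.node (.leaf 228) (.leaf 1037)) (.node (.leaf 566) (.leaf 1700)))) (.node (.node (.node (.leaf 150) (.leaf 1307)) (.node (.leaf 1141) (.leaf 1477))) (.node (.node (.leaf 813) (.leaf 1140)) (.node (.leaf 668) (.leaf 2046)))))))))))

/-- Part of a table. -/
noncomputable def fixOrbNext2R : BTree := (.node (.node (.node (.node (.node (.node (.node (.node (.node (.node (.node (.leaf 0) (.leaf 1998)) (.leaf 670)) (.node (.leaf 820) (.leaf 1814))) (.node (.node (.leaf 431) (.leaf 899)) (.node (.leaf 1144) (.leaf 1811)))) (.node (.node (.node (.leaf 129) (.leaf 773)) (.node (.leaf 988) (.leaf 1457))) (.node (.node (.leaf 390) (.leaf 1597)) (.node (.leaf 866) (.leaf 1930))))) (.node (.node (.node (.node (.leaf 36) (.leaf 1433)) (.node (.leaf 905) (.leaf 1241))) (.node (.node (.leaf 189) (.leaf 1693)) (.node (.leaf 523) (.leaf 1604)))) (.node (.node (.node (.leaf 259) (.leaf 1525)) (.node (.leaf 437) (.leaf 1405))) (.node (.node (.leaf 711) (.leaf 1465)) (.node (.leaf 1360) (.leaf 1985)))))) (.node (.node (.node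 (.node (.node (.leaf 18) (.leaf 1057)) (.node (.leaf 346) (.leaf 1194))) (.node (.node (.leaf 486) (.leaf 1635)) (.node (.leaf 1111) (.leaf 1825)))) (.node (.node (.node (.leaf 273) (.leaf 798)) (.node (.leaf 951) (.leaf 1356))) (.node (.node (.leaf 681) (.leaf 1047)) (.node (.leaf 620) (.leaf 2028))))) (.node (.node (.node (.node (.leaf 165) (.leaf 1515)) (.node (.leaf 445) (.leaf 1633))) (.node (.node (.leaf 583) (.leaf 1273)) (.node (.leaf 1251) (.leaf 1724)))) (.node (.node (.node (.leaf 133) (.leaf 1606)) (.node (.leaf 455) (.leaf 1511))) (.node (.node (.leaf 774) (.leaf 1548)) (.node (.leaf 972) (.leaf 2051))))))) (.node (.node (.node (.node (.node (.node (.node (.leaf 9) (.leaf 2031)) (.leaf 1428)) (.node (.leaf 841) (.leaf 1625))) (.node (.node (.leaf 161) (.leaf 1646)) (.node (.leaf 1168) (.leaf 1704)))) (.node (.node (.node (.leaf 245) (.leaf 997)) (.node (.leaf 420) (.leaf 1871))) (.node (.node (.leaf 239) (.leaf 1749)) (.node (.leaf 1203) (.leaf 1847))))) (.node (.node (.node (.node (.leaf 54) (.leaf 736)) (.node (.leaf 363) (.leaf 1279))) (.node (.node (.leaf 283) (.leaf 1444))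 (.node (.leaf 967) (.leaf 1643)))) (.node (.node (.node (.leaf 356) (.leaf 842)) (.node (.leaf 1083) (.leaf 1939))) (.node (.node (.leaf 751) (.leaf 1348)) (.node (.leaf 634) (.leaf 1867)))))) (.node (.node (.node (.node (.node (.leaf 49) (.leaf 1474)) (.node (.leaf 336) (.leaf 1728))) (.node (.node (.leaf 515) (.leaf 1530)) (.node (.leaf 1042) (.leaf 1564)))) (.node (.node (.node (.leaf 301) (.leaf 808)) (.node (.leaf 421) (.leaf 1370))) (.node (.node (.leaf 258) (.leaf 1665)) (.node (.leaf 921) (.leaf 1799))))) (.node (.node (.node (.node (.leaf 64) (.leaf 822)) (.node (.leaf 378) (.leaf 1299))) (.node (.node (.leaf 590) (.leaf 1369)) (.node (.leaf 1174) (.leaf 1901)))) (.node (.node (.node (.leaf 404) (.leaf 884)) (.node (.leaf 467) (.leaf 1955))) (.node (.node (.leaf 793) (.leaf 1294)) (.node (.leaf 1242) (.leaf 2033)))))))) (.node (.node (.node (.node (.node (.node (.node (.node (.leaf 17) (.leaf 2063)) (.leaf 1397)) (.node (.leaf 831) (.leaf 1350))) (.node (.node (.leaf 446) (.leaf 1289)) (.node (.leaf 483) (.leaf 1970)))) (.node (.node (.node (.leaf 230) (.leaf 1214)) (.node (.leaf 1000)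 (.leaf 1466))) (.node (.node (.leaf 452) (.leaf 1027)) (.node (.leaf 577) (.leaf 1845))))) (.node (.node (.node (.node (.leaf 124) (.leaf 1495)) (.node (.leaf 352) (.leaf 1257))) (.node (.node (.leaf 329) (.leaf 1028)) (.node (.leaf 529) (.leaf 1870)))) (.node (.node (.node (.leaf 342) (.leaf 834)) (.node (.leaf 713) (.leaf 1837))) (.node (.node (.leaf 740) (.leaf 1603)) (.node (.leaf 852) (.leaf 2045)))))) (.node (.node (.node (.node (.node (.leaf 58) (.leaf 724)) (.node (.leaf 330) (.leaf 1303))) (.node (.node (.leaf 297) (.leaf 1068)) (.node (.leaf 506) (.leaf 1807)))) (.node (.node (.node (.leaf 288) (.leaf 804)) (.node (.leaf 417) (.leaf 1363))) (.node (.node (.leaf 253) (.leaf 1178)) (.node (.leaf 599) (.leaf 2036))))) (.node (.node (.node (.node (.leaf 60) (.leaf 1520)) (.node (.leaf 373) (.leaf 1816))) (.node (.node (.leaf 596) (.leaf 1385)) (.node (.leaf 1256) (.leaf 1770)))) (.node (.node (.node (.leaf 391) (.leaf 1609)) (.node (.leaf 459) (.leaf 1456))) (.node (.node (.leaf 787) (.leaf 1764)) (.node (.leaf 1100) (.leaf 1956))))))) (.node (.node (.node (.node (.node (.node (.node (.leaf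 44) (.leaf 2050)) (.leaf 1445)) (.node (.leaf 850) (.leaf 1184))) (.node (.node (.leaf 475) (.leaf 1579)) (.node (.leaf 497) (.leaf 1522)))) (.node (.node (.node (.leaf 90) (.leaf 1415)) (.node (.leaf 408) (.leaf 1338))) (.node (.node (.leaf 243) (.leaf 1089)) (.node (.leaf 945) (.leaf 1812))))) (.node (.node (.node (.node (.leaf 152) (.leaf 1510)) (.node (.leaf 930) (.leaf 1553))) (.node (.node (.leaf 203) (.leaf 1393)) (.node (.leaf 1246) (.leaf 1977)))) (.node (.node (.node (.leaf 358) (.leaf 1601)) (.node (.leaf 1095) (.leaf 1490))) (.node (.node (.leaf 758) (.leaf 1098)) (.node (.leaf 1374) (.leaf 2009)))))) (.node (.node (.node (.node (.node (.leaf 84) (.leaf 719)) (.node (.leaf 896) (.leaf 1593))) (.node (.node (.leaf 530) (.leaf 1687)) (.node (.leaf 836) (.leaf 1654)))) (.node (.node (.node (.leaf 108) (.leaf 816)) (.node (.leaf 1051) (.leaf 1550))) (.node (.node (.leaf 263) (.leaf 1473)) (.node (.leaf 1352) (.leaf 1881))))) (.node (.node (.node (.node (.leaf 121) (.leaf 1538)) (.node (.leaf 976) (.leaf 1852))) (.node (.node (.leaf 623) (.leaf 1035)) (.node (.leaf 1274) (.leaf 1913))))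 (.node (.node (.node (.leaf 147) (.leaf 1377)) (.node (.leaf 1134) (.leaf 1772))) (.node (.node (.leaf 300) (.leaf 1135)) (.node (.leaf 682) (.leaf 2008))))))))) (.node (.node (.node (.node (.node (.node (.node (.node (.node (.leaf 11) (.leaf 2010)) (.leaf 1420)) (.node (.leaf 306) (.leaf 1395))) (.node (.node (.leaf 157) (.leaf 922)) (.node (.leaf 1153) (.leaf 1493)))) (.node (.node (.node (.leaf 225) (.leaf 775)) (.node (.leaf 994) (.leaf 1347))) (.node (.node (.leaf 639) (.leaf 1413)) (.node (.leaf 1283) (.leaf 1925))))) (.node (.node (.node (.node (.leaf 117) (.leaf 1492)) (.node (.leaf 350) (.leaf 1414))) (.node (.node (.leaf 544) (.leaf 1156)) (.node (.leaf 525) (.leaf 1835)))) (.node (.node (.node (.leaf 197) (.leaf 1589)) (.node (.leaf 447) (.leaf 1733))) (.node (.node (.leaf 733) (.leaf 1790)) (.node (.leaf 1366) (.leaf 1840)))))) (.node (.node (.node (.node (.node (.leaf 30) (.leaf 1061)) (.node (.leaf 326) (.leaf 1731))) (.node (.node (.leaf 172) (.leaf 948)) (.node (.leaf 504) (.leaf 1920)))) (.node (.node (.node (.leaf 97) (.leaf 1188)) (.node (.leaf 1034) (.leaf 1701))) (.node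 (.node (.leaf 689) (.leaf 1049)) (.node (.leaf 598) (.leaf 2032))))) (.node (.node (.node (.node (.leaf 174) (.leaf 1382)) (.node (.leaf 954) (.leaf 1637))) (.node (.node (.leaf 591) (.leaf 1152)) (.node (.leaf 550) (.leaf 1992)))) (.node (.node (.node (.leaf 162) (.leaf 871)) (.node (.leaf 741) (.leaf 1451))) (.node (.node (.leaf 780) (.leaf 1532)) (.node (.leaf 1169) (.leaf 1926))))))) (.node (.node (.node (.node (.node (.node (.node (.leaf 12) (.leaf 2040)) (.leaf 1045)) (.node (.leaf 847) (.leaf 1235))) (.node (.node (.leaf 163) (.leaf 1647)) (.node (.leaf 490) (.leaf 1813)))) (.node (.node (.node (.leaf 251) (.leaf 1258)) (.node (.leaf 695) (.leaf 1685))) (.node (.node (.leaf 422) (.leaf 1434)) (.node (.leaf 917) (.leaf 1747))))) (.node (.node (.node (.node (.leaf 85) (.leaf 1139)) (.node (.leaf 362) (.leaf 1682))) (.node (.node (.leaf 567) (.leaf 1709)) (.node (.leaf 629) (.leaf 2000)))) (.node (.node (.node (.leaf 213) (.leaf 1237)) (.node (.leaf 725) (.leaf 1425))) (.node (.node (.leaf 755) (.leaf 1797)) (.node (.leaf 636) (.leaf 1904)))))) (.node (.node (.node (.node (.node (.leaf 91)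 (.leaf 1480)) (.node (.leaf 892) (.leaf 1221))) (.node (.node (.leaf 182) (.leaf 935)) (.node (.leaf 514) (.leaf 1929)))) (.node (.node (.node (.leaf 307) (.leaf 810)) (.node (.leaf 859) (.leaf 1527))) (.node (.node (.leaf 705) (.leaf 1088)) (.node (.leaf 1087) (.leaf 1804))))) (.node (.node (.node (.node (.leaf 69) (.leaf 766)) (.node (.leaf 853) (.leaf 1653))) (.node (.node (.leaf 617) (.leaf 1033)) (.node (.leaf 562) (.leaf 2018)))) (.node (.node (.node (.leaf 145) (.leaf 886)) (.node (.leaf 1128) (.leaf 1471))) (.node (.node (.leaf 800) (.leaf 1217)) (.node (.leaf 1411) (.leaf 1962)))))))) (.node (.node (.node (.node (.node (.node (.node (.node (.leaf 23) (.leaf 2077)) (.leaf 1406)) (.node (.leaf 837) (.leaf 1563))) (.node (.node (.leaf 160) (.leaf 906)) (.node (.leaf 1162) (.leaf 1656)))) (.node (.node (.node (.leaf 236) (.leaf 1259)) (.node (.leaf 399) (.leaf 1906))) (.node (.node (.leaf 237) (.leaf 1739)) (.node (.leaf 1298) (.leaf 1738))))) (.node (.node (.node (.node (.leaf 45) (.leaf 734)) (.node (.leaf 355) (.leaf 1371))) (.node (.node (.leaf 328) (.leaf 1146)) (.node (.leaf 1238)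 (.leaf 1632)))) (.node (.node (.node (.leaf 122) (.leaf 840)) (.node (.leaf 1078) (.leaf 1424))) (.node (.node (.leaf 702) (.leaf 1763)) (.node (.leaf 632) (.leaf 2035)))))) (.node (.node (.node (.node (.node (.leaf 77) (.leaf 728)) (.node (.leaf 880) (.leaf 1690))) (.node (.node (.leaf 177) (.leaf 939)) (.node (.leaf 510) (.leaf 1737)))) (.node (.node (.node (.leaf 295) (.leaf 806)) (.node (.leaf 419) (.leaf 1365))) (.node (.node (.leaf 626) (.leaf 1767)) (.node (.leaf 603) (.leaf 1787))))) (.node (.node (.node (.node (.leaf 62) (.leaf 1386)) (.node (.leaf 966) (.leaf 1875))) (.node (.node (.leaf 215) (.leaf 990)) (.node (.leaf 1262) (.leaf 1905)))) (.node (.node (.node (.leaf 397) (.leaf 1180)) (.node (.leaf 659) (.leaf 1899))) (.node (.node (.leaf 292) (.leaf 1124)) (.node (.leaf 652) (.leaf 1954))))))) (.node (.node (.node (.node (.node (.node (.node (.leaf 51) (.leaf 2061)) (.leaf 1367)) (.node (.leaf 858) (.leaf 1187))) (.node (.node (.leaf 479) (.leaf 1599)) (.node (.leaf 499) (.leaf 1908)))) (.node (.node (.node (.leaf 261) (.leaf 1383)) (.node (.leaf 410) (.leaf 1345))) (.node (.node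 (.leaf 246) (.leaf 1437)) (.node (.leaf 592) (.leaf 1949))))) (.node (.node (.node (.node (.leaf 158) (.leaf 747)) (.node (.leaf 944) (.leaf 1628))) (.node (.node (.leaf 579) (.leaf 975)) (.node (.leaf 1021) (.leaf 1895)))) (.node (.node (.node (.leaf 131) (.leaf 1335)) (.node (.leaf 453) (.leaf 1757))) (.node (.node (.leaf 560) (.leaf 1304)) (.node (.leaf 1387) (.leaf 1950)))))) (.node (.node (.node (.node (.node (.leaf 35) (.leaf 1085)) (.node (.leaf 862) (.leaf 1409))) (.node (.node (.leaf 535) (.leaf 942)) (.node (.leaf 522) (.leaf 1912)))) (.node (.node (.node (.leaf 321) (.leaf 1404)) (.node (.leaf 434) (.leaf 1927))) (.node (.node (.leaf 609) (.leaf 1070)) (.node (.leaf 1358) (.leaf 1981))))) (.node (.node (.node (.node (.leaf 210) (.leaf 1543)) (.node (.leaf 983) (.leaf 1312))) (.node (.node (.leaf 224) (.leaf 1729)) (.node (.leaf 1280) (.leaf 1698)))) (.node (.node (.node (.leaf 425) (.leaf 1624)) (.node (.leaf 476) (.leaf 1887))) (.node (.node (.leaf 815) (.leaf 1533)) (.node (.leaf 861) (.leaf 1993)))))))))) (.node (.node (.node (.node (.node (.node (.node (.node (.node (.node (.leaf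 7) (.leaf 2017)) (.leaf 1417)) (.node (.leaf 305) (.leaf 1699))) (.node (.node (.leaf 193) (.leaf 901)) (.node (.leaf 1150) (.leaf 1860)))) (.node (.node (.node (.leaf 221) (.leaf 1182)) (.node (.leaf 991) (.leaf 1667))) (.node (.node (.leaf 232) (.leaf 1013)) (.node (.leaf 1281) (.leaf 1923))))) (.node (.node (.node (.node (.leaf 115) (.leaf 1091)) (.node (.leaf 349) (.leaf 1481))) (.node (.node (.leaf 191) (.leaf 1669)) (.node (.leaf 542) (.leaf 1735)))) (.node (.node (.node (.leaf 192) (.leaf 1587)) (.node (.leaf 707) (.leaf 1573))) (.node (.node (.leaf 392) (.leaf 1075)) (.node (.leaf 1318) (.leaf 1990)))))) (.node (.node (.node (.node (.node (.leaf 61) (.leaf 1455)) (.node (.leaf 864) (.leaf 1750))) (.node (.node (.leaf 491) (.leaf 1062)) (.node (.leaf 1191) (.leaf 1922)))) (.node (.node (.node (.leaf 277) (.leaf 1565)) (.node (.leaf 651) (.leaf 1539))) (.node (.node (.leaf 685) (.leaf 1050)) (.node (.leaf 602) (.leaf 1777))))) (.node (.node (.node (.node (.leaf 170) (.leaf 754)) (.node (.leaf 412) (.leaf 1313))) (.node (.node (.leaf 589) (.leaf 980)) (.node (.leaf 624) (.leaf 1972))))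 (.node (.node (.node (.leaf 324) (.leaf 865)) (.node (.leaf 764) (.leaf 1485))) (.node (.node (.leaf 777) (.leaf 1607)) (.node (.leaf 995) (.leaf 2019))))))) (.node (.node (.node (.node (.node (.node (.node (.leaf 34) (.leaf 2067)) (.leaf 1430)) (.node (.leaf 844) (.leaf 1390))) (.node (.node (.leaf 466) (.leaf 1649)) (.node (.leaf 489) (.leaf 1793)))) (.node (.node (.node (.leaf 249) (.leaf 1244)) (.node (.leaf 749) (.leaf 1330))) (.node (.node (.leaf 462) (.leaf 1732)) (.node (.leaf 580) (.leaf 1745))))) (.node (.node (.node (.node (.leaf 56) (.leaf 1107)) (.node (.leaf 364) (.leaf 1266))) (.node (.node (.leaf 564) (.leaf 1705)) (.node (.leaf 539) (.leaf 1645)))) (.node (.node (.node (.leaf 359) (.leaf 1557)) (.node (.leaf 1064) (.leaf 1941))) (.node (.node (.leaf 753) (.leaf 1396)) (.node (.leaf 1378) (.leaf 1907)))))) (.node (.node (.node (.node (.node (.leaf 29) (.leaf 1475)) (.node (.leaf 888) (.leaf 1219))) (.node (.node (.leaf 181) (.leaf 934)) (.node (.leaf 587) (.leaf 1843)))) (.node (.node (.node (.leaf 104) (.leaf 913)) (.node (.leaf 666) (.leaf 1439))) (.node (.node (.leaf 260)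 (.leaf 1067)) (.node (.leaf 1346) (.leaf 2039))))) (.node (.node (.node (.node (.leaf 67) (.leaf 1109)) (.node (.leaf 380) (.leaf 1652))) (.node (.node (.leaf 612) (.leaf 1541)) (.node (.leaf 559) (.leaf 2003)))) (.node (.node (.node (.leaf 409) (.leaf 900)) (.node (.leaf 469) (.leaf 1467))) (.node (.node (.leaf 797) (.leaf 1130)) (.node (.leaf 1024) (.leaf 1997)))))))) (.node (.node (.node (.node (.node (.node (.node (.node (.leaf 5) (.leaf 2059)) (.leaf 1401)) (.node (.leaf 833) (.leaf 1614))) (.node (.node (.leaf 234) (.leaf 1640)) (.node (.leaf 796) (.leaf 1874)))) (.node (.node (.node (.leaf 82) (.leaf 1392)) (.node (.leaf 675) (.leaf 1324))) (.node (.node (.leaf 238) (.leaf 1158)) (.node (.leaf 576) (.leaf 1986))))) (.node (.node (.node (.node (.leaf 75) (.leaf 732)) (.node (.leaf 819) (.leaf 1551))) (.node (.node (.leaf 331) (.leaf 1030)) (.node (.leaf 1234) (.leaf 2001)))) (.node (.node (.node (.leaf 345) (.leaf 1559)) (.node (.leaf 1074) (.leaf 1421))) (.node (.node (.leaf 745) (.leaf 1794)) (.node (.leaf 628) (.leaf 1984)))))) (.node (.node (.node (.node (.node (.leaf 43) (.leaf 1459))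 (.node (.leaf 876) (.leaf 1305))) (.node (.node (.leaf 503) (.leaf 1566)) (.node (.leaf 507) (.leaf 1861)))) (.node (.node (.node (.leaf 290) (.leaf 807)) (.node (.leaf 1039) (.leaf 1734))) (.node (.node (.leaf 255) (.leaf 1765)) (.node (.leaf 1325) (.leaf 1786))))) (.node (.node (.node (.node (.leaf 183) (.leaf 1524)) (.node (.leaf 926) (.leaf 1873))) (.node (.node (.leaf 593) (.leaf 989)) (.node (.leaf 554) (.leaf 1773)))) (.node (.node (.node (.leaf 140) (.leaf 1165)) (.node (.leaf 1117) (.leaf 1464))) (.node (.node (.leaf 291) (.leaf 1121)) (.node (.leaf 1032) (.leaf 2027))))))) (.node (.node (.node (.node (.node (.node (.node (.leaf 15) (.leaf 2075)) (.leaf 697)) (.node (.leaf 851) (.leaf 1549))) (.node (.node (.leaf 337) (.leaf 1278)) (.node (.leaf 1023) (.leaf 1819)))) (.node (.node (.node (.leaf 92) (.leaf 794)) (.node (.leaf 1019) (.leaf 1691))) (.node (.node (.leaf 648) (.leaf 1200)) (.node (.leaf 1212) (.leaf 1780))))) (.node (.node (.node (.node (.leaf 53) (.leaf 746)) (.node (.leaf 941) (.leaf 1276))) (.node (.node (.leaf 575) (.leaf 1613)) (.node (.leaf 693) (.leaf 1975)))) (.node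 (.node (.node (.leaf 219) (.leaf 1351)) (.node (.leaf 642) (.leaf 1755))) (.node (.node (.leaf 281) (.leaf 1399)) (.node (.leaf 1384) (.leaf 2056)))))) (.node (.node (.node (.node (.node (.leaf 42) (.leaf 721)) (.node (.leaf 902) (.leaf 1674))) (.node (.node (.leaf 532) (.leaf 940)) (.node (.leaf 970) (.leaf 1798)))) (.node (.node (.node (.leaf 318) (.leaf 1584)) (.node (.leaf 432) (.leaf 1888))) (.node (.node (.leaf 716) (.leaf 1779)) (.node (.leaf 1354) (.leaf 1979))))) (.node (.node (.node (.node (.leaf 207) (.leaf 1542)) (.node (.leaf 388) (.leaf 1858))) (.node (.node (.leaf 223) (.leaf 1004)) (.node (.leaf 914) (.leaf 1695)))) (.node (.node (.node (.leaf 149) (.leaf 1622)) (.node (.leaf 474) (.leaf 1965))) (.node (.node (.leaf 811) (.leaf 1216)) (.node (.leaf 667) (.leaf 2043))))))))) (.node (.node (.node (.node (.node (.node (.node (.node (.node (.leaf 3) (.leaf 2015)) (.leaf 674)) (.node (.leaf 828) (.leaf 1149))) (.node (.node (.leaf 441) (.leaf 1567)) (.node (.leaf 1157) (.leaf 1969)))) (.node (.node (.node (.leaf 80) (.leaf 776)) (.node (.leaf 396) (.leaf 1671))) (.node (.node (.leaf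 233) (.leaf 1177)) (.node (.leaf 574) (.leaf 1725))))) (.node (.node (.node (.node (.leaf 71) (.leaf 729)) (.node (.leaf 353) (.leaf 1507))) (.node (.node (.leaf 546) (.leaf 1243)) (.node (.leaf 527) (.leaf 1996)))) (.node (.node (.node (.leaf 338) (.leaf 1282)) (.node (.leaf 449) (.leaf 1859))) (.node (.node (.leaf 737) (.leaf 1664)) (.node (.leaf 849) (.leaf 1991)))))) (.node (.node (.node (.node (.node (.leaf 68) (.leaf 710)) (.node (.leaf 870) (.leaf 1199))) (.node (.node (.leaf 173) (.leaf 1319)) (.node (.leaf 1195) (.leaf 1862)))) (.node (.node (.node (.leaf 284) (.leaf 803)) (.node (.leaf 1006) (.leaf 1362))) (.node (.node (.leaf 252) (.leaf 1608)) (.node (.leaf 1333) (.leaf 1782))))) (.node (.node (.node (.node (.leaf 72) (.leaf 756)) (.node (.leaf 372) (.leaf 1880))) (.node (.node (.leaf 211) (.leaf 1181)) (.node (.leaf 1253) (.leaf 1885)))) (.node (.node (.node (.leaf 386) (.leaf 874)) (.node (.leaf 458) (.leaf 1453))) (.node (.node (.leaf 782) (.leaf 1761)) (.node (.leaf 672) (.leaf 2023))))))) (.node (.node (.node (.node (.node (.node (.node (.leaf 13) (.leaf 2071)) (.leaf 1441))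 (.node (.leaf 317) (.leaf 1227))) (.node (.node (.leaf 470) (.leaf 1577)) (.node (.leaf 1054) (.leaf 1714)))) (.node (.node (.node (.leaf 256) (.leaf 790)) (.node (.leaf 426) (.leaf 1337))) (.node (.node (.leaf 242) (.leaf 1431)) (.node (.leaf 1310) (.leaf 1774))))) (.node (.node (.node (.node (.leaf 148) (.leaf 801)) (.node (.leaf 937) (.leaf 1623))) (.node (.node (.leaf 570) (.leaf 1053)) (.node (.leaf 1247) (.leaf 1663)))) (.node (.node (.node (.leaf 365) (.leaf 1598)) (.node (.leaf 1092) (.leaf 1748))) (.node (.node (.leaf 280) (.leaf 1097)) (.node (.leaf 637) (.leaf 2007)))))) (.node (.node (.node (.node (.node (.leaf 96) (.leaf 1482)) (.node (.leaf 341) (.leaf 1250))) (.node (.node (.leaf 526) (.leaf 1245)) (.node (.leaf 824) (.leaf 1937)))) (.node (.node (.node (.leaf 107) (.leaf 1232)) (.node (.leaf 661) (.leaf 1836))) (.node (.node (.leaf 266) (.leaf 1670)) (.node (.leaf 673) (.leaf 1883))))) (.node (.node (.node (.node (.leaf 198) (.leaf 768)) (.node (.leaf 384) (.leaf 1850))) (.node (.node (.leaf 594) (.leaf 1499)) (.node (.leaf 1270) (.leaf 1911)))) (.node (.node (.node (.leaf 416)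 (.leaf 1252)) (.node (.leaf 1132) (.leaf 1776))) (.node (.node (.leaf 299) (.leaf 1717)) (.node (.leaf 1119) (.leaf 1971)))))))) (.node (.node (.node (.node (.node (.node (.node (.node (.leaf 27) (.leaf 2057)) (.leaf 683)) (.node (.leaf 839) (.leaf 1611))) (.node (.node (.leaf 454) (.leaf 1540)) (.node (.leaf 488) (.leaf 1833)))) (.node (.node (.node (.leaf 100) (.leaf 1556)) (.node (.leaf 400) (.leaf 1326))) (.node (.node (.leaf 653) (.leaf 1744)) (.node (.leaf 578) (.leaf 1778))))) (.node (.node (.node (.node (.leaf 132) (.leaf 1503)) (.node (.leaf 357) (.leaf 1618))) (.node (.node (.leaf 335) (.leaf 1702)) (.node (.leaf 533) (.leaf 1681)))) (.node (.node (.node (.leaf 123) (.leaf 1592)) (.node (.leaf 1081) (.leaf 1426))) (.node (.node (.leaf 274) (.leaf 1084)) (.node (.leaf 1373) (.leaf 1876)))))) (.node (.node (.node (.node (.node (.leaf 66) (.leaf 1470)) (.node (.leaf 883) (.leaf 1736))) (.node (.node (.leaf 178) (.leaf 932)) (.node (.leaf 509) (.leaf 1562)))) (.node (.node (.node (.leaf 102) (.leaf 1575)) (.node (.leaf 958) (.leaf 1711))) (.node (.node (.leaf 257) (.leaf 1059)) (.node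 (.leaf 1343) (.leaf 1796))))) (.node (.node (.node (.node (.leaf 63) (.leaf 1529)) (.node (.leaf 377) (.leaf 1301))) (.node (.node (.leaf 604) (.leaf 1720)) (.node (.leaf 556) (.leaf 1676)))) (.node (.node (.node (.leaf 401) (.leaf 882)) (.node (.leaf 465) (.leaf 1900))) (.node (.node (.leaf 496) (.leaf 1375)) (.node (.leaf 1183) (.leaf 2065))))))) (.node (.node (.node (.node (.node (.node (.node (.leaf 48) (.leaf 2079)) (.leaf 1450)) (.node (.leaf 322) (.leaf 1287))) (.node (.node (.leaf 484) (.leaf 1660)) (.node (.leaf 1186) (.leaf 1823)))) (.node (.node (.node (.leaf 268) (.leaf 1007)) (.node (.leaf 1026) (.leaf 1915))) (.node (.node (.leaf 678) (.leaf 1715)) (.node (.leaf 927) (.leaf 1960))))) (.node (.node (.node (.node (.leaf 138) (.leaf 1015)) (.node (.leaf 584) (.leaf 1868))) (.node (.node (.leaf 206) (.leaf 1519)) (.node (.leaf 548) (.leaf 1789)))) (.node (.node (.node (.leaf 379) (.leaf 855)) (.node (.leaf 1104) (.leaf 1944))) (.node (.node (.leaf 285) (.leaf 1103)) (.node (.leaf 643) (.leaf 2055)))))) (.node (.node (.node (.node (.node (.leaf 111) (.leaf 949)) (.node (.leaf 347) (.leaf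 1309))) (.node (.node (.leaf 536) (.leaf 943)) (.node (.leaf 521) (.leaf 1855)))) (.node (.node (.node (.leaf 323) (.leaf 1268)) (.node (.leaf 703) (.leaf 1400))) (.node (.node (.leaf 709) (.leaf 1781)) (.node (.leaf 616) (.leaf 1886))))) (.node (.node (.node (.node (.leaf 214) (.leaf 952)) (.node (.leaf 389) (.leaf 1879))) (.node (.node (.leaf 630) (.leaf 1038)) (.node (.leaf 868) (.leaf 1746)))) (.node (.node (.node (.leaf 427) (.leaf 1617)) (.node (.leaf 478) (.leaf 1934))) (.node (.node (.leaf 534) (.leaf 1264)) (.node (.leaf 795) (.leaf 1994)))))))))))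

/-- A table. -/
noncomputable def fixOrbNext2 : BTree := .node fixOrbNext2L fixOrbNext2R

/-- Part of a table. -/
noncomputable def fixOrbNext3L : BTree := (.node (.node (.node (.node (.node (.node (.node (.node (.node (.node (.node (.leaf 0) (.leaf 2036)) (.leaf 669)) (.node (.leaf 532) (.leaf 1392))) (.node (.node (.leaf 430) (.leaf 1633)) (.node (.leaf 487) (.leaf 1480)))) (.node (.node (.node (.leaf 216) (.leaf 1154)) (.node (.leaf 391) (.leaf 1706))) (.node (.node (.leaf 229) (.leaf 1558)) (.node (.leaf 1282) (.leaf 1698))))) (.node (.node (.node (.node (.leaf 37) (.leaf 1489)) (.node (.leaf 889) (.leaf 1635))) (.node (.node (.leaf 188) (.leaf 1665)) (.node (.leaf 522) (.leaf 1833)))) (.node (.node (.node (.leaf 113) (.leaf 1566)) (.node (.leaf 1059) (.leaf 1850))) (.node (.node (.leaf 266) (.leaf 1782)) (.node (.leaf 628) (.leaf 1915)))))) (.node (.node (.node (.node (.node (.leaf 17) (.leaf 1452)) (.node (.leaf 862) (.leaf 1193))) (.node (.node (.leaf 485) (.leaf 920)) (.node (.leaf 1187) (.leaf 1980)))) (.node (.node (.node (.leaf 95) (.leaf 799)) (.node (.leaf 1027) (.leaf 1411)))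 (.node (.node (.leaf 679) (.leaf 1708)) (.node (.leaf 1321) (.leaf 1774))))) (.node (.node (.node (.node (.leaf 164) (.leaf 751)) (.node (.leaf 581) (.leaf 1652))) (.node (.node (.leaf 211) (.leaf 1398)) (.node (.leaf 898) (.leaf 1727)))) (.node (.node (.node (.leaf 373) (.leaf 1334)) (.node (.leaf 588) (.leaf 1810))) (.node (.node (.leaf 286) (.leaf 1104)) (.node (.leaf 1391) (.leaf 1905))))))) (.node (.node (.node (.node (.node (.node (.node (.leaf 29) (.leaf 2058)) (.leaf 681)) (.node (.leaf 840) (.leaf 1371))) (.node (.node (.leaf 163) (.leaf 1644)) (.node (.leaf 1145) (.leaf 1503)))) (.node (.node (.node (.leaf 239) (.leaf 869)) (.node (.leaf 401) (.leaf 1680))) (.node (.node (.leaf 243) (.leaf 1747)) (.node (.leaf 589) (.leaf 1790))))) (.node (.node (.node (.node (.leaf 47) (.leaf 1504)) (.node (.leaf 917) (.leaf 1840))) (.node (.node (.leaf 559) (.leaf 1704)) (.node (.leaf 1243) (.leaf 1622)))) (.node (.node (.node (.leaf 124) (.leaf 841)) (.node (.leaf 1082) (.leaf 1928))) (.node (.node (.leaf 275) (.leaf 1417)) (.node (.leaf 1374) (.leaf 2049)))))) (.node (.node (.node (.node (.node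 (.leaf 82) (.leaf 1471)) (.node (.leaf 882) (.leaf 1807))) (.node (.node (.leaf 179) (.leaf 933)) (.node (.leaf 1089) (.leaf 1616)))) (.node (.node (.node (.leaf 103) (.leaf 1576)) (.node (.leaf 965) (.leaf 1924))) (.node (.node (.leaf 693) (.leaf 1060)) (.node (.leaf 916) (.leaf 1970))))) (.node (.node (.node (.node (.leaf 66) (.leaf 1530)) (.node (.leaf 967) (.leaf 1298))) (.node (.node (.leaf 217) (.leaf 1536)) (.node (.leaf 1021) (.leaf 1677)))) (.node (.node (.node (.leaf 403) (.leaf 883)) (.node (.leaf 466) (.leaf 1953))) (.node (.node (.leaf 778) (.leaf 1815)) (.node (.leaf 1179) (.leaf 2054)))))))) (.node (.node (.node (.node (.node (.node (.node (.node (.leaf 15) (.leaf 2021)) (.leaf 677)) (.node (.leaf 830) (.leaf 1830))) (.node (.node (.leaf 157) (.leaf 903)) (.node (.leaf 495) (.leaf 1969)))) (.node (.node (.node (.leaf 228) (.leaf 1023)) (.node (.leaf 998) (.leaf 1323))) (.node (.node (.leaf 641) (.leaf 1715)) (.node (.leaf 1271) (.leaf 1744))))) (.node (.node (.node (.node (.leaf 119) (.leaf 1375)) (.node (.leaf 351) (.leaf 1860))) (.node (.node (.leaf 541) (.leaf 1542)) (.node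 (.leaf 528) (.leaf 1996)))) (.node (.node (.node (.leaf 122) (.leaf 1217)) (.node (.leaf 1067) (.leaf 1703))) (.node (.node (.leaf 739) (.leaf 1792)) (.node (.leaf 854) (.leaf 1930)))))) (.node (.node (.node (.node (.node (.leaf 70) (.leaf 1460)) (.node (.leaf 329) (.leaf 1200))) (.node (.node (.leaf 174) (.leaf 929)) (.node (.leaf 505) (.leaf 1916)))) (.node (.node (.node (.leaf 285) (.leaf 827)) (.node (.leaf 427) (.leaf 1360))) (.node (.node (.leaf 690) (.leaf 1052)) (.node (.leaf 600) (.leaf 2033))))) (.node (.node (.node (.node (.leaf 62) (.leaf 1519)) (.node (.leaf 380) (.leaf 1724))) (.node (.node (.leaf 595) (.leaf 1546)) (.node (.leaf 1255) (.leaf 1875)))) (.node (.node (.node (.leaf 138) (.leaf 1610)) (.node (.leaf 467) (.leaf 1454))) (.node (.node (.leaf 290) (.leaf 1441)) (.node (.leaf 977) (.leaf 1945))))))) (.node (.node (.node (.node (.node (.node (.node (.leaf 24) (.leaf 2053)) (.leaf 1444)) (.node (.leaf 379) (.leaf 1182))) (.node (.node (.leaf 166) (.leaf 913)) (.node (.leaf 499) (.leaf 1976)))) (.node (.node (.node (.leaf 257) (.leaf 966)) (.node (.leaf 1007) (.leaf 1338)))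 (.node (.node (.leaf 654) (.leaf 1752)) (.node (.leaf 1312) (.leaf 1793))))) (.node (.node (.node (.node (.leaf 149) (.leaf 1510)) (.node (.leaf 936) (.leaf 1602))) (.node (.node (.leaf 566) (.leaf 971)) (.node (.leaf 539) (.leaf 1890)))) (.node (.node (.node (.leaf 128) (.leaf 1605)) (.node (.leaf 1093) (.leaf 1432))) (.node (.node (.leaf 279) (.leaf 1098)) (.node (.leaf 1181) (.leaf 1885)))))) (.node (.node (.node (.node (.node (.leaf 99) (.leaf 1483)) (.node (.leaf 346) (.leaf 1683))) (.node (.node (.leaf 529) (.leaf 1686)) (.node (.leaf 521) (.leaf 1577)))) (.node (.node (.node (.leaf 302) (.leaf 1409)) (.node (.leaf 685) (.leaf 1825))) (.node (.node (.leaf 262) (.leaf 1775)) (.node (.leaf 1349) (.leaf 1816))))) (.node (.node (.node (.node (.leaf 71) (.leaf 1101)) (.node (.leaf 388) (.leaf 1305))) (.node (.node (.leaf 251) (.leaf 1003)) (.node (.leaf 1273) (.leaf 1988)))) (.node (.node (.node (.leaf 151) (.leaf 1623)) (.node (.leaf 1133) (.leaf 1961))) (.node (.node (.leaf 801) (.leaf 1819)) (.node (.leaf 660) (.leaf 2044))))))))) (.node (.node (.node (.node (.node (.node (.node (.node (.node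 (.leaf 9) (.leaf 2037)) (.leaf 1418)) (.node (.leaf 308) (.leaf 1166))) (.node (.node (.leaf 155) (.leaf 1379)) (.node (.leaf 1151) (.leaf 1694)))) (.node (.node (.node (.leaf 222) (.leaf 774)) (.node (.leaf 993) (.leaf 1317))) (.node (.node (.leaf 632) (.leaf 1725)) (.node (.leaf 569) (.leaf 1712))))) (.node (.node (.node (.node (.leaf 105) (.leaf 948)) (.node (.leaf 355) (.leaf 1859))) (.node (.node (.leaf 190) (.leaf 950)) (.node (.leaf 524) (.leaf 1608)))) (.node (.node (.node (.leaf 334) (.leaf 831)) (.node (.leaf 1062) (.leaf 1410))) (.node (.node (.leaf 269) (.leaf 1076)) (.node (.leaf 687) (.leaf 1912)))))) (.node (.node (.node (.node (.node (.leaf 20) (.leaf 1456)) (.node (.leaf 866) (.leaf 1197))) (.node (.node (.leaf 490) (.leaf 926)) (.node (.leaf 1188) (.leaf 1975)))) (.node (.node (.node (.leaf 96) (.leaf 804)) (.node (.leaf 652) (.leaf 1922))) (.node (.node (.leaf 620) (.leaf 1048)) (.node (.leaf 596) (.leaf 1781))))) (.node (.node (.node (.node (.leaf 171) (.leaf 1515)) (.node (.leaf 951) (.leaf 1607))) (.node (.node (.leaf 590) (.leaf 1153)) (.node (.leaf 549) (.leaf 1650))))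 (.node (.node (.node (.leaf 136) (.leaf 1554)) (.node (.leaf 1109) (.leaf 1450))) (.node (.node (.leaf 779) (.leaf 1118)) (.node (.leaf 1394) (.leaf 1921))))))) (.node (.node (.node (.node (.node (.node (.node (.leaf 36) (.leaf 2069)) (.leaf 1427)) (.node (.leaf 512) (.leaf 1251))) (.node (.node (.leaf 459) (.leaf 910)) (.node (.leaf 492) (.leaf 1974)))) (.node (.node (.node (.leaf 221) (.leaf 1261)) (.node (.leaf 1016) (.leaf 1817))) (.node (.node (.leaf 659) (.leaf 1430)) (.node (.leaf 944) (.leaf 1746))))) (.node (.node (.node (.node (.leaf 141) (.leaf 748)) (.node (.leaf 932) (.leaf 1855))) (.node (.node (.leaf 565) (.leaf 1014)) (.node (.leaf 537) (.leaf 1631)))) (.node (.node (.node (.leaf 126) (.leaf 1599)) (.node (.leaf 1086) (.leaf 1941))) (.node (.node (.leaf 754) (.leaf 1347)) (.node (.leaf 1131) (.leaf 1963)))))) (.node (.node (.node (.node (.node (.leaf 52) (.leaf 1476)) (.node (.leaf 891) (.leaf 1230))) (.node (.node (.leaf 516) (.leaf 945)) (.node (.leaf 1213) (.leaf 1569)))) (.node (.node (.node (.leaf 118) (.leaf 809)) (.node (.leaf 425) (.leaf 1385))) (.node (.node (.leaf 263)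 (.leaf 1064)) (.node (.leaf 1092) (.leaf 1982))))) (.node (.node (.node (.node (.leaf 116) (.leaf 1533)) (.node (.leaf 960) (.leaf 1632))) (.node (.node (.leaf 613) (.leaf 999)) (.node (.leaf 561) (.leaf 1682)))) (.node (.node (.node (.leaf 410) (.leaf 885)) (.node (.leaf 1121) (.leaf 1470))) (.node (.node (.leaf 298) (.leaf 1606)) (.node (.leaf 1022) (.leaf 2048)))))))) (.node (.node (.node (.node (.node (.node (.node (.node (.leaf 12) (.leaf 2018)) (.leaf 1425)) (.node (.leaf 836) (.leaf 1557))) (.node (.node (.leaf 453) (.leaf 1642)) (.node (.leaf 793) (.leaf 1827)))) (.node (.node (.node (.leaf 237) (.leaf 1550)) (.node (.leaf 676) (.leaf 1325))) (.node (.node (.leaf 643) (.leaf 1155)) (.node (.leaf 1297) (.leaf 1740))))) (.node (.node (.node (.node (.leaf 44) (.leaf 1142)) (.node (.leaf 736) (.leaf 1713))) (.node (.node (.leaf 555) (.leaf 1699)) (.node (.leaf 1237) (.leaf 2003)))) (.node (.node (.node (.leaf 339) (.leaf 839)) (.node (.leaf 1075) (.leaf 1932))) (.node (.node (.leaf 746) (.leaf 1346)) (.node (.leaf 630) (.leaf 1864)))))) (.node (.node (.node (.node (.node (.leaf 76) (.leaf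 711)) (.node (.leaf 331) (.leaf 1851))) (.node (.node (.leaf 502) (.leaf 930)) (.node (.leaf 527) (.leaf 1923)))) (.node (.node (.node (.leaf 291) (.leaf 805)) (.node (.leaf 418) (.leaf 1440))) (.node (.node (.leaf 682) (.leaf 1056)) (.node (.leaf 605) (.leaf 1789))))) (.node (.node (.node (.node (.leaf 178) (.leaf 1525)) (.node (.leaf 420) (.leaf 1296))) (.node (.node (.leaf 214) (.leaf 990)) (.node (.leaf 1258) (.leaf 1671)))) (.node (.node (.node (.leaf 393) (.leaf 1372)) (.node (.leaf 1108) (.leaf 1462))) (.node (.node (.leaf 788) (.leaf 1449)) (.node (.leaf 1031) (.leaf 1997))))))) (.node (.node (.node (.node (.node (.node (.node (.leaf 28) (.leaf 2076)) (.leaf 1448)) (.node (.leaf 321) (.leaf 1186))) (.node (.node (.leaf 478) (.leaf 915)) (.node (.leaf 498) (.leaf 1979)))) (.node (.node (.node (.leaf 92) (.leaf 1159)) (.node (.leaf 409) (.leaf 1913))) (.node (.node (.leaf 245) (.leaf 1446)) (.node (.leaf 629) (.leaf 2025))))) (.node (.node (.node (.node (.leaf 156) (.leaf 1511)) (.node (.leaf 942) (.leaf 1286))) (.node (.node (.leaf 578) (.leaf 1260)) (.node (.leaf 662) (.leaf 1643))))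 (.node (.node (.node (.leaf 133) (.leaf 865)) (.node (.leaf 455) (.leaf 1763))) (.node (.node (.leaf 282) (.leaf 1539)) (.node (.leaf 1386) (.leaf 1939)))))) (.node (.node (.node (.node (.node (.leaf 33) (.leaf 1457)) (.node (.leaf 863) (.leaf 1563))) (.node (.node (.leaf 534) (.leaf 1340)) (.node (.leaf 1218) (.leaf 1918)))) (.node (.node (.node (.leaf 320) (.leaf 1585)) (.node (.leaf 881) (.leaf 1640))) (.node (.node (.leaf 265) (.leaf 1474)) (.node (.leaf 1357) (.leaf 1824))))) (.node (.node (.node (.node (.leaf 208) (.leaf 954)) (.node (.leaf 759) (.leaf 1895))) (.node (.node (.leaf 616) (.leaf 1353)) (.node (.leaf 911) (.leaf 1832)))) (.node (.node (.node (.leaf 150) (.leaf 890)) (.node (.leaf 475) (.leaf 1966))) (.node (.node (.leaf 814) (.leaf 1818)) (.node (.leaf 665) (.leaf 2040)))))))))) (.node (.node (.node (.node (.node (.node (.node (.node (.node (.node (.leaf 5) (.leaf 2074)) (.leaf 1085)) (.node (.leaf 337) (.leaf 1814))) (.node (.node (.leaf 153) (.leaf 896)) (.node (.leaf 1146) (.leaf 1482)))) (.node (.node (.node (.leaf 78) (.leaf 1152)) (.node (.leaf 989) (.leaf 1897))) (.node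 (.node (.leaf 634) (.leaf 1732)) (.node (.leaf 864) (.leaf 1700))))) (.node (.node (.node (.node (.leaf 112) (.leaf 725)) (.node (.leaf 348) (.leaf 1624))) (.node (.node (.leaf 193) (.leaf 1484)) (.node (.leaf 533) (.leaf 1873)))) (.node (.node (.node (.leaf 330) (.leaf 828)) (.node (.leaf 443) (.leaf 1929))) (.node (.node (.leaf 726) (.leaf 1468)) (.node (.leaf 1359) (.leaf 2029)))))) (.node (.node (.node (.node (.node (.leaf 59) (.leaf 705)) (.node (.leaf 345) (.leaf 1846))) (.node (.node (.leaf 488) (.leaf 1362)) (.node (.leaf 1190) (.leaf 1721)))) (.node (.node (.node (.leaf 274) (.leaf 1564)) (.node (.leaf 1029) (.leaf 1920))) (.node (.node (.leaf 684) (.leaf 1710)) (.node (.leaf 1324) (.leaf 1778))))) (.node (.node (.node (.node (.leaf 57) (.leaf 753)) (.node (.leaf 949) (.leaf 1281))) (.node (.node (.leaf 207) (.leaf 1270)) (.node (.leaf 548) (.leaf 1880)))) (.node (.node (.node (.leaf 318) (.leaf 1285)) (.node (.leaf 1107) (.leaf 1754))) (.node (.node (.leaf 775) (.leaf 1661)) (.node (.leaf 1393) (.leaf 2060))))))) (.node (.node (.node (.node (.node (.node (.node (.leaf 18) (.leaf 2034))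 (.leaf 683)) (.node (.leaf 843) (.leaf 1252))) (.node (.node (.leaf 162) (.leaf 1648)) (.node (.leaf 1167) (.leaf 1760)))) (.node (.node (.node (.leaf 246) (.leaf 1247)) (.node (.leaf 1001) (.leaf 1908))) (.node (.node (.leaf 619) (.leaf 1749)) (.node (.leaf 579) (.leaf 1751))))) (.node (.node (.node (.node (.leaf 48) (.leaf 737)) (.node (.leaf 927) (.leaf 1265))) (.node (.node (.leaf 562) (.leaf 1314)) (.node (.leaf 625) (.leaf 1626)))) (.node (.node (.node (.leaf 358) (.leaf 1597)) (.node (.leaf 447) (.leaf 1940))) (.node (.node (.leaf 752) (.leaf 1575)) (.node (.leaf 635) (.leaf 2055)))))) (.node (.node (.node (.node (.node (.leaf 87) (.leaf 1074)) (.node (.leaf 338) (.leaf 1227))) (.node (.node (.leaf 182) (.leaf 1678)) (.node (.leaf 1202) (.leaf 1565)))) (.node (.node (.node (.leaf 108) (.leaf 818)) (.node (.leaf 424) (.leaf 1495))) (.node (.node (.leaf 259) (.leaf 1770)) (.node (.leaf 1345) (.leaf 1968))))) (.node (.node (.node (.node (.leaf 65) (.leaf 1526)) (.node (.leaf 958) (.leaf 1892))) (.node (.node (.leaf 611) (.leaf 996)) (.node (.leaf 560) (.leaf 1989)))) (.node (.node (.node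 (.leaf 405) (.leaf 886)) (.node (.leaf 468) (.leaf 1954))) (.node (.node (.leaf 796) (.leaf 1693)) (.node (.leaf 815) (.leaf 2066)))))))) (.node (.node (.node (.node (.node (.node (.node (.node (.leaf 19) (.leaf 2064)) (.leaf 1423)) (.node (.leaf 832) (.leaf 1384))) (.node (.node (.leaf 448) (.leaf 1639)) (.node (.leaf 496) (.leaf 1601)))) (.node (.node (.node (.leaf 232) (.leaf 1403)) (.node (.leaf 1002) (.leaf 1679))) (.node (.node (.leaf 235) (.leaf 1028)) (.node (.leaf 575) (.leaf 1992))))) (.node (.node (.node (.node (.leaf 123) (.leaf 1496)) (.node (.leaf 729) (.leaf 1256))) (.node (.node (.leaf 194) (.leaf 1205)) (.node (.leaf 1221) (.leaf 1998)))) (.node (.node (.node (.leaf 343) (.leaf 1210)) (.node (.leaf 442) (.leaf 1931))) (.node (.node (.leaf 741) (.leaf 1794)) (.node (.leaf 627) (.leaf 1862)))))) (.node (.node (.node (.node (.node (.leaf 23) (.leaf 1463)) (.node (.leaf 877) (.leaf 1203))) (.node (.node (.leaf 500) (.leaf 1673)) (.node (.leaf 513) (.leaf 1551)))) (.node (.node (.node (.leaf 289) (.leaf 1111)) (.node (.leaf 428) (.leaf 1664))) (.node (.node (.leaf 254) (.leaf 1764))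 (.node (.leaf 601) (.leaf 1962))))) (.node (.node (.node (.node (.leaf 61) (.leaf 1521)) (.node (.leaf 374) (.leaf 1292))) (.node (.node (.leaf 213) (.leaf 988)) (.node (.leaf 553) (.leaf 2013)))) (.node (.node (.node (.leaf 139) (.leaf 876)) (.node (.leaf 460) (.leaf 1458))) (.node (.node (.leaf 292) (.leaf 1813)) (.node (.leaf 650) (.leaf 2061))))))) (.node (.node (.node (.node (.node (.node (.node (.leaf 46) (.leaf 2050)) (.leaf 1045)) (.node (.leaf 319) (.leaf 1185))) (.node (.node (.leaf 476) (.leaf 1649)) (.node (.leaf 1177) (.leaf 1532)))) (.node (.node (.node (.leaf 91) (.leaf 1161)) (.node (.leaf 1009) (.leaf 1339))) (.node (.node (.leaf 244) (.leaf 1209)) (.node (.leaf 961) (.leaf 1765))))) (.node (.node (.node (.node (.leaf 90) (.leaf 745)) (.node (.leaf 366) (.leaf 1874))) (.node (.node (.leaf 568) (.leaf 1711)) (.node (.leaf 667) (.leaf 1799)))) (.node (.node (.node (.leaf 129) (.leaf 847)) (.node (.leaf 451) (.leaf 1762))) (.node (.node (.leaf 283) (.leaf 1099)) (.node (.leaf 1383) (.leaf 2007)))))) (.node (.node (.node (.node (.node (.leaf 102) (.leaf 720)) (.node (.leaf 342)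 (.leaf 1267))) (.node (.node (.leaf 531) (.leaf 1688)) (.node (.leaf 833) (.leaf 1728)))) (.node (.node (.node (.leaf 109) (.leaf 1226)) (.node (.leaf 431) (.leaf 1395))) (.node (.node (.leaf 714) (.leaf 1069)) (.node (.leaf 1148) (.leaf 1822))))) (.node (.node (.node (.node (.leaf 200) (.leaf 770)) (.node (.leaf 386) (.leaf 1307))) (.node (.node (.leaf 622) (.leaf 1355)) (.node (.leaf 1276) (.leaf 1831)))) (.node (.node (.node (.leaf 375) (.leaf 1625)) (.node (.leaf 1135) (.leaf 1786))) (.node (.node (.leaf 301) (.leaf 1136)) (.node (.leaf 1415) (.leaf 2070))))))))) (.node (.node (.node (.node (.node (.node (.node (.node (.node (.leaf 13) (.leaf 2032)) (.leaf 1419)) (.node (.leaf 307) (.leaf 1352))) (.node (.node (.leaf 440) (.leaf 1628)) (.node (.leaf 1156) (.leaf 1494)))) (.node (.node (.node (.leaf 134) (.leaf 781)) (.node (.leaf 995) (.leaf 1319))) (.node (.node (.leaf 638) (.leaf 1734)) (.node (.leaf 1278) (.leaf 1733))))) (.node (.node (.node (.node (.leaf 40) (.leaf 1493)) (.node (.leaf 357) (.leaf 1524))) (.node (.node (.leaf 191) (.leaf 1157)) (.node (.leaf 526) (.leaf 1994)))) (.node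 (.node (.node (.leaf 335) (.leaf 1590)) (.node (.leaf 439) (.leaf 1414))) (.node (.node (.leaf 734) (.leaf 1791)) (.node (.leaf 1176) (.leaf 1901)))))) (.node (.node (.node (.node (.node (.leaf 67) (.leaf 708)) (.node (.leaf 855) (.leaf 1198))) (.node (.node (.leaf 483) (.leaf 1667)) (.node (.leaf 1189) (.leaf 1544)))) (.node (.node (.node (.leaf 280) (.leaf 802)) (.node (.leaf 1037) (.leaf 1553))) (.node (.node (.leaf 253) (.leaf 1436)) (.node (.leaf 1326) (.leaf 1783))))) (.node (.node (.node (.node (.leaf 58) (.leaf 755)) (.node (.leaf 953) (.leaf 1377))) (.node (.node (.leaf 210) (.leaf 1025)) (.node (.leaf 894) (.leaf 1967)))) (.node (.node (.node (.leaf 278) (.leaf 1081)) (.node (.leaf 1110) (.leaf 1451))) (.node (.node (.leaf 382) (.leaf 1112)) (.node (.leaf 648) (.leaf 1934))))))) (.node (.node (.node (.node (.node (.node (.node (.leaf 11) (.leaf 2042)) (.leaf 1439)) (.node (.leaf 316) (.leaf 1408))) (.node (.node (.leaf 230) (.leaf 1653)) (.node (.leaf 491) (.leaf 1538)))) (.node (.node (.node (.leaf 252) (.leaf 789)) (.node (.leaf 860) (.leaf 1336))) (.node (.node (.leaf 423) (.leaf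 1428)) (.node (.leaf 1309) (.leaf 1753))))) (.node (.node (.node (.node (.leaf 51) (.leaf 742)) (.node (.leaf 367) (.leaf 1872))) (.node (.node (.leaf 570) (.leaf 1445)) (.node (.leaf 968) (.leaf 2006)))) (.node (.node (.node (.leaf 364) (.leaf 1283)) (.node (.leaf 450) (.leaf 1435))) (.node (.node (.leaf 757) (.leaf 1798)) (.node (.leaf 987) (.leaf 1878)))))) (.node (.node (.node (.node (.node (.leaf 93) (.leaf 1481)) (.node (.leaf 344) (.leaf 1222))) (.node (.node (.leaf 183) (.leaf 1248)) (.node (.leaf 515) (.leaf 1570)))) (.node (.node (.node (.leaf 306) (.leaf 1581)) (.node (.leaf 429) (.leaf 1389))) (.node (.node (.leaf 707) (.leaf 1772)) (.node (.leaf 1348) (.leaf 1812))))) (.node (.node (.node (.node (.leaf 180) (.leaf 1100)) (.node (.leaf 972) (.leaf 1806))) (.node (.node (.leaf 618) (.leaf 1376)) (.node (.leaf 1266) (.leaf 1687)))) (.node (.node (.node (.leaf 146) (.leaf 1378)) (.node (.leaf 1129) (.leaf 1472))) (.node (.node (.leaf 300) (.leaf 1138)) (.node (.leaf 1364) (.leaf 1965)))))))) (.node (.node (.node (.node (.node (.node (.node (.node (.leaf 25) (.leaf 2045)) (.leaf 686))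 (.node (.leaf 838) (.leaf 1164))) (.node (.node (.leaf 159) (.leaf 921)) (.node (.leaf 1163) (.leaf 1654)))) (.node (.node (.node (.leaf 83) (.leaf 1540)) (.node (.leaf 408) (.leaf 1330))) (.node (.node (.leaf 238) (.leaf 1742)) (.node (.leaf 1300) (.leaf 2022))))) (.node (.node (.node (.node (.leaf 130) (.leaf 735)) (.node (.leaf 356) (.leaf 1863))) (.node (.node (.leaf 196) (.leaf 1147)) (.node (.leaf 819) (.leaf 2005)))) (.node (.node (.node (.leaf 125) (.leaf 1588)) (.node (.leaf 1061) (.leaf 1422))) (.node (.node (.leaf 273) (.leaf 1083)) (.node (.leaf 1165) (.leaf 1866)))))) (.node (.node (.node (.node (.node (.leaf 26) (.leaf 1465)) (.node (.leaf 433) (.leaf 1845))) (.node (.node (.leaf 184) (.leaf 934)) (.node (.leaf 508) (.leaf 1561)))) (.node (.node (.node (.leaf 296) (.leaf 1574)) (.node (.leaf 1038) (.leaf 1442))) (.node (.node (.leaf 256) (.leaf 1768)) (.node (.leaf 604) (.leaf 1788))))) (.node (.node (.node (.node (.leaf 110) (.leaf 1527)) (.node (.leaf 378) (.leaf 1889))) (.node (.node (.leaf 602) (.leaf 991)) (.node (.leaf 873) (.leaf 1675)))) (.node (.node (.node (.leaf 398)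 (.leaf 1613)) (.node (.leaf 465) (.leaf 1952))) (.node (.node (.leaf 293) (.leaf 1143)) (.node (.leaf 653) (.leaf 1957))))))) (.node (.node (.node (.node (.node (.node (.node (.leaf 53) (.leaf 2079)) (.leaf 1175)) (.node (.leaf 857) (.leaf 1216))) (.node (.node (.leaf 480) (.leaf 1598)) (.node (.leaf 501) (.leaf 1978)))) (.node (.node (.node (.leaf 267) (.leaf 1560)) (.node (.leaf 859) (.leaf 1796))) (.node (.node (.leaf 247) (.leaf 1447)) (.node (.leaf 1316) (.leaf 1771))))) (.node (.node (.node (.node (.leaf 161) (.leaf 1508)) (.node (.leaf 935) (.leaf 1651))) (.node (.node (.leaf 209) (.leaf 976)) (.node (.leaf 544) (.leaf 1645)))) (.node (.node (.node (.leaf 132) (.leaf 1367)) (.node (.leaf 454) (.leaf 1811))) (.node (.node (.leaf 284) (.leaf 1303)) (.node (.leaf 1388) (.leaf 1903)))))) (.node (.node (.node (.node (.node (.leaf 104) (.leaf 724)) (.node (.leaf 887) (.leaf 1310))) (.node (.node (.leaf 226) (.leaf 943)) (.node (.leaf 520) (.leaf 1587)))) (.node (.node (.node (.leaf 324) (.leaf 1233)) (.node (.leaf 1055) (.leaf 1401))) (.node (.node (.leaf 721) (.leaf 1780)) (.node (.leaf 626)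 (.leaf 1972))))) (.node (.node (.node (.node (.leaf 212) (.leaf 1545)) (.node (.leaf 390) (.leaf 1883))) (.node (.node (.leaf 486) (.leaf 1005)) (.node (.leaf 870) (.leaf 1852)))) (.node (.node (.node (.leaf 426) (.leaf 902)) (.node (.leaf 477) (.leaf 1936))) (.node (.node (.leaf 817) (.leaf 1823)) (.node (.leaf 1012) (.leaf 1993)))))))))))

/-- Part of a table. -/
noncomputable def fixOrbNext3R : BTree := (.node (.node (.node (.node (.node (.node (.node (.node (.node (.node (.node (.leaf 3) (.leaf 2000)) (.leaf 1382)) (.node (.leaf 810) (.leaf 1499))) (.node (.node (.leaf 152) (.leaf 1634)) (.node (.leaf 479) (.leaf 1944)))) (.node (.node (.node (.leaf 218) (.leaf 1380)) (.node (.leaf 392) (.leaf 1344))) (.node (.node (.leaf 633) (.leaf 1208)) (.node (.leaf 567) (.leaf 2020))))) (.node (.node (.node (.node (.leaf 114) (.leaf 816)) (.node (.leaf 909) (.leaf 1802))) (.node (.node (.leaf 540) (.leaf 946)) (.node (.leaf 826) (.leaf 1879)))) (.node (.node (.node (.leaf 322) (.leaf 1224)) (.node (.leaf 1058) (.leaf 1549))) (.node (.node (.leaf 727) (.leaf 1077)) (.node (.leaf 922) (.leaf 1835))))))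 (.node (.node (.node (.node (.node (.leaf 60) (.leaf 1453)) (.node (.leaf 323) (.leaf 1844))) (.node (.node (.leaf 170) (.leaf 1363)) (.node (.leaf 504) (.leaf 1720)))) (.node (.node (.node (.leaf 94) (.leaf 1562)) (.node (.leaf 413) (.leaf 1579))) (.node (.node (.leaf 255) (.leaf 1512)) (.node (.leaf 1320) (.leaf 1776))))) (.node (.node (.node (.node (.leaf 167) (.leaf 756)) (.node (.leaf 947) (.leaf 1280))) (.node (.node (.leaf 587) (.leaf 1638)) (.node (.leaf 1244) (.leaf 1646)))) (.node (.node (.node (.leaf 359) (.leaf 871)) (.node (.leaf 1106) (.leaf 1443))) (.node (.node (.leaf 771) (.leaf 1559)) (.node (.leaf 644) (.leaf 2017))))))) (.node (.node (.node (.node (.node (.node (.node (.leaf 32) (.leaf 2073)) (.leaf 1433)) (.node (.leaf 312) (.leaf 1702))) (.node (.node (.leaf 462) (.leaf 908)) (.node (.leaf 489) (.leaf 1507)))) (.node (.node (.node (.leaf 85) (.leaf 1555)) (.node (.leaf 963) (.leaf 1329))) (.node (.node (.leaf 656) (.leaf 1036)) (.node (.leaf 1304) (.leaf 1741))))) (.node (.node (.node (.node (.leaf 137) (.leaf 1241)) (.node (.leaf 851) (.leaf 1867))) (.node (.node (.leaf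 514) (.leaf 959)) (.node (.leaf 535) (.leaf 1858)))) (.node (.node (.node (.leaf 350) (.leaf 1214)) (.node (.leaf 446) (.leaf 1431))) (.node (.node (.leaf 750) (.leaf 1088)) (.node (.leaf 1000) (.leaf 1869)))))) (.node (.node (.node (.node (.node (.leaf 27) (.leaf 717)) (.node (.leaf 884) (.leaf 1212))) (.node (.node (.leaf 199) (.leaf 1681)) (.node (.leaf 510) (.leaf 1839)))) (.node (.node (.node (.leaf 299) (.leaf 1191)) (.node (.leaf 661) (.leaf 1612))) (.node (.node (.leaf 558) (.leaf 1084)) (.node (.leaf 1332) (.leaf 1800))))) (.node (.node (.node (.node (.leaf 192) (.leaf 763)) (.node (.leaf 850) (.leaf 1306))) (.node (.node (.leaf 607) (.leaf 994)) (.node (.leaf 700) (.leaf 2016)))) (.node (.node (.node (.leaf 143) (.leaf 1618)) (.node (.leaf 1122) (.leaf 1467))) (.node (.node (.leaf 295) (.leaf 1130)) (.node (.leaf 666) (.leaf 1960)))))))) (.node (.node (.node (.node (.node (.node (.node (.node (.leaf 4) (.leaf 2015)) (.leaf 1035)) (.node (.leaf 824) (.leaf 1150))) (.node (.node (.leaf 444) (.leaf 1079)) (.node (.leaf 795) (.leaf 1497)))) (.node (.node (.node (.leaf 81) (.leaf 1178))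 (.node (.leaf 397) (.leaf 1322))) (.node (.node (.leaf 236) (.leaf 1488)) (.node (.leaf 1291) (.leaf 1730))))) (.node (.node (.node (.node (.leaf 43) (.leaf 731)) (.node (.leaf 617) (.leaf 1861))) (.node (.node (.leaf 552) (.leaf 1404)) (.node (.leaf 1232) (.leaf 1987)))) (.node (.node (.node (.leaf 121) (.leaf 867)) (.node (.leaf 1071) (.leaf 1421))) (.node (.node (.leaf 271) (.leaf 1078)) (.node (.leaf 623) (.leaf 2046)))))) (.node (.node (.node (.node (.node (.leaf 69) (.leaf 1459)) (.node (.leaf 874) (.leaf 1848))) (.node (.node (.leaf 175) (.leaf 928)) (.node (.leaf 1204) (.leaf 1856)))) (.node (.node (.node (.leaf 101) (.leaf 1568)) (.node (.leaf 1040) (.leaf 1735))) (.node (.node (.leaf 692) (.leaf 1516)) (.node (.leaf 1335) (.leaf 1784))))) (.node (.node (.node (.node (.leaf 68) (.leaf 758)) (.node (.leaf 585) (.leaf 1311))) (.node (.node (.leaf 215) (.leaf 1716)) (.node (.leaf 878) (.leaf 1666)))) (.node (.node (.node (.leaf 389) (.leaf 1611)) (.node (.leaf 1114) (.leaf 1769))) (.node (.node (.leaf 785) (.leaf 1117)) (.node (.leaf 658) (.leaf 1948))))))) (.node (.node (.node (.node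 (.node (.node (.node (.leaf 14) (.leaf 2065)) (.leaf 695)) (.node (.leaf 852) (.leaf 1838))) (.node (.node (.leaf 165) (.leaf 1656)) (.node (.leaf 780) (.leaf 1684)))) (.node (.node (.node (.leaf 258) (.leaf 794)) (.node (.leaf 1020) (.leaf 1911))) (.node (.node (.leaf 668) (.leaf 1041)) (.node (.leaf 1294) (.leaf 2024))))) (.node (.node (.node (.node (.leaf 147) (.leaf 743)) (.node (.leaf 938) (.leaf 1274))) (.node (.node (.leaf 546) (.leaf 973)) (.node (.leaf 542) (.leaf 1659)))) (.node (.node (.node (.leaf 368) (.leaf 1105)) (.node (.leaf 586) (.leaf 1942))) (.node (.node (.leaf 761) (.leaf 1801)) (.node (.leaf 639) (.leaf 1887)))))) (.node (.node (.node (.node (.node (.leaf 98) (.leaf 1254)) (.node (.leaf 900) (.leaf 1229))) (.node (.node (.leaf 509) (.leaf 939)) (.node (.leaf 517) (.leaf 1917)))) (.node (.node (.node (.leaf 315) (.leaf 1434)) (.node (.leaf 835) (.leaf 1826))) (.node (.node (.leaf 715) (.leaf 1070)) (.node (.leaf 614) (.leaf 2041))))) (.node (.node (.node (.node (.leaf 201) (.leaf 784)) (.node (.leaf 385) (.leaf 1891))) (.node (.node (.leaf 223) (.leaf 1726)) (.node (.leaf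 576) (.leaf 1692)))) (.node (.node (.node (.leaf 419) (.leaf 888)) (.node (.leaf 473) (.leaf 1479))) (.node (.node (.leaf 808) (.leaf 1821)) (.node (.leaf 1413) (.leaf 1977))))))))) (.node (.node (.node (.node (.node (.node (.node (.node (.node (.leaf 2) (.leaf 2072)) (.leaf 674)) (.node (.leaf 825) (.leaf 1701))) (.node (.node (.leaf 437) (.leaf 1250)) (.node (.leaf 1149) (.leaf 1655)))) (.node (.node (.node (.leaf 220) (.leaf 1350)) (.node (.leaf 395) (.leaf 1899))) (.node (.node (.leaf 233) (.leaf 1017)) (.node (.leaf 899) (.leaf 1719))))) (.node (.node (.node (.node (.leaf 41) (.leaf 728)) (.node (.leaf 608) (.leaf 1240))) (.node (.node (.leaf 547) (.leaf 952)) (.node (.leaf 691) (.leaf 1609)))) (.node (.node (.node (.leaf 117) (.leaf 842)) (.node (.leaf 1063) (.leaf 1926))) (.node (.node (.leaf 268) (.leaf 1787)) (.node (.leaf 688) (.leaf 1906)))))) (.node (.node (.node (.node (.node (.leaf 64) (.leaf 718)) (.node (.leaf 868) (.leaf 1211))) (.node (.node (.leaf 494) (.leaf 1668)) (.node (.leaf 1196) (.leaf 1805)))) (.node (.node (.node (.leaf 281) (.leaf 806)) (.node (.leaf 1032) (.leaf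 1541))) (.node (.node (.leaf 621) (.leaf 1366)) (.node (.leaf 1328) (.leaf 2030))))) (.node (.node (.node (.node (.leaf 169) (.leaf 1051)) (.node (.leaf 372) (.leaf 1287))) (.node (.node (.leaf 582) (.leaf 983)) (.node (.leaf 1168) (.leaf 1973)))) (.node (.node (.node (.leaf 384) (.leaf 981)) (.node (.leaf 458) (.leaf 1946))) (.node (.node (.leaf 288) (.leaf 1119)) (.node (.leaf 647) (.leaf 2056))))))) (.node (.node (.node (.node (.node (.node (.node (.leaf 39) (.leaf 2068)) (.leaf 1050)) (.node (.leaf 834) (.leaf 1548))) (.node (.node (.leaf 469) (.leaf 1279)) (.node (.leaf 1174) (.leaf 1514)))) (.node (.node (.node (.leaf 88) (.leaf 879)) (.node (.leaf 689) (.leaf 1909))) (.node (.node (.leaf 242) (.leaf 1039)) (.node (.leaf 592) (.leaf 1748))))) (.node (.node (.node (.node (.leaf 145) (.leaf 740)) (.node (.leaf 931) (.leaf 1269))) (.node (.node (.leaf 203) (.leaf 1047)) (.node (.leaf 1245) (.leaf 1647)))) (.node (.node (.node (.leaf 362) (.leaf 844)) (.node (.leaf 1090) (.leaf 1426))) (.node (.node (.leaf 277) (.leaf 1094)) (.node (.leaf 1253) (.leaf 1870)))))) (.node (.node (.node (.node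 (.node (.leaf 30) (.leaf 1473)) (.node (.leaf 340) (.leaf 1235))) (.node (.node (.leaf 523) (.leaf 1523)) (.node (.leaf 1215) (.leaf 1582)))) (.node (.node (.node (.leaf 107) (.leaf 1354)) (.node (.leaf 432) (.leaf 1387))) (.node (.node (.leaf 261) (.leaf 1773)) (.node (.leaf 610) (.leaf 1893))))) (.node (.node (.node (.node (.leaf 197) (.leaf 1535)) (.node (.leaf 924) (.leaf 1302))) (.node (.node (.leaf 224) (.leaf 1723)) (.node (.leaf 1268) (.leaf 1685)))) (.node (.node (.node (.leaf 412) (.leaf 1621)) (.node (.leaf 470) (.leaf 1956))) (.node (.node (.leaf 798) (.leaf 1132)) (.node (.leaf 1407) (.leaf 2052)))))))) (.node (.node (.node (.node (.node (.node (.node (.node (.leaf 6) (.leaf 2026)) (.leaf 678)) (.node (.leaf 317) (.leaf 1729))) (.node (.node (.leaf 452) (.leaf 979)) (.node (.leaf 1158) (.leaf 1829)))) (.node (.node (.node (.leaf 84) (.leaf 974)) (.node (.leaf 1006) (.leaf 1904))) (.node (.node (.leaf 649) (.leaf 1737)) (.node (.leaf 577) (.leaf 1779))))) (.node (.node (.node (.node (.leaf 131) (.leaf 1144)) (.node (.leaf 912) (.leaf 1262))) (.node (.node (.leaf 557) (.leaf 956))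 (.node (.leaf 1223) (.leaf 2001)))) (.node (.node (.node (.leaf 349) (.leaf 1593)) (.node (.leaf 1073) (.leaf 1937))) (.node (.node (.leaf 747) (.leaf 1795)) (.node (.leaf 1369) (.leaf 2028)))))) (.node (.node (.node (.node (.node (.leaf 45) (.leaf 1466)) (.node (.leaf 333) (.leaf 1206))) (.node (.node (.leaf 506) (.leaf 1676)) (.node (.leaf 1043) (.leaf 1955)))) (.node (.node (.node (.leaf 287) (.leaf 1572)) (.node (.leaf 696) (.leaf 1759))) (.node (.node (.leaf 694) (.leaf 1057)) (.node (.leaf 941) (.leaf 2038))))) (.node (.node (.node (.node (.leaf 186) (.leaf 760)) (.node (.leaf 421) (.leaf 1886))) (.node (.node (.leaf 603) (.leaf 1718)) (.node (.leaf 554) (.leaf 1990)))) (.node (.node (.node (.leaf 140) (.leaf 1172)) (.node (.leaf 463) (.leaf 1461))) (.node (.node (.leaf 791) (.leaf 1755)) (.node (.leaf 1406) (.leaf 1986))))))) (.node (.node (.node (.node (.node (.node (.node (.leaf 16) (.leaf 2075)) (.leaf 699)) (.node (.leaf 328) (.leaf 1842))) (.node (.node (.leaf 168) (.leaf 918)) (.node (.leaf 1183) (.leaf 1529)))) (.node (.node (.node (.leaf 264) (.leaf 984)) (.node (.leaf 1024) (.leaf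 1522))) (.node (.node (.leaf 673) (.leaf 1127)) (.node (.leaf 1315) (.leaf 1949))))) (.node (.node (.node (.node (.leaf 54) (.leaf 1513)) (.node (.leaf 940) (.leaf 1277))) (.node (.node (.leaf 205) (.leaf 1543)) (.node (.leaf 543) (.leaf 2008)))) (.node (.node (.node (.leaf 148) (.leaf 853)) (.node (.leaf 767) (.leaf 1487))) (.node (.node (.leaf 766) (.leaf 1103)) (.node (.leaf 642) (.leaf 1898)))))) (.node (.node (.node (.node (.node (.leaf 106) (.leaf 1026)) (.node (.leaf 895) (.leaf 1234))) (.node (.node (.leaf 525) (.leaf 1341)) (.node (.leaf 1219) (.leaf 1991)))) (.node (.node (.node (.leaf 111) (.leaf 820)) (.node (.leaf 1019) (.leaf 1412))) (.node (.node (.leaf 719) (.leaf 1603)) (.node (.leaf 615) (.leaf 2043))))) (.node (.node (.node (.node (.leaf 206) (.leaf 773)) (.node (.leaf 975) (.leaf 1506))) (.node (.node (.leaf 591) (.leaf 1731)) (.node (.leaf 571) (.leaf 1849)))) (.node (.node (.node (.leaf 422) (.leaf 1629)) (.node (.leaf 1139) (.leaf 1964))) (.node (.node (.leaf 313) (.leaf 1140)) (.node (.leaf 880) (.leaf 2062)))))))))) (.node (.node (.node (.node (.node (.node (.node (.node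 (.node (.node (.leaf 1) (.leaf 1999)) (.leaf 672)) (.node (.leaf 822) (.leaf 1500))) (.node (.node (.leaf 434) (.leaf 1238)) (.node (.leaf 481) (.leaf 1485)))) (.node (.node (.node (.leaf 77) (.leaf 1420)) (.node (.leaf 396) (.leaf 1318))) (.node (.node (.leaf 471) (.leaf 1696)) (.node (.leaf 901) (.leaf 1836))))) (.node (.node (.node (.node (.leaf 38) (.leaf 1491)) (.node (.leaf 914) (.leaf 1469))) (.node (.node (.leaf 545) (.leaf 1492)) (.node (.leaf 697) (.leaf 1604)))) (.node (.node (.node (.leaf 115) (.leaf 829)) (.node (.leaf 438) (.leaf 1405))) (.node (.node (.leaf 730) (.leaf 1475)) (.node (.leaf 657) (.leaf 1865)))))) (.node (.node (.node (.node (.node (.leaf 35) (.leaf 704)) (.node (.leaf 325) (.leaf 1195))) (.node (.node (.leaf 172) (.leaf 925)) (.node (.leaf 503) (.leaf 1804)))) (.node (.node (.node (.leaf 272) (.leaf 800)) (.node (.leaf 415) (.leaf 1356))) (.node (.node (.leaf 249) (.leaf 1761)) (.node (.leaf 597) (.leaf 1837))))) (.node (.node (.node (.node (.leaf 56) (.leaf 1115)) (.node (.leaf 370) (.leaf 1600))) (.node (.node (.leaf 580) (.leaf 1284)) (.node (.leaf 1225) (.leaf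 1657)))) (.node (.node (.node (.leaf 135) (.leaf 1556)) (.node (.leaf 456) (.leaf 1756))) (.node (.node (.leaf 294) (.leaf 1809)) (.node (.leaf 646) (.leaf 1919))))))) (.node (.node (.node (.node (.node (.node (.node (.leaf 10) (.leaf 2071)) (.leaf 813)) (.node (.leaf 314) (.leaf 1169))) (.node (.node (.leaf 464) (.leaf 923)) (.node (.leaf 1171) (.leaf 1758)))) (.node (.node (.node (.leaf 89) (.leaf 787)) (.node (.leaf 404) (.leaf 1592))) (.node (.node (.leaf 240) (.leaf 1044)) (.node (.leaf 1308) (.leaf 2012))))) (.node (.node (.node (.node (.leaf 142) (.leaf 738)) (.node (.leaf 360) (.leaf 1871))) (.node (.node (.leaf 204) (.leaf 1313)) (.node (.leaf 593) (.leaf 1896)))) (.node (.node (.node (.leaf 352) (.leaf 1589)) (.node (.leaf 1087) (.leaf 1424))) (.node (.node (.leaf 744) (.leaf 1091)) (.node (.leaf 1293) (.leaf 1868)))))) (.node (.node (.node (.node (.node (.leaf 86) (.leaf 716)) (.node (.leaf 347) (.leaf 1854))) (.node (.node (.leaf 518) (.leaf 1531)) (.node (.leaf 846) (.leaf 1567)))) (.node (.node (.node (.leaf 304) (.leaf 1578)) (.node (.leaf 837) (.leaf 1416))) (.node (.node (.leaf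 703) (.leaf 1065)) (.node (.leaf 609) (.leaf 1803))))) (.node (.node (.node (.node (.leaf 195) (.leaf 765)) (.node (.leaf 970) (.leaf 1630))) (.node (.node (.leaf 219) (.leaf 1722)) (.node (.leaf 1264) (.leaf 1907)))) (.node (.node (.node (.leaf 400) (.leaf 1594)) (.node (.leaf 1126) (.leaf 1933))) (.node (.node (.leaf 792) (.leaf 1333)) (.node (.leaf 655) (.leaf 1959)))))))) (.node (.node (.node (.node (.node (.node (.node (.node (.leaf 22) (.leaf 2059)) (.leaf 1033)) (.node (.leaf 309) (.leaf 1695))) (.node (.node (.leaf 158) (.leaf 905)) (.node (.leaf 484) (.leaf 1971)))) (.node (.node (.node (.leaf 234) (.leaf 782)) (.node (.leaf 399) (.leaf 1902))) (.node (.node (.leaf 645) (.leaf 1030)) (.node (.leaf 1295) (.leaf 1738))))) (.node (.node (.node (.node (.leaf 127) (.leaf 1498)) (.node (.leaf 353) (.leaf 1257))) (.node (.node (.leaf 556) (.leaf 1402)) (.node (.leaf 530) (.leaf 1617)))) (.node (.node (.node (.leaf 341) (.leaf 1586)) (.node (.leaf 441) (.leaf 1935))) (.node (.node (.leaf 276) (.leaf 1080)) (.node (.leaf 1368) (.leaf 2047)))))) (.node (.node (.node (.node (.node (.leaf 73) (.leaf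 712)) (.node (.leaf 332) (.leaf 1697))) (.node (.node (.leaf 177) (.leaf 1672)) (.node (.leaf 1207) (.leaf 1985)))) (.node (.node (.node (.leaf 100) (.leaf 1571)) (.node (.leaf 1042) (.leaf 1663))) (.node (.node (.leaf 680) (.leaf 1766)) (.node (.leaf 1337) (.leaf 2004))))) (.node (.node (.node (.node (.leaf 181) (.leaf 980)) (.node (.leaf 402) (.leaf 1884))) (.node (.node (.leaf 599) (.leaf 1717)) (.node (.leaf 1259) (.leaf 1669)))) (.node (.node (.node (.leaf 394) (.leaf 875)) (.node (.leaf 461) (.leaf 1950))) (.node (.node (.leaf 790) (.leaf 1124)) (.node (.leaf 1400) (.leaf 1951))))))) (.node (.node (.node (.node (.node (.node (.node (.leaf 49) (.leaf 2077)) (.leaf 1125)) (.node (.leaf 856) (.leaf 1596))) (.node (.node (.leaf 474) (.leaf 1658)) (.node (.leaf 777) (.leaf 1528)))) (.node (.node (.node (.leaf 260) (.leaf 1008)) (.node (.leaf 858) (.leaf 1343))) (.node (.node (.leaf 671) (.leaf 1750)) (.node (.leaf 1299) (.leaf 1767))))) (.node (.node (.node (.node (.leaf 154) (.leaf 1123)) (.node (.leaf 365) (.leaf 1275))) (.node (.node (.leaf 563) (.leaf 1552)) (.node (.leaf 670) (.leaf 1662))))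 (.node (.node (.node (.leaf 371) (.leaf 848)) (.node (.leaf 1097) (.leaf 1517))) (.node (.node (.leaf 764) (.leaf 1537)) (.node (.leaf 982) (.leaf 1927)))))) (.node (.node (.node (.node (.node (.leaf 34) (.leaf 1486)) (.node (.leaf 893) (.leaf 1231))) (.node (.node (.leaf 185) (.leaf 1690)) (.node (.leaf 1192) (.leaf 1580)))) (.node (.node (.node (.leaf 187) (.leaf 1573)) (.node (.leaf 1053) (.leaf 1397))) (.node (.node (.leaf 706) (.leaf 1777)) (.node (.leaf 1351) (.leaf 1820))))) (.node (.node (.node (.node (.leaf 74) (.leaf 1358)) (.node (.leaf 978) (.leaf 1881))) (.node (.node (.leaf 536) (.leaf 1162)) (.node (.leaf 564) (.leaf 1984)))) (.node (.node (.node (.leaf 376) (.leaf 1627)) (.node (.leaf 1137) (.leaf 1477))) (.node (.node (.leaf 311) (.leaf 1331)) (.node (.leaf 701) (.leaf 1981))))))))) (.node (.node (.node (.node (.node (.node (.node (.node (.node (.leaf 7) (.leaf 2002)) (.leaf 1004)) (.node (.leaf 823) (.leaf 1373))) (.node (.node (.leaf 436) (.leaf 1637)) (.node (.leaf 482) (.leaf 1882)))) (.node (.node (.node (.leaf 227) (.leaf 1180)) (.node (.leaf 997) (.leaf 1900))) (.node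 (.node (.leaf 640) (.leaf 1018)) (.node (.leaf 1288) (.leaf 2011))))) (.node (.node (.node (.node (.leaf 120) (.leaf 1239)) (.node (.leaf 919) (.leaf 1636))) (.node (.node (.leaf 551) (.leaf 955)) (.node (.leaf 1228) (.leaf 1614)))) (.node (.node (.node (.leaf 305) (.leaf 845)) (.node (.leaf 1068) (.leaf 1705))) (.node (.node (.leaf 732) (.leaf 1785)) (.node (.leaf 624) (.leaf 1853)))))) (.node (.node (.node (.node (.node (.leaf 21) (.leaf 709)) (.node (.leaf 327) (.leaf 1490))) (.node (.node (.leaf 497) (.leaf 1670)) (.node (.leaf 1199) (.leaf 1914)))) (.node (.node (.node (.leaf 97) (.leaf 1201)) (.node (.leaf 416) (.leaf 1736))) (.node (.node (.leaf 406) (.leaf 1438)) (.node (.leaf 606) (.leaf 2035))))) (.node (.node (.node (.node (.leaf 176) (.leaf 1437)) (.node (.leaf 957) (.leaf 1290))) (.node (.node (.leaf 225) (.leaf 986)) (.node (.leaf 1249) (.leaf 1660)))) (.node (.node (.node (.leaf 383) (.leaf 872)) (.node (.leaf 1113) (.leaf 1947))) (.node (.node (.leaf 768) (.leaf 1116)) (.node (.leaf 1396) (.leaf 1943))))))) (.node (.node (.node (.node (.node (.node (.node (.leaf 42) (.leaf 2067))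 (.leaf 1365)) (.node (.leaf 849) (.leaf 1505))) (.node (.node (.leaf 472) (.leaf 1502)) (.node (.leaf 493) (.leaf 1520)))) (.node (.node (.node (.leaf 248) (.leaf 1054)) (.node (.leaf 407) (.leaf 1910))) (.node (.node (.leaf 663) (.leaf 1745)) (.node (.leaf 583) (.leaf 2023))))) (.node (.node (.node (.node (.leaf 50) (.leaf 1194)) (.node (.leaf 363) (.leaf 1272))) (.node (.node (.leaf 202) (.leaf 1246)) (.node (.leaf 550) (.leaf 1857)))) (.node (.node (.node (.leaf 361) (.leaf 1095)) (.node (.leaf 449) (.leaf 1938))) (.node (.node (.leaf 387) (.leaf 1714)) (.node (.leaf 1381) (.leaf 2010)))))) (.node (.node (.node (.node (.node (.leaf 31) (.leaf 1289)) (.node (.leaf 897) (.leaf 1583))) (.node (.node (.leaf 507) (.leaf 937)) (.node (.leaf 519) (.leaf 1743)))) (.node (.node (.node (.leaf 310) (.leaf 811)) (.node (.leaf 1049) (.leaf 1925))) (.node (.node (.leaf 710) (.leaf 1066)) (.node (.leaf 612) (.leaf 1828))))) (.node (.node (.node (.node (.leaf 72) (.leaf 1518)) (.node (.leaf 783) (.leaf 1797))) (.node (.node (.leaf 250) (.leaf 1015)) (.node (.leaf 574) (.leaf 1689)))) (.node (.node (.node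 (.leaf 414) (.leaf 904)) (.node (.leaf 636) (.leaf 1958))) (.node (.node (.leaf 803) (.leaf 1134)) (.node (.leaf 1399) (.leaf 1983)))))))) (.node (.node (.node (.node (.node (.node (.node (.node (.leaf 8) (.leaf 2031)) (.leaf 1429)) (.node (.leaf 812) (.leaf 1834))) (.node (.node (.leaf 457) (.leaf 907)) (.node (.leaf 631) (.leaf 1584)))) (.node (.node (.node (.leaf 241) (.leaf 786)) (.node (.leaf 1011) (.leaf 1674))) (.node (.node (.leaf 651) (.leaf 1034)) (.node (.leaf 892) (.leaf 1739))))) (.node (.node (.node (.node (.leaf 79) (.leaf 1501)) (.node (.leaf 381) (.leaf 1263))) (.node (.node (.leaf 198) (.leaf 962)) (.node (.leaf 1242) (.leaf 1619)))) (.node (.node (.node (.leaf 354) (.leaf 1595)) (.node (.leaf 445) (.leaf 1847))) (.node (.node (.leaf 749) (.leaf 1757)) (.node (.leaf 637) (.leaf 2051)))))) (.node (.node (.node (.node (.node (.leaf 80) (.leaf 713)) (.node (.leaf 336) (.leaf 1591))) (.node (.node (.leaf 511) (.leaf 1327)) (.node (.leaf 1010) (.leaf 1841)))) (.node (.node (.node (.leaf 297) (.leaf 807)) (.node (.leaf 964) (.leaf 1370))) (.node (.node (.leaf 698) (.leaf 1455)) (.node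 (.leaf 1342) (.leaf 1894))))) (.node (.node (.node (.node (.leaf 189) (.leaf 762)) (.node (.leaf 969) (.leaf 1877))) (.node (.node (.leaf 598) (.leaf 992)) (.node (.leaf 1173) (.leaf 2014)))) (.node (.node (.node (.leaf 144) (.leaf 1615)) (.node (.leaf 1120) (.leaf 1464))) (.node (.node (.leaf 776) (.leaf 1128)) (.node (.leaf 664) (.leaf 2063))))))) (.node (.node (.node (.node (.node (.node (.node (.leaf 55) (.leaf 2078)) (.leaf 702)) (.node (.leaf 861) (.leaf 1843))) (.node (.node (.leaf 173) (.leaf 1641)) (.node (.leaf 1184) (.leaf 1534)))) (.node (.node (.node (.leaf 270) (.leaf 797)) (.node (.leaf 411) (.leaf 1547))) (.node (.node (.leaf 675) (.leaf 1046)) (.node (.leaf 594) (.leaf 2027))))) (.node (.node (.node (.node (.leaf 160) (.leaf 1509)) (.node (.leaf 369) (.leaf 1876))) (.node (.node (.leaf 584) (.leaf 1096)) (.node (.leaf 572) (.leaf 2009)))) (.node (.node (.node (.leaf 377) (.leaf 1170)) (.node (.leaf 1102) (.leaf 1709))) (.node (.node (.leaf 769) (.leaf 1808)) (.node (.leaf 1390) (.leaf 2057)))))) (.node (.node (.node (.node (.node (.leaf 63) (.leaf 723)) (.node (.leaf 906) (.leaf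 1236))) (.node (.node (.leaf 538) (.leaf 1691)) (.node (.leaf 1220) (.leaf 1620)))) (.node (.node (.node (.leaf 326) (.leaf 821)) (.node (.leaf 435) (.leaf 1888))) (.node (.node (.leaf 722) (.leaf 1072)) (.node (.leaf 1361) (.leaf 2039))))) (.node (.node (.node (.node (.leaf 75) (.leaf 772)) (.node (.leaf 985) (.leaf 1707))) (.node (.node (.leaf 231) (.leaf 1013)) (.node (.leaf 573) (.leaf 2019)))) (.node (.node (.node (.leaf 417) (.leaf 1301)) (.node (.leaf 733) (.leaf 1478))) (.node (.node (.leaf 303) (.leaf 1141)) (.node (.leaf 1160) (.leaf 1995)))))))))))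

/-- A table. -/
noncomputable def fixOrbNext3 : BTree := .node fixOrbNext3L fixOrbNext3R

/-- Part of a table. -/
noncomputable def fixOrbNext4L : BTree := (.node (.node (.node (.node (.node (.node (.node (.node (.node (.node (.node (.leaf 0) (.leaf 1994)) (.leaf 1416)) (.node (.leaf 820) (.leaf 1386))) (.node (.node (.leaf 425) (.leaf 892)) (.node (.leaf 478) (.leaf 1810)))) (.node (.node (.node (.leaf 213) (.leaf 776)) (.node (.leaf 987) (.leaf 1887))) (.node (.node (.leaf 632) (.leaf 1729)) (.node (.leaf 1272) (.leaf 1886))))) (.node (.node (.node (.node (.leaf 110) (.leaf 724)) (.node (.leaf 352) (.leaf 1236))) (.node (.node (.leaf 541) (.leaf 947)) (.node (.leaf 1223) (.leaf 1597)))) (.node (.node (.node (.leaf 328) (.leaf 822)) (.node (.leaf 435) (.leaf 1414))) (.node (.node (.leaf 725) (.leaf 1073)) (.node (.leaf 1355) (.leaf 2022)))))) (.node (.node (.node (.node (.node (.leaf 58) (.leaf 702)) (.node (.leaf 850) (.leaf 1845))) (.node (.node (.leaf 482) (.leaf 1662)) (.node (.leaf 515) (.leaf 1535)))) (.node (.node (.node (.leaf 271) (.leaf 882)) (.node (.leaf 420) (.leaf 1367))) (.node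 (.node (.leaf 249) (.leaf 1738)) (.node (.leaf 594) (.leaf 2027))))) (.node (.node (.node (.node (.leaf 165) (.leaf 1515)) (.node (.leaf 946) (.leaf 1878))) (.node (.node (.leaf 576) (.leaf 1520)) (.node (.leaf 1251) (.leaf 1967)))) (.node (.node (.node (.leaf 378) (.leaf 1606)) (.node (.leaf 1103) (.leaf 1936))) (.node (.node (.leaf 291) (.leaf 1809)) (.node (.leaf 1385) (.leaf 1908))))))) (.node (.node (.node (.node (.node (.node (.node (.leaf 16) (.leaf 2064)) (.leaf 1431)) (.node (.leaf 829) (.leaf 1835))) (.node (.node (.leaf 458) (.leaf 922)) (.node (.leaf 488) (.leaf 1583)))) (.node (.node (.node (.leaf 242) (.leaf 1554)) (.node (.leaf 1013) (.leaf 1903))) (.node (.node (.leaf 652) (.leaf 1041)) (.node (.leaf 578) (.leaf 1760))))) (.node (.node (.node (.node (.leaf 134) (.leaf 737)) (.node (.leaf 445) (.leaf 1264))) (.node (.node (.leaf 199) (.leaf 1697)) (.node (.leaf 534) (.leaf 1854)))) (.node (.node (.node (.leaf 355) (.leaf 1596)) (.node (.leaf 1080) (.leaf 1939))) (.node (.node (.leaf 741) (.leaf 1086)) (.node (.leaf 1373) (.leaf 2052)))))) (.node (.node (.node (.node (.node (.leaf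 83) (.leaf 714)) (.node (.leaf 337) (.leaf 1210))) (.node (.node (.leaf 513) (.leaf 1676)) (.node (.leaf 1198) (.leaf 1562)))) (.node (.node (.node (.leaf 106) (.leaf 817)) (.node (.leaf 1030) (.leaf 1371))) (.node (.node (.leaf 257) (.leaf 1768)) (.node (.leaf 1343) (.leaf 1805))))) (.node (.node (.node (.node (.leaf 187) (.leaf 763)) (.node (.leaf 380) (.leaf 1891))) (.node (.node (.leaf 606) (.leaf 993)) (.node (.leaf 558) (.leaf 1681)))) (.node (.node (.node (.leaf 397) (.leaf 1616)) (.node (.leaf 1121) (.leaf 1465))) (.node (.node (.leaf 495) (.leaf 1376)) (.node (.leaf 1403) (.leaf 1963)))))))) (.node (.node (.node (.node (.node (.node (.node (.node (.leaf 8) (.leaf 2012)) (.leaf 690)) (.node (.leaf 312) (.leaf 1173))) (.node (.node (.leaf 443) (.leaf 1345)) (.node (.leaf 1152) (.leaf 1502)))) (.node (.node (.node (.leaf 81) (.leaf 1546)) (.node (.leaf 402) (.leaf 1901))) (.node (.node (.leaf 234) (.leaf 1024)) (.node (.leaf 582) (.leaf 2021))))) (.node (.node (.node (.node (.leaf 42) (.leaf 733)) (.node (.leaf 921) (.leaf 1254))) (.node (.node (.leaf 192) (.leaf 968)) (.node (.leaf 1230)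 (.leaf 1966)))) (.node (.node (.node (.leaf 120) (.leaf 866)) (.node (.leaf 1069) (.leaf 1848))) (.node (.node (.leaf 273) (.leaf 1790)) (.node (.leaf 1352) (.leaf 1850)))))) (.node (.node (.node (.node (.node (.leaf 23) (.leaf 709)) (.node (.leaf 873) (.leaf 1199))) (.node (.node (.leaf 499) (.leaf 1671)) (.node (.leaf 1202) (.leaf 1932)))) (.node (.node (.node (.leaf 98) (.leaf 803)) (.node (.leaf 1033) (.leaf 1578))) (.node (.node (.leaf 255) (.leaf 1053)) (.node (.leaf 1332) (.leaf 1785))))) (.node (.node (.node (.node (.leaf 177) (.leaf 977)) (.node (.leaf 955) (.leaf 1816))) (.node (.node (.leaf 596) (.leaf 986)) (.node (.leaf 1256) (.leaf 1661)))) (.node (.node (.node (.leaf 388) (.leaf 872)) (.node (.leaf 1111) (.leaf 1456))) (.node (.node (.leaf 784) (.leaf 1762)) (.node (.leaf 1100) (.leaf 1946))))))) (.node (.node (.node (.node (.node (.node (.node (.leaf 13) (.leaf 2079)) (.leaf 825)) (.node (.leaf 323) (.leaf 1183))) (.node (.node (.leaf 473) (.leaf 1650)) (.node (.leaf 494) (.leaf 1640)))) (.node (.node (.node (.leaf 254) (.leaf 790)) (.node (.leaf 628) (.leaf 1342))) (.node (.node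 (.leaf 661) (.leaf 1746)) (.node (.leaf 1292) (.leaf 1791))))) (.node (.node (.node (.node (.leaf 51) (.leaf 745)) (.node (.leaf 369) (.leaf 1283))) (.node (.node (.leaf 209) (.leaf 1175)) (.node (.leaf 1249) (.leaf 1977)))) (.node (.node (.node (.leaf 367) (.leaf 846)) (.node (.leaf 450) (.leaf 1943))) (.node (.node (.leaf 281) (.leaf 1102)) (.node (.leaf 1380) (.leaf 2020)))))) (.node (.node (.node (.node (.node (.leaf 31) (.leaf 720)) (.node (.leaf 889) (.leaf 1268))) (.node (.node (.leaf 520) (.leaf 941)) (.node (.leaf 1189) (.leaf 1736)))) (.node (.node (.node (.leaf 308) (.leaf 1569)) (.node (.leaf 1051) (.leaf 1391))) (.node (.node (.leaf 713) (.leaf 1067)) (.node (.leaf 621) (.leaf 1827))))) (.node (.node (.node (.node (.leaf 200) (.leaf 1538)) (.node (.leaf 384) (.leaf 1892))) (.node (.node (.leaf 612) (.leaf 1725)) (.node (.leaf 567) (.leaf 1690)))) (.node (.node (.node (.leaf 415) (.leaf 896)) (.node (.leaf 475) (.leaf 1474))) (.node (.node (.leaf 302) (.leaf 1140)) (.node (.leaf 1412) (.leaf 2010))))))))) (.node (.node (.node (.node (.node (.node (.node (.node (.node (.leaf 4) (.leaf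 2000)) (.leaf 687)) (.node (.leaf 801) (.leaf 1146))) (.node (.node (.leaf 436) (.leaf 897)) (.node (.leaf 491) (.leaf 1723)))) (.node (.node (.node (.leaf 78) (.leaf 1420)) (.node (.leaf 988) (.leaf 1897))) (.node (.node (.leaf 232) (.leaf 1016)) (.node (.leaf 1286) (.leaf 1985))))) (.node (.node (.node (.node (.leaf 117) (.leaf 998)) (.node (.leaf 349) (.leaf 1239))) (.node (.node (.leaf 227) (.leaf 1027)) (.node (.leaf 694) (.leaf 1794)))) (.node (.node (.node (.leaf 115) (.leaf 1589)) (.node (.leaf 446) (.leaf 1406))) (.node (.node (.leaf 731) (.leaf 1782)) (.node (.leaf 1191) (.leaf 1911)))))) (.node (.node (.node (.node (.node (.leaf 63) (.leaf 705)) (.node (.leaf 853) (.leaf 1731))) (.node (.node (.leaf 173) (.leaf 1666)) (.node (.leaf 507) (.leaf 1539)))) (.node (.node (.node (.leaf 279) (.leaf 823)) (.node (.leaf 423) (.leaf 1363))) (.node (.node (.leaf 672) (.leaf 1190)) (.node (.leaf 1324) (.leaf 1956))))) (.node (.node (.node (.node (.leaf 57) (.leaf 754)) (.node (.leaf 376) (.leaf 1875))) (.node (.node (.leaf 572) (.leaf 984)) (.node (.leaf 1252) (.leaf 1656)))) (.node (.node (.node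 (.leaf 383) (.leaf 868)) (.node (.leaf 463) (.leaf 1945))) (.node (.node (.leaf 774) (.leaf 1107)) (.node (.leaf 647) (.leaf 2008))))))) (.node (.node (.node (.node (.node (.node (.node (.leaf 20) (.leaf 2078)) (.leaf 684)) (.node (.leaf 847) (.leaf 1625))) (.node (.node (.leaf 465) (.leaf 1501)) (.node (.leaf 1149) (.leaf 1513)))) (.node (.node (.node (.leaf 245) (.leaf 1543)) (.node (.leaf 1003) (.leaf 1334))) (.node (.node (.leaf 650) (.leaf 1741)) (.node (.leaf 1287) (.leaf 2023))))) (.node (.node (.node (.node (.leaf 143) (.leaf 739)) (.node (.leaf 360) (.leaf 1267))) (.node (.node (.leaf 202) (.leaf 1694)) (.node (.leaf 1244) (.leaf 1630)))) (.node (.node (.node (.leaf 361) (.leaf 1600)) (.node (.leaf 1088) (.leaf 1434))) (.node (.node (.leaf 751) (.leaf 1396)) (.node (.leaf 1377) (.leaf 1869)))))) (.node (.node (.node (.node (.node (.leaf 29) (.leaf 717)) (.node (.leaf 342) (.leaf 1219))) (.node (.node (.leaf 184) (.leaf 936)) (.node (.leaf 512) (.leaf 1929)))) (.node (.node (.node (.leaf 298) (.leaf 1361)) (.node (.leaf 835) (.leaf 1825))) (.node (.node (.leaf 260) (.leaf 1770)) (.node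 (.leaf 619) (.leaf 1890))))) (.node (.node (.node (.node (.leaf 67) (.leaf 1528)) (.node (.leaf 664) (.leaf 1647))) (.node (.node (.leaf 220) (.leaf 1492)) (.node (.leaf 1266) (.leaf 2016)))) (.node (.node (.node (.leaf 407) (.leaf 1592)) (.node (.leaf 469) (.leaf 1780))) (.node (.node (.leaf 335) (.leaf 1817)) (.node (.leaf 1411) (.leaf 2029)))))))) (.node (.node (.node (.node (.node (.node (.node (.node (.leaf 5) (.leaf 2076)) (.leaf 683)) (.node (.leaf 837) (.leaf 1833))) (.node (.node (.leaf 158) (.leaf 920)) (.node (.leaf 1162) (.leaf 1724)))) (.node (.node (.node (.leaf 82) (.leaf 783)) (.node (.leaf 400) (.leaf 1328))) (.node (.node (.leaf 646) (.leaf 1156)) (.node (.leaf 586) (.leaf 1832))))) (.node (.node (.node (.node (.leaf 129) (.leaf 1000)) (.node (.leaf 910) (.leaf 1258))) (.node (.node (.leaf 329) (.leaf 961)) (.node (.leaf 1238) (.leaf 1617)))) (.node (.node (.node (.leaf 123) (.leaf 1449)) (.node (.leaf 442) (.leaf 1442))) (.node (.node (.leaf 743) (.leaf 1763)) (.node (.leaf 1163) (.leaf 2035)))))) (.node (.node (.node (.node (.node (.leaf 77) (.leaf 1463)) (.node (.leaf 877)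 (.leaf 1852))) (.node (.node (.leaf 178) (.leaf 932)) (.node (.leaf 1194) (.leaf 1555)))) (.node (.node (.node (.leaf 101) (.leaf 1573)) (.node (.leaf 1044) (.leaf 1914))) (.node (.node (.leaf 427) (.leaf 1766)) (.node (.leaf 1338) (.leaf 2033))))) (.node (.node (.node (.node (.leaf 182) (.leaf 1523)) (.node (.leaf 950) (.leaf 1699))) (.node (.node (.leaf 601) (.leaf 995)) (.node (.leaf 1260) (.leaf 1673)))) (.node (.node (.node (.leaf 395) (.leaf 876)) (.node (.leaf 462) (.leaf 1951))) (.node (.node (.leaf 294) (.leaf 1122)) (.node (.leaf 654) (.leaf 1955))))))) (.node (.node (.node (.node (.node (.node (.node (.leaf 15) (.leaf 2060)) (.leaf 698)) (.node (.leaf 858) (.leaf 1595))) (.node (.node (.leaf 170) (.leaf 1658)) (.node (.leaf 1182) (.leaf 1534)))) (.node (.node (.node (.leaf 263) (.leaf 985)) (.node (.leaf 857) (.leaf 1346))) (.node (.node (.leaf 611) (.leaf 1755)) (.node (.leaf 590) (.leaf 1769))))) (.node (.node (.node (.node (.leaf 155) (.leaf 746)) (.node (.leaf 366) (.leaf 1276))) (.node (.node (.leaf 207) (.leaf 1713)) (.node (.leaf 542) (.leaf 1922)))) (.node (.node (.node (.leaf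 372) (.leaf 852)) (.node (.leaf 1098) (.leaf 1913))) (.node (.node (.leaf 761) (.leaf 1799)) (.node (.leaf 644) (.leaf 2056)))))) (.node (.node (.node (.node (.node (.leaf 102) (.leaf 721)) (.node (.leaf 356) (.leaf 1232))) (.node (.node (.leaf 535) (.leaf 1685)) (.node (.leaf 526) (.leaf 1580)))) (.node (.node (.node (.leaf 113) (.leaf 819)) (.node (.leaf 1020) (.leaf 1804))) (.node (.node (.leaf 718) (.leaf 1778)) (.node (.leaf 617) (.leaf 1821))))) (.node (.node (.node (.node (.leaf 205) (.leaf 787)) (.node (.leaf 979) (.leaf 1310))) (.node (.node (.leaf 624) (.leaf 1009)) (.node (.leaf 1280) (.leaf 1710)))) (.node (.node (.node (.leaf 414) (.leaf 1628)) (.node (.leaf 1138) (.leaf 1959))) (.node (.node (.leaf 805) (.leaf 1139)) (.node (.leaf 700) (.leaf 2070)))))))))) (.node (.node (.node (.node (.node (.node (.node (.node (.node (.node (.leaf 2) (.leaf 1998)) (.leaf 1087)) (.node (.leaf 799) (.leaf 1144))) (.node (.node (.leaf 434) (.leaf 1222)) (.node (.leaf 489) (.leaf 1860)))) (.node (.node (.node (.leaf 219) (.leaf 778)) (.node (.leaf 393) (.leaf 1316))) (.node (.node (.leaf 230) (.leaf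 1011)) (.node (.leaf 1274) (.leaf 1884))))) (.node (.node (.node (.node (.leaf 66) (.leaf 727)) (.node (.leaf 912) (.leaf 1237))) (.node (.node (.leaf 189) (.leaf 1692)) (.node (.leaf 523) (.leaf 1599)))) (.node (.node (.node (.leaf 331) (.leaf 1586)) (.node (.leaf 437) (.leaf 1409))) (.node (.node (.leaf 728) (.leaf 1784)) (.node (.leaf 618) (.leaf 1862)))))) (.node (.node (.node (.node (.node (.leaf 61) (.leaf 1454)) (.node (.leaf 851) (.leaf 1209))) (.node (.node (.leaf 479) (.leaf 1645)) (.node (.leaf 517) (.leaf 1717)))) (.node (.node (.node (.leaf 95) (.leaf 821)) (.node (.leaf 421) (.leaf 1362))) (.node (.node (.leaf 678) (.leaf 1740)) (.node (.leaf 595) (.leaf 1961))))) (.node (.node (.node (.node (.leaf 168) (.leaf 1516)) (.node (.leaf 375) (.leaf 1587))) (.node (.node (.leaf 589) (.leaf 981)) (.node (.leaf 1224) (.leaf 1972)))) (.node (.node (.node (.leaf 135) (.leaf 1601)) (.node (.leaf 461) (.leaf 1512))) (.node (.node (.leaf 288) (.leaf 1607)) (.node (.leaf 1387) (.leaf 2018))))))) (.node (.node (.node (.node (.node (.node (.node (.leaf 9) (.leaf 2047)) (.leaf 1435)) (.node (.leaf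 831) (.leaf 1168))) (.node (.node (.leaf 457) (.leaf 1649)) (.node (.leaf 1147) (.leaf 1792)))) (.node (.node (.node (.leaf 86) (.leaf 1542)) (.node (.leaf 403) (.leaf 1330))) (.node (.node (.leaf 648) (.leaf 1043)) (.node (.leaf 1307) (.leaf 1742))))) (.node (.node (.node (.node (.leaf 140) (.leaf 1507)) (.node (.leaf 928) (.leaf 1870))) (.node (.node (.leaf 561) (.leaf 1698)) (.node (.leaf 544) (.leaf 1802)))) (.node (.node (.node (.leaf 345) (.leaf 1557)) (.node (.leaf 1085) (.leaf 1432))) (.node (.node (.leaf 277) (.leaf 1089)) (.node (.leaf 1129) (.leaf 1867)))))) (.node (.node (.node (.node (.node (.leaf 27) (.leaf 1470)) (.node (.leaf 886) (.leaf 1218))) (.node (.node (.leaf 502) (.leaf 1682)) (.node (.leaf 511) (.leaf 1990)))) (.node (.node (.node (.leaf 300) (.leaf 808)) (.node (.leaf 1032) (.leaf 1814))) (.node (.node (.leaf 258) (.leaf 1063)) (.node (.leaf 608) (.leaf 2039))))) (.node (.node (.node (.node (.leaf 193) (.leaf 764)) (.node (.leaf 666) (.leaf 1304))) (.node (.node (.leaf 221) (.leaf 1722)) (.node (.leaf 1184) (.leaf 1679)))) (.node (.node (.node (.leaf 144) (.leaf 884))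 (.node (.leaf 1124) (.leaf 1468))) (.node (.node (.leaf 797) (.leaf 1131)) (.node (.leaf 1405) (.leaf 1965)))))))) (.node (.node (.node (.node (.node (.node (.node (.node (.leaf 10) (.leaf 2017)) (.leaf 681)) (.node (.leaf 314) (.leaf 1160))) (.node (.node (.leaf 449) (.leaf 918)) (.node (.leaf 1154) (.leaf 1874)))) (.node (.node (.node (.leaf 229) (.leaf 780)) (.node (.leaf 404) (.leaf 1841))) (.node (.node (.leaf 641) (.leaf 1201)) (.node (.leaf 1294) (.leaf 1734))))) (.node (.node (.node (.node (.leaf 121) (.leaf 732)) (.node (.leaf 908) (.leaf 1861))) (.node (.node (.leaf 554) (.leaf 959)) (.node (.leaf 529) (.leaf 1999)))) (.node (.node (.node (.leaf 340) (.leaf 1559)) (.node (.leaf 1072) (.leaf 1440))) (.node (.node (.leaf 272) (.leaf 1081)) (.node (.leaf 826) (.leaf 2048)))))) (.node (.node (.node (.node (.node (.leaf 72) (.leaf 710)) (.node (.leaf 330) (.leaf 1704))) (.node (.node (.leaf 180) (.leaf 929)) (.node (.leaf 506) (.leaf 1711)))) (.node (.node (.node (.leaf 284) (.leaf 812)) (.node (.leaf 1035) (.leaf 1919))) (.node (.node (.leaf 693) (.leaf 1765)) (.node (.leaf 603) (.leaf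 2031))))) (.node (.node (.node (.node (.leaf 176) (.leaf 759)) (.node (.leaf 962) (.leaf 1883))) (.node (.node (.leaf 598) (.leaf 1536)) (.node (.leaf 1257) (.leaf 1667)))) (.node (.node (.node (.leaf 392) (.leaf 1612)) (.node (.leaf 1116) (.leaf 1460))) (.node (.node (.leaf 771) (.leaf 1117)) (.node (.leaf 1399) (.leaf 1949))))))) (.node (.node (.node (.node (.node (.node (.node (.leaf 26) (.leaf 2051)) (.leaf 1126)) (.node (.leaf 855) (.leaf 1840))) (.node (.node (.leaf 166) (.leaf 1657)) (.node (.leaf 497) (.leaf 1527)))) (.node (.node (.node (.leaf 259) (.leaf 1558)) (.node (.leaf 626) (.leaf 1912))) (.node (.node (.leaf 670) (.leaf 1748)) (.node (.leaf 1296) (.leaf 2024))))) (.node (.node (.node (.node (.leaf 53) (.leaf 1443)) (.node (.leaf 939) (.leaf 1285))) (.node (.node (.leaf 211) (.leaf 974)) (.node (.leaf 540) (.leaf 1975)))) (.node (.node (.node (.leaf 131) (.leaf 1213)) (.node (.leaf 453) (.leaf 1935))) (.node (.node (.leaf 762) (.leaf 1803)) (.node (.leaf 1384) (.leaf 2040)))))) (.node (.node (.node (.node (.node (.leaf 32) (.leaf 1485)) (.node (.leaf 902) (.leaf 1229))) (.node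 (.node (.leaf 522) (.leaf 940)) (.node (.leaf 970) (.leaf 1992)))) (.node (.node (.node (.leaf 317) (.leaf 1584)) (.node (.leaf 1052) (.leaf 1394))) (.node (.node (.leaf 716) (.leaf 1775)) (.node (.leaf 623) (.leaf 1819))))) (.node (.node (.node (.node (.leaf 73) (.leaf 1540)) (.node (.leaf 757) (.leaf 1308))) (.node (.node (.leaf 224) (.leaf 1007)) (.node (.leaf 569) (.leaf 1708)))) (.node (.node (.node (.leaf 411) (.leaf 898)) (.node (.leaf 474) (.leaf 1957))) (.node (.node (.leaf 810) (.leaf 1331)) (.node (.leaf 971) (.leaf 2007))))))))) (.node (.node (.node (.node (.node (.node (.node (.node (.node (.leaf 6) (.leaf 2001)) (.leaf 688)) (.node (.leaf 827) (.leaf 1170))) (.node (.node (.leaf 441) (.leaf 900)) (.node (.leaf 484) (.leaf 1859)))) (.node (.node (.node (.leaf 80) (.leaf 775)) (.node (.leaf 396) (.leaf 1321))) (.node (.node (.leaf 391) (.leaf 1728)) (.node (.leaf 570) (.leaf 1726))))) (.node (.node (.node (.node (.leaf 119) (.leaf 729)) (.node (.leaf 904) (.leaf 1248))) (.node (.node (.leaf 550) (.leaf 965)) (.node (.leaf 1227) (.leaf 1986)))) (.node (.node (.node (.leaf 118) (.leaf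 1282)) (.node (.leaf 1066) (.leaf 1930))) (.node (.node (.leaf 269) (.leaf 1078)) (.node (.leaf 1151) (.leaf 1842)))))) (.node (.node (.node (.node (.node (.leaf 38) (.leaf 1457)) (.node (.leaf 326) (.leaf 1575))) (.node (.node (.leaf 492) (.leaf 1669)) (.node (.leaf 509) (.leaf 1613)))) (.node (.node (.node (.leaf 282) (.leaf 1444)) (.node (.leaf 418) (.leaf 1358))) (.node (.node (.leaf 675) (.leaf 1115)) (.node (.leaf 1329) (.leaf 1787))))) (.node (.node (.node (.node (.leaf 60) (.leaf 1050)) (.node (.leaf 373) (.leaf 1693))) (.node (.node (.leaf 593) (.leaf 1715)) (.node (.leaf 1253) (.leaf 2011)))) (.node (.node (.node (.leaf 386) (.leaf 1608)) (.node (.leaf 459) (.leaf 1452))) (.node (.node (.leaf 782) (.leaf 1761)) (.node (.leaf 1092) (.leaf 1984))))))) (.node (.node (.node (.node (.node (.node (.node (.leaf 41) (.leaf 2044)) (.leaf 685)) (.node (.leaf 848) (.leaf 1178))) (.node (.node (.leaf 470) (.leaf 911)) (.node (.leaf 1176) (.leaf 1714)))) (.node (.node (.node (.leaf 89) (.leaf 1445)) (.node (.leaf 409) (.leaf 1686))) (.node (.node (.leaf 243) (.leaf 1743)) (.node (.leaf 1290) (.leaf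 1747))))) (.node (.node (.node (.node (.leaf 146) (.leaf 750)) (.node (.leaf 362) (.leaf 1281))) (.node (.node (.leaf 564) (.leaf 1545)) (.node (.leaf 1247) (.leaf 1632)))) (.node (.node (.node (.leaf 365) (.leaf 844)) (.node (.leaf 1091) (.leaf 1425))) (.node (.node (.leaf 278) (.leaf 1095)) (.node (.leaf 638) (.leaf 1877)))))) (.node (.node (.node (.node (.node (.leaf 94) (.leaf 1478)) (.node (.leaf 887) (.leaf 1623))) (.node (.node (.leaf 525) (.leaf 1684)) (.node (.leaf 1216) (.leaf 1941)))) (.node (.node (.node (.leaf 108) (.leaf 1567)) (.node (.leaf 836) (.leaf 1925))) (.node (.node (.leaf 265) (.leaf 1774)) (.node (.leaf 620) (.leaf 1813))))) (.node (.node (.node (.node (.leaf 198) (.leaf 1519)) (.node (.leaf 382) (.leaf 1303))) (.node (.node (.leaf 615) (.leaf 1499)) (.node (.leaf 562) (.leaf 1910)))) (.node (.node (.node (.leaf 149) (.leaf 894)) (.node (.leaf 471) (.leaf 1476))) (.node (.node (.leaf 306) (.leaf 1133)) (.node (.leaf 1397) (.leaf 1995)))))))) (.node (.node (.node (.node (.node (.node (.node (.node (.leaf 14) (.leaf 2067)) (.leaf 679)) (.node (.leaf 828) (.leaf 1369)))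 (.node (.node (.leaf 161) (.leaf 906)) (.node (.leaf 486) (.leaf 1969)))) (.node (.node (.node (.leaf 237) (.leaf 785)) (.node (.leaf 1004) (.leaf 1905))) (.node (.node (.leaf 241) (.leaf 1039)) (.node (.leaf 588) (.leaf 1759))))) (.node (.node (.node (.node (.leaf 132) (.leaf 1496)) (.node (.leaf 924) (.leaf 1837))) (.node (.node (.leaf 557) (.leaf 1702)) (.node (.leaf 1240) (.leaf 1618)))) (.node (.node (.node (.leaf 347) (.leaf 840)) (.node (.leaf 444) (.leaf 1938))) (.node (.node (.leaf 748) (.leaf 1447)) (.node (.leaf 1370) (.leaf 2050)))))) (.node (.node (.node (.node (.node (.leaf 79) (.leaf 1467)) (.node (.leaf 880) (.leaf 1207))) (.node (.node (.leaf 504) (.leaf 1677)) (.node (.leaf 1211) (.leaf 1987)))) (.node (.node (.node (.leaf 293) (.leaf 816)) (.node (.leaf 419) (.leaf 1916))) (.node (.node (.leaf 697) (.leaf 1058)) (.node (.leaf 1337) (.leaf 1864))))) (.node (.node (.node (.node (.leaf 64) (.leaf 765)) (.node (.leaf 953) (.leaf 1797))) (.node (.node (.leaf 604) (.leaf 1719)) (.node (.leaf 555) (.leaf 1902)))) (.node (.node (.node (.leaf 141) (.leaf 879)) (.node (.leaf 1110) (.leaf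 1462))) (.node (.node (.leaf 792) (.leaf 1375)) (.node (.leaf 1407) (.leaf 2030))))))) (.node (.node (.node (.node (.node (.node (.node (.leaf 30) (.leaf 2068)) (.leaf 1415)) (.node (.leaf 860) (.leaf 1187))) (.node (.node (.leaf 169) (.leaf 1660)) (.node (.leaf 559) (.leaf 1533)))) (.node (.node (.node (.leaf 268) (.leaf 796)) (.node (.leaf 410) (.leaf 1364))) (.node (.node (.leaf 252) (.leaf 1757)) (.node (.leaf 1317) (.leaf 1773))))) (.node (.node (.node (.node (.leaf 54) (.leaf 747)) (.node (.leaf 368) (.leaf 1876))) (.node (.node (.leaf 574) (.leaf 1261)) (.node (.leaf 591) (.leaf 1920)))) (.node (.node (.node (.leaf 371) (.leaf 1022)) (.node (.leaf 1097) (.leaf 1933))) (.node (.node (.leaf 768) (.leaf 1800)) (.node (.leaf 643) (.leaf 2014)))))) (.node (.node (.node (.node (.node (.leaf 107) (.leaf 1488)) (.node (.leaf 350) (.leaf 1857))) (.node (.node (.leaf 190) (.leaf 1688)) (.node (.leaf 1221) (.leaf 1872)))) (.node (.node (.node (.leaf 318) (.leaf 1563)) (.node (.leaf 1056) (.leaf 1926))) (.node (.node (.leaf 708) (.leaf 1074)) (.node (.leaf 1353) (.leaf 2041))))) (.node (.node (.node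 (.node (.leaf 75) (.leaf 789)) (.node (.leaf 982) (.leaf 1312))) (.node (.node (.leaf 630) (.leaf 1732)) (.node (.leaf 1270) (.leaf 1705)))) (.node (.node (.node (.leaf 152) (.leaf 891)) (.node (.leaf 1135) (.leaf 1480))) (.node (.node (.leaf 807) (.leaf 1820)) (.node (.leaf 1246) (.leaf 2071)))))))))))

/-- Part of a table. -/
noncomputable def fixOrbNext4R : BTree := (.node (.node (.node (.node (.node (.node (.node (.node (.node (.node (.node (.leaf 1) (.leaf 2073)) (.leaf 669)) (.node (.leaf 304) (.leaf 1815))) (.node (.node (.leaf 432) (.leaf 1622)) (.node (.leaf 1145) (.leaf 1481)))) (.node (.node (.node (.leaf 76) (.leaf 777)) (.node (.leaf 394) (.leaf 1315))) (.node (.node (.leaf 233) (.leaf 1730)) (.node (.leaf 1284) (.leaf 1707))))) (.node (.node (.node (.node (.leaf 111) (.leaf 1490)) (.node (.leaf 353) (.leaf 1250))) (.node (.node (.leaf 543) (.leaf 1288)) (.node (.leaf 1225) (.leaf 1598)))) (.node (.node (.node (.leaf 114) (.leaf 1245)) (.node (.leaf 1060) (.leaf 1408))) (.node (.node (.leaf 266) (.leaf 1783)) (.node (.leaf 1356) (.leaf 1924)))))) (.node (.node (.node (.node (.node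 (.leaf 17) (.leaf 703)) (.node (.leaf 359) (.leaf 1208))) (.node (.node (.leaf 487) (.leaf 1643)) (.node (.leaf 516) (.leaf 1716)))) (.node (.node (.node (.leaf 270) (.leaf 883)) (.node (.leaf 951) (.leaf 1360))) (.node (.node (.leaf 677) (.leaf 1739)) (.node (.leaf 1322) (.leaf 1777))))) (.node (.node (.node (.node (.leaf 55) (.leaf 752)) (.node (.leaf 925) (.leaf 1653))) (.node (.node (.leaf 577) (.leaf 980)) (.node (.leaf 547) (.leaf 1973)))) (.node (.node (.node (.leaf 379) (.leaf 856)) (.node (.leaf 1104) (.leaf 1510))) (.node (.node (.leaf 287) (.leaf 1807)) (.node (.leaf 1392) (.leaf 2058))))))) (.node (.node (.node (.node (.node (.node (.node (.leaf 33) (.leaf 2037)) (.leaf 1424)) (.node (.leaf 842) (.leaf 1167))) (.node (.node (.leaf 456) (.leaf 1493)) (.node (.leaf 1166) (.leaf 1504)))) (.node (.node (.node (.leaf 87) (.leaf 1541)) (.node (.leaf 999) (.leaf 1904))) (.node (.node (.leaf 653) (.leaf 1750)) (.node (.leaf 1305) (.leaf 1847))))) (.node (.node (.node (.node (.leaf 136) (.leaf 1503)) (.node (.leaf 358) (.leaf 1868))) (.node (.node (.leaf 560) (.leaf 1204)) (.node (.leaf 1243)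 (.leaf 1635)))) (.node (.node (.node (.leaf 344) (.leaf 841)) (.node (.leaf 1084) (.leaf 1423))) (.node (.node (.leaf 276) (.leaf 1417)) (.node (.leaf 1128) (.leaf 2054)))))) (.node (.node (.node (.node (.node (.leaf 85) (.leaf 1472)) (.node (.leaf 338) (.leaf 1605))) (.node (.node (.leaf 501) (.leaf 934)) (.node (.leaf 1200) (.leaf 1674)))) (.node (.node (.node (.leaf 104) (.leaf 1418)) (.node (.leaf 1031) (.leaf 1372))) (.node (.node (.leaf 701) (.leaf 1062)) (.node (.leaf 607) (.leaf 1806))))) (.node (.node (.node (.node (.leaf 188) (.leaf 1531)) (.node (.leaf 381) (.leaf 1298))) (.node (.node (.leaf 600) (.leaf 1721)) (.node (.leaf 1049) (.leaf 1678)))) (.node (.node (.node (.leaf 398) (.leaf 1619)) (.node (.leaf 839) (.leaf 1953))) (.node (.node (.leaf 794) (.leaf 1293)) (.node (.leaf 1404) (.leaf 1964)))))))) (.node (.node (.node (.node (.node (.node (.node (.node (.leaf 18) (.leaf 2057)) (.leaf 680)) (.node (.leaf 313) (.leaf 1366))) (.node (.node (.leaf 438) (.leaf 917)) (.node (.leaf 1153) (.leaf 1971)))) (.node (.node (.node (.leaf 231) (.leaf 1549)) (.node (.leaf 1001) (.leaf 1900)))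 (.node (.node (.leaf 642) (.leaf 1489)) (.node (.leaf 583) (.leaf 1844))))) (.node (.node (.node (.node (.leaf 122) (.leaf 734)) (.node (.leaf 907) (.leaf 1255))) (.node (.node (.leaf 332) (.leaf 958)) (.node (.leaf 1233) (.leaf 1615)))) (.node (.node (.node (.leaf 339) (.leaf 833)) (.node (.leaf 440) (.leaf 1547))) (.node (.node (.leaf 274) (.leaf 1793)) (.node (.leaf 1171) (.leaf 2045)))))) (.node (.node (.node (.node (.node (.leaf 22) (.leaf 1461)) (.node (.leaf 875) (.leaf 1849))) (.node (.node (.leaf 197) (.leaf 1670)) (.node (.leaf 1205) (.leaf 1548)))) (.node (.node (.node (.leaf 286) (.leaf 811)) (.node (.leaf 1034) (.leaf 1918))) (.node (.node (.leaf 256) (.leaf 1228)) (.node (.leaf 1333) (.leaf 1954))))) (.node (.node (.node (.node (.leaf 175) (.leaf 978)) (.node (.leaf 956) (.leaf 1291))) (.node (.node (.leaf 212) (.leaf 992)) (.node (.leaf 552) (.leaf 1668)))) (.node (.node (.node (.leaf 385) (.leaf 874)) (.node (.leaf 1112) (.leaf 1948))) (.node (.node (.leaf 770) (.leaf 1812)) (.node (.leaf 649) (.leaf 2025))))))) (.node (.node (.node (.node (.node (.node (.node (.leaf 45) (.leaf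 2049)) (.leaf 881)) (.node (.leaf 325) (.leaf 1263))) (.node (.node (.leaf 472) (.leaf 913)) (.node (.leaf 1179) (.leaf 1524)))) (.node (.node (.node (.leaf 91) (.leaf 791)) (.node (.leaf 695) (.leaf 1339))) (.node (.node (.leaf 662) (.leaf 1753)) (.node (.leaf 584) (.leaf 1764))))) (.node (.node (.node (.node (.leaf 150) (.leaf 1511)) (.node (.leaf 364) (.leaf 1556))) (.node (.node (.leaf 210) (.leaf 1550)) (.node (.leaf 668) (.leaf 1639)))) (.node (.node (.node (.leaf 363) (.leaf 1591)) (.node (.leaf 1094) (.leaf 1433))) (.node (.node (.leaf 280) (.leaf 1099)) (.node (.leaf 1180) (.leaf 2019)))))) (.node (.node (.node (.node (.node (.leaf 100) (.leaf 1482)) (.node (.leaf 890) (.leaf 1855))) (.node (.node (.leaf 521) (.leaf 942)) (.node (.leaf 1048) (.leaf 1577)))) (.node (.node (.node (.leaf 309) (.leaf 1570)) (.node (.leaf 430) (.leaf 1393))) (.node (.node (.leaf 262) (.leaf 1776)) (.node (.leaf 622) (.leaf 1880))))) (.node (.node (.node (.node (.leaf 74) (.leaf 769)) (.node (.leaf 975) (.leaf 1306))) (.node (.node (.leaf 613) (.leaf 1017)) (.node (.leaf 568) (.leaf 1756)))) (.node (.node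 (.node (.leaf 416) (.leaf 1379)) (.node (.leaf 476) (.leaf 1960))) (.node (.node (.leaf 303) (.leaf 1141)) (.node (.leaf 1401) (.leaf 1982))))))))) (.node (.node (.node (.node (.node (.node (.node (.node (.node (.leaf 12) (.leaf 2069)) (.leaf 1349)) (.node (.leaf 802) (.leaf 1169))) (.node (.node (.leaf 157) (.leaf 1626)) (.node (.leaf 483) (.leaf 1646)))) (.node (.node (.node (.leaf 223) (.leaf 1419)) (.node (.leaf 989) (.leaf 1318))) (.node (.node (.leaf 637) (.leaf 1733)) (.node (.leaf 1277) (.leaf 1718))))) (.node (.node (.node (.node (.leaf 39) (.leaf 1491)) (.node (.leaf 903) (.leaf 1585))) (.node (.node (.leaf 537) (.leaf 1029)) (.node (.leaf 524) (.leaf 1610)))) (.node (.node (.node (.leaf 297) (.leaf 830)) (.node (.leaf 1064) (.leaf 1413))) (.node (.node (.leaf 730) (.leaf 1077)) (.node (.leaf 1350) (.leaf 1839)))))) (.node (.node (.node (.node (.node (.leaf 37) (.leaf 707)) (.node (.leaf 869) (.leaf 1196))) (.node (.node (.leaf 174) (.leaf 926)) (.node (.leaf 508) (.leaf 1983)))) (.node (.node (.node (.leaf 96) (.leaf 824)) (.node (.leaf 417) (.leaf 1923))) (.node (.node (.leaf 674)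 (.leaf 1174)) (.node (.leaf 597) (.leaf 1786))))) (.node (.node (.node (.node (.leaf 172) (.leaf 1439)) (.node (.leaf 377) (.leaf 1691))) (.node (.node (.leaf 573) (.leaf 1159)) (.node (.leaf 549) (.leaf 1655)))) (.node (.node (.node (.leaf 138) (.leaf 870)) (.node (.leaf 464) (.leaf 1450))) (.node (.node (.leaf 781) (.leaf 1109)) (.node (.leaf 1395) (.leaf 1928))))))) (.node (.node (.node (.node (.node (.node (.node (.leaf 11) (.leaf 2053)) (.leaf 1437)) (.node (.leaf 315) (.leaf 1234))) (.node (.node (.leaf 466) (.leaf 1651)) (.node (.leaf 1150) (.leaf 1974)))) (.node (.node (.node (.leaf 246) (.leaf 1544)) (.node (.leaf 408) (.leaf 1340))) (.node (.node (.leaf 651) (.leaf 1751)) (.node (.leaf 1289) (.leaf 1846))))) (.node (.node (.node (.node (.leaf 49) (.leaf 1509)) (.node (.leaf 933) (.leaf 1683))) (.node (.node (.leaf 563) (.leaf 1695)) (.node (.leaf 548) (.leaf 2006)))) (.node (.node (.node (.leaf 128) (.leaf 1602)) (.node (.leaf 448) (.leaf 1571))) (.node (.node (.leaf 756) (.leaf 1297)) (.node (.leaf 1378) (.leaf 1871)))))) (.node (.node (.node (.node (.node (.leaf 90) (.leaf 1477))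 (.node (.leaf 893) (.leaf 1220))) (.node (.node (.leaf 185) (.leaf 937)) (.node (.leaf 1186) (.leaf 1568)))) (.node (.node (.node (.leaf 299) (.leaf 809)) (.node (.leaf 426) (.leaf 1826))) (.node (.node (.leaf 706) (.leaf 1065)) (.node (.leaf 671) (.leaf 1889))))) (.node (.node (.node (.node (.leaf 68) (.leaf 1529)) (.node (.leaf 863) (.leaf 1633))) (.node (.node (.leaf 614) (.leaf 1014)) (.node (.leaf 1269) (.leaf 1909)))) (.node (.node (.node (.leaf 148) (.leaf 885)) (.node (.leaf 634) (.leaf 1475))) (.node (.node (.leaf 305) (.leaf 1335)) (.node (.leaf 656) (.leaf 2065)))))))) (.node (.node (.node (.node (.node (.node (.node (.node (.leaf 24) (.leaf 2061)) (.leaf 1427)) (.node (.leaf 310) (.leaf 1161))) (.node (.node (.leaf 454) (.leaf 1521)) (.node (.leaf 485) (.leaf 1968)))) (.node (.node (.node (.leaf 238) (.leaf 1551)) (.node (.leaf 401) (.leaf 1326))) (.node (.node (.leaf 240) (.leaf 1047)) (.node (.leaf 1299) (.leaf 1758))))) (.node (.node (.node (.node (.leaf 44) (.leaf 1495)) (.node (.leaf 354) (.leaf 1830))) (.node (.node (.leaf 195) (.leaf 1295)) (.node (.leaf 531) (.leaf 2004))))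 (.node (.node (.node (.leaf 124) (.leaf 1594)) (.node (.leaf 1076) (.leaf 1428))) (.node (.node (.leaf 738) (.leaf 1082)) (.node (.leaf 631) (.leaf 1863)))))) (.node (.node (.node (.node (.node (.leaf 25) (.leaf 712)) (.node (.leaf 334) (.leaf 1853))) (.node (.node (.leaf 179) (.leaf 931)) (.node (.leaf 1195) (.leaf 1614)))) (.node (.node (.node (.leaf 292) (.leaf 815)) (.node (.leaf 1046) (.leaf 1915))) (.node (.node (.leaf 691) (.leaf 1059)) (.node (.leaf 1336) (.leaf 2034))))) (.node (.node (.node (.node (.leaf 183) (.leaf 1526)) (.node (.leaf 952) (.leaf 1314))) (.node (.node (.leaf 214) (.leaf 991)) (.node (.leaf 556) (.leaf 1672)))) (.node (.node (.node (.leaf 142) (.leaf 1374)) (.node (.leaf 1119) (.leaf 1950))) (.node (.node (.leaf 295) (.leaf 1123)) (.node (.leaf 655) (.leaf 2036))))))) (.node (.node (.node (.node (.node (.node (.node (.leaf 52) (.leaf 2077)) (.leaf 1448)) (.node (.leaf 320) (.leaf 1323))) (.node (.node (.leaf 171) (.leaf 1659)) (.node (.leaf 498) (.leaf 1980)))) (.node (.node (.node (.leaf 261) (.leaf 795)) (.node (.leaf 1025) (.leaf 1638))) (.node (.node (.leaf 251)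 (.leaf 1045)) (.node (.leaf 609) (.leaf 2026))))) (.node (.node (.node (.node (.leaf 159) (.leaf 1514)) (.node (.leaf 943) (.leaf 1627))) (.node (.node (.leaf 580) (.leaf 976)) (.node (.leaf 667) (.leaf 1663)))) (.node (.node (.node (.leaf 370) (.leaf 1217)) (.node (.leaf 1096) (.leaf 1438))) (.node (.node (.leaf 283) (.leaf 1300)) (.node (.leaf 645) (.leaf 1899)))))) (.node (.node (.node (.node (.node (.leaf 34) (.leaf 722)) (.node (.leaf 357) (.leaf 1856))) (.node (.node (.leaf 186) (.leaf 1687)) (.node (.leaf 528) (.leaf 1581)))) (.node (.node (.node (.leaf 322) (.leaf 1242)) (.node (.leaf 433) (.leaf 1400))) (.node (.node (.leaf 592) (.leaf 1779)) (.node (.leaf 1359) (.leaf 1823))))) (.node (.node (.node (.node (.leaf 203) (.leaf 788)) (.node (.leaf 389) (.leaf 1896))) (.node (.node (.leaf 625) (.leaf 1010)) (.node (.leaf 565) (.leaf 1703)))) (.node (.node (.node (.leaf 151) (.leaf 901)) (.node (.leaf 1134) (.leaf 1479))) (.node (.node (.leaf 806) (.leaf 1822)) (.node (.leaf 1019) (.leaf 1993)))))))))) (.node (.node (.node (.node (.node (.node (.node (.node (.node (.node (.leaf 7) (.leaf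 2074)) (.leaf 1348)) (.node (.leaf 800) (.leaf 1828))) (.node (.node (.leaf 154) (.leaf 1624)) (.node (.leaf 490) (.leaf 1483)))) (.node (.node (.node (.leaf 218) (.leaf 779)) (.node (.leaf 990) (.leaf 1898))) (.node (.node (.leaf 635) (.leaf 1012)) (.node (.leaf 1275) (.leaf 1701))))) (.node (.node (.node (.node (.leaf 116) (.leaf 726)) (.node (.leaf 915) (.leaf 1811))) (.node (.node (.leaf 536) (.leaf 963)) (.node (.leaf 692) (.leaf 1798)))) (.node (.node (.node (.leaf 333) (.leaf 1588)) (.node (.leaf 1061) (.leaf 1572))) (.node (.node (.leaf 267) (.leaf 1781)) (.node (.leaf 1347) (.leaf 1838)))))) (.node (.node (.node (.node (.node (.leaf 19) (.leaf 1453)) (.node (.leaf 865) (.leaf 1749))) (.node (.node (.leaf 480) (.leaf 1665)) (.node (.leaf 1192) (.leaf 1976)))) (.node (.node (.node (.leaf 275) (.leaf 1566)) (.node (.leaf 422) (.leaf 1644))) (.node (.node (.leaf 686) (.leaf 1114)) (.node (.leaf 1325) (.leaf 2028))))) (.node (.node (.node (.node (.leaf 167) (.leaf 1517)) (.node (.leaf 412) (.leaf 1873))) (.node (.node (.leaf 208) (.leaf 1273)) (.node (.leaf 627) (.leaf 1648)))) (.node (.node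 (.node (.leaf 324) (.leaf 864)) (.node (.leaf 1108) (.leaf 1484))) (.node (.node (.leaf 773) (.leaf 1106)) (.node (.leaf 1388) (.leaf 2009))))))) (.node (.node (.node (.node (.node (.node (.node (.leaf 35) (.leaf 2062)) (.leaf 1426)) (.node (.leaf 845) (.leaf 1836))) (.node (.node (.leaf 163) (.leaf 909)) (.node (.leaf 1148) (.leaf 1603)))) (.node (.node (.node (.leaf 247) (.leaf 969)) (.node (.leaf 1015) (.leaf 1621))) (.node (.node (.leaf 658) (.leaf 1037)) (.node (.leaf 579) (.leaf 1744))))) (.node (.node (.node (.node (.leaf 48) (.leaf 1508)) (.node (.leaf 930) (.leaf 1265))) (.node (.node (.leaf 201) (.leaf 1700)) (.node (.leaf 546) (.leaf 1636)))) (.node (.node (.node (.leaf 346) (.leaf 843)) (.node (.leaf 447) (.leaf 1942))) (.node (.node (.leaf 527) (.leaf 1093)) (.node (.leaf 636) (.leaf 2055)))))) (.node (.node (.node (.node (.node (.leaf 88) (.leaf 1471)) (.node (.leaf 341) (.leaf 1634))) (.node (.node (.leaf 503) (.leaf 1530)) (.node (.leaf 1212) (.leaf 1991)))) (.node (.node (.node (.leaf 301) (.leaf 1579)) (.node (.leaf 429) (.leaf 1382))) (.node (.node (.leaf 704) (.leaf 1771))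 (.node (.leaf 1344) (.leaf 1801))))) (.node (.node (.node (.node (.leaf 196) (.leaf 1532)) (.node (.leaf 867) (.leaf 1301))) (.node (.node (.leaf 222) (.leaf 997)) (.node (.leaf 1185) (.leaf 2015)))) (.node (.node (.node (.leaf 406) (.leaf 1620)) (.node (.leaf 1127) (.leaf 1469))) (.node (.node (.leaf 296) (.leaf 1132)) (.node (.leaf 1410) (.leaf 1996)))))))) (.node (.node (.node (.node (.node (.node (.node (.node (.leaf 21) (.leaf 2075)) (.leaf 682)) (.node (.leaf 834) (.leaf 1737))) (.node (.node (.leaf 451) (.leaf 1641)) (.node (.leaf 1155) (.leaf 1498)))) (.node (.node (.node (.leaf 235) (.leaf 972)) (.node (.leaf 405) (.leaf 1327))) (.node (.node (.leaf 236) (.leaf 1157)) (.node (.leaf 585) (.leaf 1831))))) (.node (.node (.node (.node (.leaf 126) (.leaf 1497)) (.node (.leaf 923) (.leaf 1259))) (.node (.node (.leaf 194) (.leaf 960)) (.node (.leaf 1235) (.leaf 2002)))) (.node (.node (.node (.leaf 125) (.leaf 838)) (.node (.leaf 1071) (.leaf 1441))) (.node (.node (.leaf 742) (.leaf 1795)) (.node (.leaf 1018) (.leaf 2038)))))) (.node (.node (.node (.node (.node (.leaf 71) (.leaf 1464)) (.node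 (.leaf 878) (.leaf 1203))) (.node (.node (.leaf 181) (.leaf 1565)) (.node (.leaf 1193) (.leaf 1552)))) (.node (.node (.node (.leaf 285) (.leaf 813)) (.node (.leaf 1036) (.leaf 1921))) (.node (.node (.leaf 428) (.leaf 1055)) (.node (.leaf 602) (.leaf 2032))))) (.node (.node (.node (.node (.leaf 62) (.leaf 1522)) (.node (.leaf 948) (.leaf 1313))) (.node (.node (.leaf 217) (.leaf 994)) (.node (.leaf 553) (.leaf 2013)))) (.node (.node (.node (.leaf 139) (.leaf 1611)) (.node (.leaf 1118) (.leaf 1459))) (.node (.node (.leaf 772) (.leaf 1120)) (.node (.leaf 660) (.leaf 1952))))))) (.node (.node (.node (.node (.node (.node (.node (.leaf 50) (.leaf 2059)) (.leaf 696)) (.node (.leaf 327) (.leaf 1214))) (.node (.node (.leaf 477) (.leaf 914)) (.node (.leaf 1181) (.leaf 1978)))) (.node (.node (.node (.leaf 92) (.leaf 793)) (.node (.leaf 861) (.leaf 1637))) (.node (.node (.leaf 250) (.leaf 1042)) (.node (.leaf 587) (.leaf 1947))))) (.node (.node (.node (.node (.leaf 153) (.leaf 1446)) (.node (.leaf 938) (.leaf 1629))) (.node (.node (.leaf 206) (.leaf 1712)) (.node (.leaf 663) (.leaf 1642)))) (.node (.node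 (.node (.leaf 130) (.leaf 849)) (.node (.leaf 452) (.leaf 1436))) (.node (.node (.leaf 760) (.leaf 1398)) (.node (.leaf 640) (.leaf 1894)))))) (.node (.node (.node (.node (.node (.leaf 103) (.leaf 1487)) (.node (.leaf 343) (.leaf 1564))) (.node (.node (.leaf 533) (.leaf 1689)) (.node (.leaf 518) (.leaf 1735)))) (.node (.node (.node (.leaf 112) (.leaf 814)) (.node (.leaf 431) (.leaf 1796))) (.node (.node (.leaf 264) (.leaf 1070)) (.node (.leaf 616) (.leaf 2043))))) (.node (.node (.node (.node (.leaf 204) (.leaf 786)) (.node (.leaf 387) (.leaf 1309))) (.node (.node (.leaf 225) (.leaf 1008)) (.node (.leaf 1278) (.leaf 1709)))) (.node (.node (.node (.leaf 413) (.leaf 899)) (.node (.leaf 1136) (.leaf 1958))) (.node (.node (.leaf 804) (.leaf 1137)) (.node (.leaf 1021) (.leaf 1979))))))))) (.node (.node (.node (.node (.node (.node (.node (.node (.node (.leaf 3) (.leaf 2003)) (.leaf 689)) (.node (.leaf 311) (.leaf 1172))) (.node (.node (.leaf 156) (.leaf 916)) (.node (.leaf 1158) (.leaf 1500)))) (.node (.node (.node (.leaf 226) (.leaf 1381)) (.node (.leaf 996) (.leaf 1320))) (.node (.node (.leaf 390)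 (.leaf 1054)) (.node (.leaf 581) (.leaf 1727))))) (.node (.node (.node (.node (.leaf 43) (.leaf 1494)) (.node (.leaf 905) (.leaf 1506))) (.node (.node (.leaf 539) (.leaf 967)) (.node (.leaf 753) (.leaf 1997)))) (.node (.node (.node (.leaf 336) (.leaf 832)) (.node (.leaf 439) (.leaf 1851))) (.node (.node (.leaf 735) (.leaf 1789)) (.node (.leaf 1351) (.leaf 1843)))))) (.node (.node (.node (.node (.node (.leaf 69) (.leaf 1458)) (.node (.leaf 871) (.leaf 1574))) (.node (.node (.leaf 493) (.leaf 927)) (.node (.leaf 510) (.leaf 1931)))) (.node (.node (.node (.leaf 99) (.leaf 964)) (.node (.leaf 1038) (.leaf 1917))) (.node (.node (.leaf 676) (.leaf 1486)) (.node (.leaf 599) (.leaf 1788))))) (.node (.node (.node (.node (.leaf 59) (.leaf 755)) (.node (.leaf 374) (.leaf 1881))) (.node (.node (.leaf 545) (.leaf 1023)) (.node (.leaf 551) (.leaf 1879)))) (.node (.node (.node (.leaf 137) (.leaf 1609)) (.node (.leaf 460) (.leaf 1455))) (.node (.node (.leaf 289) (.leaf 1113)) (.node (.leaf 657) (.leaf 1940))))))) (.node (.node (.node (.node (.node (.node (.node (.leaf 40) (.leaf 2046)) (.leaf 1421)) (.node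 (.leaf 316) (.leaf 1226))) (.node (.node (.leaf 164) (.leaf 1654)) (.node (.leaf 1177) (.leaf 1537)))) (.node (.node (.node (.leaf 253) (.leaf 1368)) (.node (.leaf 859) (.leaf 1341))) (.node (.node (.leaf 244) (.leaf 1040)) (.node (.leaf 1311) (.leaf 1752))))) (.node (.node (.node (.node (.leaf 145) (.leaf 744)) (.node (.leaf 935) (.leaf 1590))) (.node (.node (.leaf 571) (.leaf 1696)) (.node (.leaf 538) (.leaf 1895)))) (.node (.node (.node (.leaf 127) (.leaf 1604)) (.node (.leaf 1090) (.leaf 1429))) (.node (.node (.leaf 758) (.leaf 1101)) (.node (.leaf 639) (.leaf 2042)))))) (.node (.node (.node (.node (.node (.leaf 97) (.leaf 719)) (.node (.leaf 888) (.leaf 1241))) (.node (.node (.leaf 519) (.leaf 1525)) (.node (.leaf 1188) (.leaf 1937)))) (.node (.node (.node (.leaf 109) (.leaf 1582)) (.node (.leaf 665) (.leaf 1390))) (.node (.node (.leaf 711) (.leaf 1068)) (.node (.leaf 673) (.leaf 1882))))) (.node (.node (.node (.node (.leaf 70) (.leaf 767)) (.node (.leaf 973) (.leaf 1893))) (.node (.node (.leaf 610) (.leaf 1002)) (.node (.leaf 566) (.leaf 1988)))) (.node (.node (.node (.leaf 147) (.leaf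 895)) (.node (.leaf 1130) (.leaf 1473))) (.node (.node (.leaf 307) (.leaf 1818)) (.node (.leaf 659) (.leaf 1970)))))))) (.node (.node (.node (.node (.node (.node (.node (.node (.leaf 28) (.leaf 2063)) (.leaf 1422)) (.node (.leaf 467) (.leaf 1165))) (.node (.node (.leaf 160) (.leaf 1357)) (.node (.leaf 1164) (.leaf 1505)))) (.node (.node (.node (.leaf 84) (.leaf 1553)) (.node (.leaf 1005) (.leaf 1906))) (.node (.node (.leaf 239) (.leaf 1745)) (.node (.leaf 1302) (.leaf 1754))))) (.node (.node (.node (.node (.leaf 46) (.leaf 736)) (.node (.leaf 862) (.leaf 1865))) (.node (.node (.leaf 500) (.leaf 957)) (.node (.leaf 532) (.leaf 2005)))) (.node (.node (.node (.leaf 348) (.leaf 1215)) (.node (.leaf 1079) (.leaf 1430))) (.node (.node (.leaf 740) (.leaf 1083)) (.node (.leaf 633) (.leaf 1866)))))) (.node (.node (.node (.node (.node (.leaf 47) (.leaf 715)) (.node (.leaf 798) (.leaf 1808))) (.node (.node (.leaf 505) (.leaf 1675)) (.node (.leaf 1197) (.leaf 1989)))) (.node (.node (.node (.leaf 105) (.leaf 1576)) (.node (.leaf 1028) (.leaf 1834))) (.node (.node (.leaf 699) (.leaf 1767)) (.node (.leaf 605)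 (.leaf 1888))))) (.node (.node (.node (.node (.leaf 65) (.leaf 766)) (.node (.leaf 954) (.leaf 1652))) (.node (.node (.leaf 216) (.leaf 1720)) (.node (.leaf 1262) (.leaf 1680)))) (.node (.node (.node (.leaf 399) (.leaf 1561)) (.node (.leaf 468) (.leaf 1466))) (.node (.node (.leaf 496) (.leaf 1142)) (.node (.leaf 1402) (.leaf 1962))))))) (.node (.node (.node (.node (.node (.node (.node (.leaf 56) (.leaf 2072)) (.leaf 1451)) (.node (.leaf 321) (.leaf 1206))) (.node (.node (.leaf 481) (.leaf 919)) (.node (.leaf 514) (.leaf 1981)))) (.node (.node (.node (.leaf 93) (.leaf 1560)) (.node (.leaf 949) (.leaf 1365))) (.node (.node (.leaf 248) (.leaf 1125)) (.node (.leaf 1319) (.leaf 1772))))) (.node (.node (.node (.node (.leaf 162) (.leaf 749)) (.node (.leaf 945) (.leaf 1279))) (.node (.node (.leaf 575) (.leaf 1518)) (.node (.leaf 629) (.leaf 1664)))) (.node (.node (.node (.leaf 133) (.leaf 854)) (.node (.leaf 455) (.leaf 1934))) (.node (.node (.leaf 290) (.leaf 1105)) (.node (.leaf 1389) (.leaf 1907)))))) (.node (.node (.node (.node (.node (.leaf 36) (.leaf 1026)) (.node (.leaf 351) (.leaf 1858))) (.node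 (.node (.leaf 191) (.leaf 944)) (.node (.leaf 530) (.leaf 1593)))) (.node (.node (.node (.leaf 319) (.leaf 1231)) (.node (.leaf 1057) (.leaf 1927))) (.node (.node (.leaf 723) (.leaf 1075)) (.node (.leaf 1354) (.leaf 1829))))) (.node (.node (.node (.node (.leaf 215) (.leaf 966)) (.node (.leaf 983) (.leaf 1885))) (.node (.node (.leaf 228) (.leaf 1006)) (.node (.leaf 1271) (.leaf 1706)))) (.node (.node (.node (.leaf 424) (.leaf 1631)) (.node (.leaf 1143) (.leaf 1944))) (.node (.node (.leaf 818) (.leaf 1824)) (.node (.leaf 1383) (.leaf 2066)))))))))))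

/-- A table. -/
noncomputable def fixOrbNext4 : BTree := .node fixOrbNext4L fixOrbNext4R

/-- Part of a table. -/
noncomputable def fixOrbNext5L : BTree := (.node (.node (.node (.node (.node (.node (.node (.node (.node (.node (.node (.leaf 0) (.leaf 2066)) (.leaf 698)) (.node (.leaf 780) (.leaf 1826))) (.node (.node (.leaf 409) (.leaf 915)) (.node (.leaf 1145) (.leaf 1762)))) (.node (.node (.node (.leaf 75) (.leaf 1149)) (.node (.leaf 638) (.leaf 1664))) (.node (.node (.leaf 228) (.leaf 1210)) (.node (.leaf 1283) (.leaf 2020))))) (.node (.node (.node (.node (.leaf 67) (.leaf 723)) (.node (.leaf 347) (.leaf 1250))) (.node (.node (.leaf 334) (.leaf 1124)) (.node (.leaf 531) (.leaf 1596)))) (.node (.node (.node (.leaf 195) (.leaf 1531)) (.node (.leaf 1060) (.leaf 1848))) (.node (.node (.leaf 726) (.leaf 1776)) (.node (.leaf 616) (.leaf 1831)))))) (.node (.node (.node (.node (.node (.leaf 59) (.leaf 1056)) (.node (.leaf 863) (.leaf 1844))) (.node (.node (.leaf 179) (.leaf 919)) (.node (.leaf 1136) (.leaf 1616)))) (.node (.node (.node (.leaf 93) (.leaf 1266)) (.node (.leaf 411) (.leaf 1439))) (.node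 (.node (.leaf 653) (.leaf 1759)) (.node (.leaf 1322) (.leaf 1952))))) (.node (.node (.node (.node (.leaf 166) (.leaf 1315)) (.node (.leaf 374) (.leaf 1279))) (.node (.node (.leaf 206) (.leaf 977)) (.node (.leaf 897) (.leaf 1727)))) (.node (.node (.node (.leaf 369) (.leaf 854)) (.node (.leaf 587) (.leaf 1441))) (.node (.node (.leaf 299) (.leaf 1798)) (.node (.leaf 992) (.leaf 1989))))))) (.node (.node (.node (.node (.node (.node (.node (.leaf 8) (.leaf 2063)) (.leaf 1413)) (.node (.leaf 829) (.leaf 1371))) (.node (.node (.leaf 444) (.leaf 1643)) (.node (.leaf 487) (.leaf 1585)))) (.node (.node (.node (.leaf 89) (.leaf 981)) (.node (.leaf 419) (.leaf 1327))) (.node (.node (.leaf 248) (.leaf 1748)) (.node (.leaf 1278) (.leaf 1739))))) (.node (.node (.node (.node (.leaf 80) (.leaf 1494)) (.node (.leaf 465) (.leaf 1824))) (.node (.node (.leaf 477) (.leaf 1705)) (.node (.leaf 1182) (.leaf 1855)))) (.node (.node (.node (.leaf 343) (.leaf 1597)) (.node (.leaf 460) (.leaf 1928))) (.node (.node (.leaf 707) (.leaf 1085)) (.node (.leaf 639) (.leaf 1866)))))) (.node (.node (.node (.node (.node (.leaf 84)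 (.leaf 713)) (.node (.leaf 561) (.leaf 1729))) (.node (.node (.leaf 485) (.leaf 932)) (.node (.leaf 1089) (.leaf 1980)))) (.node (.node (.node (.leaf 102) (.leaf 807)) (.node (.leaf 959) (.leaf 1835))) (.node (.node (.leaf 670) (.leaf 1059)) (.node (.leaf 944) (.leaf 1890))))) (.node (.node (.node (.node (.leaf 112) (.leaf 800)) (.node (.leaf 664) (.leaf 1892))) (.node (.node (.leaf 220) (.leaf 1721)) (.node (.leaf 858) (.leaf 1990)))) (.node (.node (.node (.leaf 404) (.leaf 1535)) (.node (.leaf 1062) (.leaf 1472))) (.node (.node (.leaf 294) (.leaf 1128)) (.node (.leaf 1242) (.leaf 2055)))))))) (.node (.node (.node (.node (.node (.node (.node (.node (.leaf 16) (.leaf 2012)) (.leaf 1033)) (.node (.leaf 831) (.leaf 1609))) (.node (.node (.leaf 156) (.leaf 1359)) (.node (.leaf 788) (.leaf 1646)))) (.node (.node (.node (.leaf 229) (.leaf 777)) (.node (.leaf 999) (.leaf 1326))) (.node (.node (.leaf 642) (.leaf 1052)) (.node (.leaf 574) (.leaf 1744))))) (.node (.node (.node (.node (.leaf 41) (.leaf 1495)) (.node (.leaf 617) (.leaf 1443))) (.node (.node (.leaf 333) (.leaf 1684)) (.node (.leaf 1219)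 (.leaf 1614)))) (.node (.node (.node (.leaf 122) (.leaf 865)) (.node (.leaf 439) (.leaf 1414))) (.node (.node (.leaf 740) (.leaf 1754)) (.node (.leaf 1334) (.leaf 1849)))))) (.node (.node (.node (.node (.node (.leaf 21) (.leaf 1461)) (.node (.leaf 556) (.leaf 1199))) (.node (.node (.leaf 186) (.leaf 927)) (.node (.leaf 1156) (.leaf 1547)))) (.node (.node (.node (.leaf 97) (.leaf 966)) (.node (.leaf 690) (.leaf 1735))) (.node (.node (.leaf 427) (.leaf 1715)) (.node (.leaf 622) (.leaf 1960))))) (.node (.node (.node (.node (.leaf 169) (.leaf 1520)) (.node (.leaf 960) (.leaf 1882))) (.node (.node (.leaf 597) (.leaf 1380)) (.node (.leaf 879) (.leaf 1660)))) (.node (.node (.node (.leaf 137) (.leaf 1262)) (.node (.leaf 823) (.leaf 1453))) (.node (.node (.leaf 289) (.leaf 1810)) (.node (.leaf 1398) (.leaf 2024))))))) (.node (.node (.node (.node (.node (.node (.node (.leaf 12) (.leaf 2072)) (.leaf 1445)) (.node (.leaf 851) (.leaf 1243))) (.node (.node (.leaf 164) (.leaf 1649)) (.node (.leaf 525) (.leaf 1975)))) (.node (.node (.node (.leaf 244) (.leaf 827)) (.node (.leaf 624) (.leaf 1688))) (.node (.node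 (.leaf 666) (.leaf 1432)) (.node (.leaf 583) (.leaf 1758))))) (.node (.node (.node (.node (.leaf 50) (.leaf 1482)) (.node (.leaf 378) (.leaf 1272))) (.node (.node (.leaf 573) (.leaf 970)) (.node (.leaf 538) (.leaf 1970)))) (.node (.node (.node (.leaf 127) (.leaf 1591)) (.node (.leaf 449) (.leaf 1752))) (.node (.node (.leaf 761) (.leaf 1297)) (.node (.leaf 986) (.leaf 1886)))))) (.node (.node (.node (.node (.node (.leaf 100) (.leaf 743)) (.node (.leaf 341) (.leaf 1231))) (.node (.node (.leaf 530) (.leaf 1687)) (.node (.leaf 516) (.leaf 1728)))) (.node (.node (.node (.leaf 313) (.leaf 811)) (.node (.leaf 1022) (.leaf 1720))) (.node (.node (.leaf 714) (.leaf 1066)) (.node (.leaf 1191) (.leaf 1828))))) (.node (.node (.node (.node (.leaf 73) (.leaf 767)) (.node (.leaf 383) (.leaf 1891))) (.node (.node (.leaf 221) (.leaf 1723)) (.node (.leaf 1274) (.leaf 1912)))) (.node (.node (.node (.leaf 400) (.leaf 1624)) (.node (.leaf 1134) (.leaf 1783))) (.node (.node (.leaf 806) (.leaf 1528)) (.node (.leaf 1364) (.leaf 2040))))))))) (.node (.node (.node (.node (.node (.node (.node (.node (.node (.leaf 10) (.leaf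 1999)) (.leaf 674)) (.node (.leaf 824) (.leaf 1293))) (.node (.node (.leaf 437) (.leaf 1251)) (.node (.leaf 503) (.leaf 1725)))) (.node (.node (.node (.leaf 77) (.leaf 808)) (.node (.leaf 994) (.leaf 1899))) (.node (.node (.leaf 231) (.leaf 1694)) (.node (.leaf 899) (.leaf 1985))))) (.node (.node (.node (.node (.leaf 118) (.leaf 1492)) (.node (.leaf 893) (.leaf 1507))) (.node (.node (.leaf 324) (.leaf 949)) (.node (.leaf 881) (.leaf 1761)))) (.node (.node (.node (.leaf 188) (.leaf 830)) (.node (.leaf 466) (.leaf 1427))) (.node (.node (.leaf 267) (.leaf 1777)) (.node (.leaf 621) (.leaf 1988)))))) (.node (.node (.node (.node (.node (.leaf 53) (.leaf 704)) (.node (.leaf 325) (.leaf 1196))) (.node (.node (.leaf 182) (.leaf 1667)) (.node (.leaf 1194) (.leaf 1976)))) (.node (.node (.node (.leaf 280) (.leaf 1111)) (.node (.leaf 675) (.leaf 1356))) (.node (.node (.leaf 250) (.leaf 1366)) (.node (.leaf 1328) (.leaf 1780))))) (.node (.node (.node (.node (.leaf 56) (.leaf 1344)) (.node (.leaf 370) (.leaf 1879))) (.node (.node (.leaf 591) (.leaf 1384)) (.node (.leaf 894) (.leaf 1648)))) (.node (.node (.node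 (.leaf 384) (.leaf 1270)) (.node (.leaf 456) (.leaf 1764))) (.node (.node (.leaf 303) (.leaf 1508)) (.node (.leaf 996) (.leaf 1920))))))) (.node (.node (.node (.node (.node (.node (.node (.leaf 30) (.leaf 2068)) (.leaf 1410)) (.node (.leaf 793) (.leaf 1379))) (.node (.node (.leaf 445) (.leaf 909)) (.node (.leaf 776) (.leaf 1812)))) (.node (.node (.node (.leaf 251) (.leaf 1159)) (.node (.leaf 1014) (.leaf 1352))) (.node (.node (.leaf 240) (.leaf 1429)) (.node (.leaf 916) (.leaf 1940))))) (.node (.node (.node (.node (.leaf 48) (.leaf 1509)) (.node (.leaf 933) (.leaf 1622))) (.node (.node (.leaf 205) (.leaf 1016)) (.node (.leaf 1245) (.leaf 2006)))) (.node (.node (.node (.leaf 362) (.leaf 1601)) (.node (.leaf 447) (.leaf 1424))) (.node (.node (.leaf 609) (.leaf 1092)) (.node (.leaf 1167) (.leaf 1868)))))) (.node (.node (.node (.node (.node (.leaf 28) (.leaf 1467)) (.node (.leaf 348) (.leaf 1230))) (.node (.node (.leaf 521) (.leaf 953)) (.node (.leaf 1162) (.leaf 1568)))) (.node (.node (.node (.leaf 105) (.leaf 1350)) (.node (.leaf 860) (.leaf 1716))) (.node (.node (.leaf 706) (.leaf 1773)) (.node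 (.leaf 1347) (.leaf 1805))))) (.node (.node (.node (.node (.leaf 110) (.leaf 1140)) (.node (.leaf 380) (.leaf 1301))) (.node (.node (.leaf 606) (.leaf 998)) (.node (.leaf 882) (.leaf 1839)))) (.node (.node (.node (.leaf 152) (.leaf 1215)) (.node (.leaf 1084) (.leaf 1956))) (.node (.node (.leaf 297) (.leaf 1170)) (.node (.leaf 685) (.leaf 2034)))))))) (.node (.node (.node (.node (.node (.node (.node (.node (.leaf 24) (.leaf 2060)) (.leaf 1426)) (.node (.leaf 700) (.leaf 1214))) (.node (.node (.leaf 454) (.leaf 905)) (.node (.leaf 512) (.leaf 1500)))) (.node (.node (.node (.leaf 238) (.leaf 782)) (.node (.leaf 415) (.leaf 1324))) (.node (.node (.leaf 396) (.leaf 1202)) (.node (.leaf 1098) (.leaf 1737))))) (.node (.node (.node (.node (.leaf 130) (.leaf 1499)) (.node (.leaf 353) (.leaf 1257))) (.node (.node (.leaf 194) (.leaf 1700)) (.node (.leaf 1222) (.leaf 2004)))) (.node (.node (.node (.leaf 339) (.leaf 838)) (.node (.leaf 441) (.leaf 1421))) (.node (.node (.leaf 720) (.leaf 1115)) (.node (.leaf 1369) (.leaf 1863)))))) (.node (.node (.node (.node (.node (.leaf 78) (.leaf 1466)) (.node (.leaf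 552) (.leaf 1203))) (.node (.node (.leaf 481) (.leaf 1676)) (.node (.leaf 507) (.leaf 1836)))) (.node (.node (.node (.leaf 107) (.leaf 1572)) (.node (.leaf 1011) (.leaf 1709))) (.node (.node (.leaf 255) (.leaf 1452)) (.node (.leaf 940) (.leaf 1964))))) (.node (.node (.node (.node (.leaf 173) (.leaf 787)) (.node (.leaf 375) (.leaf 1884))) (.node (.node (.leaf 602) (.leaf 1388)) (.node (.leaf 553) (.leaf 1670)))) (.node (.node (.node (.leaf 139) (.leaf 875)) (.node (.leaf 1119) (.leaf 1772))) (.node (.node (.leaf 495) (.leaf 1586)) (.node (.leaf 1404) (.leaf 1959))))))) (.node (.node (.node (.node (.node (.node (.node (.leaf 52) (.leaf 2076)) (.leaf 1416)) (.node (.leaf 558) (.leaf 1621))) (.node (.node (.leaf 479) (.leaf 1633)) (.node (.leaf 534) (.leaf 1820)))) (.node (.node (.node (.leaf 264) (.leaf 1261)) (.node (.leaf 430) (.leaf 1517))) (.node (.node (.leaf 673) (.leaf 1756)) (.node (.leaf 625) (.leaf 1767))))) (.node (.node (.node (.node (.leaf 157) (.leaf 1485)) (.node (.leaf 365) (.leaf 1627))) (.node (.node (.leaf 564) (.leaf 1259)) (.node (.leaf 692) (.leaf 1644)))) (.node (.node (.node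 (.leaf 368) (.leaf 1217)) (.node (.leaf 586) (.leaf 1436))) (.node (.node (.leaf 281) (.leaf 1804)) (.node (.leaf 1387) (.leaf 2056)))))) (.node (.node (.node (.node (.node (.leaf 106) (.leaf 756)) (.node (.leaf 862) (.leaf 1856))) (.node (.node (.leaf 498) (.leaf 1340)) (.node (.leaf 753) (.leaf 1579)))) (.node (.node (.node (.leaf 196) (.leaf 1503)) (.node (.leaf 524) (.leaf 1799))) (.node (.node (.leaf 272) (.leaf 1077)) (.node (.leaf 921) (.leaf 1840))))) (.node (.node (.node (.node (.leaf 202) (.leaf 1523)) (.node (.leaf 785) (.leaf 1896))) (.node (.node (.leaf 628) (.leaf 1004)) (.node (.leaf 579) (.leaf 1695)))) (.node (.node (.node (.leaf 405) (.leaf 1629)) (.node (.leaf 1139) (.leaf 1955))) (.node (.node (.leaf 815) (.leaf 1138)) (.node (.leaf 837) (.leaf 2044)))))))))) (.node (.node (.node (.node (.node (.node (.node (.node (.node (.node (.leaf 6) (.leaf 2073)) (.leaf 1417)) (.node (.leaf 562) (.leaf 1143))) (.node (.node (.leaf 189) (.leaf 1238)) (.node (.leaf 1130) (.leaf 1510)))) (.node (.node (.node (.leaf 76) (.leaf 773)) (.node (.leaf 392) (.leaf 1898))) (.node (.node (.leaf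 635) (.leaf 1044)) (.node (.leaf 567) (.leaf 1699))))) (.node (.node (.node (.node (.leaf 66) (.leaf 1491)) (.node (.leaf 891) (.leaf 1623))) (.node (.node (.leaf 434) (.leaf 1123)) (.node (.leaf 1177) (.leaf 1874)))) (.node (.node (.node (.leaf 332) (.leaf 1122)) (.node (.leaf 436) (.leaf 1582))) (.node (.node (.leaf 266) (.leaf 1473)) (.node (.leaf 903) (.leaf 2038)))))) (.node (.node (.node (.node (.node (.leaf 17) (.leaf 703)) (.node (.leaf 323) (.leaf 1753))) (.node (.node (.leaf 170) (.leaf 1663)) (.node (.leaf 1150) (.leaf 1536)))) (.node (.node (.node (.leaf 94) (.leaf 1269)) (.node (.leaf 1028) (.leaf 1921))) (.node (.node (.leaf 655) (.leaf 1047)) (.node (.leaf 1325) (.leaf 1787))))) (.node (.node (.node (.node (.leaf 55) (.leaf 1218)) (.node (.leaf 950) (.leaf 1594))) (.node (.node (.leaf 570) (.leaf 1554)) (.node (.leaf 547) (.leaf 1968)))) (.node (.node (.node (.leaf 226) (.leaf 1600)) (.node (.leaf 738) (.leaf 1792))) (.node (.node (.leaf 301) (.leaf 1598)) (.node (.leaf 644) (.leaf 2018))))))) (.node (.node (.node (.node (.node (.node (.node (.leaf 35) (.leaf 2048)) (.leaf 813))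 (.node (.leaf 312) (.leaf 1378))) (.node (.node (.leaf 161) (.leaf 1650)) (.node (.leaf 1131) (.leaf 1512)))) (.node (.node (.node (.leaf 85) (.leaf 1524)) (.node (.leaf 1015) (.leaf 1841))) (.node (.node (.leaf 657) (.leaf 1036)) (.node (.leaf 911) (.leaf 1937))))) (.node (.node (.node (.node (.leaf 141) (.leaf 1239)) (.node (.leaf 929) (.leaf 1615))) (.node (.node (.leaf 337) (.leaf 1707)) (.node (.leaf 629) (.leaf 1858)))) (.node (.node (.node (.leaf 359) (.leaf 841)) (.node (.leaf 1086) (.leaf 1746))) (.node (.node (.leaf 708) (.leaf 1198)) (.node (.leaf 634) (.leaf 2054)))))) (.node (.node (.node (.node (.node (.leaf 88) (.leaf 1475)) (.node (.leaf 514) (.leaf 1516))) (.node (.node (.leaf 490) (.leaf 1674)) (.node (.leaf 1155) (.leaf 1681)))) (.node (.node (.node (.leaf 287) (.leaf 1420)) (.node (.leaf 680) (.leaf 1375))) (.node (.node (.leaf 322) (.leaf 1771)) (.node (.leaf 615) (.leaf 1880))))) (.node (.node (.node (.node (.leaf 154) (.leaf 1532)) (.node (.leaf 661) (.leaf 1298))) (.node (.node (.leaf 612) (.leaf 1394)) (.node (.leaf 884) (.leaf 1905)))) (.node (.node (.node (.leaf 150)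 (.leaf 1184)) (.node (.leaf 947) (.leaf 1477))) (.node (.node (.leaf 316) (.leaf 1147)) (.node (.leaf 814) (.leaf 2036)))))))) (.node (.node (.node (.node (.node (.node (.node (.node (.leaf 4) (.leaf 2031)) (.leaf 1401)) (.node (.leaf 314) (.leaf 1153))) (.node (.node (.leaf 450) (.leaf 1497)) (.node (.leaf 483) (.leaf 1599)))) (.node (.node (.node (.leaf 81) (.leaf 820)) (.node (.leaf 397) (.leaf 1330))) (.node (.node (.leaf 645) (.leaf 1029)) (.node (.leaf 1295) (.leaf 1917))))) (.node (.node (.node (.node (.leaf 121) (.leaf 908)) (.node (.leaf 732) (.leaf 1613))) (.node (.node (.leaf 555) (.leaf 1030)) (.node (.leaf 1235) (.leaf 2000)))) (.node (.node (.node (.leaf 124) (.leaf 1558)) (.node (.leaf 440) (.leaf 1934))) (.node (.node (.leaf 718) (.leaf 1112)) (.node (.leaf 1368) (.leaf 2047)))))) (.node (.node (.node (.node (.node (.leaf 22) (.leaf 1464)) (.node (.leaf 878) (.leaf 1851))) (.node (.node (.leaf 175) (.leaf 928)) (.node (.leaf 1158) (.leaf 1711)))) (.node (.node (.node (.leaf 290) (.leaf 804)) (.node (.leaf 417) (.leaf 1706))) (.node (.node (.leaf 663) (.leaf 1450)) (.node (.leaf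 1337) (.leaf 2017))))) (.node (.node (.node (.node (.leaf 60) (.leaf 770)) (.node (.leaf 581) (.leaf 1291))) (.node (.node (.leaf 212) (.leaf 1717)) (.node (.leaf 1258) (.leaf 1666)))) (.node (.node (.node (.leaf 393) (.leaf 874)) (.node (.leaf 1082) (.leaf 1950))) (.node (.node (.leaf 306) (.leaf 1514)) (.node (.leaf 649) (.leaf 2026))))))) (.node (.node (.node (.node (.node (.node (.node (.leaf 14) (.leaf 2065)) (.leaf 1447)) (.node (.leaf 856) (.leaf 1821))) (.node (.node (.leaf 165) (.leaf 913)) (.node (.leaf 533) (.leaf 1526)))) (.node (.node (.node (.leaf 114) (.leaf 1559)) (.node (.leaf 408) (.leaf 1690))) (.node (.node (.leaf 257) (.leaf 1041)) (.node (.leaf 1313) (.leaf 1946))))) (.node (.node (.node (.node (.leaf 63) (.leaf 1254)) (.node (.leaf 364) (.leaf 1873))) (.node (.node (.leaf 203) (.leaf 1551)) (.node (.leaf 880) (.leaf 1640)))) (.node (.node (.node (.leaf 371) (.leaf 1008)) (.node (.leaf 1097) (.leaf 1480))) (.node (.node (.leaf 305) (.leaf 1309)) (.node (.leaf 984) (.leaf 2010)))))) (.node (.node (.node (.node (.node (.leaf 103) (.leaf 746)) (.node (.leaf 354) (.leaf 1634)))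 (.node (.node (.leaf 522) (.leaf 1338)) (.node (.leaf 1175) (.leaf 1577)))) (.node (.node (.node (.leaf 296) (.leaf 1408)) (.node (.leaf 1024) (.leaf 1722))) (.node (.node (.leaf 262) (.leaf 1068)) (.node (.leaf 1333) (.leaf 1978))))) (.node (.node (.node (.node (.leaf 200) (.leaf 1521)) (.node (.leaf 978) (.leaf 1653))) (.node (.node (.leaf 600) (.leaf 1351)) (.node (.leaf 1277) (.leaf 1915)))) (.node (.node (.node (.leaf 420) (.leaf 888)) (.node (.leaf 501) (.leaf 1907))) (.node (.node (.leaf 775) (.leaf 1187)) (.node (.leaf 867) (.leaf 2042))))))))) (.node (.node (.node (.node (.node (.node (.node (.node (.node (.leaf 2) (.leaf 2002)) (.leaf 1354)) (.node (.leaf 790) (.leaf 1817))) (.node (.node (.leaf 442) (.leaf 1275)) (.node (.leaf 505) (.leaf 1504)))) (.node (.node (.node (.leaf 134) (.leaf 810)) (.node (.leaf 646) (.leaf 1900))) (.node (.node (.leaf 391) (.leaf 1736)) (.node (.leaf 589) (.leaf 1745))))) (.node (.node (.node (.node (.leaf 39) (.leaf 735)) (.node (.leaf 350) (.leaf 1247))) (.node (.node (.leaf 551) (.leaf 1204)) (.node (.leaf 1228) (.leaf 1995)))) (.node (.node (.node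 (.leaf 117) (.leaf 844)) (.node (.leaf 1067) (.leaf 1703))) (.node (.node (.leaf 268) (.leaf 1779)) (.node (.leaf 1192) (.leaf 1904)))))) (.node (.node (.node (.node (.node (.leaf 37) (.leaf 752)) (.node (.leaf 871) (.leaf 1575))) (.node (.node (.leaf 496) (.leaf 926)) (.node (.leaf 504) (.leaf 1861)))) (.node (.node (.node (.leaf 96) (.leaf 1545)) (.node (.leaf 1005) (.leaf 1638))) (.node (.node (.leaf 423) (.leaf 1763)) (.node (.leaf 1323) (.leaf 1961))))) (.node (.node (.node (.node (.leaf 176) (.leaf 1486)) (.node (.leaf 945) (.leaf 1702))) (.node (.node (.leaf 225) (.leaf 1053)) (.node (.leaf 549) (.leaf 2011)))) (.node (.node (.node (.leaf 387) (.leaf 1114)) (.node (.leaf 1079) (.leaf 1766))) (.node (.node (.leaf 783) (.leaf 1794)) (.node (.leaf 1396) (.leaf 1931))))))) (.node (.node (.node (.node (.node (.node (.node (.leaf 42) (.leaf 2070)) (.leaf 1411)) (.node (.leaf 796) (.leaf 1226))) (.node (.node (.leaf 471) (.leaf 1307)) (.node (.leaf 518) (.leaf 1518)))) (.node (.node (.node (.leaf 242) (.leaf 825)) (.node (.leaf 425) (.leaf 1910))) (.node (.node (.leaf 253) (.leaf 1039)) (.node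 (.leaf 1099) (.leaf 1846))))) (.node (.node (.node (.node (.leaf 49) (.leaf 1289)) (.node (.leaf 361) (.leaf 1620))) (.node (.node (.leaf 207) (.leaf 1444)) (.node (.leaf 1248) (.leaf 1631)))) (.node (.node (.node (.leaf 366) (.leaf 1282)) (.node (.leaf 448) (.leaf 1571))) (.node (.node (.leaf 758) (.leaf 1104)) (.node (.leaf 987) (.leaf 1876)))))) (.node (.node (.node (.node (.node (.leaf 95) (.leaf 1469)) (.node (.leaf 895) (.leaf 1237))) (.node (.node (.leaf 494) (.leaf 968)) (.node (.leaf 1137) (.leaf 1942)))) (.node (.node (.node (.leaf 292) (.leaf 1206)) (.node (.leaf 1049) (.leaf 1718))) (.node (.node (.leaf 275) (.leaf 1462)) (.node (.leaf 610) (.leaf 1974))))) (.node (.node (.node (.node (.leaf 68) (.leaf 1537)) (.node (.leaf 973) (.leaf 1893))) (.node (.node (.leaf 608) (.leaf 1000)) (.node (.leaf 799) (.leaf 1686)))) (.node (.node (.node (.leaf 145) (.leaf 1252)) (.node (.leaf 470) (.leaf 1953))) (.node (.node (.leaf 771) (.leaf 1818)) (.node (.leaf 660) (.leaf 1986)))))))) (.node (.node (.node (.node (.node (.node (.node (.node (.leaf 26) (.leaf 2062)) (.leaf 1407)) (.node (.leaf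 839) (.leaf 1163))) (.node (.node (.leaf 457) (.leaf 1357)) (.node (.leaf 1164) (.leaf 1973)))) (.node (.node (.node (.leaf 241) (.leaf 979)) (.node (.leaf 1009) (.leaf 1679))) (.node (.node (.leaf 237) (.leaf 1743)) (.node (.leaf 577) (.leaf 1738))))) (.node (.node (.node (.node (.leaf 44) (.leaf 1493)) (.node (.leaf 381) (.leaf 1864))) (.node (.node (.leaf 320) (.leaf 1693)) (.node (.leaf 1241) (.leaf 1865)))) (.node (.node (.node (.leaf 352) (.leaf 1588)) (.node (.leaf 458) (.leaf 1847))) (.node (.node (.leaf 749) (.leaf 1126)) (.node (.leaf 1165) (.leaf 2049)))))) (.node (.node (.node (.node (.node (.leaf 25) (.leaf 717)) (.node (.leaf 540) (.leaf 1730))) (.node (.node (.leaf 509) (.leaf 1672)) (.node (.leaf 1010) (.leaf 1871)))) (.node (.node (.node (.leaf 109) (.leaf 1490)) (.node (.leaf 1013) (.leaf 1365))) (.node (.node (.leaf 668) (.leaf 1057)) (.node (.leaf 603) (.leaf 1837))))) (.node (.node (.node (.node (.leaf 116) (.leaf 760)) (.node (.leaf 936) (.leaf 1800))) (.node (.node (.leaf 214) (.leaf 1390)) (.node (.leaf 554) (.leaf 2014)))) (.node (.node (.node (.leaf 140) (.leaf 1256))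 (.node (.leaf 917) (.leaf 1774))) (.node (.node (.leaf 310) (.leaf 1814)) (.node (.leaf 679) (.leaf 2057))))))) (.node (.node (.node (.node (.node (.node (.node (.leaf 20) (.leaf 2078)) (.leaf 833)) (.node (.leaf 835) (.leaf 1331))) (.node (.node (.leaf 177) (.leaf 1661)) (.node (.leaf 1135) (.leaf 1822)))) (.node (.node (.node (.leaf 269) (.leaf 848)) (.node (.leaf 432) (.leaf 1412))) (.node (.node (.leaf 651) (.leaf 1045)) (.node (.leaf 1318) (.leaf 1770))))) (.node (.node (.node (.node (.leaf 162) (.leaf 1118)) (.node (.leaf 372) (.leaf 1877))) (.node (.node (.leaf 582) (.leaf 985)) (.node (.leaf 572) (.leaf 2008)))) (.node (.node (.node (.leaf 131) (.leaf 1051)) (.node (.leaf 453) (.leaf 1944))) (.node (.node (.leaf 769) (.leaf 1797)) (.node (.leaf 990) (.leaf 1902)))))) (.node (.node (.node (.node (.node (.leaf 101) (.leaf 722)) (.node (.leaf 904) (.leaf 1506))) (.node (.node (.leaf 318) (.leaf 1342)) (.node (.leaf 1220) (.leaf 1593)))) (.node (.node (.node (.leaf 190) (.leaf 1548)) (.node (.leaf 702) (.leaf 1423))) (.node (.node (.leaf 277) (.leaf 1781)) (.node (.leaf 689) (.leaf 1829)))))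 (.node (.node (.node (.node (.leaf 213) (.leaf 802)) (.node (.leaf 640) (.leaf 1311))) (.node (.node (.leaf 631) (.leaf 1037)) (.node (.leaf 868) (.leaf 1697)))) (.node (.node (.node (.leaf 407) (.leaf 912)) (.node (.leaf 559) (.leaf 1935))) (.node (.node (.leaf 817) (.leaf 1534)) (.node (.leaf 696) (.leaf 2046)))))))))))

/-- Part of a table. -/
noncomputable def fixOrbNext5R : BTree := (.node (.node (.node (.node (.node (.node (.node (.node (.node (.node (.node (.leaf 1) (.leaf 1998)) (.leaf 699)) (.node (.leaf 781) (.leaf 1142))) (.node (.node (.leaf 410) (.leaf 1267)) (.node (.leaf 478) (.leaf 1811)))) (.node (.node (.node (.leaf 219) (.leaf 1546)) (.node (.leaf 989) (.leaf 1515))) (.node (.node (.leaf 233) (.leaf 1207)) (.node (.leaf 864) (.leaf 1698))))) (.node (.node (.node (.node (.leaf 91) (.leaf 816)) (.node (.leaf 910) (.leaf 1236))) (.node (.node (.leaf 433) (.leaf 957)) (.node (.leaf 1054) (.leaf 1607)))) (.node (.node (.node (.leaf 259) (.leaf 1244)) (.node (.leaf 435) (.leaf 1584))) (.node (.node (.leaf 728) (.leaf 1474)) (.node (.leaf 1363) (.leaf 1924)))))) (.node (.node (.node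 (.node (.node (.leaf 61) (.leaf 1454)) (.node (.leaf 345) (.leaf 1193))) (.node (.node (.leaf 488) (.leaf 922)) (.node (.leaf 1189) (.leaf 1825)))) (.node (.node (.node (.leaf 274) (.leaf 1529)) (.node (.leaf 412) (.leaf 1918))) (.node (.node (.leaf 682) (.leaf 1760)) (.node (.leaf 594) (.leaf 1782))))) (.node (.node (.node (.node (.leaf 168) (.leaf 1457)) (.node (.leaf 468) (.leaf 1308))) (.node (.node (.leaf 588) (.leaf 1553)) (.node (.leaf 1224) (.leaf 1969)))) (.node (.node (.node (.leaf 358) (.leaf 855)) (.node (.leaf 1095) (.leaf 1860))) (.node (.node (.leaf 300) (.leaf 1161)) (.node (.leaf 1393) (.leaf 1962))))))) (.node (.node (.node (.node (.node (.node (.node (.leaf 34) (.leaf 2074)) (.leaf 1434)) (.node (.leaf 843) (.leaf 1377))) (.node (.node (.leaf 463) (.leaf 1496)) (.node (.leaf 636) (.leaf 1859)))) (.node (.node (.node (.leaf 246) (.leaf 1169)) (.node (.leaf 402) (.leaf 1842))) (.node (.node (.leaf 249) (.leaf 1749)) (.node (.leaf 1306) (.leaf 1938))))) (.node (.node (.node (.node (.leaf 138) (.leaf 819)) (.node (.leaf 379) (.leaf 1869))) (.node (.node (.leaf 338) (.leaf 965))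 (.node (.leaf 1183) (.leaf 1626)))) (.node (.node (.node (.leaf 357) (.leaf 1557)) (.node (.leaf 469) (.leaf 1926))) (.node (.node (.leaf 592) (.leaf 1087)) (.node (.leaf 1376) (.leaf 1867)))))) (.node (.node (.node (.node (.node (.leaf 86) (.leaf 1465)) (.node (.leaf 560) (.leaf 1808))) (.node (.node (.leaf 474) (.leaf 1565)) (.node (.leaf 510) (.leaf 1682)))) (.node (.node (.node (.leaf 286) (.leaf 1349)) (.node (.leaf 958) (.leaf 1611))) (.node (.node (.leaf 321) (.leaf 1121)) (.node (.leaf 614) (.leaf 1889))))) (.node (.node (.node (.node (.leaf 115) (.leaf 822)) (.node (.leaf 924) (.leaf 1304))) (.node (.node (.leaf 224) (.leaf 993)) (.node (.leaf 836) (.leaf 1906)))) (.node (.node (.node (.leaf 142) (.leaf 1263)) (.node (.leaf 828) (.leaf 1476))) (.node (.node (.leaf 315) (.leaf 1146)) (.node (.leaf 654) (.leaf 2033)))))))) (.node (.node (.node (.node (.node (.node (.node (.node (.leaf 19) (.leaf 2030)) (.leaf 1032)) (.node (.leaf 308) (.leaf 1190))) (.node (.node (.leaf 163) (.leaf 1110)) (.node (.leaf 1160) (.leaf 1639)))) (.node (.node (.node (.leaf 232) (.leaf 1505)) (.node (.leaf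 1002) (.leaf 1321))) (.node (.node (.leaf 234) (.leaf 1026)) (.node (.leaf 1292) (.leaf 1845))))) (.node (.node (.node (.node (.leaf 120) (.leaf 730)) (.node (.leaf 351) (.leaf 1544))) (.node (.node (.leaf 331) (.leaf 1031)) (.node (.leaf 1234) (.leaf 1870)))) (.node (.node (.node (.leaf 123) (.leaf 1415)) (.node (.leaf 1072) (.leaf 1932))) (.node (.node (.leaf 270) (.leaf 1603)) (.node (.leaf 1335) (.leaf 1993)))))) (.node (.node (.node (.node (.node (.leaf 72) (.leaf 709)) (.node (.leaf 876) (.leaf 1850))) (.node (.node (.leaf 500) (.leaf 1673)) (.node (.leaf 1157) (.leaf 1563)))) (.node (.node (.node (.leaf 104) (.leaf 1569)) (.node (.leaf 1017) (.leaf 1360))) (.node (.node (.leaf 662) (.leaf 1227)) (.node (.leaf 623) (.leaf 1958))))) (.node (.node (.node (.node (.leaf 180) (.leaf 757)) (.node (.leaf 584) (.leaf 1883))) (.node (.node (.leaf 598) (.leaf 1385)) (.node (.leaf 877) (.leaf 2013)))) (.node (.node (.node (.leaf 385) (.leaf 1612)) (.node (.leaf 1081) (.leaf 1455))) (.node (.node (.leaf 759) (.leaf 1513)) (.node (.leaf 1399) (.leaf 1947))))))) (.node (.node (.node (.node (.node (.node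 (.node (.leaf 46) (.leaf 2050)) (.leaf 694)) (.node (.leaf 853) (.leaf 1619))) (.node (.node (.leaf 476) (.leaf 1657)) (.node (.leaf 532) (.leaf 1542)))) (.node (.node (.node (.leaf 111) (.leaf 834)) (.node (.leaf 691) (.leaf 1689))) (.node (.node (.leaf 256) (.leaf 1209)) (.node (.leaf 956) (.leaf 1945))))) (.node (.node (.node (.node (.leaf 144) (.leaf 1483)) (.node (.leaf 939) (.leaf 1273))) (.node (.node (.leaf 545) (.leaf 972)) (.node (.leaf 697) (.leaf 1971)))) (.node (.node (.node (.leaf 133) (.leaf 846)) (.node (.leaf 455) (.leaf 1570))) (.node (.node (.leaf 279) (.leaf 1290)) (.node (.leaf 1374) (.leaf 2009)))))) (.node (.node (.node (.node (.node (.leaf 31) (.leaf 745)) (.node (.leaf 901) (.leaf 1854))) (.node (.node (.leaf 184) (.leaf 938)) (.node (.leaf 1174) (.leaf 1992)))) (.node (.node (.node (.leaf 295) (.leaf 1433)) (.node (.leaf 857) (.leaf 1392))) (.node (.node (.leaf 716) (.leaf 1073)) (.node (.leaf 1332) (.leaf 2039))))) (.node (.node (.node (.node (.leaf 74) (.leaf 768)) (.node (.leaf 389) (.leaf 1305))) (.node (.node (.leaf 599) (.leaf 1034)) (.node (.leaf 563) (.leaf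 1755)))) (.node (.node (.node (.leaf 401) (.leaf 1625)) (.node (.leaf 472) (.leaf 1785))) (.node (.node (.leaf 774) (.leaf 1185)) (.node (.leaf 681) (.leaf 1983))))))))) (.node (.node (.node (.node (.node (.node (.node (.node (.node (.leaf 13) (.leaf 2053)) (.leaf 1418)) (.node (.leaf 789) (.leaf 1541))) (.node (.node (.leaf 155) (.leaf 1635)) (.node (.leaf 1154) (.leaf 1502)))) (.node (.node (.node (.leaf 217) (.leaf 809)) (.node (.leaf 394) (.leaf 1317))) (.node (.node (.leaf 633) (.leaf 1040)) (.node (.leaf 569) (.leaf 1925))))) (.node (.node (.node (.node (.leaf 119) (.leaf 727)) (.node (.leaf 618) (.leaf 1583))) (.node (.node (.leaf 548) (.leaf 1201)) (.node (.leaf 1020) (.leaf 1830)))) (.node (.node (.node (.leaf 335) (.leaf 1589)) (.node (.leaf 1065) (.leaf 1431))) (.node (.node (.leaf 734) (.leaf 1778)) (.node (.leaf 1361) (.leaf 2016)))))) (.node (.node (.node (.node (.node (.leaf 38) (.leaf 741)) (.node (.leaf 870) (.leaf 1731))) (.node (.node (.leaf 183) (.leaf 1669)) (.node (.leaf 1197) (.leaf 1982)))) (.node (.node (.node (.leaf 282) (.leaf 801)) (.node (.leaf 1035) (.leaf 1701)))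 (.node (.node (.leaf 687) (.leaf 1048)) (.node (.leaf 596) (.leaf 2015))))) (.node (.node (.node (.node (.leaf 62) (.leaf 1367)) (.node (.leaf 935) (.leaf 1637))) (.node (.node (.leaf 209) (.leaf 1543)) (.node (.leaf 1253) (.leaf 1654)))) (.node (.node (.node (.leaf 136) (.leaf 869)) (.node (.leaf 1061) (.leaf 1765))) (.node (.node (.leaf 304) (.leaf 1108)) (.node (.leaf 997) (.leaf 1939))))))) (.node (.node (.node (.node (.node (.node (.node (.leaf 40) (.leaf 2069)) (.leaf 1438)) (.node (.leaf 794) (.leaf 1233))) (.node (.node (.leaf 446) (.leaf 1652)) (.node (.leaf 517) (.leaf 1813)))) (.node (.node (.node (.leaf 87) (.leaf 1255)) (.node (.leaf 626) (.leaf 1685))) (.node (.node (.leaf 252) (.leaf 1428)) (.node (.leaf 750) (.leaf 1747))))) (.node (.node (.node (.node (.leaf 146) (.leaf 739)) (.node (.leaf 360) (.leaf 1564))) (.node (.node (.leaf 568) (.leaf 1710)) (.node (.leaf 537) (.leaf 1630)))) (.node (.node (.node (.leaf 126) (.leaf 1590)) (.node (.leaf 1091) (.leaf 1425))) (.node (.node (.leaf 721) (.leaf 1102)) (.node (.leaf 1168) (.leaf 1987)))))) (.node (.node (.node (.node (.node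 (.leaf 36) (.leaf 1468)) (.node (.leaf 349) (.leaf 1221))) (.node (.node (.leaf 493) (.leaf 954)) (.node (.leaf 885) (.leaf 1929)))) (.node (.node (.node (.leaf 291) (.leaf 1419)) (.node (.leaf 859) (.leaf 1386))) (.node (.node (.leaf 260) (.leaf 1064)) (.node (.leaf 1348) (.leaf 1806))))) (.node (.node (.node (.node (.leaf 198) (.leaf 883)) (.node (.leaf 850) (.leaf 1658))) (.node (.node (.leaf 607) (.leaf 1003)) (.node (.leaf 821) (.leaf 1909)))) (.node (.node (.node (.leaf 413) (.leaf 1186)) (.node (.leaf 1129) (.leaf 1470))) (.node (.node (.leaf 762) (.leaf 1171)) (.node (.leaf 686) (.leaf 2051)))))))) (.node (.node (.node (.node (.node (.node (.node (.node (.leaf 5) (.leaf 2061)) (.leaf 1406)) (.node (.leaf 792) (.leaf 1807))) (.node (.node (.leaf 158) (.leaf 1540)) (.node (.leaf 513) (.leaf 1972)))) (.node (.node (.node (.leaf 82) (.leaf 974)) (.node (.leaf 416) (.leaf 1901))) (.node (.node (.leaf 650) (.leaf 1740)) (.node (.leaf 1300) (.leaf 1791))))) (.node (.node (.node (.node (.leaf 132) (.leaf 733)) (.node (.leaf 902) (.leaf 1610))) (.node (.node (.leaf 328) (.leaf 1294)) (.node (.leaf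 1223) (.leaf 1617)))) (.node (.node (.node (.leaf 340) (.leaf 1587)) (.node (.leaf 1070) (.leaf 1751))) (.node (.node (.leaf 461) (.leaf 1116)) (.node (.leaf 630) (.leaf 2035)))))) (.node (.node (.node (.node (.node (.leaf 79) (.leaf 711)) (.node (.leaf 541) (.leaf 1581))) (.node (.node (.leaf 482) (.leaf 930)) (.node (.leaf 1042) (.leaf 1966)))) (.node (.node (.node (.leaf 108) (.leaf 805)) (.node (.leaf 1012) (.leaf 1708))) (.node (.node (.leaf 695) (.leaf 1768)) (.node (.leaf 1341) (.leaf 2029))))) (.node (.node (.node (.node (.leaf 174) (.leaf 1527)) (.node (.leaf 964) (.leaf 1885))) (.node (.node (.leaf 604) (.leaf 1389)) (.node (.leaf 873) (.leaf 1677)))) (.node (.node (.node (.leaf 398) (.leaf 1180)) (.node (.leaf 462) (.leaf 1460))) (.node (.node (.leaf 309) (.leaf 1692)) (.node (.leaf 678) (.leaf 1965))))))) (.node (.node (.node (.node (.node (.node (.node (.leaf 15) (.leaf 2077)) (.leaf 1382)) (.node (.leaf 557) (.leaf 1329))) (.node (.node (.leaf 167) (.leaf 1498)) (.node (.leaf 535) (.leaf 1562)))) (.node (.node (.node (.leaf 92) (.leaf 1383)) (.node (.leaf 431) (.leaf 1358))) (.node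 (.node (.leaf 245) (.leaf 1757)) (.node (.leaf 751) (.leaf 1949))))) (.node (.node (.node (.node (.leaf 160) (.leaf 1117)) (.node (.leaf 605) (.leaf 1276))) (.node (.node (.leaf 565) (.leaf 983)) (.node (.leaf 1019) (.leaf 1645)))) (.node (.node (.node (.leaf 376) (.leaf 852)) (.node (.leaf 1101) (.leaf 1437))) (.node (.node (.leaf 336) (.leaf 1299)) (.node (.leaf 641) (.leaf 1897)))))) (.node (.node (.node (.node (.node (.leaf 33) (.leaf 1488)) (.node (.leaf 344) (.leaf 1232))) (.node (.node (.leaf 499) (.leaf 941)) (.node (.leaf 528) (.leaf 1853)))) (.node (.node (.node (.leaf 258) (.leaf 1403)) (.node (.leaf 543) (.leaf 1796))) (.node (.node (.leaf 276) (.leaf 1078)) (.node (.leaf 1345) (.leaf 1981))))) (.node (.node (.node (.node (.leaf 211) (.leaf 1152)) (.node (.leaf 975) (.leaf 1310))) (.node (.node (.leaf 590) (.leaf 1211)) (.node (.leaf 580) (.leaf 1930)))) (.node (.node (.node (.leaf 406) (.leaf 890)) (.node (.leaf 475) (.leaf 1789))) (.node (.node (.leaf 302) (.leaf 1533)) (.node (.leaf 667) (.leaf 2045)))))))))) (.node (.node (.node (.node (.node (.node (.node (.node (.node (.node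 (.leaf 3) (.leaf 2037)) (.leaf 671)) (.node (.leaf 763) (.leaf 1827))) (.node (.node (.leaf 193) (.leaf 896)) (.node (.leaf 502) (.leaf 1511)))) (.node (.node (.node (.leaf 222) (.leaf 818)) (.node (.leaf 643) (.leaf 1316))) (.node (.node (.leaf 230) (.leaf 1046)) (.node (.leaf 900) (.leaf 1923))))) (.node (.node (.node (.node (.leaf 64) (.leaf 725)) (.node (.leaf 892) (.leaf 1481))) (.node (.node (.leaf 546) (.leaf 948)) (.node (.leaf 542) (.leaf 1809)))) (.node (.node (.node (.leaf 192) (.leaf 840)) (.node (.leaf 464) (.leaf 1573))) (.node (.node (.leaf 731) (.leaf 1074)) (.node (.leaf 619) (.leaf 2005)))))) (.node (.node (.node (.node (.node (.leaf 18) (.leaf 1456)) (.node (.leaf 866) (.leaf 1750))) (.node (.node (.leaf 181) (.leaf 1120)) (.node (.leaf 1151) (.leaf 1539)))) (.node (.node (.node (.leaf 265) (.leaf 1530)) (.node (.leaf 676) (.leaf 1922))) (.node (.node (.leaf 656) (.leaf 1608)) (.node (.leaf 595) (.leaf 1788))))) (.node (.node (.node (.node (.leaf 171) (.leaf 1346)) (.node (.leaf 951) (.leaf 1285))) (.node (.node (.leaf 571) (.leaf 1556)) (.node (.leaf 1018) (.leaf 1656))))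 (.node (.node (.node (.leaf 227) (.leaf 1284)) (.node (.leaf 1109) (.leaf 1446))) (.node (.node (.leaf 778) (.leaf 1604)) (.node (.leaf 995) (.leaf 2019))))))) (.node (.node (.node (.node (.node (.node (.node (.leaf 9) (.leaf 2067)) (.leaf 683)) (.node (.leaf 832) (.leaf 1555))) (.node (.node (.leaf 438) (.leaf 1501)) (.node (.leaf 1132) (.leaf 1793)))) (.node (.node (.node (.leaf 239) (.leaf 1525)) (.node (.leaf 403) (.leaf 1595))) (.node (.node (.leaf 659) (.leaf 1732)) (.node (.leaf 1280) (.leaf 2021))))) (.node (.node (.node (.node (.leaf 143) (.leaf 1107)) (.node (.leaf 931) (.leaf 1561))) (.node (.node (.leaf 204) (.leaf 961)) (.node (.leaf 536) (.leaf 1895)))) (.node (.node (.node (.leaf 125) (.leaf 842)) (.node (.leaf 1088) (.leaf 1941))) (.node (.node (.leaf 519) (.leaf 1090)) (.node (.leaf 1166) (.leaf 1963)))))) (.node (.node (.node (.node (.node (.leaf 27) (.leaf 715)) (.node (.leaf 889) (.leaf 1229))) (.node (.node (.leaf 491) (.leaf 1566)) (.node (.leaf 1105) (.leaf 1843)))) (.node (.node (.node (.leaf 288) (.leaf 1580)) (.node (.leaf 665) (.leaf 1448))) (.node (.node (.leaf 705)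 (.leaf 1063)) (.node (.leaf 754) (.leaf 1881))))) (.node (.node (.node (.node (.leaf 113) (.leaf 764)) (.node (.leaf 971) (.leaf 1647))) (.node (.node (.leaf 218) (.leaf 1395)) (.node (.leaf 1141) (.leaf 1786)))) (.node (.node (.node (.leaf 151) (.leaf 1281)) (.node (.leaf 1083) (.leaf 1478))) (.node (.node (.leaf 317) (.leaf 1148)) (.node (.leaf 684) (.leaf 1997)))))))) (.node (.node (.node (.node (.node (.node (.node (.node (.leaf 23) (.leaf 2059)) (.leaf 677)) (.node (.leaf 791) (.leaf 1832))) (.node (.node (.leaf 452) (.leaf 1642)) (.node (.leaf 511) (.leaf 1659)))) (.node (.node (.node (.leaf 236) (.leaf 1550)) (.node (.leaf 414) (.leaf 1903))) (.node (.node (.leaf 235) (.leaf 1205)) (.node (.leaf 575) (.leaf 2022))))) (.node (.node (.node (.node (.leaf 128) (.leaf 918)) (.node (.leaf 736) (.leaf 1713))) (.node (.node (.leaf 329) (.leaf 955)) (.node (.leaf 529) (.leaf 2001)))) (.node (.node (.node (.leaf 346) (.leaf 1449)) (.node (.leaf 1075) (.leaf 1936))) (.node (.node (.leaf 719) (.leaf 1113)) (.node (.leaf 627) (.leaf 1862)))))) (.node (.node (.node (.node (.node (.leaf 71) (.leaf 710))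 (.node (.leaf 330) (.leaf 1852))) (.node (.node (.leaf 480) (.leaf 934)) (.node (.leaf 1208) (.leaf 1712)))) (.node (.node (.node (.leaf 99) (.leaf 1435)) (.node (.leaf 1043) (.leaf 1362))) (.node (.node (.leaf 424) (.leaf 1451)) (.node (.leaf 601) (.leaf 2003))))) (.node (.node (.node (.node (.leaf 172) (.leaf 786)) (.node (.leaf 963) (.leaf 1296))) (.node (.node (.leaf 223) (.leaf 988)) (.node (.leaf 1260) (.leaf 1668)))) (.node (.node (.node (.leaf 395) (.leaf 1372)) (.node (.leaf 747) (.leaf 1458))) (.node (.node (.leaf 307) (.leaf 1665)) (.node (.leaf 1397) (.leaf 2027))))))) (.node (.node (.node (.node (.node (.node (.node (.leaf 51) (.leaf 2075)) (.leaf 1246)) (.node (.leaf 319) (.leaf 1833))) (.node (.node (.leaf 199) (.leaf 1302)) (.node (.leaf 1023) (.leaf 1819)))) (.node (.node (.node (.leaf 261) (.leaf 847)) (.node (.leaf 1021) (.leaf 1691))) (.node (.node (.leaf 672) (.leaf 1195)) (.node (.leaf 1103) (.leaf 2025))))) (.node (.node (.node (.node (.leaf 65) (.leaf 1484)) (.node (.leaf 942) (.leaf 1628))) (.node (.node (.leaf 576) (.leaf 1552)) (.node (.leaf 693) (.leaf 1641)))) (.node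 (.node (.node (.leaf 129) (.leaf 1560)) (.node (.leaf 451) (.leaf 1913))) (.node (.node (.leaf 765) (.leaf 1100)) (.node (.leaf 982) (.leaf 1894)))))) (.node (.node (.node (.node (.node (.leaf 32) (.leaf 755)) (.node (.leaf 355) (.leaf 1683))) (.node (.node (.leaf 497) (.leaf 1339)) (.node (.leaf 1176) (.leaf 1578)))) (.node (.node (.node (.leaf 187) (.leaf 1405)) (.node (.leaf 1025) (.leaf 1400))) (.node (.node (.leaf 263) (.leaf 1076)) (.node (.leaf 1355) (.leaf 1979))))) (.node (.node (.node (.node (.leaf 201) (.leaf 1522)) (.node (.leaf 386) (.leaf 1803))) (.node (.node (.leaf 593) (.leaf 1213)) (.node (.leaf 578) (.leaf 1914)))) (.node (.node (.node (.leaf 148) (.leaf 1286)) (.node (.leaf 515) (.leaf 1954))) (.node (.node (.leaf 812) (.leaf 1216)) (.node (.leaf 861) (.leaf 2043))))))))) (.node (.node (.node (.node (.node (.node (.node (.node (.node (.leaf 7) (.leaf 2032)) (.leaf 1353)) (.node (.leaf 467) (.leaf 1381))) (.node (.node (.leaf 443) (.leaf 1287)) (.node (.leaf 506) (.leaf 1724)))) (.node (.node (.node (.leaf 135) (.leaf 1172)) (.node (.leaf 647) (.leaf 1319))) (.node (.node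 (.leaf 390) (.leaf 1225)) (.node (.leaf 962) (.leaf 1967))))) (.node (.node (.node (.node (.leaf 43) (.leaf 737)) (.node (.leaf 920) (.leaf 1857))) (.node (.node (.leaf 191) (.leaf 1402)) (.node (.leaf 526) (.leaf 1996)))) (.node (.node (.node (.leaf 283) (.leaf 845)) (.node (.leaf 1069) (.leaf 1704))) (.node (.node (.leaf 729) (.leaf 1479)) (.node (.leaf 1007) (.leaf 1991)))))) (.node (.node (.node (.node (.node (.leaf 70) (.leaf 1459)) (.node (.leaf 326) (.leaf 1574))) (.node (.node (.leaf 185) (.leaf 1671)) (.node (.leaf 1200) (.leaf 1984)))) (.node (.node (.node (.leaf 285) (.leaf 952)) (.node (.leaf 1006) (.leaf 1734))) (.node (.node (.leaf 422) (.leaf 1050)) (.node (.leaf 613) (.leaf 2028))))) (.node (.node (.node (.node (.leaf 58) (.leaf 1487)) (.node (.leaf 946) (.leaf 1801))) (.node (.node (.leaf 210) (.leaf 1181)) (.node (.leaf 550) (.leaf 1875)))) (.node (.node (.node (.leaf 388) (.leaf 1173)) (.node (.leaf 1080) (.leaf 1948))) (.node (.node (.leaf 784) (.leaf 1795)) (.node (.leaf 648) (.leaf 2023))))))) (.node (.node (.node (.node (.node (.node (.node (.leaf 11) (.leaf 2071)) (.leaf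 1442)) (.node (.leaf 797) (.leaf 1178))) (.node (.node (.leaf 473) (.leaf 1655)) (.node (.leaf 523) (.leaf 1519)))) (.node (.node (.node (.leaf 243) (.leaf 826)) (.node (.leaf 426) (.leaf 1336))) (.node (.node (.leaf 254) (.leaf 1733)) (.node (.leaf 1312) (.leaf 1943))))) (.node (.node (.node (.node (.leaf 149) (.leaf 1188)) (.node (.leaf 377) (.leaf 1602))) (.node (.node (.leaf 208) (.leaf 1125)) (.node (.leaf 1249) (.leaf 1636)))) (.node (.node (.node (.leaf 367) (.leaf 1106)) (.node (.leaf 1093) (.leaf 1741))) (.node (.node (.leaf 278) (.leaf 1096)) (.node (.leaf 1373) (.leaf 2007)))))) (.node (.node (.node (.node (.node (.leaf 98) (.leaf 742)) (.node (.leaf 898) (.leaf 1240))) (.node (.node (.leaf 527) (.leaf 969)) (.node (.leaf 744) (.leaf 1742)))) (.node (.node (.node (.leaf 293) (.leaf 1409)) (.node (.leaf 429) (.leaf 1719))) (.node (.node (.leaf 712) (.leaf 1775)) (.node (.leaf 611) (.leaf 1816))))) (.node (.node (.node (.node (.leaf 69) (.leaf 1538)) (.node (.leaf 382) (.leaf 1303))) (.node (.node (.leaf 620) (.leaf 1001)) (.node (.leaf 1271) (.leaf 1911)))) (.node (.node (.node (.leaf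 399) (.leaf 887)) (.node (.leaf 489) (.leaf 1784))) (.node (.node (.leaf 772) (.leaf 1133)) (.node (.leaf 658) (.leaf 1977)))))))) (.node (.node (.node (.node (.node (.node (.node (.node (.leaf 29) (.leaf 2064)) (.leaf 1430)) (.node (.leaf 311) (.leaf 1370))) (.node (.node (.leaf 159) (.leaf 906)) (.node (.leaf 486) (.leaf 1549)))) (.node (.node (.node (.leaf 83) (.leaf 980)) (.node (.leaf 418) (.leaf 1678))) (.node (.node (.leaf 247) (.leaf 1726)) (.node (.leaf 914) (.leaf 1790))))) (.node (.node (.node (.node (.leaf 45) (.leaf 923)) (.node (.leaf 356) (.leaf 1618))) (.node (.node (.leaf 197) (.leaf 1288)) (.node (.leaf 1179) (.leaf 1838)))) (.node (.node (.node (.leaf 342) (.leaf 1592)) (.node (.leaf 459) (.leaf 1422))) (.node (.node (.leaf 273) (.leaf 1127)) (.node (.leaf 637) (.leaf 2052)))))) (.node (.node (.node (.node (.node (.leaf 47) (.leaf 1471)) (.node (.leaf 766) (.leaf 1605))) (.node (.node (.leaf 484) (.leaf 1680)) (.node (.leaf 508) (.leaf 1908)))) (.node (.node (.node (.leaf 298) (.leaf 1576)) (.node (.leaf 421) (.leaf 1834))) (.node (.node (.leaf 669) (.leaf 1769)) (.node (.leaf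 943) (.leaf 1927))))) (.node (.node (.node (.node (.leaf 153) (.leaf 798)) (.node (.leaf 937) (.leaf 1651))) (.node (.node (.leaf 215) (.leaf 1391)) (.node (.leaf 872) (.leaf 1675)))) (.node (.node (.node (.leaf 147) (.leaf 1265)) (.node (.leaf 925) (.leaf 1463))) (.node (.node (.leaf 492) (.leaf 1815)) (.node (.leaf 967) (.leaf 2058))))))) (.node (.node (.node (.node (.node (.node (.node (.leaf 57) (.leaf 2079)) (.leaf 1055)) (.node (.leaf 701) (.leaf 1567))) (.node (.node (.leaf 178) (.leaf 1662)) (.node (.leaf 886) (.leaf 1823)))) (.node (.node (.node (.leaf 271) (.leaf 849)) (.node (.leaf 1027) (.leaf 1916))) (.node (.node (.leaf 652) (.leaf 1696)) (.node (.leaf 1320) (.leaf 1951))))) (.node (.node (.node (.node (.leaf 54) (.leaf 748)) (.node (.leaf 373) (.leaf 1878))) (.node (.node (.leaf 585) (.leaf 1714)) (.node (.leaf 544) (.leaf 1887)))) (.node (.node (.node (.leaf 363) (.leaf 1606)) (.node (.leaf 1094) (.leaf 1440))) (.node (.node (.leaf 284) (.leaf 1212)) (.node (.leaf 991) (.leaf 1957)))))) (.node (.node (.node (.node (.node (.leaf 90) (.leaf 1489)) (.node (.leaf 907) (.leaf 1802)))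 (.node (.node (.leaf 539) (.leaf 1343)) (.node (.leaf 520) (.leaf 1872)))) (.node (.node (.node (.leaf 327) (.leaf 1268)) (.node (.leaf 1058) (.leaf 1888))) (.node (.node (.leaf 724) (.leaf 1071)) (.node (.leaf 688) (.leaf 2041))))) (.node (.node (.node (.node (.leaf 216) (.leaf 803)) (.node (.leaf 976) (.leaf 1314))) (.node (.node (.leaf 632) (.leaf 1038)) (.node (.leaf 566) (.leaf 1919)))) (.node (.node (.node (.leaf 428) (.leaf 1632)) (.node (.leaf 1144) (.leaf 1933))) (.node (.node (.leaf 779) (.leaf 1264)) (.node (.leaf 795) (.leaf 1994)))))))))))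

/-- A table. -/
noncomputable def fixOrbNext5 : BTree := .node fixOrbNext5L fixOrbNext5R

/-- Part of a table. -/
noncomputable def fixOrbSrtL : BTree := (.node (.node (.node (.node (.node (.node (.node (.node (.node (.node (.node (.leaf 2076) (.leaf 2078)) (.leaf 173)) (.node (.leaf 1272) (.leaf 1220))) (.node (.node (.leaf 794) (.leaf 582)) (.node (.leaf 99) (.leaf 409)))) (.node (.node (.node (.leaf 1279) (.leaf 814)) (.node (.leaf 927) (.leaf 759))) (.node (.node (.leaf 1543) (.leaf 719)) (.node (.leaf 690) (.leaf 885))))) (.node (.node (.node (.node (.leaf 1967) (.leaf 2003)) (.node (.leaf 21) (.leaf 1448))) (.node (.node (.leaf 1894) (.leaf 635)) (.node (.leaf 1359) (.leaf 659)))) (.node (.node (.node (.leaf 1276) (.leaf 946)) (.node (.leaf 1850) (.leaf 1499))) (.node (.node (.leaf 45) (.leaf 2062)) (.node (.leaf 1098) (.leaf 284)))))) (.node (.node (.node (.node (.node (.leaf 2026) (.leaf 41)) (.node (.leaf 1939) (.leaf 1266))) (.node (.node (.leaf 360) (.leaf 651)) (.node (.leaf 675) (.leaf 1025)))) (.node (.node (.node (.leaf 1007) (.leaf 799)) (.node (.leaf 705) (.leaf 1682))) (.node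 (.node (.leaf 910) (.leaf 197)) (.node (.leaf 226) (.leaf 817))))) (.node (.node (.node (.node (.leaf 726) (.leaf 1240)) (.node (.leaf 2039) (.leaf 167))) (.node (.node (.leaf 1645) (.leaf 1735)) (.node (.leaf 655) (.leaf 100)))) (.node (.node (.node (.leaf 1213) (.leaf 1139)) (.node (.leaf 1961) (.leaf 1749))) (.node (.node (.leaf 1690) (.leaf 1006)) (.node (.leaf 1914) (.leaf 152))))))) (.node (.node (.node (.node (.node (.node (.node (.leaf 914) (.leaf 1555)) (.leaf 752)) (.node (.leaf 1447) (.leaf 1147))) (.node (.node (.leaf 1879) (.leaf 1533)) (.node (.leaf 414) (.leaf 717)))) (.node (.node (.node (.leaf 120) (.leaf 897)) (.node (.leaf 873) (.leaf 322))) (.node (.node (.leaf 1349) (.leaf 1351)) (.node (.leaf 201) (.leaf 1430))))) (.node (.node (.node (.node (.leaf 1860) (.leaf 1081)) (.node (.leaf 106) (.leaf 467))) (.node (.node (.leaf 1545) (.leaf 1165)) (.node (.leaf 203) (.leaf 1550)))) (.node (.node (.node (.leaf 484) (.leaf 590)) (.node (.leaf 118) (.leaf 1568))) (.node (.node (.leaf 775) (.leaf 1317)) (.node (.leaf 1587) (.leaf 64)))))) (.node (.node (.node (.node (.node (.leaf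 1656) (.leaf 376)) (.node (.leaf 1642) (.leaf 1777))) (.node (.node (.leaf 1183) (.leaf 1197)) (.node (.leaf 1478) (.leaf 1469)))) (.node (.node (.node (.leaf 148) (.leaf 1683)) (.node (.leaf 1401) (.leaf 1509))) (.node (.node (.leaf 1028) (.leaf 1479)) (.node (.leaf 1423) (.leaf 678))))) (.node (.node (.node (.node (.leaf 1444) (.leaf 1466)) (.node (.leaf 1756) (.leaf 699))) (.node (.node (.leaf 498) (.leaf 985)) (.node (.leaf 648) (.leaf 831)))) (.node (.node (.node (.leaf 2063) (.leaf 581)) (.node (.leaf 884) (.leaf 1143))) (.node (.node (.leaf 2073) (.leaf 1218)) (.node (.leaf 565) (.leaf 1730)))))))) (.node (.node (.node (.node (.node (.node (.node (.node (.leaf 1685) (.leaf 1389)) (.leaf 2019)) (.node (.leaf 1757) (.leaf 1169))) (.node (.node (.leaf 588) (.leaf 1812)) (.node (.leaf 744) (.leaf 1476)))) (.node (.node (.node (.leaf 1786) (.leaf 1442)) (.node (.leaf 76) (.leaf 1216))) (.node (.node (.leaf 1314) (.leaf 175)) (.node (.leaf 155) (.leaf 1524))))) (.node (.node (.node (.node (.leaf 390) (.leaf 1861)) (.node (.leaf 1639) (.leaf 486))) (.node (.node (.leaf 1074) (.leaf 1641)) (.node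 (.leaf 1557) (.leaf 1934)))) (.node (.node (.node (.leaf 680) (.leaf 730)) (.node (.leaf 960) (.leaf 828))) (.node (.node (.leaf 2033) (.leaf 84)) (.node (.leaf 525) (.leaf 858)))))) (.node (.node (.node (.node (.node (.leaf 1767) (.leaf 1066)) (.node (.leaf 466) (.leaf 1738))) (.node (.node (.leaf 427) (.leaf 271)) (.node (.leaf 1398) (.leaf 1226)))) (.node (.node (.node (.leaf 609) (.leaf 1369)) (.node (.leaf 958) (.leaf 1965))) (.node (.node (.leaf 754) (.leaf 1438)) (.node (.leaf 32) (.leaf 1246))))) (.node (.node (.node (.node (.leaf 1579) (.leaf 606)) (.node (.leaf 1859) (.leaf 1561))) (.node (.node (.leaf 1026) (.leaf 724)) (.node (.leaf 156) (.leaf 456)))) (.node (.node (.node (.leaf 1858) (.leaf 1411)) (.node (.leaf 1790) (.leaf 1433))) (.node (.node (.leaf 1412) (.leaf 1882)) (.node (.leaf 1510) (.leaf 645))))))) (.node (.node (.node (.node (.node (.node (.node (.leaf 1341) (.leaf 396)) (.leaf 349)) (.node (.leaf 1982) (.leaf 1547))) (.node (.node (.leaf 1898) (.leaf 1528)) (.node (.leaf 1046) (.leaf 1614)))) (.node (.node (.node (.leaf 1661) (.leaf 921)) (.node (.leaf 459) (.leaf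 193))) (.node (.node (.leaf 1663) (.leaf 877)) (.node (.leaf 742) (.leaf 1938))))) (.node (.node (.node (.node (.leaf 1325) (.leaf 47)) (.node (.leaf 2008) (.leaf 1161))) (.node (.node (.leaf 1544) (.leaf 408)) (.node (.leaf 407) (.leaf 336)))) (.node (.node (.node (.leaf 809) (.leaf 1136)) (.node (.leaf 1998) (.leaf 1039))) (.node (.node (.leaf 219) (.leaf 2065)) (.node (.leaf 695) (.leaf 195)))))) (.node (.node (.node (.node (.node (.leaf 2075) (.leaf 899)) (.node (.leaf 1065) (.leaf 1558))) (.node (.node (.leaf 792) (.leaf 2068)) (.node (.leaf 767) (.leaf 1345)))) (.node (.node (.node (.leaf 1362) (.leaf 1000)) (.node (.leaf 6) (.leaf 116))) (.node (.node (.leaf 1968) (.leaf 112)) (.node (.leaf 1752) (.leaf 1228))))) (.node (.node (.node (.node (.leaf 1761) (.leaf 1296)) (.node (.leaf 287) (.leaf 1245))) (.node (.node (.leaf 103) (.leaf 485)) (.node (.leaf 1874) (.leaf 243)))) (.node (.node (.node (.leaf 984) (.leaf 1271)) (.node (.leaf 1295) (.leaf 1352))) (.node (.node (.leaf 1054) (.leaf 889)) (.node (.leaf 1608) (.leaf 1974))))))))) (.node (.node (.node (.node (.node (.node (.node (.node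 (.node (.leaf 1686) (.leaf 1981)) (.leaf 1887)) (.node (.leaf 27) (.leaf 693))) (.node (.node (.leaf 793) (.leaf 686)) (.node (.leaf 2047) (.leaf 320)))) (.node (.node (.node (.leaf 73) (.leaf 1269)) (.node (.leaf 18) (.leaf 969))) (.node (.node (.leaf 1795) (.leaf 429)) (.node (.leaf 1483) (.leaf 387))))) (.node (.node (.node (.node (.leaf 1854) (.leaf 1084)) (.node (.leaf 950) (.leaf 617))) (.node (.node (.leaf 1769) (.leaf 1540)) (.node (.leaf 1052) (.leaf 1565)))) (.node (.node (.node (.leaf 589) (.leaf 2036)) (.node (.leaf 107) (.leaf 1586))) (.node (.node (.leaf 1400) (.leaf 344)) (.node (.leaf 190) (.leaf 768)))))) (.node (.node (.node (.node (.node (.leaf 1307) (.leaf 314)) (.node (.leaf 776) (.leaf 1831))) (.node (.node (.leaf 932) (.leaf 311)) (.node (.leaf 945) (.leaf 650)))) (.node (.node (.node (.leaf 1707) (.leaf 516)) (.node (.leaf 1669) (.leaf 740))) (.node (.node (.leaf 46) (.leaf 1436)) (.node (.leaf 317) (.leaf 191))))) (.node (.node (.node (.node (.leaf 1578) (.leaf 1966)) (.node (.leaf 1851) (.leaf 56))) (.node (.node (.leaf 673) (.leaf 1222)) (.node (.leaf 830) (.leaf 568))))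 (.node (.node (.node (.leaf 127) (.leaf 1331)) (.node (.leaf 1330) (.leaf 1941))) (.node (.node (.leaf 1291) (.leaf 1808)) (.node (.leaf 761) (.leaf 1527))))))) (.node (.node (.node (.node (.node (.node (.node (.leaf 1947) (.leaf 3)) (.leaf 1204)) (.node (.leaf 1789) (.leaf 748))) (.node (.node (.leaf 75) (.leaf 1945)) (.node (.leaf 1597) (.leaf 1672)))) (.node (.node (.node (.leaf 911) (.leaf 1901)) (.node (.leaf 1283) (.leaf 53))) (.node (.node (.leaf 570) (.leaf 35)) (.node (.leaf 389) (.leaf 1198))))) (.node (.node (.node (.node (.leaf 795) (.leaf 28)) (.node (.leaf 637) (.leaf 561))) (.node (.node (.leaf 1304) (.leaf 1202)) (.node (.leaf 883) (.leaf 1715)))) (.node (.node (.node (.leaf 339) (.leaf 988)) (.node (.leaf 1551) (.leaf 541))) (.node (.node (.leaf 1546) (.leaf 1880)) (.node (.leaf 332) (.leaf 543)))))) (.node (.node (.node (.node (.node (.leaf 1633) (.leaf 1628)) (.node (.leaf 879) (.leaf 521))) (.node (.node (.leaf 2051) (.leaf 425)) (.node (.leaf 968) (.leaf 1989)))) (.node (.node (.node (.leaf 251) (.leaf 676)) (.node (.leaf 1930) (.leaf 139))) (.node (.node (.leaf 1511) (.leaf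 1339)) (.node (.leaf 1431) (.leaf 1426))))) (.node (.node (.node (.node (.leaf 849) (.leaf 933)) (.node (.leaf 1484) (.leaf 935))) (.node (.node (.leaf 1318) (.leaf 1267)) (.node (.leaf 619) (.leaf 325)))) (.node (.node (.node (.leaf 2012) (.leaf 572)) (.node (.leaf 253) (.leaf 1732))) (.node (.node (.leaf 85) (.leaf 668)) (.node (.leaf 1350) (.leaf 1846)))))))) (.node (.node (.node (.node (.node (.node (.node (.node (.leaf 1652) (.leaf 1534)) (.leaf 1363)) (.node (.leaf 691) (.leaf 1821))) (.node (.node (.leaf 1458) (.leaf 1718)) (.node (.leaf 1681) (.leaf 1294)))) (.node (.node (.node (.leaf 1827) (.leaf 1916)) (.node (.leaf 627) (.leaf 114))) (.node (.node (.leaf 1772) (.leaf 1415)) (.node (.leaf 1030) (.leaf 978))))) (.node (.node (.node (.node (.leaf 1662) (.leaf 1951)) (.node (.leaf 318) (.leaf 1864))) (.node (.node (.leaf 1014) (.leaf 919)) (.node (.leaf 313) (.leaf 798)))) (.node (.node (.node (.leaf 1156) (.leaf 199)) (.node (.leaf 1711) (.leaf 811))) (.node (.node (.leaf 1668) (.leaf 784)) (.node (.leaf 840) (.leaf 20)))))) (.node (.node (.node (.node (.node (.leaf 1319) (.leaf 1347))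 (.node (.leaf 260) (.leaf 270))) (.node (.node (.leaf 1884) (.leaf 377)) (.node (.leaf 1481) (.leaf 451)))) (.node (.node (.node (.leaf 952) (.leaf 631)) (.node (.leaf 1983) (.leaf 1693))) (.node (.node (.leaf 1219) (.leaf 10)) (.node (.leaf 1843) (.leaf 863))))) (.node (.node (.node (.node (.leaf 1445) (.leaf 161)) (.node (.leaf 1692) (.leaf 209))) (.node (.node (.leaf 261) (.leaf 983)) (.node (.leaf 213) (.leaf 843)))) (.node (.node (.node (.leaf 908) (.leaf 906)) (.node (.leaf 649) (.leaf 821))) (.node (.node (.leaf 380) (.leaf 1716)) (.node (.leaf 1443) (.leaf 1038))))))) (.node (.node (.node (.node (.node (.node (.node (.leaf 1647) (.leaf 1765)) (.leaf 1581)) (.node (.leaf 1890) (.leaf 734))) (.node (.node (.leaf 966) (.leaf 1244)) (.node (.leaf 1249) (.leaf 1166)))) (.node (.node (.node (.leaf 1008) (.leaf 1210)) (.node (.leaf 1373) (.leaf 1784))) (.node (.node (.leaf 1299) (.leaf 130)) (.node (.leaf 51) (.leaf 683))))) (.node (.node (.node (.node (.leaf 1328) (.leaf 777)) (.node (.leaf 1348) (.leaf 1439))) (.node (.node (.leaf 1300) (.leaf 896)) (.node (.leaf 842) (.leaf 2029)))) (.node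 (.node (.node (.leaf 208) (.leaf 358)) (.node (.leaf 1467) (.leaf 1742))) (.node (.node (.leaf 583) (.leaf 1057)) (.node (.leaf 762) (.leaf 1132)))))) (.node (.node (.node (.node (.node (.leaf 1327) (.leaf 306)) (.node (.leaf 1713) (.leaf 868))) (.node (.node (.leaf 2056) (.leaf 646)) (.node (.leaf 862) (.leaf 423)))) (.node (.node (.node (.leaf 1191) (.leaf 472)) (.node (.leaf 9) (.leaf 1810))) (.node (.node (.leaf 949) (.leaf 1964)) (.node (.leaf 1403) (.leaf 753))))) (.node (.node (.node (.node (.leaf 43) (.leaf 52)) (.node (.leaf 1312) (.leaf 685))) (.node (.node (.leaf 942) (.leaf 2055)) (.node (.leaf 598) (.leaf 953)))) (.node (.node (.node (.leaf 1457) (.leaf 170)) (.node (.leaf 225) (.leaf 634))) (.node (.node (.leaf 78) (.leaf 352)) (.node (.leaf 277) (.leaf 1394)))))))))) (.node (.node (.node (.node (.node (.node (.node (.node (.node (.node (.leaf 2018) (.leaf 2069)) (.leaf 756)) (.node (.leaf 926) (.leaf 1044))) (.node (.node (.leaf 517) (.leaf 48)) (.node (.leaf 369) (.leaf 113)))) (.node (.node (.node (.leaf 131) (.leaf 805)) (.node (.leaf 928) (.leaf 515))) (.node (.node (.leaf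 1950) (.leaf 145)) (.node (.leaf 1485) (.leaf 1621))))) (.node (.node (.node (.node (.leaf 424) (.leaf 1617)) (.node (.leaf 1475) (.leaf 93))) (.node (.node (.leaf 718) (.leaf 1863)) (.node (.leaf 1556) (.leaf 575)))) (.node (.node (.node (.leaf 602) (.leaf 1674)) (.node (.leaf 1402) (.leaf 1625))) (.node (.node (.leaf 1372) (.leaf 1838)) (.node (.leaf 778) (.leaf 1519)))))) (.node (.node (.node (.node (.node (.leaf 2061) (.leaf 745)) (.node (.leaf 1927) (.leaf 632))) (.node (.node (.leaf 930) (.leaf 537)) (.node (.leaf 1549) (.leaf 1832)))) (.node (.node (.node (.leaf 1029) (.leaf 1268)) (.node (.leaf 1667) (.leaf 1185))) (.node (.node (.leaf 214) (.leaf 1488)) (.node (.leaf 109) (.leaf 550))))) (.node (.node (.node (.node (.leaf 513) (.leaf 159)) (.node (.leaf 1664) (.leaf 529))) (.node (.node (.leaf 1771) (.leaf 505)) (.node (.leaf 859) (.leaf 576)))) (.node (.node (.node (.leaf 797) (.leaf 393)) (.node (.leaf 618) (.leaf 1751))) (.node (.node (.leaf 163) (.leaf 1384)) (.node (.leaf 282) (.leaf 432))))))) (.node (.node (.node (.node (.node (.node (.node (.leaf 1650) (.leaf 1541)) (.leaf 522))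 (.node (.leaf 2000) (.leaf 739))) (.node (.node (.leaf 1361) (.leaf 1450)) (.node (.leaf 527) (.leaf 1618)))) (.node (.node (.node (.leaf 1780) (.leaf 1323)) (.node (.leaf 88) (.leaf 1019))) (.node (.node (.leaf 1501) (.leaf 480)) (.node (.leaf 385) (.leaf 1576))))) (.node (.node (.node (.node (.leaf 1212) (.leaf 959)) (.node (.leaf 2006) (.leaf 871))) (.node (.node (.leaf 789) (.leaf 180)) (.node (.leaf 410) (.leaf 405)))) (.node (.node (.node (.leaf 722) (.leaf 1758)) (.node (.leaf 117) (.leaf 188))) (.node (.node (.leaf 704) (.leaf 1059)) (.node (.leaf 878) (.leaf 115)))))) (.node (.node (.node (.node (.node (.leaf 2021) (.leaf 890)) (.node (.leaf 1644) (.leaf 1357))) (.node (.node (.leaf 788) (.leaf 430)) (.node (.leaf 1387) (.leaf 1933)))) (.node (.node (.node (.leaf 370) (.leaf 1367)) (.node (.leaf 1413) (.leaf 1138))) (.node (.node (.leaf 1515) (.leaf 1287)) (.node (.leaf 1088) (.leaf 1427))))) (.node (.node (.node (.node (.leaf 1150) (.leaf 712)) (.node (.leaf 1697) (.leaf 731))) (.node (.node (.leaf 1182) (.leaf 1229)) (.node (.leaf 343) (.leaf 357)))) (.node (.node (.node (.leaf 1878)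 (.leaf 1022)) (.node (.leaf 806) (.leaf 625))) (.node (.node (.leaf 87) (.leaf 1293)) (.node (.leaf 402) (.leaf 1748)))))))) (.node (.node (.node (.node (.node (.node (.node (.node (.leaf 1336) (.leaf 1513)) (.leaf 595)) (.node (.leaf 1799) (.leaf 1823))) (.node (.node (.leaf 1920) (.leaf 1813)) (.node (.leaf 1217) (.leaf 801)))) (.node (.node (.node (.leaf 1632) (.leaf 1232)) (.node (.leaf 218) (.leaf 90))) (.node (.node (.leaf 1106) (.leaf 905)) (.node (.leaf 1601) (.leaf 1101))))) (.node (.node (.node (.node (.leaf 1280) (.leaf 309)) (.node (.leaf 1310) (.leaf 1111))) (.node (.node (.leaf 1610) (.leaf 1322)) (.node (.leaf 1908) (.leaf 1709)))) (.node (.node (.node (.leaf 1734) (.leaf 1382)) (.node (.leaf 1552) (.leaf 359))) (.node (.node (.leaf 1988) (.leaf 769)) (.node (.leaf 925) (.leaf 110)))))) (.node (.node (.node (.node (.node (.leaf 1969) (.leaf 1952)) (.node (.leaf 1775) (.leaf 1729))) (.node (.node (.leaf 1242) (.leaf 95)) (.node (.leaf 539) (.leaf 82)))) (.node (.node (.node (.leaf 17) (.leaf 559)) (.node (.leaf 1292) (.leaf 1995))) (.node (.node (.leaf 176) (.leaf 1289)) (.node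 (.leaf 33) (.leaf 924))))) (.node (.node (.node (.node (.leaf 263) (.leaf 278)) (.node (.leaf 301) (.leaf 566))) (.node (.node (.leaf 1354) (.leaf 727)) (.node (.leaf 436) (.leaf 1108)))) (.node (.node (.node (.leaf 123) (.leaf 1559)) (.node (.leaf 864) (.leaf 1564))) (.node (.node (.leaf 222) (.leaf 1828)) (.node (.leaf 1353) (.leaf 210))))))) (.node (.node (.node (.node (.node (.node (.node (.leaf 1340) (.leaf 1819)) (.leaf 1205)) (.node (.leaf 1825) (.leaf 1365))) (.node (.node (.leaf 1659) (.leaf 823)) (.node (.leaf 235) (.leaf 1146)))) (.node (.node (.node (.leaf 1112) (.leaf 1142)) (.node (.leaf 1504) (.leaf 2016))) (.node (.node (.leaf 587) (.leaf 741)) (.node (.leaf 1506) (.leaf 1753))))) (.node (.node (.node (.node (.leaf 1724) (.leaf 300)) (.node (.leaf 1698) (.leaf 1554))) (.node (.node (.leaf 791) (.leaf 178)) (.node (.leaf 980) (.leaf 373)))) (.node (.node (.node (.leaf 999) (.leaf 851)) (.node (.leaf 956) (.leaf 1743))) (.node (.node (.leaf 1311) (.leaf 12)) (.node (.leaf 552) (.leaf 763)))))) (.node (.node (.node (.node (.node (.leaf 707) (.leaf 654)) (.node (.leaf 729) (.leaf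 1791))) (.node (.node (.leaf 710) (.leaf 643)) (.node (.leaf 1247) (.leaf 1386)))) (.node (.node (.node (.leaf 687) (.leaf 614)) (.node (.leaf 304) (.leaf 1936))) (.node (.node (.leaf 1257) (.leaf 187)) (.node (.leaf 681) (.leaf 1516))))) (.node (.node (.node (.node (.leaf 638) (.leaf 1464)) (.node (.leaf 666) (.leaf 327))) (.node (.node (.leaf 324) (.leaf 1604)) (.node (.leaf 833) (.leaf 1024)))) (.node (.node (.node (.leaf 523) (.leaf 1265)) (.node (.leaf 1408) (.leaf 470))) (.node (.node (.leaf 660) (.leaf 231)) (.node (.leaf 493) (.leaf 1514))))))))) (.node (.node (.node (.node (.node (.node (.node (.node (.node (.leaf 1902) (.leaf 461)) (.leaf 1462)) (.node (.leaf 1594) (.leaf 1820))) (.node (.node (.leaf 1649) (.leaf 679)) (.node (.leaf 1207) (.leaf 1036)))) (.node (.node (.node (.leaf 579) (.leaf 1015)) (.node (.leaf 2004) (.leaf 244))) (.node (.node (.leaf 348) (.leaf 198)) (.node (.leaf 1176) (.leaf 1714))))) (.node (.node (.node (.node (.leaf 1154) (.leaf 11)) (.node (.leaf 790) (.leaf 509))) (.node (.node (.leaf 1797) (.leaf 1900)) (.node (.leaf 150) (.leaf 1378)))) (.node (.node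 (.node (.leaf 1027) (.leaf 1994)) (.node (.leaf 2074) (.leaf 479))) (.node (.node (.leaf 1755) (.leaf 1865)) (.node (.leaf 677) (.leaf 36)))))) (.node (.node (.node (.node (.node (.leaf 1962) (.leaf 1255)) (.node (.leaf 2031) (.leaf 1135))) (.node (.node (.leaf 682) (.leaf 996)) (.node (.leaf 866) (.leaf 519)))) (.node (.node (.node (.leaf 1103) (.leaf 224)) (.node (.leaf 1805) (.leaf 1840))) (.node (.node (.leaf 14) (.leaf 725)) (.node (.leaf 174) (.leaf 1012))))) (.node (.node (.node (.node (.leaf 1694) (.leaf 1959)) (.node (.leaf 1583) (.leaf 574))) (.node (.node (.leaf 492) (.leaf 1158)) (.node (.leaf 149) (.leaf 1529)))) (.node (.node (.node (.leaf 1728) (.leaf 404)) (.node (.leaf 1171) (.leaf 1570))) (.node (.node (.leaf 1785) (.leaf 1105)) (.node (.leaf 766) (.leaf 236))))))) (.node (.node (.node (.node (.node (.node (.node (.leaf 1928) (.leaf 1140)) (.leaf 124)) (.node (.leaf 1239) (.leaf 747))) (.node (.node (.leaf 443) (.leaf 1056)) (.node (.leaf 760) (.leaf 904)))) (.node (.node (.node (.leaf 1680) (.leaf 1495)) (.node (.leaf 465) (.leaf 65))) (.node (.node (.leaf 603) (.leaf 19))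 (.node (.leaf 183) (.leaf 1747))))) (.node (.node (.node (.node (.leaf 1605) (.leaf 940)) (.node (.leaf 553) (.leaf 1163))) (.node (.node (.leaf 1121) (.leaf 1736)) (.node (.leaf 1638) (.leaf 160)))) (.node (.node (.node (.leaf 580) (.leaf 1525)) (.node (.leaf 2001) (.leaf 1490))) (.node (.node (.leaf 1503) (.leaf 2041)) (.node (.leaf 1127) (.leaf 540)))))) (.node (.node (.node (.node (.node (.leaf 71) (.leaf 951)) (.node (.leaf 421) (.leaf 1421))) (.node (.node (.leaf 468) (.leaf 1122)) (.node (.leaf 1096) (.leaf 1679)))) (.node (.node (.node (.leaf 604) (.leaf 400)) (.node (.leaf 1420) (.leaf 394))) (.node (.node (.leaf 876) (.leaf 1943)) (.node (.leaf 1086) (.leaf 1739))))) (.node (.node (.node (.node (.leaf 1346) (.leaf 29)) (.node (.leaf 329) (.leaf 363))) (.node (.node (.leaf 1033) (.leaf 511)) (.node (.leaf 455) (.leaf 514)))) (.node (.node (.node (.leaf 1502) (.leaf 1523)) (.node (.leaf 1953) (.leaf 508))) (.node (.node (.leaf 1018) (.leaf 662)) (.node (.leaf 688) (.leaf 91)))))))) (.node (.node (.node (.node (.node (.node (.node (.node (.leaf 1948) (.leaf 2007)) (.leaf 1173)) (.node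 (.leaf 524) (.leaf 1141))) (.node (.node (.leaf 412) (.leaf 2042)) (.node (.leaf 1053) (.leaf 1619)))) (.node (.node (.node (.leaf 185) (.leaf 1441)) (.node (.leaf 810) (.leaf 701))) (.node (.node (.leaf 2009) (.leaf 172)) (.node (.leaf 491) (.leaf 692))))) (.node (.node (.node (.node (.leaf 1634) (.leaf 1262)) (.node (.leaf 34) (.leaf 1224))) (.node (.node (.leaf 533) (.leaf 132)) (.node (.leaf 384) (.leaf 305)))) (.node (.node (.node (.leaf 723) (.leaf 870)) (.node (.leaf 105) (.leaf 656))) (.node (.node (.leaf 703) (.leaf 1971)) (.node (.leaf 1848) (.leaf 153)))))) (.node (.node (.node (.node (.node (.leaf 441) (.leaf 1627)) (.node (.leaf 802) (.leaf 1776))) (.node (.node (.leaf 1600) (.leaf 1010)) (.node (.leaf 1826) (.leaf 865)))) (.node (.node (.node (.leaf 181) (.leaf 164)) (.node (.leaf 1414) (.leaf 1717))) (.node (.node (.leaf 976) (.leaf 331)) (.node (.leaf 499) (.leaf 815))))) (.node (.node (.node (.node (.leaf 708) (.leaf 1676)) (.node (.leaf 1093) (.leaf 979))) (.node (.node (.leaf 1260) (.leaf 1159)) (.node (.leaf 535) (.leaf 1358)))) (.node (.node (.node (.leaf 1116) (.leaf 171))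 (.node (.leaf 452) (.leaf 1375))) (.node (.node (.leaf 291) (.leaf 1227)) (.node (.leaf 481) (.leaf 546))))))) (.node (.node (.node (.node (.node (.node (.node (.leaf 941) (.leaf 2024)) (.leaf 15)) (.node (.leaf 639) (.leaf 232))) (.node (.node (.leaf 1192) (.leaf 547)) (.node (.leaf 696) (.leaf 457)))) (.node (.node (.node (.leaf 365) (.leaf 1782)) (.node (.leaf 1456) (.leaf 957))) (.node (.node (.leaf 1461) (.leaf 1924)) (.node (.leaf 307) (.leaf 1435))))) (.node (.node (.node (.node (.leaf 922) (.leaf 1585)) (.node (.leaf 79) (.leaf 607))) (.node (.node (.leaf 2020) (.leaf 1003)) (.node (.leaf 463) (.leaf 2048)))) (.node (.node (.node (.leaf 1560) (.leaf 1929)) (.node (.leaf 822) (.leaf 1937))) (.node (.node (.leaf 1671) (.leaf 2)) (.node (.leaf 1931) (.leaf 1531)))))) (.node (.node (.node (.node (.node (.leaf 1957) (.leaf 661)) (.node (.leaf 1455) (.leaf 1234))) (.node (.node (.leaf 1893) (.leaf 2028)) (.node (.leaf 850) (.leaf 1505)))) (.node (.node (.node (.leaf 364) (.leaf 1906)) (.node (.leaf 1507) (.leaf 1815))) (.node (.node (.leaf 964) (.leaf 1940)) (.node (.leaf 1243) (.leaf 1273)))))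 (.node (.node (.node (.node (.leaf 1675) (.leaf 1640)) (.node (.leaf 1883) (.leaf 812))) (.node (.node (.leaf 672) (.leaf 1867)) (.node (.leaf 750) (.leaf 137)))) (.node (.node (.node (.leaf 316) (.leaf 573)) (.node (.leaf 536) (.leaf 544))) (.node (.node (.leaf 1471) (.leaf 1037)) (.node (.leaf 834) (.leaf 1452)))))))))))

/-- Part of a table. -/
noncomputable def fixOrbSrtR : BTree := (.node (.node (.node (.node (.node (.node (.node (.node (.node (.node (.node (.leaf 2060) (.leaf 2072)) (.leaf 23)) (.node (.leaf 1453) (.leaf 530))) (.node (.node (.leaf 982) (.leaf 487)) (.node (.leaf 31) (.leaf 857)))) (.node (.node (.node (.leaf 1321) (.leaf 1573)) (.node (.leaf 4) (.leaf 1187))) (.node (.node (.leaf 1886) (.leaf 50)) (.node (.leaf 1152) (.leaf 1248))))) (.node (.node (.node (.node (.leaf 1875) (.leaf 2002)) (.node (.leaf 1613) (.leaf 698))) (.node (.node (.leaf 594) (.leaf 471)) (.node (.leaf 1274) (.leaf 507)))) (.node (.node (.node (.leaf 1629) (.leaf 1958)) (.node (.leaf 13) (.leaf 1251))) (.node (.node (.leaf 2027) (.leaf 241)) (.node (.leaf 867) (.leaf 289)))))) (.node (.node (.node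 (.node (.node (.leaf 1888) (.leaf 1062)) (.node (.leaf 2015) (.leaf 229))) (.node (.node (.leaf 1313) (.leaf 326)) (.node (.leaf 338) (.leaf 852)))) (.node (.node (.node (.leaf 709) (.leaf 1817)) (.node (.leaf 1881) (.leaf 962))) (.node (.node (.leaf 411) (.leaf 1040)) (.node (.leaf 947) (.leaf 841))))) (.node (.node (.node (.node (.leaf 506) (.leaf 1181)) (.node (.leaf 746) (.leaf 1221))) (.node (.node (.leaf 353) (.leaf 1725)) (.node (.leaf 1410) (.leaf 136)))) (.node (.node (.node (.leaf 847) (.leaf 1134)) (.node (.leaf 1905) (.leaf 1195))) (.node (.node (.leaf 1282) (.leaf 1013)) (.node (.leaf 280) (.leaf 426))))))) (.node (.node (.node (.node (.node (.node (.node (.leaf 915) (.leaf 1923)) (.leaf 72)) (.node (.leaf 986) (.leaf 1167))) (.node (.node (.leaf 1598) (.leaf 1978)) (.node (.leaf 853) (.leaf 83)))) (.node (.node (.node (.leaf 295) (.leaf 888)) (.node (.leaf 450) (.leaf 558))) (.node (.node (.leaf 375) (.leaf 624)) (.node (.leaf 204) (.leaf 807))))) (.node (.node (.node (.node (.leaf 1482) (.leaf 948)) (.node (.leaf 1631) (.leaf 856))) (.node (.node (.leaf 1491) (.leaf 371)) (.node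 (.leaf 388) (.leaf 584)))) (.node (.node (.node (.leaf 1733) (.leaf 629)) (.node (.leaf 974) (.leaf 1407))) (.node (.node (.leaf 916) (.leaf 1498)) (.node (.leaf 1872) (.leaf 334)))))) (.node (.node (.node (.node (.node (.leaf 2058) (.leaf 413)) (.node (.leaf 1250) (.leaf 1326))) (.node (.node (.leaf 1899) (.leaf 1449)) (.node (.leaf 549) (.leaf 894)))) (.node (.node (.node (.leaf 1286) (.leaf 669)) (.node (.leaf 1085) (.leaf 1133))) (.node (.node (.leaf 59) (.leaf 1912)) (.node (.leaf 1703) (.leaf 1572))))) (.node (.node (.node (.node (.leaf 1913) (.leaf 1963)) (.node (.leaf 1091) (.leaf 474))) (.node (.node (.leaf 820) (.leaf 1486)) (.node (.leaf 340) (.leaf 652)))) (.node (.node (.node (.leaf 1657) (.leaf 1842)) (.node (.leaf 1047) (.leaf 591))) (.node (.node (.leaf 2037) (.leaf 1130)) (.node (.leaf 735) (.leaf 1844)))))))) (.node (.node (.node (.node (.node (.node (.node (.node (.leaf 1651) (.leaf 1451)) (.leaf 1068)) (.node (.leaf 1539) (.leaf 2043))) (.node (.node (.leaf 1885) (.leaf 991)) (.node (.leaf 1194) (.leaf 308)))) (.node (.node (.node (.leaf 1973) (.leaf 1606)) (.node (.leaf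 1061) (.leaf 663))) (.node (.node (.leaf 1201) (.leaf 1835)) (.node (.leaf 1285) (.leaf 697))))) (.node (.node (.node (.node (.leaf 200) (.leaf 1177)) (.node (.leaf 1700) (.leaf 1548))) (.node (.node (.leaf 42) (.leaf 442)) (.node (.leaf 248) (.leaf 96)))) (.node (.node (.node (.leaf 1660) (.leaf 1563)) (.node (.leaf 299) (.leaf 379))) (.node (.node (.leaf 1590) (.leaf 290)) (.node (.leaf 102) (.leaf 321)))))) (.node (.node (.node (.node (.node (.leaf 640) (.leaf 1643)) (.node (.leaf 119) (.leaf 166))) (.node (.node (.leaf 1895) (.leaf 133)) (.node (.leaf 1520) (.leaf 1740)))) (.node (.node (.node (.leaf 1344) (.leaf 1759)) (.node (.leaf 1225) (.leaf 2066))) (.node (.node (.leaf 751) (.leaf 1855)) (.node (.leaf 1665) (.leaf 538))))) (.node (.node (.node (.node (.leaf 367) (.leaf 757)) (.node (.leaf 1391) (.leaf 1615))) (.node (.node (.leaf 1035) (.leaf 1918)) (.node (.leaf 216) (.leaf 462)))) (.node (.node (.node (.leaf 1726) (.leaf 1144)) (.node (.leaf 1760) (.leaf 1942))) (.node (.node (.leaf 1099) (.leaf 1591)) (.node (.leaf 490) (.leaf 593))))))) (.node (.node (.node (.node (.node (.node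 (.node (.leaf 1892) (.leaf 1822)) (.leaf 1094)) (.node (.leaf 1381) (.leaf 397))) (.node (.node (.leaf 437) (.leaf 804)) (.node (.leaf 234) (.leaf 1955)))) (.node (.node (.node (.leaf 362) (.leaf 1814)) (.node (.leaf 246) (.leaf 1954))) (.node (.node (.leaf 1064) (.leaf 330)) (.node (.leaf 965) (.leaf 1089))))) (.node (.node (.node (.node (.leaf 597) (.leaf 900)) (.node (.leaf 736) (.leaf 907))) (.node (.node (.leaf 1114) (.leaf 1004)) (.node (.leaf 138) (.leaf 783)))) (.node (.node (.node (.leaf 963) (.leaf 345)) (.node (.leaf 1677) (.leaf 1200))) (.node (.node (.leaf 464) (.leaf 2052)) (.node (.leaf 1020) (.leaf 557)))))) (.node (.node (.node (.node (.node (.leaf 920) (.leaf 80)) (.node (.leaf 1418) (.leaf 1793))) (.node (.node (.leaf 157) (.leaf 2079)) (.node (.leaf 1186) (.leaf 1392)))) (.node (.node (.node (.leaf 923) (.leaf 1128)) (.node (.leaf 1203) (.leaf 38))) (.node (.node (.leaf 1612) (.leaf 66)) (.node (.leaf 1417) (.leaf 1512))))) (.node (.node (.node (.node (.leaf 122) (.leaf 1869)) (.node (.leaf 1404) (.leaf 247))) (.node (.node (.leaf 1120) (.leaf 502)) (.node (.leaf 255) (.leaf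 302)))) (.node (.node (.node (.leaf 1609) (.leaf 1871)) (.node (.leaf 1737) (.leaf 1005))) (.node (.node (.leaf 1446) (.leaf 228)) (.node (.leaf 1794) (.leaf 702))))))))) (.node (.node (.node (.node (.node (.node (.node (.node (.node (.leaf 1910) (.leaf 1107)) (.leaf 943)) (.node (.leaf 1083) (.leaf 254))) (.node (.node (.leaf 2057) (.leaf 1870)) (.node (.leaf 2034) (.leaf 1042)))) (.node (.node (.node (.leaf 265) (.leaf 1334)) (.node (.leaf 2032) (.leaf 954))) (.node (.node (.leaf 1080) (.leaf 836)) (.node (.leaf 827) (.leaf 758))))) (.node (.node (.node (.node (.leaf 1607) (.leaf 626)) (.node (.leaf 460) (.leaf 151))) (.node (.node (.leaf 1305) (.leaf 785)) (.node (.leaf 545) (.leaf 1253)))) (.node (.node (.node (.leaf 207) (.leaf 1986)) (.node (.leaf 664) (.leaf 488))) (.node (.node (.leaf 449) (.leaf 238)) (.node (.leaf 1092) (.leaf 861)))))) (.node (.node (.node (.node (.node (.leaf 1653) (.leaf 1256)) (.node (.leaf 1891) (.leaf 630))) (.node (.node (.leaf 1463) (.leaf 1722)) (.node (.leaf 936) (.leaf 158)))) (.node (.node (.node (.leaf 938) (.leaf 168)) (.node (.leaf 1309) (.leaf 749)))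 (.node (.node (.leaf 26) (.leaf 1016)) (.node (.leaf 1588) (.leaf 1696))))) (.node (.node (.node (.node (.leaf 179) (.leaf 1996)) (.node (.leaf 288) (.leaf 55))) (.node (.node (.leaf 1236) (.leaf 266)) (.node (.leaf 1406) (.leaf 211)))) (.node (.node (.node (.leaf 483) (.leaf 1569)) (.node (.leaf 824) (.leaf 1434))) (.node (.node (.leaf 1123) (.leaf 1383)) (.node (.leaf 382) (.leaf 765))))))) (.node (.node (.node (.node (.node (.node (.node (.leaf 1658) (.leaf 1)) (.leaf 1396)) (.node (.leaf 1343) (.leaf 738))) (.node (.node (.leaf 215) (.leaf 1719)) (.node (.leaf 1526) (.leaf 1472)))) (.node (.node (.node (.leaf 129) (.leaf 1073)) (.node (.leaf 1602) (.leaf 433))) (.node (.node (.leaf 601) (.leaf 554)) (.node (.leaf 186) (.leaf 1741))))) (.node (.node (.node (.node (.leaf 846) (.leaf 1706)) (.node (.leaf 577) (.leaf 403))) (.node (.node (.leaf 1622) (.leaf 1489)) (.node (.leaf 1522) (.leaf 1399)))) (.node (.node (.node (.leaf 633) (.leaf 993)) (.node (.leaf 1712) (.leaf 1428))) (.node (.node (.leaf 1023) (.leaf 1497)) (.node (.leaf 1281) (.leaf 667)))))) (.node (.node (.node (.node (.node (.leaf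 1949) (.leaf 134)) (.node (.leaf 628) (.leaf 415))) (.node (.node (.leaf 2050) (.leaf 835)) (.node (.leaf 1215) (.leaf 1077)))) (.node (.node (.node (.leaf 1337) (.leaf 184)) (.node (.leaf 774) (.leaf 392))) (.node (.node (.leaf 743) (.leaf 1432)) (.node (.leaf 1849) (.leaf 1571))))) (.node (.node (.node (.node (.leaf 1366) (.leaf 16)) (.node (.leaf 1110) (.leaf 125))) (.node (.node (.leaf 294) (.leaf 1577)) (.node (.leaf 893) (.leaf 453)))) (.node (.node (.node (.leaf 1654) (.leaf 981)) (.node (.leaf 615) (.leaf 1211))) (.node (.node (.leaf 917) (.leaf 542)) (.node (.leaf 202) (.leaf 258)))))))) (.node (.node (.node (.node (.node (.node (.node (.node (.leaf 2017) (.leaf 2040)) (.leaf 596)) (.node (.leaf 694) (.leaf 1824))) (.node (.node (.leaf 1315) (.leaf 2044)) (.node (.leaf 1097) (.leaf 237)))) (.node (.node (.node (.leaf 1360) (.leaf 1935)) (.node (.leaf 444) (.leaf 1021))) (.node (.node (.leaf 1338) (.leaf 837)) (.node (.leaf 874) (.leaf 1592))))) (.node (.node (.node (.node (.leaf 417) (.leaf 439)) (.node (.leaf 1124) (.leaf 2035))) (.node (.node (.leaf 92) (.leaf 272)) (.node (.leaf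 1542) (.leaf 281)))) (.node (.node (.node (.leaf 1155) (.leaf 1779)) (.node (.leaf 1985) (.leaf 1582))) (.node (.node (.leaf 1666) (.leaf 435)) (.node (.leaf 303) (.leaf 154)))))) (.node (.node (.node (.node (.node (.leaf 440) (.leaf 1991)) (.node (.leaf 825) (.leaf 1070))) (.node (.node (.leaf 1873) (.leaf 372)) (.node (.leaf 1252) (.leaf 223)))) (.node (.node (.node (.leaf 1355) (.leaf 2022)) (.node (.leaf 1087) (.leaf 1377))) (.node (.node (.leaf 1459) (.leaf 194)) (.node (.leaf 829) (.leaf 1405))))) (.node (.node (.node (.node (.leaf 721) (.leaf 386)) (.node (.leaf 1704) (.leaf 1521))) (.node (.node (.leaf 1635) (.leaf 1095)) (.node (.leaf 146) (.leaf 1589)))) (.node (.node (.node (.leaf 126) (.leaf 57)) (.node (.leaf 1695) (.leaf 854))) (.node (.node (.leaf 967) (.leaf 992)) (.node (.leaf 1009) (.leaf 416))))))) (.node (.node (.node (.node (.node (.node (.node (.leaf 1298) (.leaf 1764)) (.leaf 8)) (.node (.leaf 1977) (.leaf 562))) (.node (.node (.leaf 518) (.leaf 855)) (.node (.leaf 1833) (.leaf 1997)))) (.node (.node (.node (.leaf 891) (.leaf 504)) (.node (.leaf 737) (.leaf 1468))) (.node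 (.node (.leaf 1261) (.leaf 500)) (.node (.leaf 720) (.leaf 1425))))) (.node (.node (.node (.node (.leaf 872) (.leaf 1380)) (.node (.leaf 1259) (.leaf 1332))) (.node (.node (.leaf 610) (.leaf 1115)) (.node (.leaf 1109) (.leaf 1862)))) (.node (.node (.node (.leaf 512) (.leaf 1409)) (.node (.leaf 934) (.leaf 510))) (.node (.node (.leaf 714) (.leaf 1316)) (.node (.leaf 782) (.leaf 1530)))))) (.node (.node (.node (.node (.node (.leaf 1781) (.leaf 1031)) (.node (.leaf 1032) (.leaf 1051))) (.node (.node (.leaf 2064) (.leaf 1837)) (.node (.leaf 381) (.leaf 144)))) (.node (.node (.node (.leaf 902) (.leaf 1473)) (.node (.leaf 555) (.leaf 898))) (.node (.node (.leaf 1063) (.leaf 1691)) (.node (.leaf 534) (.leaf 1284))))) (.node (.node (.node (.node (.leaf 1646) (.leaf 1804)) (.node (.leaf 1670) (.leaf 89))) (.node (.node (.leaf 354) (.leaf 1868)) (.node (.leaf 1179) (.leaf 378)))) (.node (.node (.node (.leaf 1162) (.leaf 142)) (.node (.leaf 1474) (.leaf 733))) (.node (.node (.leaf 929) (.leaf 418)) (.node (.leaf 315) (.leaf 1395)))))))))) (.node (.node (.node (.node (.node (.node (.node (.node (.node (.node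 (.leaf 1909) (.leaf 1979)) (.leaf 531)) (.node (.leaf 1079) (.leaf 257))) (.node (.node (.leaf 1190) (.leaf 249)) (.node (.leaf 2038) (.leaf 328)))) (.node (.node (.node (.leaf 892) (.leaf 1002)) (.node (.leaf 262) (.leaf 787))) (.node (.node (.leaf 1809) (.leaf 971)) (.node (.leaf 1611) (.leaf 256))))) (.node (.node (.node (.node (.leaf 755) (.leaf 2067)) (.node (.leaf 569) (.leaf 94))) (.node (.node (.leaf 44) (.leaf 770)) (.node (.leaf 658) (.leaf 2005)))) (.node (.node (.node (.leaf 420) (.leaf 1288)) (.node (.leaf 104) (.leaf 838))) (.node (.node (.leaf 781) (.leaf 887)) (.node (.leaf 780) (.leaf 977)))))) (.node (.node (.node (.node (.node (.leaf 2077) (.leaf 732)) (.node (.leaf 1306) (.leaf 1708))) (.node (.node (.leaf 711) (.leaf 239)) (.node (.leaf 454) (.leaf 1184)))) (.node (.node (.node (.leaf 177) (.leaf 1379)) (.node (.leaf 1454) (.leaf 1264))) (.node (.node (.leaf 1104) (.leaf 1623)) (.node (.leaf 1206) (.leaf 1596))))) (.node (.node (.node (.node (.leaf 1723) (.leaf 217)) (.node (.leaf 605) (.leaf 520))) (.node (.node (.leaf 901) (.leaf 182)) (.node (.leaf 1616) (.leaf 383))))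 (.node (.node (.node (.leaf 706) (.leaf 989)) (.node (.leaf 1778) (.leaf 816))) (.node (.node (.leaf 1673) (.leaf 1160)) (.node (.leaf 283) (.leaf 1532))))))) (.node (.node (.node (.node (.node (.node (.node (.leaf 1956) (.leaf 7)) (.leaf 1922)) (.node (.leaf 1689) (.leaf 273))) (.node (.node (.leaf 212) (.leaf 1946)) (.node (.leaf 147) (.leaf 1188)))) (.node (.node (.node (.leaf 1301) (.leaf 1076)) (.node (.leaf 292) (.leaf 880))) (.node (.node (.leaf 1278) (.leaf 616)) (.node (.leaf 74) (.leaf 1429))))) (.node (.node (.node (.node (.leaf 1153) (.leaf 1567)) (.node (.leaf 987) (.leaf 252))) (.node (.node (.leaf 1624) (.leaf 1917)) (.node (.leaf 1562) (.leaf 162)))) (.node (.node (.node (.leaf 233) (.leaf 1536)) (.node (.leaf 298) (.leaf 192))) (.node (.node (.leaf 1803) (.leaf 1972)) (.node (.leaf 881) (.leaf 333)))))) (.node (.node (.node (.node (.node (.leaf 1470) (.leaf 221)) (.node (.leaf 1303) (.leaf 1189))) (.node (.node (.leaf 1599) (.leaf 839)) (.node (.leaf 1393) (.leaf 1783)))) (.node (.node (.node (.leaf 1275) (.leaf 337)) (.node (.leaf 447) (.leaf 475))) (.node (.node (.leaf 528)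 (.leaf 1960)) (.node (.leaf 818) (.leaf 813))))) (.node (.node (.node (.node (.leaf 1237) (.leaf 931)) (.node (.leaf 1796) (.leaf 476))) (.node (.node (.leaf 1768) (.leaf 1487)) (.node (.leaf 1157) (.leaf 1584)))) (.node (.node (.node (.leaf 1876) (.leaf 1270)) (.node (.leaf 623) (.leaf 1011))) (.node (.node (.leaf 445) (.leaf 636)) (.node (.leaf 998) (.leaf 1209)))))))) (.node (.node (.node (.node (.node (.node (.node (.node (.leaf 2014) (.leaf 647)) (.leaf 1324)) (.node (.leaf 1975) (.leaf 1701))) (.node (.node (.leaf 909) (.leaf 1766)) (.node (.leaf 1566) (.leaf 1990)))) (.node (.node (.node (.leaf 1626) (.leaf 1233)) (.node (.leaf 77) (.leaf 111))) (.node (.node (.leaf 1342) (.leaf 689)) (.node (.leaf 495) (.leaf 1684))))) (.node (.node (.node (.node (.leaf 1744) (.leaf 1419)) (.node (.leaf 1857) (.leaf 1788))) (.node (.node (.leaf 1067) (.leaf 275)) (.node (.leaf 431) (.leaf 973)))) (.node (.node (.node (.leaf 1992) (.leaf 165)) (.node (.leaf 297) (.leaf 323))) (.node (.node (.leaf 1637) (.leaf 350)) (.node (.leaf 1853) (.leaf 37)))))) (.node (.node (.node (.node (.node (.leaf 1648) (.leaf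 1297)) (.node (.leaf 1816) (.leaf 368))) (.node (.node (.leaf 918) (.leaf 274)) (.node (.leaf 1944) (.leaf 1710)))) (.node (.node (.node (.leaf 342) (.leaf 501)) (.node (.leaf 1290) (.leaf 1131))) (.node (.node (.leaf 1230) (.leaf 49)) (.node (.leaf 310) (.leaf 356))))) (.node (.node (.node (.node (.leaf 128) (.leaf 54)) (.node (.leaf 1397) (.leaf 398))) (.node (.node (.leaf 1492) (.leaf 68)) (.node (.leaf 1049) (.leaf 1980)))) (.node (.node (.node (.leaf 121) (.leaf 406)) (.node (.leaf 886) (.leaf 1231))) (.node (.node (.leaf 955) (.leaf 1720)) (.node (.leaf 1830) (.leaf 419))))))) (.node (.node (.node (.node (.node (.node (.node (.leaf 1630) (.leaf 995)) (.leaf 355)) (.node (.leaf 1494) (.leaf 347))) (.node (.node (.leaf 1060) (.leaf 242)) (.node (.leaf 641) (.leaf 489)))) (.node (.node (.node (.leaf 1800) (.leaf 1932)) (.node (.leaf 1172) (.leaf 1678))) (.node (.node (.leaf 939) (.leaf 1320)) (.node (.leaf 1636) (.leaf 1847))))) (.node (.node (.node (.node (.leaf 1356) (.leaf 2045)) (.node (.leaf 1770) (.leaf 869))) (.node (.node (.leaf 1050) (.leaf 1517)) (.node (.leaf 312) (.leaf 285))))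 (.node (.node (.node (.leaf 1493) (.leaf 937)) (.node (.leaf 1465) (.leaf 1199))) (.node (.node (.leaf 716) (.leaf 5)) (.node (.leaf 1440) (.leaf 1335)))))) (.node (.node (.node (.node (.node (.leaf 1889) (.leaf 108)) (.node (.leaf 264) (.leaf 1078))) (.node (.node (.leaf 1866) (.leaf 1388)) (.node (.leaf 1595) (.leaf 644)))) (.node (.node (.node (.leaf 578) (.leaf 622)) (.node (.leaf 771) (.leaf 1480))) (.node (.node (.leaf 1082) (.leaf 1911)) (.node (.leaf 1746) (.leaf 567))))) (.node (.node (.node (.node (.leaf 391) (.leaf 1699)) (.node (.leaf 715) (.leaf 1329))) (.node (.node (.leaf 912) (.leaf 592)) (.node (.leaf 970) (.leaf 1841)))) (.node (.node (.node (.leaf 22) (.leaf 478)) (.node (.leaf 1178) (.leaf 230))) (.node (.node (.leaf 458) (.leaf 81)) (.node (.leaf 497) (.leaf 1390))))))))) (.node (.node (.node (.node (.node (.node (.node (.node (.node (.leaf 1687) (.leaf 1118)) (.leaf 1688)) (.node (.leaf 1593) (.leaf 1836))) (.node (.node (.leaf 2011) (.leaf 1055)) (.node (.leaf 1845) (.leaf 1750)))) (.node (.node (.node (.leaf 1903) (.leaf 1416)) (.node (.leaf 438) (.leaf 670))) (.node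 (.node (.leaf 366) (.leaf 1370)) (.node (.leaf 227) (.leaf 1538))))) (.node (.node (.node (.node (.leaf 1437) (.leaf 832)) (.node (.leaf 772) (.leaf 1001))) (.node (.node (.leaf 1071) (.leaf 1075)) (.node (.leaf 764) (.leaf 608)))) (.node (.node (.node (.leaf 1149) (.leaf 1839)) (.node (.leaf 1999) (.leaf 1145))) (.node (.node (.leaf 448) (.leaf 1263)) (.node (.leaf 875) (.leaf 63)))))) (.node (.node (.node (.node (.node (.leaf 1877) (.leaf 70)) (.node (.leaf 1802) (.leaf 473))) (.node (.node (.leaf 773) (.leaf 997)) (.node (.leaf 1125) (.leaf 399)))) (.node (.node (.node (.leaf 1460) (.leaf 1915)) (.node (.leaf 1970) (.leaf 374))) (.node (.node (.leaf 25) (.leaf 1072)) (.node (.leaf 494) (.leaf 1214))))) (.node (.node (.node (.node (.leaf 728) (.leaf 599)) (.node (.leaf 286) (.leaf 143))) (.node (.node (.leaf 1017) (.leaf 1745)) (.node (.leaf 276) (.leaf 1535)))) (.node (.node (.node (.leaf 361) (.leaf 882)) (.node (.leaf 1792) (.leaf 1424))) (.node (.node (.leaf 1852) (.leaf 1500)) (.node (.leaf 446) (.leaf 642))))))) (.node (.node (.node (.node (.node (.node (.node (.leaf 1302) (.leaf 990))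 (.leaf 657)) (.node (.leaf 1180) (.leaf 1508))) (.node (.node (.leaf 1058) (.leaf 1117)) (.node (.leaf 1537) (.leaf 613)))) (.node (.node (.node (.leaf 1727) (.leaf 351)) (.node (.leaf 826) (.leaf 189))) (.node (.node (.leaf 1921) (.leaf 556)) (.node (.leaf 975) (.leaf 1041))))) (.node (.node (.node (.node (.leaf 1069) (.leaf 245)) (.node (.leaf 1774) (.leaf 422))) (.node (.node (.leaf 40) (.leaf 1034)) (.node (.leaf 206) (.leaf 903)))) (.node (.node (.node (.leaf 205) (.leaf 1137)) (.node (.leaf 1374) (.leaf 1574))) (.node (.node (.leaf 1241) (.leaf 2049)) (.node (.leaf 1045) (.leaf 196)))))) (.node (.node (.node (.node (.node (.leaf 1308) (.leaf 611)) (.node (.leaf 612) (.leaf 341))) (.node (.node (.leaf 296) (.leaf 2053)) (.node (.leaf 1518) (.leaf 1787)))) (.node (.node (.node (.leaf 1773) (.leaf 268)) (.node (.leaf 24) (.leaf 67))) (.node (.node (.leaf 1829) (.leaf 1993)) (.node (.leaf 2023) (.leaf 1754))))) (.node (.node (.node (.node (.leaf 1174) (.leaf 2054)) (.node (.leaf 86) (.leaf 1856))) (.node (.node (.leaf 532) (.leaf 1580)) (.node (.leaf 1896) (.leaf 279)))) (.node (.node (.node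 (.leaf 496) (.leaf 395)) (.node (.leaf 1148) (.leaf 1196))) (.node (.node (.leaf 1368) (.leaf 346)) (.node (.leaf 845) (.leaf 259)))))))) (.node (.node (.node (.node (.node (.node (.node (.node (.leaf 2025) (.leaf 2070)) (.leaf 1496)) (.node (.leaf 1620) (.leaf 1702))) (.node (.node (.leaf 58) (.leaf 2010)) (.node (.leaf 1193) (.leaf 895)))) (.node (.node (.node (.leaf 1238) (.leaf 1762)) (.node (.leaf 844) (.leaf 30))) (.node (.node (.leaf 1919) (.leaf 169)) (.node (.leaf 1151) (.leaf 1575))))) (.node (.node (.node (.node (.leaf 469) (.leaf 39)) (.node (.leaf 293) (.leaf 548))) (.node (.node (.leaf 1763) (.leaf 1371)) (.node (.leaf 563) (.leaf 1984)))) (.node (.node (.node (.leaf 428) (.leaf 1603)) (.node (.leaf 335) (.leaf 653))) (.node (.node (.leaf 1801) (.leaf 1897)) (.node (.leaf 1126) (.leaf 434)))))) (.node (.node (.node (.node (.node (.leaf 1655) (.leaf 1277)) (.node (.leaf 1806) (.leaf 1904))) (.node (.node (.leaf 135) (.leaf 1731)) (.node (.leaf 1168) (.leaf 1811)))) (.node (.node (.node (.leaf 62) (.leaf 1807)) (.node (.leaf 1926) (.leaf 994))) (.node (.node (.leaf 621) (.leaf 944))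 (.node (.leaf 808) (.leaf 684))))) (.node (.node (.node (.node (.leaf 69) (.leaf 961)) (.node (.leaf 1364) (.leaf 1987))) (.node (.node (.leaf 1258) (.leaf 1798)) (.node (.leaf 700) (.leaf 1553)))) (.node (.node (.node (.leaf 1113) (.leaf 1164)) (.node (.leaf 240) (.leaf 1170))) (.node (.node (.leaf 101) (.leaf 526)) (.node (.leaf 571) (.leaf 1208))))))) (.node (.node (.node (.node (.node (.node (.node (.leaf 2059) (.leaf 0)) (.leaf 586)) (.node (.leaf 1385) (.leaf 269))) (.node (.node (.leaf 503) (.leaf 319)) (.node (.leaf 551) (.leaf 220)))) (.node (.node (.node (.leaf 671) (.leaf 267)) (.node (.leaf 2013) (.leaf 1721))) (.node (.node (.leaf 564) (.leaf 1834)) (.node (.leaf 803) (.leaf 1422))))) (.node (.node (.node (.node (.leaf 1048) (.leaf 819)) (.node (.leaf 61) (.leaf 600))) (.node (.node (.leaf 60) (.leaf 482)) (.node (.leaf 1119) (.leaf 98)))) (.node (.node (.node (.leaf 796) (.leaf 1818)) (.node (.leaf 800) (.leaf 1043))) (.node (.node (.leaf 1705) (.leaf 401)) (.node (.leaf 972) (.leaf 1333)))))) (.node (.node (.node (.node (.node (.leaf 913) (.leaf 2046)) (.node (.leaf 1254) (.leaf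 477))) (.node (.node (.leaf 2030) (.leaf 1129)) (.node (.leaf 585) (.leaf 560)))) (.node (.node (.node (.leaf 250) (.leaf 1477)) (.node (.leaf 779) (.leaf 1376))) (.node (.node (.leaf 674) (.leaf 2071)) (.node (.leaf 665) (.leaf 1100))))) (.node (.node (.node (.node (.leaf 1907) (.leaf 1976)) (.node (.leaf 713) (.leaf 141))) (.node (.node (.leaf 620) (.leaf 1175)) (.node (.leaf 1102) (.leaf 786)))) (.node (.node (.node (.leaf 848) (.leaf 140)) (.node (.leaf 97) (.leaf 860))) (.node (.node (.leaf 1090) (.leaf 1235)) (.node (.leaf 1223) (.leaf 1925)))))))))))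

/-- A table. -/
noncomputable def fixOrbSrt : BTree := .node fixOrbSrtL fixOrbSrtR

/-- Part of a table. -/
noncomputable def fixOrbPosL : BTree := (.node (.node (.node (.node (.node (.node (.node (.node (.node (.node (.node (.leaf 2079) (.leaf 1886)) (.leaf 1914)) (.node (.leaf 221) (.leaf 1235))) (.node (.node (.leaf 1923) (.leaf 74)) (.node (.leaf 1988) (.leaf 743)))) (.node (.node (.node (.leaf 107) (.leaf 897)) (.node (.leaf 41) (.leaf 610))) (.node (.node (.leaf 846) (.leaf 762)) (.node (.leaf 1372) (.leaf 266))))) (.node (.node (.node (.node (.leaf 2000) (.leaf 946)) (.node (.leaf 1890) (.leaf 302))) (.node (.node (.leaf 1796) (.leaf 169)) (.node (.leaf 1095) (.leaf 1655)))) (.node (.node (.node (.leaf 1747) (.leaf 1672)) (.node (.leaf 466) (.leaf 230))) (.node (.node (.leaf 455) (.leaf 1813)) (.node (.leaf 712) (.leaf 1871)))))) (.node (.node (.node (.node (.node (.leaf 936) (.leaf 1302)) (.node (.leaf 1790) (.leaf 1744))) (.node (.node (.leaf 613) (.leaf 636)) (.node (.leaf 735) (.leaf 1549)))) (.node (.node (.node (.leaf 1878) (.leaf 1827)) (.node (.leaf 382) (.leaf 1957))) (.node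 (.node (.leaf 2029) (.leaf 987)) (.node (.leaf 642) (.leaf 1066))))) (.node (.node (.node (.node (.leaf 1865) (.leaf 377)) (.node (.leaf 1863) (.leaf 138))) (.node (.node (.leaf 1532) (.leaf 1727)) (.node (.leaf 746) (.leaf 33)))) (.node (.node (.node (.leaf 1190) (.leaf 1921)) (.node (.leaf 601) (.leaf 745))) (.node (.node (.leaf 1426) (.leaf 666)) (.node (.leaf 1517) (.leaf 1690))))))) (.node (.node (.node (.node (.node (.node (.node (.leaf 1141) (.leaf 317)) (.leaf 1441)) (.node (.leaf 435) (.leaf 714))) (.node (.node (.leaf 1357) (.leaf 1144)) (.node (.leaf 1484) (.leaf 1508)))) (.node (.node (.node (.leaf 1853) (.leaf 815)) (.node (.leaf 1742) (.leaf 150))) (.node (.node (.leaf 1206) (.leaf 1767)) (.node (.leaf 379) (.leaf 1722))))) (.node (.node (.node (.node (.leaf 1081) (.leaf 419)) (.node (.leaf 1403) (.leaf 867))) (.node (.node (.leaf 1880) (.leaf 141)) (.node (.leaf 255) (.leaf 977)))) (.node (.node (.node (.leaf 220) (.leaf 1162)) (.node (.leaf 925) (.leaf 75))) (.node (.node (.leaf 473) (.leaf 1442)) (.node (.leaf 430) (.leaf 530)))))) (.node (.node (.node (.node (.node (.leaf 1282)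 (.leaf 1447)) (.node (.leaf 1855) (.leaf 1907))) (.node (.node (.leaf 698) (.leaf 92)) (.node (.leaf 1763) (.leaf 1702)))) (.node (.node (.node (.leaf 426) (.leaf 1753)) (.node (.leaf 1014) (.leaf 725))) (.node (.node (.leaf 2018) (.leaf 670)) (.node (.leaf 1455) (.leaf 440))))) (.node (.node (.node (.node (.leaf 1464) (.leaf 1240)) (.node (.leaf 1425) (.leaf 43))) (.node (.node (.leaf 1579) (.leaf 1849)) (.node (.leaf 1683) (.leaf 1583)))) (.node (.node (.node (.leaf 751) (.leaf 1699)) (.node (.leaf 1040) (.leaf 1582))) (.node (.node (.leaf 247) (.leaf 809)) (.node (.leaf 156) (.leaf 645)))))))) (.node (.node (.node (.node (.node (.node (.node (.node (.leaf 1053) (.leaf 316)) (.leaf 573)) (.node (.leaf 1635) (.leaf 344))) (.node (.node (.leaf 571) (.leaf 1219)) (.node (.leaf 548) (.leaf 155)))) (.node (.node (.node (.leaf 1889) (.leaf 1507)) (.node (.leaf 880) (.leaf 1812))) (.node (.node (.leaf 1717) (.leaf 1159)) (.node (.leaf 1814) (.leaf 22))))) (.node (.node (.node (.node (.leaf 1041) (.leaf 822)) (.node (.leaf 1873) (.leaf 1016))) (.node (.node (.leaf 1795) (.leaf 1784)) (.node (.leaf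 972) (.leaf 1612)))) (.node (.node (.node (.leaf 73) (.leaf 1614)) (.node (.leaf 1138) (.leaf 1366))) (.node (.node (.leaf 1896) (.leaf 1723)) (.node (.leaf 820) (.leaf 203)))))) (.node (.node (.node (.node (.node (.leaf 343) (.leaf 409)) (.node (.leaf 986) (.leaf 1938))) (.node (.node (.leaf 311) (.leaf 1435)) (.node (.leaf 943) (.leaf 1826)))) (.node (.node (.node (.leaf 1189) (.leaf 286)) (.node (.leaf 200) (.leaf 621))) (.node (.node (.leaf 66) (.leaf 1600)) (.node (.leaf 805) (.leaf 1459))))) (.node (.node (.node (.node (.leaf 707) (.leaf 1209)) (.node (.leaf 1427) (.leaf 1150))) (.node (.node (.leaf 288) (.leaf 1506)) (.node (.leaf 93) (.leaf 887)))) (.node (.node (.node (.leaf 1566) (.leaf 1061)) (.node (.leaf 776) (.leaf 371))) (.node (.node (.leaf 1733) (.leaf 1977)) (.node (.leaf 1208) (.leaf 2078))))))) (.node (.node (.node (.node (.node (.node (.node (.leaf 695) (.leaf 2049)) (.leaf 95)) (.node (.leaf 766) (.leaf 222))) (.node (.node (.leaf 993) (.leaf 340)) (.node (.leaf 312) (.leaf 555)))) (.node (.node (.node (.leaf 2016) (.leaf 902)) (.node (.leaf 709) (.leaf 1031))) (.node (.node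 (.leaf 1368) (.leaf 1461)) (.node (.leaf 57) (.leaf 811))))) (.node (.node (.node (.node (.leaf 658) (.leaf 154)) (.node (.leaf 1631) (.leaf 339))) (.node (.node (.leaf 1476) (.leaf 503)) (.node (.leaf 1617) (.leaf 1492)))) (.node (.node (.node (.leaf 873) (.leaf 1120)) (.node (.leaf 103) (.leaf 952))) (.node (.node (.leaf 1212) (.leaf 1039)) (.node (.leaf 248) (.leaf 600)))))) (.node (.node (.node (.node (.node (.leaf 1636) (.leaf 389)) (.node (.leaf 1892) (.leaf 1933))) (.node (.node (.leaf 859) (.leaf 10)) (.node (.leaf 741) (.leaf 974)))) (.node (.node (.node (.leaf 1205) (.leaf 2031)) (.node (.leaf 798) (.leaf 1515))) (.node (.node (.leaf 45) (.leaf 1146)) (.node (.leaf 172) (.leaf 1151))))) (.node (.node (.node (.node (.leaf 144) (.leaf 1257)) (.node (.leaf 1570) (.leaf 48))) (.node (.node (.leaf 1072) (.leaf 452)) (.node (.leaf 1169) (.leaf 1457)))) (.node (.node (.node (.leaf 841) (.leaf 512)) (.node (.leaf 790) (.leaf 1692))) (.node (.node (.leaf 1181) (.leaf 1304)) (.node (.leaf 1445) (.leaf 2061))))))))) (.node (.node (.node (.node (.node (.node (.node (.node (.node (.leaf 641) (.leaf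 1497)) (.leaf 432)) (.node (.leaf 1188) (.leaf 1348))) (.node (.node (.leaf 556) (.leaf 1981)) (.node (.leaf 583) (.leaf 627)))) (.node (.node (.node (.leaf 1358) (.leaf 204)) (.node (.leaf 1851) (.leaf 460))) (.node (.node (.leaf 849) (.leaf 488)) (.node (.leaf 1113) (.leaf 1438))))) (.node (.node (.node (.node (.leaf 1387) (.leaf 965)) (.node (.leaf 214) (.leaf 1402))) (.node (.node (.leaf 378) (.leaf 604)) (.node (.leaf 1413) (.leaf 80)))) (.node (.node (.node (.leaf 2007) (.leaf 1536)) (.node (.leaf 110) (.leaf 1780))) (.node (.node (.leaf 750) (.leaf 1800)) (.node (.leaf 446) (.leaf 458)))))) (.node (.node (.node (.node (.node (.leaf 1990) (.leaf 283)) (.node (.leaf 1615) (.leaf 1969))) (.node (.node (.leaf 659) (.leaf 1501)) (.node (.leaf 1305) (.leaf 1514)))) (.node (.node (.node (.leaf 1198) (.leaf 1811)) (.node (.leaf 1204) (.leaf 585))) (.node (.node (.leaf 195) (.leaf 112)) (.node (.leaf 292) (.leaf 19))))) (.node (.node (.node (.node (.leaf 1888) (.leaf 589)) (.node (.leaf 567) (.leaf 923))) (.node (.node (.leaf 1963) (.leaf 1117)) (.node (.leaf 1596) (.leaf 25)))) (.node (.node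 (.node (.leaf 1529) (.leaf 813)) (.node (.leaf 1700) (.leaf 2077))) (.node (.node (.leaf 208) (.leaf 1559)) (.node (.leaf 1318) (.leaf 350))))))) (.node (.node (.node (.node (.node (.node (.node (.leaf 1996) (.leaf 1336)) (.leaf 1538)) (.node (.leaf 375) (.leaf 834))) (.node (.node (.leaf 871) (.leaf 348)) (.node (.leaf 306) (.leaf 1288)))) (.node (.node (.node (.leaf 176) (.leaf 667)) (.node (.leaf 506) (.leaf 1931))) (.node (.node (.leaf 1254) (.leaf 1749)) (.node (.leaf 465) (.leaf 1470))))) (.node (.node (.node (.node (.leaf 1480) (.leaf 1898)) (.node (.leaf 1037) (.leaf 527))) (.node (.node (.leaf 881) (.leaf 623)) (.node (.leaf 1825) (.leaf 243)))) (.node (.node (.node (.leaf 275) (.leaf 357)) (.node (.leaf 1384) (.leaf 2034))) (.node (.node (.leaf 310) (.leaf 363)) (.node (.leaf 858) (.leaf 646)))))) (.node (.node (.node (.node (.node (.leaf 1148) (.leaf 1171)) (.node (.leaf 415) (.leaf 933))) (.node (.node (.leaf 1801) (.leaf 1629)) (.node (.leaf 369) (.leaf 2033)))) (.node (.node (.node (.leaf 1362) (.leaf 1044)) (.node (.leaf 1934) (.leaf 1516))) (.node (.node (.leaf 874) (.leaf 167))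 (.node (.leaf 1105) (.leaf 1491))))) (.node (.node (.node (.node (.leaf 1720) (.leaf 2070)) (.node (.leaf 565) (.leaf 12))) (.node (.node (.leaf 1325) (.leaf 1045)) (.node (.leaf 752) (.leaf 842)))) (.node (.node (.node (.leaf 1670) (.leaf 1186)) (.node (.leaf 1026) (.leaf 146))) (.node (.node (.leaf 1437) (.leaf 1928)) (.node (.leaf 1958) (.leaf 1220)))))))) (.node (.node (.node (.node (.node (.node (.node (.node (.leaf 1498) (.leaf 1)) (.leaf 1798)) (.node (.leaf 526) (.leaf 1609))) (.node (.node (.leaf 1207) (.leaf 682)) (.node (.leaf 963) (.leaf 1149)))) (.node (.node (.node (.leaf 1279) (.leaf 1263)) (.node (.leaf 1905) (.leaf 1134))) (.node (.node (.leaf 2072) (.leaf 694)) (.node (.leaf 236) (.leaf 1179))))) (.node (.node (.node (.node (.leaf 648) (.leaf 1983)) (.node (.leaf 264) (.leaf 441))) (.node (.node (.leaf 980) (.leaf 91)) (.node (.leaf 655) (.leaf 1405)))) (.node (.node (.node (.leaf 913) (.leaf 1976)) (.node (.leaf 475) (.leaf 1833))) (.node (.node (.leaf 581) (.leaf 628)) (.node (.leaf 991) (.leaf 1125)))))) (.node (.node (.node (.node (.node (.leaf 323) (.leaf 1033)) (.node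 (.leaf 1431) (.leaf 1399))) (.node (.node (.leaf 1114) (.leaf 1035)) (.node (.leaf 1662) (.leaf 1543)))) (.node (.node (.node (.leaf 1422) (.leaf 1783)) (.node (.leaf 1967) (.leaf 1571))) (.node (.node (.leaf 207) (.leaf 2046)) (.node (.leaf 1110) (.leaf 1468))))) (.node (.node (.node (.node (.leaf 1083) (.leaf 2012)) (.node (.leaf 383) (.leaf 562))) (.node (.node (.leaf 190) (.leaf 1339)) (.node (.leaf 438) (.leaf 1350)))) (.node (.node (.node (.leaf 2022) (.leaf 366)) (.node (.leaf 1556) (.leaf 396))) (.node (.node (.leaf 358) (.leaf 1978)) (.node (.leaf 1369) (.leaf 1342))))))) (.node (.node (.node (.node (.node (.node (.node (.leaf 1108) (.leaf 0)) (.leaf 836)) (.node (.leaf 2006) (.leaf 1770))) (.node (.node (.leaf 1984) (.leaf 55)) (.node (.leaf 223) (.leaf 1542)))) (.node (.node (.node (.leaf 872) (.leaf 535)) (.node (.leaf 1524) (.leaf 620))) (.node (.node (.leaf 270) (.leaf 1444)) (.node (.leaf 1962) (.leaf 14))))) (.node (.node (.node (.node (.leaf 333) (.leaf 238)) (.node (.leaf 182) (.leaf 1076))) (.node (.node (.leaf 390) (.leaf 450)) (.node (.leaf 1791) (.leaf 300)))) (.node (.node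 (.node (.leaf 1823) (.leaf 1308)) (.node (.leaf 1059) (.leaf 624))) (.node (.node (.leaf 1651) (.leaf 1511)) (.node (.leaf 1236) (.leaf 244)))))) (.node (.node (.node (.node (.node (.leaf 351) (.leaf 1092)) (.node (.leaf 1268) (.leaf 1955))) (.node (.node (.leaf 254) (.leaf 26)) (.node (.leaf 1736) (.leaf 487)))) (.node (.node (.node (.leaf 1746) (.leaf 82)) (.node (.leaf 879) (.leaf 90))) (.node (.node (.leaf 653) (.leaf 1693)) (.node (.leaf 730) (.leaf 1899))))) (.node (.node (.node (.node (.leaf 1046) (.leaf 759)) (.node (.leaf 1523) (.leaf 201))) (.node (.node (.leaf 492) (.leaf 633)) (.node (.leaf 131) (.leaf 1164)))) (.node (.node (.node (.leaf 1619) (.leaf 192)) (.node (.leaf 839) (.leaf 1611))) (.node (.node (.leaf 1782) (.leaf 2019)) (.node (.leaf 985) (.leaf 1293)))))))))) (.node (.node (.node (.node (.node (.node (.node (.node (.node (.node (.leaf 1502) (.leaf 309)) (.leaf 360)) (.node (.leaf 1910) (.leaf 1927))) (.node (.node (.leaf 2037) (.leaf 481)) (.node (.leaf 1347) (.leaf 1017)))) (.node (.node (.node (.leaf 1436) (.leaf 70)) (.node (.leaf 2023) (.leaf 461))) (.node (.node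 (.leaf 1133) (.leaf 865)) (.node (.leaf 1725) (.leaf 1043))))) (.node (.node (.node (.node (.leaf 1465) (.leaf 511)) (.node (.leaf 187) (.leaf 661))) (.node (.node (.leaf 1680) (.leaf 118)) (.node (.leaf 1022) (.leaf 232)))) (.node (.node (.node (.leaf 1453) (.leaf 1520)) (.node (.leaf 227) (.leaf 2032))) (.node (.node (.leaf 657) (.leaf 765)) (.node (.leaf 1697) (.leaf 1221)))))) (.node (.node (.node (.node (.node (.leaf 590) (.leaf 279)) (.node (.leaf 2030) (.leaf 1766))) (.node (.node (.leaf 1481) (.leaf 392)) (.node (.leaf 558) (.leaf 814)))) (.node (.node (.node (.leaf 1875) (.leaf 825)) (.node (.leaf 447) (.leaf 602))) (.node (.node (.leaf 1533) (.leaf 1160)) (.node (.leaf 290) (.leaf 1689))))) (.node (.node (.node (.node (.leaf 1887) (.leaf 1334)) (.node (.leaf 349) (.leaf 78))) (.node (.node (.leaf 381) (.leaf 1862)) (.node (.leaf 806) (.leaf 540)))) (.node (.node (.node (.leaf 928) (.leaf 561)) (.node (.leaf 1557) (.leaf 1167))) (.node (.node (.leaf 1375) (.leaf 922)) (.node (.leaf 1711) (.leaf 2))))))) (.node (.node (.node (.node (.node (.node (.node (.leaf 644) (.leaf 1705)) (.leaf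 1797)) (.node (.leaf 1537) (.leaf 1626))) (.node (.node (.leaf 1323) (.leaf 29)) (.node (.leaf 1919) (.leaf 1724)))) (.node (.node (.node (.leaf 877) (.leaf 1775)) (.node (.leaf 835) (.leaf 1696))) (.node (.node (.leaf 1010) (.leaf 1972)) (.node (.leaf 16) (.leaf 1944))))) (.node (.node (.node (.node (.leaf 1834) (.leaf 394)) (.node (.leaf 321) (.leaf 1810))) (.node (.node (.leaf 801) (.leaf 184)) (.node (.leaf 830) (.leaf 888)))) (.node (.node (.node (.leaf 2026) (.leaf 1598)) (.node (.leaf 210) (.leaf 955))) (.node (.node (.leaf 552) (.leaf 1750)) (.node (.leaf 1932) (.leaf 1089)))))) (.node (.node (.node (.node (.node (.leaf 1409) (.leaf 328)) (.node (.leaf 1565) (.leaf 1732))) (.node (.node (.leaf 1084) (.leaf 740)) (.node (.leaf 947) (.leaf 1265)))) (.node (.node (.node (.leaf 1370) (.leaf 1364)) (.node (.leaf 896) (.leaf 1926))) (.node (.node (.leaf 1999) (.leaf 268)) (.node (.leaf 1216) (.leaf 679))))) (.node (.node (.node (.node (.leaf 1676) (.leaf 1714)) (.node (.leaf 1093) (.leaf 18))) (.node (.node (.leaf 178) (.leaf 2044)) (.node (.leaf 1255) (.leaf 1214)))) (.node (.node (.node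 (.leaf 1307) (.leaf 1568)) (.node (.leaf 424) (.leaf 739))) (.node (.node (.leaf 368) (.leaf 853)) (.node (.leaf 1326) (.leaf 773)))))))) (.node (.node (.node (.node (.node (.node (.node (.node (.leaf 1452) (.leaf 49)) (.leaf 1367)) (.node (.leaf 1042) (.leaf 468))) (.node (.node (.leaf 1381) (.leaf 683)) (.node (.leaf 962) (.leaf 551)))) (.node (.node (.node (.leaf 857) (.leaf 253)) (.node (.leaf 1828) (.leaf 1218))) (.node (.node (.leaf 1718) (.leaf 569)) (.node (.leaf 1260) (.leaf 692))))) (.node (.node (.node (.node (.leaf 915) (.leaf 960)) (.node (.leaf 1055) (.leaf 330))) (.node (.node (.leaf 1433) (.leaf 362)) (.node (.leaf 860) (.leaf 315)))) (.node (.node (.node (.leaf 1013) (.leaf 1832)) (.node (.leaf 477) (.leaf 1576))) (.node (.node (.leaf 507) (.leaf 81)) (.node (.leaf 891) (.leaf 1222)))))) (.node (.node (.node (.node (.node (.leaf 329) (.leaf 1064)) (.node (.leaf 1429) (.leaf 100))) (.node (.node (.leaf 723) (.leaf 1354)) (.node (.leaf 654) (.leaf 1439)))) (.node (.node (.node (.leaf 1276) (.leaf 777)) (.node (.leaf 294) (.leaf 1109))) (.node (.node (.leaf 2017) (.leaf 1298))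 (.node (.leaf 165) (.leaf 38))))) (.node (.node (.node (.node (.leaf 592) (.leaf 1521)) (.node (.leaf 738) (.leaf 560))) (.node (.node (.leaf 153) (.leaf 1850)) (.node (.leaf 909) (.leaf 280)))) (.node (.node (.node (.leaf 793) (.leaf 367)) (.node (.leaf 609) (.leaf 603))) (.node (.node (.leaf 1001) (.leaf 2042)) (.node (.leaf 1155) (.leaf 32))))))) (.node (.node (.node (.node (.node (.node (.node (.leaf 421) (.leaf 710)) (.leaf 347)) (.node (.leaf 1961) (.leaf 851))) (.node (.node (.leaf 994) (.leaf 547)) (.node (.leaf 256) (.leaf 1247)))) (.node (.node (.node (.leaf 1997) (.leaf 763)) (.node (.leaf 634) (.leaf 480))) (.node (.node (.leaf 850) (.leaf 1765)) (.node (.leaf 94) (.leaf 1299))))) (.node (.node (.node (.node (.leaf 1674) (.leaf 345)) (.node (.leaf 194) (.leaf 139))) (.node (.node (.leaf 1527) (.leaf 1415)) (.node (.leaf 1992) (.leaf 1512)))) (.node (.node (.node (.leaf 650) (.leaf 298)) (.node (.leaf 1224) (.leaf 1975))) (.node (.node (.leaf 1649) (.leaf 1489)) (.node (.leaf 529) (.leaf 1295)))))) (.node (.node (.node (.node (.node (.leaf 271) (.leaf 443)) (.node (.leaf 404) (.leaf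 518))) (.node (.node (.leaf 1060) (.leaf 397)) (.node (.leaf 663) (.leaf 704)))) (.node (.node (.node (.leaf 917) (.leaf 1180)) (.node (.leaf 1601) (.leaf 1317))) (.node (.node (.leaf 1353) (.leaf 1136)) (.node (.leaf 1669) (.leaf 1297))))) (.node (.node (.node (.node (.leaf 121) (.leaf 1818)) (.node (.leaf 1788) (.leaf 21))) (.node (.node (.leaf 1917) (.leaf 706)) (.node (.leaf 1074) (.leaf 992)))) (.node (.node (.node (.leaf 191) (.leaf 833)) (.node (.leaf 988) (.leaf 136))) (.node (.node (.leaf 97) (.leaf 2013)) (.node (.leaf 502) (.leaf 1294))))))))) (.node (.node (.node (.node (.node (.node (.node (.node (.node (.leaf 696) (.leaf 1143)) (.leaf 908)) (.node (.leaf 285) (.leaf 845))) (.node (.node (.leaf 643) (.leaf 177)) (.node (.leaf 693) (.leaf 1391)))) (.node (.node (.node (.leaf 1077) (.leaf 1382)) (.node (.leaf 1340) (.leaf 637))) (.node (.node (.leaf 72) (.leaf 686)) (.node (.leaf 189) (.leaf 687))))) (.node (.node (.node (.node (.leaf 1063) (.leaf 1049)) (.node (.leaf 1280) (.leaf 1161))) (.node (.node (.leaf 1313) (.leaf 1012)) (.node (.leaf 1731) (.leaf 1885)))) (.node (.node (.node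 (.leaf 1414) (.leaf 1380)) (.node (.leaf 314) (.leaf 202))) (.node (.node (.leaf 803) (.leaf 816)) (.node (.leaf 284) (.leaf 1803)))))) (.node (.node (.node (.node (.node (.leaf 1721) (.leaf 1057)) (.node (.leaf 1954) (.leaf 1751))) (.node (.node (.leaf 373) (.leaf 372)) (.node (.leaf 754) (.leaf 1003)))) (.node (.node (.node (.leaf 1577) (.leaf 259)) (.node (.leaf 1968) (.leaf 1551))) (.node (.node (.leaf 1623) (.leaf 505)) (.node (.leaf 733) (.leaf 1217))))) (.node (.node (.node (.node (.leaf 969) (.leaf 975)) (.node (.leaf 1210) (.leaf 854))) (.node (.node (.leaf 1244) (.leaf 1226)) (.node (.leaf 1230) (.leaf 320)))) (.node (.node (.node (.leaf 1787) (.leaf 575)) (.node (.leaf 920) (.leaf 1291))) (.node (.node (.leaf 1608) (.leaf 1000)) (.node (.leaf 1011) (.leaf 1197))))))) (.node (.node (.node (.node (.node (.node (.node (.leaf 251) (.leaf 2063)) (.leaf 792)) (.node (.leaf 957) (.leaf 1592))) (.node (.node (.leaf 1130) (.leaf 23)) (.node (.leaf 582) (.leaf 1177)))) (.node (.node (.node (.leaf 838) (.leaf 119)) (.node (.leaf 1526) (.leaf 4))) (.node (.node (.leaf 1259) (.leaf 1936)) (.node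 (.leaf 299) (.leaf 1769))))) (.node (.node (.node (.node (.leaf 631) (.leaf 629)) (.node (.leaf 892) (.leaf 341))) (.node (.node (.leaf 171) (.leaf 117)) (.node (.leaf 1773) (.leaf 242)))) (.node (.node (.node (.leaf 418) (.leaf 143)) (.node (.leaf 96) (.leaf 1799))) (.node (.node (.leaf 1786) (.leaf 539)) (.node (.leaf 257) (.leaf 594)))))) (.node (.node (.node (.node (.node (.leaf 1131) (.leaf 1595)) (.node (.leaf 1642) (.leaf 457))) (.node (.node (.leaf 939) (.leaf 1157)) (.node (.leaf 734) (.leaf 2036)))) (.node (.node (.node (.leaf 1379) (.leaf 931)) (.node (.leaf 525) (.leaf 1292))) (.node (.node (.leaf 647) (.leaf 1030)) (.node (.leaf 580) (.leaf 2040))))) (.node (.node (.node (.node (.leaf 720) (.leaf 1178)) (.node (.leaf 1573) (.leaf 245))) (.node (.node (.leaf 1703) (.leaf 808)) (.node (.leaf 747) (.leaf 5)))) (.node (.node (.node (.leaf 665) (.leaf 1267)) (.node (.leaf 1925) (.leaf 1182))) (.node (.node (.leaf 1401) (.leaf 789)) (.node (.leaf 332) (.leaf 771)))))))) (.node (.node (.node (.node (.node (.node (.node (.node (.leaf 422) (.leaf 1472)) (.leaf 2028)) (.node (.leaf 1519)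 (.leaf 1872))) (.node (.node (.leaf 1580) (.leaf 1804)) (.node (.leaf 989) (.leaf 559)))) (.node (.node (.node (.leaf 1277) (.leaf 1820)) (.node (.leaf 1082) (.leaf 1691))) (.node (.node (.leaf 1643) (.leaf 1951)) (.node (.leaf 416) (.leaf 1864))))) (.node (.node (.node (.node (.leaf 508) (.leaf 895)) (.node (.leaf 1232) (.leaf 1816))) (.node (.node (.leaf 2001) (.leaf 1902)) (.node (.leaf 85) (.leaf 1285)))) (.node (.node (.node (.leaf 855) (.leaf 427)) (.node (.leaf 322) (.leaf 1756))) (.node (.node (.leaf 1897) (.leaf 1393)) (.node (.leaf 721) (.leaf 728)))))) (.node (.node (.node (.node (.node (.leaf 420) (.leaf 1581)) (.node (.leaf 1681) (.leaf 1741))) (.node (.node (.leaf 1913) (.leaf 1585)) (.node (.leaf 1152) (.leaf 1474)))) (.node (.node (.node (.leaf 934) (.leaf 1940)) (.node (.leaf 1284) (.leaf 1835))) (.node (.node (.leaf 1330) (.leaf 675)) (.node (.leaf 380) (.leaf 1124))))) (.node (.node (.node (.node (.leaf 1994) (.leaf 1249)) (.node (.leaf 1211) (.leaf 125))) (.node (.node (.leaf 391) (.leaf 2043)) (.node (.leaf 978) (.leaf 6)))) (.node (.node (.node (.leaf 1477) (.leaf 1102))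 (.node (.leaf 894) (.leaf 599))) (.node (.node (.leaf 935) (.leaf 823)) (.node (.leaf 1504) (.leaf 319))))))) (.node (.node (.node (.node (.node (.node (.node (.leaf 1679) (.leaf 2048)) (.leaf 504)) (.node (.leaf 1525) (.leaf 779))) (.node (.node (.leaf 615) (.leaf 586)) (.node (.leaf 1868) (.leaf 2073)))) (.node (.node (.node (.leaf 1829) (.leaf 370)) (.node (.leaf 1671) (.leaf 102))) (.node (.node (.leaf 784) (.leaf 1448)) (.node (.leaf 514) (.leaf 386))))) (.node (.node (.node (.node (.leaf 1603) (.leaf 2055)) (.node (.leaf 1128) (.leaf 27))) (.node (.node (.leaf 1483) (.leaf 727)) (.node (.leaf 828) (.leaf 385)))) (.node (.node (.node (.leaf 490) (.leaf 1960)) (.node (.leaf 1564) (.leaf 1234))) (.node (.node (.leaf 1275) (.leaf 246)) (.node (.leaf 2071) (.leaf 11)))))) (.node (.node (.node (.node (.node (.leaf 175) (.leaf 950)) (.node (.leaf 1638) (.leaf 273))) (.node (.node (.leaf 588) (.leaf 395)) (.node (.leaf 868) (.leaf 68)))) (.node (.node (.node (.leaf 964) (.leaf 1959)) (.node (.leaf 2041) (.leaf 233))) (.node (.node (.leaf 999) (.leaf 51)) (.node (.leaf 680) (.leaf 536))))) (.node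 (.node (.node (.node (.leaf 237) (.leaf 114)) (.node (.leaf 122) (.leaf 76))) (.node (.node (.leaf 997) (.leaf 869)) (.node (.leaf 1841) (.leaf 1385)))) (.node (.node (.node (.leaf 1541) (.leaf 403)) (.node (.leaf 998) (.leaf 744))) (.node (.node (.leaf 1757) (.leaf 2060)) (.node (.leaf 1266) (.leaf 1087)))))))))))

/-- Part of a table. -/
noncomputable def fixOrbPosR : BTree := (.node (.node (.node (.node (.node (.node (.node (.node (.node (.node (.node (.leaf 2069) (.leaf 1495)) (.leaf 1824)) (.node (.leaf 98) (.leaf 791))) (.node (.node (.leaf 1539) (.leaf 981)) (.node (.leaf 1482) (.leaf 1593)))) (.node (.node (.node (.leaf 149) (.leaf 83)) (.node (.leaf 795) (.leaf 937))) (.node (.node (.leaf 914) (.leaf 1245)) (.node (.leaf 1168) (.leaf 407))))) (.node (.node (.node (.node (.leaf 1686) (.leaf 1945)) (.node (.leaf 597) (.leaf 906))) (.node (.node (.leaf 1993) (.leaf 1848)) (.node (.leaf 890) (.leaf 587)))) (.node (.node (.node (.leaf 1688) (.leaf 778)) (.node (.leaf 672) (.leaf 1578))) (.node (.node (.leaf 453) (.leaf 1213)) (.node (.leaf 1135) (.leaf 717)))))) (.node (.node (.node (.node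 (.node (.leaf 938) (.leaf 1500)) (.node (.leaf 837) (.leaf 1253))) (.node (.node (.leaf 1985) (.leaf 289)) (.node (.leaf 1802) (.leaf 538)))) (.node (.node (.node (.leaf 1132) (.leaf 1698)) (.node (.leaf 356) (.leaf 626))) (.node (.node (.leaf 77) (.leaf 1166)) (.node (.leaf 509) (.leaf 758))))) (.node (.node (.node (.node (.leaf 767) (.leaf 342)) (.node (.leaf 168) (.leaf 52))) (.node (.node (.leaf 353) (.leaf 1709)) (.node (.leaf 1838) (.leaf 59)))) (.node (.node (.node (.leaf 764) (.leaf 796)) (.node (.leaf 669) (.leaf 120))) (.node (.node (.leaf 1006) (.leaf 1854)) (.node (.leaf 1237) (.leaf 13))))))) (.node (.node (.node (.node (.node (.node (.node (.leaf 170) (.leaf 1496)) (.leaf 1943)) (.node (.leaf 1634) (.leaf 1903))) (.node (.node (.leaf 1555) (.leaf 1067)) (.node (.leaf 1349) (.leaf 387)))) (.node (.node (.node (.leaf 1410) (.leaf 1544)) (.node (.leaf 1047) (.leaf 780))) (.node (.node (.leaf 1503) (.leaf 1949)) (.node (.leaf 63) (.leaf 1758))))) (.node (.node (.node (.node (.leaf 1531) (.leaf 1510)) (.node (.leaf 2025) (.leaf 1090))) (.node (.node (.leaf 1203) (.leaf 274)) (.node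 (.leaf 116) (.leaf 301)))) (.node (.node (.node (.leaf 1644) (.leaf 1163)) (.node (.leaf 109) (.leaf 1383))) (.node (.node (.leaf 662) (.leaf 1365)) (.node (.leaf 1987) (.leaf 726)))))) (.node (.node (.node (.node (.node (.leaf 1451) (.leaf 1173)) (.node (.leaf 1620) (.leaf 1118))) (.node (.node (.leaf 1870) (.leaf 1659)) (.node (.leaf 1952) (.leaf 1915)))) (.node (.node (.node (.leaf 163) (.leaf 393)) (.node (.leaf 1419) (.leaf 572))) (.node (.node (.leaf 1685) (.leaf 252)) (.node (.leaf 804) (.leaf 42))))) (.node (.node (.node (.node (.leaf 1794) (.leaf 1239)) (.node (.leaf 1778) (.leaf 262))) (.node (.node (.leaf 770) (.leaf 819)) (.node (.leaf 979) (.leaf 737)))) (.node (.node (.node (.leaf 1473) (.leaf 1274)) (.node (.leaf 1980) (.leaf 1584))) (.node (.node (.leaf 1019) (.leaf 1645)) (.node (.leaf 1005) (.leaf 456)))))))) (.node (.node (.node (.node (.node (.node (.node (.node (.leaf 700) (.leaf 261)) (.leaf 374)) (.node (.leaf 1588) (.leaf 336))) (.node (.node (.leaf 133) (.leaf 1450)) (.node (.leaf 1116) (.leaf 463)))) (.node (.node (.node (.leaf 1918) (.leaf 1624)) (.node (.leaf 748)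 (.leaf 483))) (.node (.node (.leaf 1250) (.leaf 953)) (.node (.leaf 1418) (.leaf 1246))))) (.node (.node (.node (.node (.leaf 132) (.leaf 781)) (.node (.leaf 831) (.leaf 249))) (.node (.node (.leaf 630) (.leaf 1002)) (.node (.leaf 1953) (.leaf 1478)))) (.node (.node (.node (.leaf 912) (.leaf 681)) (.node (.leaf 639) (.leaf 761))) (.node (.node (.leaf 1822) (.leaf 812)) (.node (.leaf 1668) (.leaf 1463)))))) (.node (.node (.node (.node (.node (.leaf 1056) (.leaf 568)) (.node (.leaf 598) (.leaf 1397))) (.node (.node (.leaf 715) (.leaf 129)) (.node (.leaf 216) (.leaf 797)))) (.node (.node (.node (.leaf 1423) (.leaf 783)) (.node (.leaf 954) (.leaf 479))) (.node (.node (.leaf 1332) (.leaf 1329)) (.node (.leaf 1243) (.leaf 736))))) (.node (.node (.node (.node (.leaf 718) (.leaf 1343)) (.node (.leaf 1604) (.leaf 1352))) (.node (.node (.leaf 231) (.leaf 543)) (.node (.leaf 656) (.leaf 1487)))) (.node (.node (.node (.leaf 211) (.leaf 442)) (.node (.leaf 1058) (.leaf 324))) (.node (.node (.leaf 1819) (.leaf 2058)) (.node (.leaf 1607) (.leaf 15))))))) (.node (.node (.node (.node (.node (.node (.node (.leaf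 423) (.leaf 496)) (.leaf 875)) (.node (.leaf 1314) (.leaf 1640))) (.node (.node (.leaf 1869) (.leaf 325)) (.node (.leaf 260) (.leaf 1185)))) (.node (.node (.node (.leaf 1998) (.leaf 1097)) (.node (.leaf 959) (.leaf 531))) (.node (.node (.leaf 1792) (.leaf 1768)) (.node (.leaf 1176) (.leaf 1300))))) (.node (.node (.node (.node (.leaf 1661) (.leaf 239)) (.node (.leaf 405) (.leaf 1730))) (.node (.node (.leaf 1241) (.leaf 1192)) (.node (.leaf 1793) (.leaf 673)))) (.node (.node (.node (.leaf 1123) (.leaf 471)) (.node (.leaf 570) (.leaf 1946))) (.node (.node (.leaf 1575) (.leaf 1493)) (.node (.leaf 1392) (.leaf 398)))))) (.node (.node (.node (.node (.node (.leaf 1261) (.leaf 1104)) (.node (.leaf 579) (.leaf 519))) (.node (.node (.leaf 844) (.leaf 181)) (.node (.leaf 557) (.leaf 949)))) (.node (.node (.node (.leaf 142) (.leaf 2035)) (.node (.leaf 1929) (.leaf 1695))) (.node (.node (.leaf 46) (.leaf 731)) (.node (.leaf 1916) (.leaf 541))))) (.node (.node (.node (.node (.leaf 235) (.leaf 1735)) (.node (.leaf 213) (.leaf 241))) (.node (.node (.leaf 1324) (.leaf 688)) (.node (.leaf 1528) (.leaf 113))))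 (.node (.node (.node (.leaf 1283) (.leaf 1982)) (.node (.leaf 996) (.leaf 486))) (.node (.node (.leaf 1378) (.leaf 1894)) (.node (.leaf 359) (.leaf 1494))))))))) (.node (.node (.node (.node (.node (.node (.node (.node (.node (.leaf 1499) (.leaf 1335)) (.leaf 162)) (.node (.leaf 258) (.leaf 2066))) (.node (.node (.leaf 364) (.leaf 905)) (.node (.leaf 295) (.leaf 326)))) (.node (.node (.node (.leaf 1321) (.leaf 883)) (.node (.leaf 2024) (.leaf 676))) (.node (.node (.leaf 916) (.leaf 690)) (.node (.leaf 355) (.leaf 2047))))) (.node (.node (.node (.node (.leaf 111) (.leaf 622)) (.node (.leaf 1264) (.leaf 86))) (.node (.node (.leaf 1908) (.leaf 400)) (.node (.leaf 1421) (.leaf 1096)))) (.node (.node (.node (.leaf 1440) (.leaf 1633)) (.node (.leaf 161) (.leaf 209))) (.node (.node (.leaf 1909) (.leaf 1215)) (.node (.leaf 921) (.leaf 1844)))))) (.node (.node (.node (.node (.node (.leaf 1995) (.leaf 649)) (.node (.leaf 817) (.leaf 1153))) (.node (.node (.leaf 591) (.leaf 1488)) (.node (.leaf 1154) (.leaf 439)))) (.node (.node (.node (.leaf 1227) (.leaf 1587)) (.node (.leaf 966) (.leaf 1547))) (.node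 (.node (.leaf 566) (.leaf 108)) (.node (.leaf 1140) (.leaf 62))))) (.node (.node (.node (.node (.leaf 495) (.leaf 807)) (.node (.leaf 1815) (.leaf 459))) (.node (.node (.leaf 1906) (.leaf 537)) (.node (.leaf 1627) (.leaf 318)))) (.node (.node (.node (.leaf 1569) (.leaf 1861)) (.node (.leaf 1434) (.leaf 2076))) (.node (.node (.leaf 1400) (.leaf 1712)) (.node (.leaf 1319) (.leaf 50))))))) (.node (.node (.node (.node (.node (.node (.node (.leaf 576) (.leaf 2050)) (.leaf 983)) (.node (.leaf 334) (.leaf 840))) (.node (.node (.leaf 1020) (.leaf 147)) (.node (.leaf 338) (.leaf 1290)))) (.node (.node (.node (.leaf 870) (.leaf 1038)) (.node (.leaf 1086) (.leaf 8))) (.node (.node (.leaf 1874) (.leaf 1939)) (.node (.leaf 501) (.leaf 1764))))) (.node (.node (.node (.node (.leaf 500) (.leaf 861)) (.node (.leaf 89) (.leaf 1922))) (.node (.node (.leaf 1591) (.leaf 1562)) (.node (.leaf 785) (.leaf 39)))) (.node (.node (.node (.leaf 876) (.leaf 115)) (.node (.leaf 1446) (.leaf 1760))) (.node (.node (.leaf 79) (.leaf 219)) (.node (.leaf 1269) (.leaf 1859)))))) (.node (.node (.node (.node (.node (.leaf 1684) (.leaf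 1845)) (.node (.leaf 1008) (.leaf 1901))) (.node (.node (.leaf 1098) (.leaf 2015)) (.node (.leaf 1772) (.leaf 775)))) (.node (.node (.node (.leaf 174) (.leaf 1050)) (.node (.leaf 1540) (.leaf 1710))) (.node (.node (.leaf 281) (.leaf 414)) (.node (.leaf 444) (.leaf 137))))) (.node (.node (.node (.node (.leaf 722) (.leaf 1550)) (.node (.leaf 1233) (.leaf 37))) (.node (.node (.leaf 1882) (.leaf 619)) (.node (.leaf 1920) (.leaf 3)))) (.node (.node (.node (.leaf 1111) (.leaf 1156)) (.node (.leaf 1129) (.leaf 61))) (.node (.node (.leaf 1195) (.leaf 1238)) (.node (.leaf 1505) (.leaf 497)))))))) (.node (.node (.node (.node (.node (.node (.node (.node (.leaf 705) (.leaf 34)) (.leaf 1534)) (.node (.leaf 968) (.leaf 802))) (.node (.node (.leaf 1567) (.leaf 1522)) (.node (.leaf 451) (.leaf 678)))) (.node (.node (.node (.leaf 1663) (.leaf 1360)) (.node (.leaf 1743) (.leaf 729))) (.node (.node (.leaf 1561) (.leaf 1590)) (.node (.leaf 267) (.leaf 1842))))) (.node (.node (.node (.node (.leaf 651) (.leaf 1930)) (.node (.leaf 196) (.leaf 577))) (.node (.node (.leaf 2003) (.leaf 1586)) (.node (.leaf 1015) (.leaf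 1145)))) (.node (.node (.node (.leaf 215) (.leaf 1394)) (.node (.leaf 1808) (.leaf 1941))) (.node (.node (.leaf 2054) (.leaf 898)) (.node (.leaf 1867) (.leaf 1821)))))) (.node (.node (.node (.node (.node (.leaf 448) (.leaf 87)) (.node (.leaf 2009) (.leaf 1052))) (.node (.node (.leaf 618) (.leaf 88)) (.node (.leaf 1971) (.leaf 1341)))) (.node (.node (.node (.leaf 1024) (.leaf 1328)) (.node (.leaf 1660) (.leaf 1866))) (.node (.node (.leaf 1412) (.leaf 513)) (.node (.leaf 30) (.leaf 1704))))) (.node (.node (.node (.node (.leaf 930) (.leaf 1713)) (.node (.leaf 431) (.leaf 352))) (.node (.node (.leaf 158) (.leaf 2056)) (.node (.leaf 1432) (.leaf 1172)))) (.node (.node (.node (.leaf 1805) (.leaf 413)) (.node (.leaf 1701) (.leaf 183))) (.node (.node (.leaf 1018) (.leaf 1371)) (.node (.leaf 1785) (.leaf 1884))))))) (.node (.node (.node (.node (.node (.node (.node (.leaf 1142) (.leaf 35)) (.leaf 782)) (.node (.leaf 1748) (.leaf 1860))) (.node (.node (.leaf 1883) (.leaf 677)) (.node (.leaf 226) (.leaf 1548)))) (.node (.node (.node (.leaf 313) (.leaf 1121)) (.node (.leaf 1201) (.leaf 1708))) (.node (.node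 (.leaf 1073) (.leaf 71)) (.node (.leaf 970) (.leaf 53))))) (.node (.node (.node (.node (.leaf 1602) (.leaf 1303)) (.node (.leaf 611) (.leaf 193))) (.node (.node (.leaf 1048) (.leaf 668)) (.node (.leaf 1989) (.leaf 265)))) (.node (.node (.node (.leaf 1075) (.leaf 1656)) (.node (.leaf 1789) (.leaf 520))) (.node (.node (.leaf 1599) (.leaf 402)) (.node (.leaf 1251) (.leaf 671)))))) (.node (.node (.node (.node (.node (.leaf 607) (.leaf 689)) (.node (.leaf 1278) (.leaf 788))) (.node (.node (.leaf 932) (.leaf 24)) (.node (.leaf 941) (.leaf 971)))) (.node (.node (.node (.leaf 1687) (.leaf 224)) (.node (.leaf 1678) (.leaf 1377))) (.node (.node (.leaf 499) (.leaf 1840)) (.node (.leaf 1694) (.leaf 2052))))) (.node (.node (.node (.node (.leaf 1653) (.leaf 199)) (.node (.leaf 596) (.leaf 152))) (.node (.node (.leaf 829) (.leaf 1965)) (.node (.leaf 885) (.leaf 1363)))) (.node (.node (.node (.leaf 756) (.leaf 1071)) (.node (.leaf 2021) (.leaf 532))) (.node (.node (.leaf 1606) (.leaf 1296)) (.node (.leaf 1677) (.leaf 1115)))))))))) (.node (.node (.node (.node (.node (.node (.node (.node (.node (.node (.leaf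 2068) (.leaf 308)) (.leaf 198)) (.node (.leaf 1666) (.leaf 521))) (.node (.node (.leaf 2039) (.leaf 660)) (.node (.leaf 699) (.leaf 388)))) (.node (.node (.node (.leaf 130) (.leaf 205)) (.node (.leaf 1338) (.leaf 674))) (.node (.node (.leaf 1924) (.leaf 1256)) (.node (.leaf 1080) (.leaf 2065))))) (.node (.node (.node (.node (.leaf 1719) (.leaf 625)) (.node (.leaf 134) (.leaf 1231))) (.node (.node (.leaf 1739) (.leaf 1068)) (.node (.leaf 1333) (.leaf 616)))) (.node (.node (.node (.leaf 2008) (.leaf 428)) (.node (.leaf 58) (.leaf 1327))) (.node (.node (.leaf 1836) (.leaf 578)) (.node (.leaf 217) (.leaf 1647)))))) (.node (.node (.node (.node (.node (.leaf 1428) (.leaf 1490)) (.node (.leaf 1310) (.leaf 1973))) (.node (.node (.leaf 494) (.leaf 269)) (.node (.leaf 927) (.leaf 140)))) (.node (.node (.node (.leaf 482) (.leaf 1665)) (.node (.leaf 800) (.leaf 1147))) (.node (.node (.leaf 2027) (.leaf 1004)) (.node (.leaf 1139) (.leaf 1817))))) (.node (.node (.node (.node (.leaf 768) (.leaf 485)) (.node (.leaf 1079) (.leaf 365))) (.node (.node (.leaf 1051) (.leaf 1187)) (.node (.leaf 961) (.leaf 549))))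 (.node (.node (.node (.leaf 903) (.leaf 1729)) (.node (.leaf 1554) (.leaf 335))) (.node (.node (.leaf 229) (.leaf 702)) (.node (.leaf 2075) (.leaf 1032))))))) (.node (.node (.node (.node (.node (.node (.node (.leaf 1430) (.leaf 1091)) (.leaf 1759)) (.node (.leaf 1027) (.leaf 2064))) (.node (.node (.leaf 1355) (.leaf 412)) (.node (.leaf 1667) (.leaf 1839)))) (.node (.node (.node (.leaf 787) (.leaf 742)) (.node (.leaf 1856) (.leaf 1200))) (.node (.node (.leaf 1621) (.leaf 1970)) (.node (.leaf 17) (.leaf 544))))) (.node (.node (.node (.node (.leaf 1809) (.leaf 2053)) (.node (.leaf 1034) (.leaf 1806))) (.node (.node (.leaf 212) (.leaf 1036)) (.node (.leaf 1242) (.leaf 65)))) (.node (.node (.node (.leaf 1893) (.leaf 1535)) (.node (.leaf 206) (.leaf 1942))) (.node (.node (.leaf 1616) (.leaf 337)) (.node (.leaf 1646) (.leaf 1088)))))) (.node (.node (.node (.node (.node (.leaf 924) (.leaf 1351)) (.node (.leaf 847) (.leaf 976))) (.node (.node (.leaf 926) (.leaf 1252)) (.node (.leaf 1119) (.leaf 940)))) (.node (.node (.node (.leaf 101) (.leaf 697)) (.node (.leaf 524) (.leaf 1876))) (.node (.node (.leaf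 1485) (.leaf 429)) (.node (.leaf 929) (.leaf 1486))))) (.node (.node (.node (.node (.leaf 2002) (.leaf 1248)) (.node (.leaf 652) (.leaf 9))) (.node (.node (.leaf 1361) (.leaf 2045)) (.node (.leaf 852) (.leaf 127)))) (.node (.node (.node (.leaf 1912) (.leaf 1396)) (.node (.leaf 67) (.leaf 1229))) (.node (.node (.leaf 942) (.leaf 1270)) (.node (.leaf 1779) (.leaf 1613)))))))) (.node (.node (.node (.node (.node (.node (.node (.node (.leaf 1094) (.leaf 31)) (.leaf 361)) (.node (.leaf 250) (.leaf 1560))) (.node (.node (.leaf 1183) (.leaf 484)) (.node (.leaf 703) (.leaf 467)))) (.node (.node (.node (.leaf 1716) (.leaf 1622)) (.node (.leaf 1312) (.leaf 126))) (.node (.node (.leaf 1271) (.leaf 1099)) (.node (.leaf 1625) (.leaf 990))))) (.node (.node (.node (.node (.leaf 276) (.leaf 489)) (.node (.leaf 410) (.leaf 899))) (.node (.node (.leaf 1454) (.leaf 173)) (.node (.leaf 1900) (.leaf 1406)))) (.node (.node (.node (.leaf 848) (.leaf 1518)) (.node (.leaf 635) (.leaf 1974))) (.node (.node (.leaf 664) (.leaf 900)) (.node (.leaf 1411) (.leaf 1706)))))) (.node (.node (.node (.node (.node (.leaf 124) (.leaf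 331)) (.node (.leaf 701) (.leaf 104))) (.node (.node (.leaf 713) (.leaf 1170)) (.node (.leaf 1740) (.leaf 1417)))) (.node (.node (.node (.leaf 1262) (.leaf 1761)) (.node (.leaf 1948) (.leaf 164))) (.node (.node (.leaf 296) (.leaf 2057)) (.node (.leaf 411) (.leaf 1137))))) (.node (.node (.node (.node (.leaf 708) (.leaf 1707)) (.node (.leaf 884) (.leaf 1065))) (.node (.node (.leaf 1654) (.leaf 818)) (.node (.leaf 967) (.leaf 305)))) (.node (.node (.node (.leaf 794) (.leaf 605)) (.node (.leaf 1558) (.leaf 354))) (.node (.node (.leaf 910) (.leaf 434)) (.node (.leaf 1374) (.leaf 449))))))) (.node (.node (.node (.node (.node (.node (.node (.leaf 516) (.leaf 56)) (.leaf 1597)) (.node (.leaf 810) (.leaf 1225))) (.node (.node (.leaf 995) (.leaf 36)) (.node (.leaf 84) (.leaf 2074)))) (.node (.node (.node (.leaf 904) (.leaf 893)) (.node (.leaf 2005) (.leaf 1469))) (.node (.node (.leaf 417) (.leaf 1950)) (.node (.leaf 185) (.leaf 20))))) (.node (.node (.node (.node (.leaf 2038) (.leaf 1373)) (.node (.leaf 406) (.leaf 1070))) (.node (.node (.leaf 1563) (.leaf 1359)) (.node (.leaf 866) (.leaf 638)))) (.node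 (.node (.node (.leaf 472) (.leaf 958)) (.node (.leaf 1650) (.leaf 454))) (.node (.node (.leaf 1715) (.leaf 1728)) (.node (.leaf 595) (.leaf 263)))))) (.node (.node (.node (.node (.node (.leaf 433) (.leaf 517)) (.node (.leaf 1007) (.leaf 827))) (.node (.node (.leaf 1021) (.leaf 1460)) (.node (.leaf 901) (.leaf 612)))) (.node (.node (.node (.leaf 1466) (.leaf 1781)) (.node (.leaf 1648) (.leaf 99))) (.node (.node (.leaf 278) (.leaf 732)) (.node (.leaf 491) (.leaf 2051))))) (.node (.node (.node (.node (.leaf 234) (.leaf 1552)) (.node (.leaf 1344) (.leaf 282))) (.node (.node (.leaf 1737) (.leaf 956)) (.node (.leaf 157) (.leaf 1191)))) (.node (.node (.node (.leaf 180) (.leaf 179)) (.node (.leaf 2010) (.leaf 1847))) (.node (.node (.leaf 1857) (.leaf 2014)) (.node (.leaf 1682) (.leaf 1545))))))))) (.node (.node (.node (.node (.node (.node (.node (.node (.node (.leaf 2067) (.leaf 1404)) (.leaf 1085)) (.node (.leaf 1830) (.leaf 384))) (.node (.node (.leaf 106) (.leaf 1458)) (.node (.leaf 464) (.leaf 522)))) (.node (.node (.node (.leaf 303) (.leaf 1390)) (.node (.leaf 2059) (.leaf 478))) (.node (.node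 (.leaf 123) (.leaf 1420)) (.node (.leaf 1879) (.leaf 546))))) (.node (.node (.node (.node (.leaf 54) (.leaf 1389)) (.node (.leaf 476) (.leaf 69))) (.node (.node (.leaf 1658) (.leaf 1424)) (.node (.leaf 1331) (.leaf 1346)))) (.node (.node (.node (.leaf 1228) (.leaf 1023)) (.node (.leaf 291) (.leaf 1376))) (.node (.node (.leaf 886) (.leaf 1456)) (.node (.leaf 493) (.leaf 1069)))))) (.node (.node (.node (.node (.node (.leaf 1103) (.leaf 445)) (.node (.leaf 799) (.leaf 1935))) (.node (.node (.leaf 145) (.leaf 44)) (.node (.leaf 1937) (.leaf 1572)))) (.node (.node (.node (.leaf 1632) (.leaf 188)) (.node (.leaf 1286) (.leaf 945))) (.node (.node (.leaf 1852) (.leaf 528)) (.node (.leaf 1652) (.leaf 1126))))) (.node (.node (.node (.node (.leaf 376) (.leaf 982)) (.node (.leaf 757) (.leaf 584))) (.node (.node (.leaf 1738) (.leaf 1509)) (.node (.leaf 1618) (.leaf 297)))) (.node (.node (.node (.leaf 1530) (.leaf 1062)) (.node (.leaf 437) (.leaf 40))) (.node (.node (.leaf 1281) (.leaf 436)) (.node (.leaf 218) (.leaf 951))))))) (.node (.node (.node (.node (.node (.node (.node (.leaf 1025) (.leaf 1471)) (.leaf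 753)) (.node (.leaf 878) (.leaf 1258))) (.node (.node (.leaf 1911) (.leaf 563)) (.node (.leaf 346) (.leaf 1726)))) (.node (.node (.node (.leaf 1605) (.leaf 1407)) (.node (.leaf 1673) (.leaf 7))) (.node (.node (.leaf 856) (.leaf 948)) (.node (.leaf 1356) (.leaf 1462))))) (.node (.node (.node (.node (.leaf 498) (.leaf 1610)) (.node (.leaf 1127) (.leaf 1443))) (.node (.node (.leaf 882) (.leaf 1202)) (.node (.leaf 1309) (.leaf 272)))) (.node (.node (.node (.leaf 277) (.leaf 534)) (.node (.leaf 1386) (.leaf 1762))) (.node (.node (.leaf 1345) (.leaf 1174)) (.node (.leaf 1388) (.leaf 2062)))))) (.node (.node (.node (.node (.node (.leaf 1637) (.leaf 515)) (.node (.leaf 1979) (.leaf 1513))) (.node (.node (.leaf 1316) (.leaf 2011)) (.node (.leaf 1306) (.leaf 1947)))) (.node (.node (.node (.leaf 918) (.leaf 774)) (.node (.leaf 984) (.leaf 1301))) (.node (.node (.leaf 1101) (.leaf 293)) (.node (.leaf 1078) (.leaf 523))))) (.node (.node (.node (.node (.leaf 553) (.leaf 1776)) (.node (.leaf 1196) (.leaf 47))) (.node (.node (.leaf 401) (.leaf 1877)) (.node (.leaf 1475) (.leaf 1467)))) (.node (.node (.node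 (.leaf 1657) (.leaf 1272)) (.node (.leaf 1664) (.leaf 1843))) (.node (.node (.leaf 287) (.leaf 2020)) (.node (.leaf 1158) (.leaf 608)))))))) (.node (.node (.node (.node (.node (.node (.node (.node (.leaf 1054) (.leaf 240)) (.leaf 1752)) (.node (.leaf 786) (.leaf 724))) (.node (.node (.leaf 1320) (.leaf 760)) (.node (.leaf 1881) (.leaf 1199)))) (.node (.node (.node (.leaf 1639) (.leaf 1553)) (.node (.leaf 864) (.leaf 1846))) (.node (.node (.leaf 1831) (.leaf 944)) (.node (.leaf 148) (.leaf 1165))))) (.node (.node (.node (.node (.leaf 606) (.leaf 166)) (.node (.leaf 1777) (.leaf 1641))) (.node (.node (.leaf 719) (.leaf 832)) (.node (.leaf 225) (.leaf 1273)))) (.node (.node (.node (.leaf 197) (.leaf 1771)) (.node (.leaf 1408) (.leaf 1754))) (.node (.node (.leaf 862) (.leaf 1395)) (.node (.leaf 919) (.leaf 711)))))) (.node (.node (.node (.node (.node (.leaf 1112) (.leaf 327)) (.node (.leaf 1194) (.leaf 614))) (.node (.node (.leaf 973) (.leaf 60)) (.node (.leaf 1966) (.leaf 1223)))) (.node (.node (.node (.leaf 1416) (.leaf 1755)) (.node (.leaf 186) (.leaf 716))) (.node (.node (.leaf 843) (.leaf 574))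 (.node (.leaf 1029) (.leaf 64))))) (.node (.node (.node (.node (.leaf 1675) (.leaf 1574)) (.node (.leaf 755) (.leaf 28))) (.node (.node (.leaf 105) (.leaf 617)) (.node (.leaf 564) (.leaf 135)))) (.node (.node (.node (.leaf 1315) (.leaf 1479)) (.node (.leaf 425) (.leaf 554))) (.node (.node (.leaf 907) (.leaf 1986)) (.node (.leaf 160) (.leaf 550))))))) (.node (.node (.node (.node (.node (.node (.node (.leaf 769) (.leaf 1337)) (.leaf 1287)) (.node (.leaf 2004) (.leaf 1107))) (.node (.node (.leaf 632) (.leaf 474)) (.node (.leaf 1184) (.leaf 1546)))) (.node (.node (.node (.leaf 1122) (.leaf 304)) (.node (.leaf 159) (.leaf 749))) (.node (.node (.leaf 1589) (.leaf 1628)) (.node (.leaf 640) (.leaf 1100))))) (.node (.node (.node (.node (.leaf 1322) (.leaf 863)) (.node (.leaf 1630) (.leaf 593))) (.node (.node (.leaf 1175) (.leaf 1774)) (.node (.leaf 1964) (.leaf 1028)))) (.node (.node (.node (.leaf 1837) (.leaf 826)) (.node (.leaf 1009) (.leaf 1193))) (.node (.node (.leaf 1734) (.leaf 470)) (.node (.leaf 1289) (.leaf 545)))))) (.node (.node (.node (.node (.node (.leaf 1991) (.leaf 685)) (.node (.leaf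 1858) (.leaf 307))) (.node (.node (.leaf 1311) (.leaf 533)) (.node (.leaf 1904) (.leaf 1449)))) (.node (.node (.node (.leaf 1956) (.leaf 821)) (.node (.leaf 462) (.leaf 151))) (.node (.node (.leaf 691) (.leaf 510)) (.node (.leaf 1106) (.leaf 684))))) (.node (.node (.node (.node (.leaf 228) (.leaf 911)) (.node (.leaf 542) (.leaf 408))) (.node (.node (.leaf 1891) (.leaf 1745)) (.node (.leaf 1807) (.leaf 399)))) (.node (.node (.node (.leaf 889) (.leaf 128)) (.node (.leaf 824) (.leaf 1594))) (.node (.node (.leaf 1398) (.leaf 1895)) (.node (.leaf 469) (.leaf 772)))))))))))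

/-- A table. -/
noncomputable def fixOrbPos : BTree := .node fixOrbPosL fixOrbPosR

/-- The orbit. -/
noncomputable def fixOrb : MOrb where
  n := 2080
  masks := fixOrbMasks
  par := fixOrbPar
  nxt := [fixOrbNext0, fixOrbNext1, fixOrbNext2, fixOrbNext3, fixOrbNext4, fixOrbNext5]
  srt := fixOrbSrt
  pos := fixOrbPos

/-- Part of a table. -/
noncomputable def fixLabL : BTree := (.node (.node (.node (.node (.node (.node (.node (.node (.node (.node (.node (.leaf 0) (.leaf 44)) (.leaf 30)) (.node (.leaf 77) (.leaf 41))) (.node (.node (.leaf 18) (.leaf 81)) (.node (.leaf 0) (.leaf 73)))) (.node (.node (.node (.leaf 37) (.leaf 42)) (.node (.leaf 75) (.leaf 29))) (.node (.node (.leaf 32) (.leaf 83)) (.node (.leaf 51) (.leaf 85))))) (.node (.node (.node (.node (.leaf 23) (.leaf 64)) (.node (.leaf 12) (.leaf 73))) (.node (.node (.leaf 18) (.leaf 33)) (.node (.leaf 60) (.leaf 55)))) (.node (.node (.node (.leaf 28) (.leaf 15)) (.node (.leaf 22) (.leaf 8))) (.node (.node (.leaf 5) (.leaf 82)) (.node (.leaf 23) (.leaf 50)))))) (.node (.node (.node (.node (.node (.leaf 14) (.leaf 26)) (.node (.leaf 8)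 (.leaf 79))) (.node (.node (.leaf 49) (.leaf 60)) (.node (.leaf 56) (.leaf 21)))) (.node (.node (.node (.leaf 36) (.leaf 79)) (.node (.leaf 78) (.leaf 35))) (.node (.node (.leaf 70) (.leaf 75)) (.node (.leaf 5) (.leaf 21))))) (.node (.node (.node (.node (.leaf 22) (.leaf 83)) (.node (.leaf 20) (.leaf 65))) (.node (.node (.leaf 12) (.leaf 57)) (.node (.leaf 28) (.leaf 56)))) (.node (.node (.node (.leaf 17) (.leaf 49)) (.node (.leaf 51) (.leaf 43))) (.node (.node (.leaf 21) (.leaf 86)) (.node (.leaf 0) (.leaf 81))))))) (.node (.node (.node (.node (.node (.node (.node (.leaf 3) (.leaf 87)) (.leaf 8)) (.node (.leaf 53) (.leaf 43))) (.node (.node (.leaf 34) (.leaf 49)) (.node (.leaf 61) (.leaf 27)))) (.node (.node (.node (.leaf 32) (.leaf 43)) (.node (.leaf 35) (.leaf 6))) (.node (.node (.leaf 31) (.leaf 42)) (.node (.leaf 55) (.leaf 29))))) (.node (.node (.node (.node (.leaf 18) (.leaf 39)) (.node (.leaf 19) (.leaf 6))) (.node (.node (.leaf 46) (.leaf 55)) (.node (.leaf 3) (.leaf 64)))) (.node (.node (.node (.leaf 3) (.leaf 8)) (.node (.leaf 29) (.leaf 77))) (.node (.node (.leaf 63) (.leaf 29))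 (.node (.leaf 74) (.leaf 76)))))) (.node (.node (.node (.node (.node (.leaf 11) (.leaf 82)) (.node (.leaf 67) (.leaf 37))) (.node (.node (.leaf 3) (.leaf 53)) (.node (.leaf 45) (.leaf 25)))) (.node (.node (.node (.leaf 46) (.leaf 73)) (.node (.leaf 15) (.leaf 75))) (.node (.node (.leaf 17) (.leaf 87)) (.node (.leaf 33) (.leaf 57))))) (.node (.node (.node (.node (.leaf 24) (.leaf 10)) (.node (.leaf 31) (.leaf 50))) (.node (.node (.leaf 51) (.leaf 26)) (.node (.leaf 17) (.leaf 68)))) (.node (.node (.node (.leaf 41) (.leaf 10)) (.node (.leaf 79) (.leaf 82))) (.node (.node (.leaf 19) (.leaf 70)) (.node (.leaf 83) (.leaf 72)))))))) (.node (.node (.node (.node (.node (.node (.node (.node (.leaf 0) (.leaf 78)) (.leaf 8)) (.node (.leaf 68) (.leaf 21))) (.node (.node (.leaf 44) (.leaf 53)) (.node (.leaf 55) (.leaf 57)))) (.node (.node (.node (.leaf 2) (.leaf 35)) (.node (.leaf 54) (.leaf 72))) (.node (.node (.leaf 0) (.leaf 24)) (.node (.leaf 49) (.leaf 69))))) (.node (.node (.node (.node (.leaf 6) (.leaf 62)) (.node (.leaf 52) (.leaf 9))) (.node (.node (.leaf 17) (.leaf 30)) (.node (.leaf 77) (.leaf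 49)))) (.node (.node (.node (.leaf 27) (.leaf 46)) (.node (.leaf 42) (.leaf 85))) (.node (.node (.leaf 26) (.leaf 66)) (.node (.leaf 24) (.leaf 76)))))) (.node (.node (.node (.node (.node (.leaf 16) (.leaf 11)) (.node (.leaf 20) (.leaf 59))) (.node (.node (.leaf 36) (.leaf 72)) (.node (.leaf 59) (.leaf 86)))) (.node (.node (.node (.leaf 30) (.leaf 27)) (.node (.leaf 64) (.leaf 27))) (.node (.node (.leaf 21) (.leaf 45)) (.node (.leaf 78) (.leaf 85))))) (.node (.node (.node (.node (.leaf 21) (.leaf 41)) (.node (.leaf 69) (.leaf 57))) (.node (.node (.leaf 5) (.leaf 45)) (.node (.leaf 15) (.leaf 32)))) (.node (.node (.node (.leaf 28) (.leaf 8)) (.node (.leaf 51) (.leaf 87))) (.node (.node (.leaf 60) (.leaf 66)) (.node (.leaf 48) (.leaf 84))))))) (.node (.node (.node (.node (.node (.node (.node (.leaf 10) (.leaf 10)) (.leaf 50)) (.node (.leaf 30) (.leaf 18))) (.node (.node (.leaf 46) (.leaf 36)) (.node (.leaf 61) (.leaf 70)))) (.node (.node (.node (.leaf 25) (.leaf 17)) (.node (.leaf 43) (.leaf 10))) (.node (.node (.leaf 19) (.leaf 64)) (.node (.leaf 74) (.leaf 87))))) (.node (.node (.node (.node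 (.leaf 31) (.leaf 47)) (.node (.leaf 58) (.leaf 72))) (.node (.node (.leaf 68) (.leaf 49)) (.node (.leaf 33) (.leaf 81)))) (.node (.node (.node (.leaf 52) (.leaf 8)) (.node (.leaf 77) (.leaf 77))) (.node (.node (.leaf 48) (.leaf 46)) (.node (.leaf 28) (.leaf 78)))))) (.node (.node (.node (.node (.node (.leaf 1) (.leaf 43)) (.node (.leaf 12) (.leaf 16))) (.node (.node (.leaf 53) (.leaf 40)) (.node (.leaf 64) (.leaf 86)))) (.node (.node (.node (.leaf 23) (.leaf 53)) (.node (.leaf 31) (.leaf 22))) (.node (.node (.leaf 54) (.leaf 82)) (.node (.leaf 28) (.leaf 78))))) (.node (.node (.node (.node (.leaf 37) (.leaf 85)) (.node (.leaf 45) (.leaf 39))) (.node (.node (.leaf 18) (.leaf 69)) (.node (.leaf 39) (.leaf 27)))) (.node (.node (.node (.leaf 57) (.leaf 38)) (.node (.leaf 41) (.leaf 85))) (.node (.node (.leaf 51) (.leaf 47)) (.node (.leaf 60) (.leaf 65))))))))) (.node (.node (.node (.node (.node (.node (.node (.node (.node (.leaf 0) (.leaf 65)) (.leaf 78)) (.node (.leaf 55) (.leaf 80))) (.node (.node (.leaf 4) (.leaf 50)) (.node (.leaf 24) (.leaf 77)))) (.node (.node (.node (.leaf 13) (.leaf 75))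 (.node (.leaf 0) (.leaf 14))) (.node (.node (.leaf 17) (.leaf 61)) (.node (.leaf 71) (.leaf 49))))) (.node (.node (.node (.node (.leaf 26) (.leaf 26)) (.node (.leaf 76) (.leaf 77))) (.node (.node (.leaf 19) (.leaf 76)) (.node (.leaf 8) (.leaf 80)))) (.node (.node (.node (.leaf 19) (.leaf 47)) (.node (.leaf 13) (.leaf 79))) (.node (.node (.leaf 74) (.leaf 44)) (.node (.leaf 70) (.leaf 83)))))) (.node (.node (.node (.node (.node (.leaf 9) (.leaf 58)) (.node (.leaf 72) (.leaf 79))) (.node (.node (.leaf 13) (.leaf 11)) (.node (.leaf 29) (.leaf 86)))) (.node (.node (.node (.leaf 0) (.leaf 39)) (.node (.leaf 8) (.leaf 60))) (.node (.node (.leaf 69) (.leaf 70)) (.node (.leaf 40) (.leaf 83))))) (.node (.node (.node (.node (.leaf 33) (.leaf 30)) (.node (.leaf 31) (.leaf 67))) (.node (.node (.leaf 9) (.leaf 17)) (.node (.leaf 12) (.leaf 52)))) (.node (.node (.node (.leaf 41) (.leaf 12)) (.node (.leaf 21) (.leaf 11))) (.node (.node (.leaf 24) (.leaf 14)) (.node (.leaf 18) (.leaf 69))))))) (.node (.node (.node (.node (.node (.node (.node (.leaf 3) (.leaf 87)) (.leaf 55)) (.node (.leaf 16) (.leaf 60))) (.node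 (.node (.leaf 60) (.leaf 57)) (.node (.leaf 30) (.leaf 14)))) (.node (.node (.node (.leaf 40) (.leaf 53)) (.node (.leaf 32) (.leaf 33))) (.node (.node (.leaf 29) (.leaf 30)) (.node (.leaf 39) (.leaf 57))))) (.node (.node (.node (.node (.leaf 29) (.leaf 14)) (.node (.leaf 4) (.leaf 36))) (.node (.node (.leaf 67) (.leaf 9)) (.node (.leaf 47) (.leaf 51)))) (.node (.node (.node (.leaf 40) (.leaf 77)) (.node (.leaf 56) (.leaf 86))) (.node (.node (.leaf 32) (.leaf 73)) (.node (.leaf 79) (.leaf 67)))))) (.node (.node (.node (.node (.node (.leaf 19) (.leaf 50)) (.node (.leaf 37) (.leaf 67))) (.node (.node (.leaf 35) (.leaf 69)) (.node (.leaf 73) (.leaf 70)))) (.node (.node (.node (.leaf 37) (.leaf 27)) (.node (.leaf 60) (.leaf 54))) (.node (.node (.leaf 5) (.leaf 40)) (.node (.leaf 4) (.leaf 76))))) (.node (.node (.node (.node (.leaf 21) (.leaf 36)) (.node (.leaf 29) (.leaf 76))) (.node (.node (.leaf 24) (.leaf 77)) (.node (.leaf 34) (.leaf 82)))) (.node (.node (.node (.leaf 19) (.leaf 9)) (.node (.leaf 75) (.leaf 40))) (.node (.node (.leaf 76) (.leaf 75)) (.node (.leaf 59) (.leaf 86)))))))) (.node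 (.node (.node (.node (.node (.node (.node (.node (.leaf 1) (.leaf 7)) (.leaf 23)) (.node (.leaf 60) (.leaf 37))) (.node (.node (.leaf 11) (.leaf 75)) (.node (.leaf 24) (.leaf 66)))) (.node (.node (.node (.leaf 4) (.leaf 79)) (.node (.leaf 18) (.leaf 68))) (.node (.node (.leaf 28) (.leaf 74)) (.node (.leaf 29) (.leaf 85))))) (.node (.node (.node (.node (.leaf 5) (.leaf 62)) (.node (.leaf 47) (.leaf 68))) (.node (.node (.leaf 19) (.leaf 24)) (.node (.leaf 73) (.leaf 52)))) (.node (.node (.node (.leaf 51) (.leaf 61)) (.node (.leaf 49) (.leaf 87))) (.node (.node (.leaf 51) (.leaf 15)) (.node (.leaf 62) (.leaf 58)))))) (.node (.node (.node (.node (.node (.leaf 4) (.leaf 14)) (.node (.leaf 63) (.leaf 86))) (.node (.node (.leaf 52) (.leaf 40)) (.node (.leaf 63) (.leaf 29)))) (.node (.node (.node (.leaf 20) (.leaf 70)) (.node (.leaf 42) (.leaf 74))) (.node (.node (.leaf 72) (.leaf 41)) (.node (.leaf 68) (.leaf 71))))) (.node (.node (.node (.node (.leaf 24) (.leaf 6)) (.node (.leaf 70) (.leaf 3))) (.node (.node (.leaf 7) (.leaf 70)) (.node (.leaf 59) (.leaf 25)))) (.node (.node (.node (.leaf 31) (.leaf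 63)) (.node (.leaf 26) (.leaf 86))) (.node (.node (.leaf 19) (.leaf 67)) (.node (.leaf 17) (.leaf 83))))))) (.node (.node (.node (.node (.node (.node (.node (.leaf 4) (.leaf 7)) (.leaf 3)) (.node (.leaf 46) (.leaf 16))) (.node (.node (.leaf 5) (.leaf 38)) (.node (.leaf 55) (.leaf 46)))) (.node (.node (.node (.leaf 22) (.leaf 34)) (.node (.leaf 36) (.leaf 81))) (.node (.node (.leaf 41) (.leaf 56)) (.node (.leaf 27) (.leaf 58))))) (.node (.node (.node (.node (.leaf 11) (.leaf 31)) (.node (.leaf 20) (.leaf 81))) (.node (.node (.leaf 6) (.leaf 75)) (.node (.leaf 31) (.leaf 71)))) (.node (.node (.node (.leaf 30) (.leaf 36)) (.node (.leaf 75) (.leaf 75))) (.node (.node (.leaf 38) (.leaf 38)) (.node (.leaf 0) (.leaf 69)))))) (.node (.node (.node (.node (.node (.leaf 22) (.leaf 81)) (.node (.leaf 16) (.leaf 15))) (.node (.node (.leaf 16) (.leaf 40)) (.node (.leaf 30) (.leaf 85)))) (.node (.node (.node (.leaf 15) (.leaf 77)) (.node (.leaf 59) (.leaf 49))) (.node (.node (.leaf 44) (.leaf 58)) (.node (.leaf 23) (.leaf 68))))) (.node (.node (.node (.node (.leaf 39) (.leaf 23)) (.node (.leaf 42) (.leaf 81)))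 (.node (.node (.leaf 18) (.leaf 45)) (.node (.leaf 82) (.leaf 51)))) (.node (.node (.node (.leaf 18) (.leaf 82)) (.node (.leaf 0) (.leaf 71))) (.node (.node (.leaf 45) (.leaf 80)) (.node (.leaf 63) (.leaf 72)))))))))) (.node (.node (.node (.node (.node (.node (.node (.node (.node (.node (.leaf 0) (.leaf 44)) (.leaf 26)) (.node (.leaf 55) (.leaf 86))) (.node (.node (.leaf 31) (.leaf 66)) (.node (.leaf 63) (.leaf 79)))) (.node (.node (.node (.leaf 35) (.leaf 68)) (.node (.leaf 36) (.leaf 14))) (.node (.node (.leaf 5) (.leaf 59)) (.node (.leaf 32) (.leaf 72))))) (.node (.node (.node (.node (.leaf 12) (.leaf 41)) (.node (.leaf 42) (.leaf 38))) (.node (.node (.leaf 36) (.leaf 82)) (.node (.leaf 60) (.leaf 39)))) (.node (.node (.node (.leaf 19) (.leaf 46)) (.node (.leaf 50) (.leaf 83))) (.node (.node (.leaf 73) (.leaf 86)) (.node (.leaf 12) (.leaf 75)))))) (.node (.node (.node (.node (.node (.leaf 6) (.leaf 81)) (.node (.leaf 72) (.leaf 25))) (.node (.node (.leaf 63) (.leaf 32)) (.node (.leaf 46) (.leaf 12)))) (.node (.node (.node (.leaf 45) (.leaf 27)) (.node (.leaf 30) (.leaf 56))) (.node (.node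 (.leaf 30) (.leaf 87)) (.node (.leaf 14) (.leaf 83))))) (.node (.node (.node (.node (.leaf 24) (.leaf 50)) (.node (.leaf 26) (.leaf 60))) (.node (.node (.leaf 58) (.leaf 80)) (.node (.leaf 34) (.leaf 65)))) (.node (.node (.node (.leaf 28) (.leaf 31)) (.node (.leaf 22) (.leaf 49))) (.node (.node (.leaf 66) (.leaf 73)) (.node (.leaf 53) (.leaf 40))))))) (.node (.node (.node (.node (.node (.node (.node (.leaf 5) (.leaf 21)) (.leaf 56)) (.node (.leaf 61) (.leaf 29))) (.node (.node (.leaf 59) (.leaf 76)) (.node (.leaf 30) (.leaf 77)))) (.node (.node (.node (.leaf 24) (.leaf 63)) (.node (.leaf 5) (.leaf 69))) (.node (.node (.leaf 41) (.leaf 15)) (.node (.leaf 34) (.leaf 64))))) (.node (.node (.node (.node (.leaf 5) (.leaf 17)) (.node (.leaf 4) (.leaf 10))) (.node (.node (.leaf 49) (.leaf 64)) (.node (.leaf 15) (.leaf 60)))) (.node (.node (.node (.leaf 53) (.leaf 60)) (.node (.leaf 4) (.leaf 56))) (.node (.node (.leaf 60) (.leaf 55)) (.node (.leaf 53) (.leaf 6)))))) (.node (.node (.node (.node (.node (.leaf 14) (.leaf 41)) (.node (.leaf 6) (.leaf 34))) (.node (.node (.leaf 64) (.leaf 78)) (.node (.leaf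 77) (.leaf 21)))) (.node (.node (.node (.leaf 39) (.leaf 63)) (.node (.leaf 15) (.leaf 12))) (.node (.node (.leaf 18) (.leaf 84)) (.node (.leaf 33) (.leaf 71))))) (.node (.node (.node (.node (.leaf 16) (.leaf 0)) (.node (.leaf 71) (.leaf 47))) (.node (.node (.leaf 22) (.leaf 78)) (.node (.leaf 80) (.leaf 53)))) (.node (.node (.node (.leaf 45) (.leaf 46)) (.node (.leaf 24) (.leaf 44))) (.node (.node (.leaf 63) (.leaf 10)) (.node (.leaf 56) (.leaf 58)))))))) (.node (.node (.node (.node (.node (.node (.node (.node (.leaf 3) (.leaf 81)) (.leaf 42)) (.node (.leaf 10) (.leaf 23))) (.node (.node (.leaf 14) (.leaf 6)) (.node (.leaf 53) (.leaf 61)))) (.node (.node (.node (.leaf 33) (.leaf 30)) (.node (.leaf 43) (.leaf 27))) (.node (.node (.leaf 54) (.leaf 76)) (.node (.leaf 81) (.leaf 61))))) (.node (.node (.node (.node (.leaf 9) (.leaf 74)) (.node (.leaf 43) (.leaf 80))) (.node (.node (.leaf 16) (.leaf 56)) (.node (.leaf 77) (.leaf 82)))) (.node (.node (.node (.leaf 50) (.leaf 77)) (.node (.leaf 81) (.leaf 74))) (.node (.node (.leaf 46) (.leaf 58)) (.node (.leaf 49) (.leaf 58)))))) (.node (.node (.node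 (.node (.node (.leaf 10) (.leaf 41)) (.node (.leaf 9) (.leaf 37))) (.node (.node (.leaf 27) (.leaf 16)) (.node (.leaf 65) (.leaf 67)))) (.node (.node (.node (.leaf 4) (.leaf 59)) (.node (.leaf 29) (.leaf 55))) (.node (.node (.leaf 28) (.leaf 54)) (.node (.leaf 54) (.leaf 71))))) (.node (.node (.node (.node (.leaf 34) (.leaf 75)) (.node (.leaf 12) (.leaf 71))) (.node (.node (.leaf 20) (.leaf 54)) (.node (.leaf 12) (.leaf 71)))) (.node (.node (.node (.leaf 0) (.leaf 53)) (.node (.leaf 18) (.leaf 40))) (.node (.node (.leaf 35) (.leaf 26)) (.node (.leaf 69) (.leaf 58))))))) (.node (.node (.node (.node (.node (.node (.node (.leaf 12) (.leaf 10)) (.leaf 28)) (.node (.leaf 17) (.leaf 21))) (.node (.node (.leaf 46) (.leaf 76)) (.node (.leaf 63) (.leaf 69)))) (.node (.node (.node (.leaf 31) (.leaf 36)) (.node (.leaf 72) (.leaf 37))) (.node (.node (.leaf 34) (.leaf 85)) (.node (.leaf 66) (.leaf 84))))) (.node (.node (.node (.node (.leaf 13) (.leaf 66)) (.node (.leaf 68) (.leaf 43))) (.node (.node (.leaf 37) (.leaf 31)) (.node (.leaf 34) (.leaf 12)))) (.node (.node (.node (.leaf 40) (.leaf 39)) (.node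 (.leaf 41) (.leaf 42))) (.node (.node (.leaf 47) (.leaf 43)) (.node (.leaf 32) (.leaf 76)))))) (.node (.node (.node (.node (.node (.leaf 11) (.leaf 49)) (.node (.leaf 71) (.leaf 8))) (.node (.node (.leaf 6) (.leaf 53)) (.node (.leaf 66) (.leaf 65)))) (.node (.node (.node (.leaf 15) (.leaf 27)) (.node (.leaf 3) (.leaf 69))) (.node (.node (.leaf 66) (.leaf 85)) (.node (.leaf 51) (.leaf 69))))) (.node (.node (.node (.node (.leaf 6) (.leaf 79)) (.node (.leaf 0) (.leaf 51))) (.node (.node (.leaf 28) (.leaf 83)) (.node (.leaf 27) (.leaf 75)))) (.node (.node (.node (.leaf 40) (.leaf 45)) (.node (.leaf 36) (.leaf 87))) (.node (.node (.leaf 76) (.leaf 69)) (.node (.leaf 13) (.leaf 82))))))))) (.node (.node (.node (.node (.node (.node (.node (.node (.node (.leaf 3) (.leaf 44)) (.leaf 8)) (.node (.leaf 9) (.leaf 59))) (.node (.node (.leaf 5) (.leaf 72)) (.node (.leaf 30) (.leaf 9)))) (.node (.node (.node (.leaf 31) (.leaf 79)) (.node (.leaf 17) (.leaf 40))) (.node (.node (.leaf 61) (.leaf 15)) (.node (.leaf 72) (.leaf 65))))) (.node (.node (.node (.node (.leaf 27) (.leaf 73)) (.node (.leaf 66) (.leaf 66)))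 (.node (.node (.leaf 31) (.leaf 51)) (.node (.leaf 20) (.leaf 74)))) (.node (.node (.node (.leaf 47) (.leaf 49)) (.node (.leaf 54) (.leaf 60))) (.node (.node (.leaf 35) (.leaf 45)) (.node (.leaf 39) (.leaf 25)))))) (.node (.node (.node (.node (.node (.leaf 12) (.leaf 82)) (.node (.leaf 18) (.leaf 77))) (.node (.node (.leaf 13) (.leaf 70)) (.node (.leaf 68) (.leaf 28)))) (.node (.node (.node (.leaf 34) (.leaf 57)) (.node (.leaf 24) (.leaf 3))) (.node (.node (.leaf 16) (.leaf 50)) (.node (.leaf 52) (.leaf 72))))) (.node (.node (.node (.node (.leaf 26) (.leaf 17)) (.node (.leaf 78) (.leaf 81))) (.node (.node (.leaf 44) (.leaf 29)) (.node (.leaf 36) (.leaf 86)))) (.node (.node (.node (.leaf 4) (.leaf 16)) (.node (.leaf 39) (.leaf 54))) (.node (.node (.leaf 26) (.leaf 57)) (.node (.leaf 22) (.leaf 67))))))) (.node (.node (.node (.node (.node (.node (.node (.leaf 0) (.leaf 71)) (.leaf 64)) (.node (.leaf 3) (.leaf 47))) (.node (.node (.leaf 5) (.leaf 65)) (.node (.leaf 28) (.leaf 12)))) (.node (.node (.node (.leaf 28) (.leaf 67)) (.node (.leaf 43) (.leaf 40))) (.node (.node (.leaf 19) (.leaf 85)) (.node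 (.leaf 10) (.leaf 70))))) (.node (.node (.node (.node (.leaf 30) (.leaf 63)) (.node (.leaf 33) (.leaf 37))) (.node (.node (.leaf 27) (.leaf 18)) (.node (.leaf 46) (.leaf 76)))) (.node (.node (.node (.leaf 40) (.leaf 77)) (.node (.leaf 45) (.leaf 69))) (.node (.node (.leaf 4) (.leaf 44)) (.node (.leaf 80) (.leaf 66)))))) (.node (.node (.node (.node (.node (.leaf 11) (.leaf 32)) (.node (.leaf 51) (.leaf 42))) (.node (.node (.leaf 46) (.leaf 20)) (.node (.leaf 8) (.leaf 69)))) (.node (.node (.node (.leaf 30) (.leaf 38)) (.node (.leaf 15) (.leaf 12))) (.node (.node (.leaf 58) (.leaf 73)) (.node (.leaf 57) (.leaf 11))))) (.node (.node (.node (.node (.leaf 36) (.leaf 11)) (.node (.leaf 26) (.leaf 59))) (.node (.node (.leaf 69) (.leaf 50)) (.node (.leaf 10) (.leaf 83)))) (.node (.node (.node (.leaf 28) (.leaf 66)) (.node (.leaf 74) (.leaf 58))) (.node (.node (.leaf 56) (.leaf 11)) (.node (.leaf 57) (.leaf 85)))))))) (.node (.node (.node (.node (.node (.node (.node (.node (.leaf 7) (.leaf 85)) (.leaf 79)) (.node (.leaf 24) (.leaf 66))) (.node (.node (.leaf 4) (.leaf 82)) (.node (.leaf 22) (.leaf 70))))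 (.node (.node (.node (.leaf 26) (.leaf 60)) (.node (.leaf 28) (.leaf 68))) (.node (.node (.leaf 31) (.leaf 56)) (.node (.leaf 36) (.leaf 32))))) (.node (.node (.node (.node (.leaf 19) (.leaf 34)) (.node (.leaf 37) (.leaf 76))) (.node (.node (.leaf 59) (.leaf 3)) (.node (.leaf 15) (.leaf 6)))) (.node (.node (.node (.leaf 39) (.leaf 73)) (.node (.leaf 58) (.leaf 56))) (.node (.node (.leaf 22) (.leaf 50)) (.node (.leaf 18) (.leaf 58)))))) (.node (.node (.node (.node (.node (.leaf 17) (.leaf 56)) (.node (.leaf 28) (.leaf 27))) (.node (.node (.leaf 38) (.leaf 72)) (.node (.leaf 9) (.leaf 83)))) (.node (.node (.node (.leaf 13) (.leaf 32)) (.node (.leaf 3) (.leaf 38))) (.node (.node (.leaf 16) (.leaf 82)) (.node (.leaf 6) (.leaf 66))))) (.node (.node (.node (.node (.leaf 35) (.leaf 46)) (.node (.leaf 39) (.leaf 42))) (.node (.node (.leaf 33) (.leaf 45)) (.node (.leaf 50) (.leaf 40)))) (.node (.node (.node (.leaf 55) (.leaf 49)) (.node (.leaf 59) (.leaf 77))) (.node (.node (.leaf 60) (.leaf 41)) (.node (.leaf 78) (.leaf 83))))))) (.node (.node (.node (.node (.node (.node (.node (.leaf 3) (.leaf 87))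 (.leaf 61)) (.node (.leaf 18) (.leaf 37))) (.node (.node (.leaf 35) (.leaf 82)) (.node (.leaf 65) (.leaf 80)))) (.node (.node (.node (.leaf 14) (.leaf 42)) (.node (.leaf 46) (.leaf 16))) (.node (.node (.leaf 31) (.leaf 74)) (.node (.leaf 26) (.leaf 25))))) (.node (.node (.node (.node (.leaf 14) (.leaf 22)) (.node (.leaf 38) (.leaf 38))) (.node (.node (.leaf 45) (.leaf 59)) (.node (.leaf 27) (.leaf 86)))) (.node (.node (.node (.leaf 24) (.leaf 47)) (.node (.leaf 36) (.leaf 15))) (.node (.node (.leaf 0) (.leaf 70)) (.node (.leaf 34) (.leaf 83)))))) (.node (.node (.node (.node (.node (.leaf 6) (.leaf 43)) (.node (.leaf 32) (.leaf 16))) (.node (.node (.leaf 35) (.leaf 6)) (.node (.leaf 49) (.leaf 56)))) (.node (.node (.node (.leaf 23) (.leaf 27)) (.node (.leaf 22) (.leaf 76))) (.node (.node (.leaf 19) (.leaf 54)) (.node (.leaf 55) (.leaf 72))))) (.node (.node (.node (.node (.leaf 4) (.leaf 21)) (.node (.leaf 79) (.leaf 61))) (.node (.node (.leaf 22) (.leaf 80)) (.node (.leaf 49) (.leaf 87)))) (.node (.node (.node (.leaf 21) (.leaf 81)) (.node (.leaf 39) (.leaf 49))) (.node (.node (.leaf 21) (.leaf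 34)) (.node (.leaf 36) (.leaf 58)))))))))))

/-- Part of a table. -/
noncomputable def fixLabR : BTree := (.node (.node (.node (.node (.node (.node (.node (.node (.node (.node (.node (.leaf 0) (.leaf 10)) (.leaf 46)) (.node (.leaf 3) (.leaf 69))) (.node (.node (.leaf 28) (.leaf 27)) (.node (.leaf 79) (.leaf 67)))) (.node (.node (.node (.leaf 4) (.leaf 56)) (.node (.leaf 41) (.leaf 69))) (.node (.node (.leaf 33) (.leaf 83)) (.node (.leaf 67) (.leaf 87))))) (.node (.node (.node (.node (.leaf 24) (.leaf 42)) (.node (.leaf 6) (.leaf 18))) (.node (.node (.leaf 17) (.leaf 68)) (.node (.leaf 47) (.leaf 9)))) (.node (.node (.node (.leaf 9) (.leaf 67)) (.node (.leaf 44) (.leaf 83))) (.node (.node (.leaf 11) (.leaf 86)) (.node (.leaf 30) (.leaf 66)))))) (.node (.node (.node (.node (.node (.leaf 2) (.leaf 41)) (.node (.leaf 13) (.leaf 68))) (.node (.node (.leaf 5) (.leaf 75)) (.node (.leaf 42) (.leaf 41)))) (.node (.node (.node (.leaf 5) (.leaf 79)) (.node (.leaf 79) (.leaf 42))) (.node (.node (.leaf 57) (.leaf 74)) (.node (.leaf 9) (.leaf 86))))) (.node (.node (.node (.node (.leaf 11) (.leaf 80)) (.node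 (.leaf 44) (.leaf 52))) (.node (.node (.leaf 10) (.leaf 80)) (.node (.leaf 20) (.leaf 76)))) (.node (.node (.node (.leaf 18) (.leaf 20)) (.node (.leaf 52) (.leaf 70))) (.node (.node (.leaf 67) (.leaf 24)) (.node (.leaf 22) (.leaf 82))))))) (.node (.node (.node (.node (.node (.node (.node (.leaf 1) (.leaf 87)) (.leaf 55)) (.node (.leaf 73) (.leaf 32))) (.node (.node (.leaf 22) (.leaf 65)) (.node (.leaf 61) (.leaf 85)))) (.node (.node (.node (.leaf 26) (.leaf 35)) (.node (.leaf 57) (.leaf 53))) (.node (.node (.leaf 28) (.leaf 78)) (.node (.leaf 42) (.leaf 55))))) (.node (.node (.node (.node (.leaf 1) (.leaf 23)) (.node (.leaf 58) (.leaf 39))) (.node (.node (.leaf 50) (.leaf 37)) (.node (.leaf 29) (.leaf 72)))) (.node (.node (.node (.leaf 53) (.leaf 20)) (.node (.leaf 82) (.leaf 55))) (.node (.node (.leaf 61) (.leaf 77)) (.node (.leaf 54) (.leaf 58)))))) (.node (.node (.node (.node (.node (.leaf 4) (.leaf 81)) (.node (.leaf 66) (.leaf 51))) (.node (.node (.leaf 27) (.leaf 39)) (.node (.leaf 77) (.leaf 37)))) (.node (.node (.node (.leaf 25) (.leaf 65)) (.node (.leaf 16) (.leaf 74))) (.node (.node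 (.leaf 63) (.leaf 81)) (.node (.leaf 20) (.leaf 57))))) (.node (.node (.node (.node (.leaf 8) (.leaf 20)) (.node (.leaf 13) (.leaf 65))) (.node (.node (.leaf 44) (.leaf 69)) (.node (.leaf 31) (.leaf 53)))) (.node (.node (.node (.leaf 18) (.leaf 38)) (.node (.leaf 13) (.leaf 85))) (.node (.node (.leaf 59) (.leaf 68)) (.node (.leaf 32) (.leaf 72)))))))) (.node (.node (.node (.node (.node (.node (.node (.node (.leaf 4) (.leaf 83)) (.leaf 56)) (.node (.leaf 19) (.leaf 31))) (.node (.node (.leaf 44) (.leaf 50)) (.node (.leaf 64) (.leaf 12)))) (.node (.node (.node (.leaf 41) (.leaf 23)) (.node (.leaf 26) (.leaf 21))) (.node (.node (.leaf 47) (.leaf 73)) (.node (.leaf 32) (.leaf 57))))) (.node (.node (.node (.node (.leaf 10) (.leaf 47)) (.node (.leaf 67) (.leaf 58))) (.node (.node (.leaf 13) (.leaf 42)) (.node (.leaf 33) (.leaf 21)))) (.node (.node (.node (.leaf 49) (.leaf 36)) (.node (.leaf 41) (.leaf 74))) (.node (.node (.leaf 63) (.leaf 50)) (.node (.leaf 18) (.leaf 75)))))) (.node (.node (.node (.node (.node (.leaf 0) (.leaf 77)) (.node (.leaf 33) (.leaf 56))) (.node (.node (.leaf 62) (.leaf 40))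 (.node (.leaf 63) (.leaf 27)))) (.node (.node (.node (.leaf 23) (.leaf 52)) (.node (.leaf 55) (.leaf 87))) (.node (.node (.leaf 31) (.leaf 60)) (.node (.leaf 78) (.leaf 83))))) (.node (.node (.node (.node (.leaf 0) (.leaf 68)) (.node (.leaf 35) (.leaf 82))) (.node (.node (.leaf 40) (.leaf 0)) (.node (.leaf 33) (.leaf 11)))) (.node (.node (.node (.leaf 20) (.leaf 12)) (.node (.leaf 36) (.leaf 44))) (.node (.node (.leaf 59) (.leaf 11)) (.node (.leaf 22) (.leaf 87))))))) (.node (.node (.node (.node (.node (.node (.node (.leaf 11) (.leaf 6)) (.leaf 18)) (.node (.leaf 35) (.leaf 76))) (.node (.node (.leaf 62) (.leaf 55)) (.node (.leaf 34) (.leaf 74)))) (.node (.node (.node (.leaf 21) (.leaf 59)) (.node (.leaf 45) (.leaf 53))) (.node (.node (.leaf 29) (.leaf 73)) (.node (.leaf 39) (.leaf 14))))) (.node (.node (.node (.node (.leaf 17) (.leaf 86)) (.node (.leaf 7) (.leaf 61))) (.node (.node (.leaf 68) (.leaf 49)) (.node (.leaf 47) (.leaf 70)))) (.node (.node (.node (.leaf 27) (.leaf 77)) (.node (.leaf 77) (.leaf 77))) (.node (.node (.leaf 34) (.leaf 34)) (.node (.leaf 46) (.leaf 86)))))) (.node (.node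 (.node (.node (.node (.leaf 20) (.leaf 44)) (.node (.leaf 37) (.leaf 52))) (.node (.node (.leaf 13) (.leaf 10)) (.node (.leaf 67) (.leaf 64)))) (.node (.node (.node (.leaf 6) (.leaf 21)) (.node (.leaf 9) (.leaf 78))) (.node (.node (.leaf 4) (.leaf 81)) (.node (.leaf 52) (.leaf 82))))) (.node (.node (.node (.node (.leaf 16) (.leaf 80)) (.node (.leaf 29) (.leaf 65))) (.node (.node (.leaf 23) (.leaf 9)) (.node (.leaf 12) (.leaf 74)))) (.node (.node (.node (.leaf 57) (.leaf 64)) (.node (.leaf 51) (.leaf 86))) (.node (.node (.leaf 25) (.leaf 47)) (.node (.leaf 16) (.leaf 71))))))))) (.node (.node (.node (.node (.node (.node (.node (.node (.node (.leaf 2) (.leaf 65)) (.leaf 79)) (.node (.leaf 34) (.leaf 23))) (.node (.node (.leaf 58) (.leaf 29)) (.node (.leaf 66) (.leaf 55)))) (.node (.node (.node (.leaf 13) (.leaf 74)) (.node (.leaf 57) (.leaf 57))) (.node (.node (.leaf 31) (.leaf 61)) (.node (.leaf 46) (.leaf 12))))) (.node (.node (.node (.node (.leaf 0) (.leaf 65)) (.node (.leaf 38) (.leaf 38))) (.node (.node (.leaf 23) (.leaf 80)) (.node (.leaf 61) (.leaf 79)))) (.node (.node (.node (.leaf 48)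 (.leaf 66)) (.node (.leaf 14) (.leaf 60))) (.node (.node (.leaf 54) (.leaf 43)) (.node (.leaf 38) (.leaf 83)))))) (.node (.node (.node (.node (.node (.leaf 12) (.leaf 49)) (.node (.leaf 20) (.leaf 57))) (.node (.node (.leaf 19) (.leaf 22)) (.node (.leaf 32) (.leaf 3)))) (.node (.node (.node (.leaf 26) (.leaf 56)) (.node (.leaf 70) (.leaf 3))) (.node (.node (.leaf 24) (.leaf 50)) (.node (.leaf 38) (.leaf 87))))) (.node (.node (.node (.node (.leaf 33) (.leaf 24)) (.node (.leaf 35) (.leaf 53))) (.node (.node (.leaf 13) (.leaf 67)) (.node (.leaf 33) (.leaf 85)))) (.node (.node (.node (.leaf 20) (.leaf 47)) (.node (.leaf 59) (.leaf 41))) (.node (.node (.leaf 64) (.leaf 86)) (.node (.leaf 30) (.leaf 78))))))) (.node (.node (.node (.node (.node (.node (.node (.leaf 4) (.leaf 76)) (.leaf 42)) (.node (.leaf 8) (.leaf 61))) (.node (.node (.leaf 61) (.leaf 65)) (.node (.leaf 25) (.leaf 14)))) (.node (.node (.node (.leaf 17) (.leaf 25)) (.node (.leaf 13) (.leaf 40))) (.node (.node (.leaf 17) (.leaf 9)) (.node (.leaf 67) (.leaf 78))))) (.node (.node (.node (.node (.leaf 5) (.leaf 85)) (.node (.leaf 51) (.leaf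 38))) (.node (.node (.leaf 50) (.leaf 39)) (.node (.leaf 71) (.leaf 49)))) (.node (.node (.node (.leaf 27) (.leaf 51)) (.node (.leaf 4) (.leaf 57))) (.node (.node (.leaf 74) (.leaf 76)) (.node (.leaf 79) (.leaf 81)))))) (.node (.node (.node (.node (.node (.leaf 19) (.leaf 29)) (.node (.leaf 36) (.leaf 36))) (.node (.node (.leaf 10) (.leaf 69)) (.node (.leaf 37) (.leaf 80)))) (.node (.node (.node (.leaf 36) (.leaf 59)) (.node (.leaf 17) (.leaf 12))) (.node (.node (.leaf 67) (.leaf 73)) (.node (.leaf 54) (.leaf 65))))) (.node (.node (.node (.node (.leaf 22) (.leaf 36)) (.node (.leaf 13) (.leaf 39))) (.node (.node (.leaf 69) (.leaf 70)) (.node (.leaf 46) (.leaf 40)))) (.node (.node (.node (.leaf 40) (.leaf 34)) (.node (.leaf 0) (.leaf 87))) (.node (.node (.leaf 37) (.leaf 33)) (.node (.leaf 23) (.leaf 87)))))))) (.node (.node (.node (.node (.node (.node (.node (.node (.leaf 6) (.leaf 87)) (.leaf 78)) (.node (.leaf 34) (.leaf 35))) (.node (.node (.leaf 23) (.leaf 53)) (.node (.leaf 56) (.leaf 70)))) (.node (.node (.node (.leaf 42) (.leaf 80)) (.node (.leaf 17) (.leaf 71))) (.node (.node (.leaf 54)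 (.leaf 9)) (.node (.leaf 56) (.leaf 8))))) (.node (.node (.node (.node (.leaf 5) (.leaf 39)) (.node (.leaf 44) (.leaf 17))) (.node (.node (.leaf 8) (.leaf 3)) (.node (.leaf 9) (.leaf 50)))) (.node (.node (.node (.leaf 52) (.leaf 15)) (.node (.leaf 67) (.leaf 24))) (.node (.node (.leaf 26) (.leaf 66)) (.node (.leaf 28) (.leaf 21)))))) (.node (.node (.node (.node (.node (.leaf 14) (.leaf 55)) (.node (.leaf 63) (.leaf 27))) (.node (.node (.leaf 51) (.leaf 71)) (.node (.leaf 43) (.leaf 65)))) (.node (.node (.node (.leaf 19) (.leaf 63)) (.node (.leaf 56) (.leaf 75))) (.node (.node (.leaf 17) (.leaf 54)) (.node (.leaf 40) (.leaf 44))))) (.node (.node (.node (.node (.leaf 23) (.leaf 14)) (.node (.leaf 17) (.leaf 45))) (.node (.node (.leaf 40) (.leaf 36)) (.node (.leaf 59) (.leaf 71)))) (.node (.node (.node (.leaf 22) (.leaf 63)) (.node (.leaf 80) (.leaf 21))) (.node (.node (.leaf 33) (.leaf 74)) (.node (.leaf 55) (.leaf 85))))))) (.node (.node (.node (.node (.node (.node (.node (.leaf 13) (.leaf 87)) (.leaf 32)) (.node (.leaf 31) (.leaf 15))) (.node (.node (.leaf 21) (.leaf 82)) (.node (.leaf 59) (.leaf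 53)))) (.node (.node (.node (.leaf 44) (.leaf 63)) (.node (.leaf 34) (.leaf 82))) (.node (.node (.leaf 35) (.leaf 55)) (.node (.leaf 58) (.leaf 44))))) (.node (.node (.node (.node (.leaf 26) (.leaf 22)) (.node (.leaf 20) (.leaf 57))) (.node (.node (.leaf 65) (.leaf 75)) (.node (.leaf 45) (.leaf 72)))) (.node (.node (.node (.leaf 26) (.leaf 50)) (.node (.leaf 48) (.leaf 75))) (.node (.node (.leaf 47) (.leaf 70)) (.node (.leaf 70) (.leaf 86)))))) (.node (.node (.node (.node (.node (.leaf 10) (.leaf 5)) (.node (.leaf 19) (.leaf 42))) (.node (.node (.leaf 8) (.leaf 53)) (.node (.leaf 68) (.leaf 37)))) (.node (.node (.node (.leaf 47) (.leaf 52)) (.node (.leaf 59) (.leaf 78))) (.node (.node (.leaf 13) (.leaf 58)) (.node (.leaf 79) (.leaf 21))))) (.node (.node (.node (.node (.leaf 8) (.leaf 24)) (.node (.leaf 18) (.leaf 45))) (.node (.node (.leaf 19) (.leaf 64)) (.node (.leaf 47) (.leaf 23)))) (.node (.node (.node (.leaf 21) (.leaf 34)) (.node (.leaf 34) (.leaf 45))) (.node (.node (.leaf 53) (.leaf 79)) (.node (.leaf 29) (.leaf 74)))))))))) (.node (.node (.node (.node (.node (.node (.node (.node (.node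 (.node (.leaf 1) (.leaf 6)) (.leaf 65)) (.node (.leaf 64) (.leaf 85))) (.node (.node (.leaf 18) (.leaf 71)) (.node (.leaf 23) (.leaf 87)))) (.node (.node (.node (.leaf 40) (.leaf 35)) (.node (.leaf 46) (.leaf 72))) (.node (.node (.leaf 56) (.leaf 63)) (.node (.leaf 52) (.leaf 3))))) (.node (.node (.node (.node (.leaf 25) (.leaf 32)) (.node (.leaf 56) (.leaf 77))) (.node (.node (.leaf 24) (.leaf 15)) (.node (.leaf 61) (.leaf 16)))) (.node (.node (.node (.leaf 15) (.leaf 50)) (.node (.leaf 66) (.leaf 80))) (.node (.node (.leaf 5) (.leaf 87)) (.node (.leaf 8) (.leaf 83)))))) (.node (.node (.node (.node (.node (.leaf 15) (.leaf 41)) (.node (.leaf 33) (.leaf 70))) (.node (.node (.leaf 25) (.leaf 78)) (.node (.leaf 37) (.leaf 69)))) (.node (.node (.node (.leaf 29) (.leaf 27)) (.node (.leaf 9) (.leaf 3))) (.node (.node (.leaf 3) (.leaf 49)) (.node (.leaf 72) (.leaf 83))))) (.node (.node (.node (.node (.leaf 26) (.leaf 75)) (.node (.leaf 54) (.leaf 71))) (.node (.node (.leaf 3) (.leaf 56)) (.node (.leaf 72) (.leaf 67)))) (.node (.node (.node (.leaf 13) (.leaf 17)) (.node (.leaf 11) (.leaf 8))) (.node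 (.node (.leaf 49) (.leaf 28)) (.node (.leaf 57) (.leaf 85))))))) (.node (.node (.node (.node (.node (.node (.node (.leaf 8) (.leaf 86)) (.leaf 8)) (.node (.leaf 16) (.leaf 43))) (.node (.node (.leaf 43) (.leaf 64)) (.node (.leaf 35) (.leaf 73)))) (.node (.node (.node (.leaf 35) (.leaf 31)) (.node (.leaf 61) (.leaf 51))) (.node (.node (.leaf 4) (.leaf 69)) (.node (.leaf 64) (.leaf 73))))) (.node (.node (.node (.node (.leaf 14) (.leaf 11)) (.node (.leaf 11) (.leaf 51))) (.node (.node (.leaf 66) (.leaf 61)) (.node (.leaf 71) (.leaf 50)))) (.node (.node (.node (.leaf 27) (.leaf 34)) (.node (.leaf 4) (.leaf 57))) (.node (.node (.leaf 61) (.leaf 76)) (.node (.leaf 55) (.leaf 82)))))) (.node (.node (.node (.node (.node (.leaf 18) (.leaf 44)) (.node (.leaf 67) (.leaf 61))) (.node (.node (.leaf 55) (.leaf 78)) (.node (.leaf 73) (.leaf 79)))) (.node (.node (.node (.leaf 38) (.leaf 59)) (.node (.leaf 28) (.leaf 43))) (.node (.node (.leaf 26) (.leaf 86)) (.node (.leaf 20) (.leaf 12))))) (.node (.node (.node (.node (.leaf 13) (.leaf 79)) (.node (.leaf 71) (.leaf 76))) (.node (.node (.leaf 30) (.leaf 24))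 (.node (.leaf 80) (.leaf 6)))) (.node (.node (.node (.leaf 13) (.leaf 47)) (.node (.leaf 23) (.leaf 44))) (.node (.node (.leaf 47) (.leaf 10)) (.node (.leaf 63) (.leaf 44)))))))) (.node (.node (.node (.node (.node (.node (.node (.node (.leaf 5) (.leaf 82)) (.leaf 43)) (.node (.leaf 61) (.leaf 75))) (.node (.node (.leaf 4) (.leaf 81)) (.node (.leaf 23) (.leaf 29)))) (.node (.node (.node (.leaf 41) (.leaf 48)) (.node (.leaf 28) (.leaf 54))) (.node (.node (.leaf 18) (.leaf 75)) (.node (.leaf 50) (.leaf 76))))) (.node (.node (.node (.node (.leaf 5) (.leaf 46)) (.node (.leaf 58) (.leaf 32))) (.node (.node (.leaf 13) (.leaf 35)) (.node (.leaf 46) (.leaf 10)))) (.node (.node (.node (.leaf 15) (.leaf 33)) (.node (.leaf 14) (.leaf 75))) (.node (.node (.leaf 52) (.leaf 87)) (.node (.leaf 19) (.leaf 86)))))) (.node (.node (.node (.node (.node (.leaf 8) (.leaf 81)) (.node (.leaf 67) (.leaf 63))) (.node (.node (.leaf 47) (.leaf 8)) (.node (.leaf 39) (.leaf 29)))) (.node (.node (.node (.leaf 25) (.leaf 29)) (.node (.leaf 35) (.leaf 87))) (.node (.node (.leaf 71) (.leaf 41)) (.node (.leaf 53) (.leaf 71)))))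 (.node (.node (.node (.node (.leaf 10) (.leaf 6)) (.node (.leaf 5) (.leaf 74))) (.node (.node (.leaf 37) (.leaf 68)) (.node (.leaf 20) (.leaf 85)))) (.node (.node (.node (.leaf 54) (.leaf 45)) (.node (.leaf 26) (.leaf 85))) (.node (.node (.leaf 30) (.leaf 83)) (.node (.leaf 45) (.leaf 25))))))) (.node (.node (.node (.node (.node (.node (.node (.leaf 11) (.leaf 81)) (.leaf 18)) (.node (.leaf 19) (.leaf 37))) (.node (.node (.leaf 36) (.leaf 46)) (.node (.leaf 59) (.leaf 78)))) (.node (.node (.node (.leaf 14) (.leaf 46)) (.node (.leaf 32) (.leaf 68))) (.node (.node (.leaf 40) (.leaf 64)) (.node (.leaf 44) (.leaf 84))))) (.node (.node (.node (.node (.leaf 25) (.leaf 67)) (.node (.leaf 41) (.leaf 70))) (.node (.node (.leaf 52) (.leaf 74)) (.node (.leaf 60) (.leaf 72)))) (.node (.node (.node (.leaf 23) (.leaf 43)) (.node (.leaf 75) (.leaf 64))) (.node (.node (.leaf 54) (.leaf 67)) (.node (.leaf 74) (.leaf 85)))))) (.node (.node (.node (.node (.node (.leaf 21) (.leaf 33)) (.node (.leaf 10) (.leaf 9))) (.node (.node (.leaf 15) (.leaf 68)) (.node (.leaf 16) (.leaf 52)))) (.node (.node (.node (.leaf 30)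 (.leaf 16)) (.node (.leaf 8) (.leaf 73))) (.node (.node (.leaf 58) (.leaf 64)) (.node (.leaf 78) (.leaf 53))))) (.node (.node (.node (.node (.leaf 38) (.leaf 24)) (.node (.leaf 64) (.leaf 81))) (.node (.node (.leaf 31) (.leaf 83)) (.node (.leaf 82) (.leaf 74)))) (.node (.node (.node (.leaf 23) (.leaf 39)) (.node (.leaf 6) (.leaf 71))) (.node (.node (.leaf 43) (.leaf 33)) (.node (.leaf 43) (.leaf 68))))))))) (.node (.node (.node (.node (.node (.node (.node (.node (.node (.leaf 2) (.leaf 81)) (.leaf 9)) (.node (.leaf 68) (.leaf 68))) (.node (.node (.leaf 26) (.leaf 52)) (.node (.leaf 80) (.leaf 51)))) (.node (.node (.node (.leaf 17) (.leaf 50)) (.node (.leaf 31) (.leaf 71))) (.node (.node (.leaf 60) (.leaf 60)) (.node (.leaf 51) (.leaf 76))))) (.node (.node (.node (.node (.leaf 15) (.leaf 58)) (.node (.leaf 45) (.leaf 77))) (.node (.node (.leaf 13) (.leaf 51)) (.node (.leaf 19) (.leaf 25)))) (.node (.node (.node (.leaf 34) (.leaf 61)) (.node (.leaf 5) (.leaf 39))) (.node (.node (.leaf 24) (.leaf 32)) (.node (.leaf 38) (.leaf 80)))))) (.node (.node (.node (.node (.node (.leaf 0) (.leaf 84)) (.node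 (.leaf 66) (.leaf 73))) (.node (.node (.leaf 20) (.leaf 14)) (.node (.leaf 25) (.leaf 65)))) (.node (.node (.node (.leaf 22) (.leaf 57)) (.node (.leaf 80) (.leaf 35))) (.node (.node (.leaf 15) (.leaf 67)) (.node (.leaf 20) (.leaf 72))))) (.node (.node (.node (.node (.leaf 25) (.leaf 35)) (.node (.leaf 78) (.leaf 57))) (.node (.node (.leaf 19) (.leaf 47)) (.node (.leaf 49) (.leaf 75)))) (.node (.node (.node (.leaf 54) (.leaf 44)) (.node (.leaf 38) (.leaf 11))) (.node (.node (.leaf 4) (.leaf 85)) (.node (.leaf 70) (.leaf 70))))))) (.node (.node (.node (.node (.node (.node (.node (.leaf 9) (.leaf 44)) (.leaf 16)) (.node (.leaf 9) (.leaf 73))) (.node (.node (.leaf 0) (.leaf 63)) (.node (.leaf 63) (.leaf 78)))) (.node (.node (.node (.leaf 25) (.leaf 66)) (.node (.leaf 61) (.leaf 68))) (.node (.node (.leaf 13) (.leaf 15)) (.node (.leaf 51) (.leaf 73))))) (.node (.node (.node (.node (.leaf 22) (.leaf 38)) (.node (.leaf 33) (.leaf 55))) (.node (.node (.leaf 6) (.leaf 23)) (.node (.leaf 28) (.leaf 74)))) (.node (.node (.node (.leaf 5) (.leaf 73)) (.node (.leaf 54) (.leaf 16))) (.node (.node (.leaf 75)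 (.leaf 52)) (.node (.leaf 80) (.leaf 81)))))) (.node (.node (.node (.node (.node (.leaf 14) (.leaf 45)) (.node (.leaf 52) (.leaf 73))) (.node (.node (.leaf 53) (.leaf 20)) (.node (.leaf 52) (.leaf 42)))) (.node (.node (.node (.leaf 35) (.leaf 37)) (.node (.leaf 32) (.leaf 32))) (.node (.node (.leaf 4) (.leaf 11)) (.node (.leaf 80) (.leaf 12))))) (.node (.node (.node (.node (.leaf 37) (.leaf 14)) (.node (.leaf 17) (.leaf 86))) (.node (.node (.leaf 22) (.leaf 78)) (.node (.leaf 38) (.leaf 83)))) (.node (.node (.node (.leaf 23) (.leaf 43)) (.node (.leaf 74) (.leaf 85))) (.node (.node (.leaf 42) (.leaf 78)) (.node (.leaf 60) (.leaf 72)))))))) (.node (.node (.node (.node (.node (.node (.node (.node (.leaf 5) (.leaf 87)) (.leaf 64)) (.node (.leaf 60) (.leaf 79))) (.node (.node (.leaf 47) (.leaf 3)) (.node (.leaf 80) (.leaf 30)))) (.node (.node (.node (.leaf 43) (.leaf 45)) (.node (.leaf 42) (.leaf 68))) (.node (.node (.leaf 64) (.leaf 42)) (.node (.leaf 76) (.leaf 55))))) (.node (.node (.node (.node (.leaf 28) (.leaf 38)) (.node (.leaf 37) (.leaf 25))) (.node (.node (.leaf 65) (.leaf 80)) (.node (.leaf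 9) (.leaf 82)))) (.node (.node (.node (.leaf 10) (.leaf 20)) (.node (.leaf 32) (.leaf 86))) (.node (.node (.leaf 25) (.leaf 20)) (.node (.leaf 43) (.leaf 81)))))) (.node (.node (.node (.node (.node (.leaf 12) (.leaf 11)) (.node (.leaf 76) (.leaf 37))) (.node (.node (.leaf 21) (.leaf 41)) (.node (.leaf 59) (.leaf 83)))) (.node (.node (.node (.leaf 0) (.leaf 63)) (.node (.leaf 69) (.leaf 50))) (.node (.node (.leaf 15) (.leaf 14)) (.node (.leaf 33) (.leaf 64))))) (.node (.node (.node (.node (.leaf 30) (.leaf 52)) (.node (.leaf 38) (.leaf 65))) (.node (.node (.leaf 39) (.leaf 26)) (.node (.leaf 66) (.leaf 10)))) (.node (.node (.node (.leaf 56) (.leaf 65)) (.node (.leaf 45) (.leaf 86))) (.node (.node (.leaf 13) (.leaf 14)) (.node (.leaf 83) (.leaf 72))))))) (.node (.node (.node (.node (.node (.node (.node (.leaf 2) (.leaf 6)) (.leaf 54)) (.node (.leaf 28) (.leaf 51))) (.node (.node (.leaf 50) (.leaf 38)) (.node (.leaf 42) (.leaf 25)))) (.node (.node (.node (.leaf 22) (.leaf 31)) (.node (.leaf 41) (.leaf 52))) (.node (.node (.leaf 70) (.leaf 30)) (.node (.leaf 11) (.leaf 85))))) (.node (.node (.node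 (.node (.leaf 32) (.leaf 79)) (.node (.leaf 33) (.leaf 81))) (.node (.node (.leaf 43) (.leaf 54)) (.node (.leaf 19) (.leaf 43)))) (.node (.node (.node (.leaf 19) (.leaf 34)) (.node (.leaf 30) (.leaf 45))) (.node (.node (.leaf 59) (.leaf 35)) (.node (.leaf 47) (.leaf 10)))))) (.node (.node (.node (.node (.node (.leaf 16) (.leaf 22)) (.node (.leaf 29) (.leaf 52))) (.node (.node (.leaf 16) (.leaf 20)) (.node (.leaf 60) (.leaf 39)))) (.node (.node (.node (.leaf 9) (.leaf 33)) (.node (.leaf 54) (.leaf 65))) (.node (.node (.leaf 5) (.leaf 58)) (.node (.leaf 64) (.leaf 3))))) (.node (.node (.node (.node (.leaf 4) (.leaf 52)) (.node (.leaf 79) (.leaf 71))) (.node (.node (.leaf 54) (.leaf 69)) (.node (.leaf 29) (.leaf 42)))) (.node (.node (.node (.leaf 25) (.leaf 82)) (.node (.leaf 11) (.leaf 87))) (.node (.node (.leaf 73) (.leaf 25)) (.node (.leaf 36) (.leaf 25)))))))))))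

/-- A table. -/
noncomputable def fixLab : BTree := .node fixLabL fixLabR

/-- Part of a table. -/
noncomputable def fixParL : BTree := (.node (.node (.node (.node (.node (.node (.node (.node (.node (.node (.node (.leaf 0) (.leaf 3931)) (.leaf 1549)) (.node (.leaf 0) (.leaf 279))) (.node (.node (.leaf 760) (.leaf 4117)) (.node (.leaf 1515) (.leaf 3887)))) (.node (.node (.node (.leaf 3707) (.leaf 1369)) (.node (.leaf 1463) (.leaf 2391))) (.node (.node (.leaf 937) (.leaf 2014)) (.node (.leaf 2703) (.leaf 4038))))) (.node (.node (.node (.node (.leaf 0) (.leaf 613)) (.node (.leaf 3765) (.leaf 3183))) (.node (.node (.leaf 161) (.leaf 2167)) (.node (.leaf 1055) (.leaf 3246)))) (.node (.node (.node (.leaf 453) (.leaf 2695)) (.node (.leaf 313) (.leaf 2081))) (.node (.node (.leaf 873) (.leaf 4035)) (.node (.leaf 369) (.leaf 575)))))) (.node (.node (.node (.node (.node (.leaf 0) (.leaf 871)) (.node (.leaf 250) (.leaf 1961))) (.node (.node (.leaf 676) (.leaf 1665)) (.node (.leaf 1449) (.leaf 3125)))) (.node (.node (.node (.leaf 1490) (.leaf 3145)) (.node (.leaf 1910) (.leaf 2339))) (.node (.node (.leaf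 830) (.leaf 3791)) (.node (.leaf 525) (.leaf 1021))))) (.node (.node (.node (.node (.leaf 120) (.leaf 2016)) (.node (.leaf 2467) (.leaf 699))) (.node (.node (.leaf 133) (.leaf 2029)) (.node (.leaf 757) (.leaf 775)))) (.node (.node (.node (.leaf 858) (.leaf 2123)) (.node (.leaf 3171) (.leaf 551))) (.node (.node (.leaf 3649) (.leaf 2226)) (.node (.leaf 957) (.leaf 2135))))))) (.node (.node (.node (.node (.node (.node (.node (.leaf 40) (.leaf 3573)) (.leaf 1399)) (.node (.leaf 622) (.leaf 1329))) (.node (.node (.leaf 332) (.leaf 2739)) (.node (.leaf 3605) (.leaf 2563)))) (.node (.node (.node (.leaf 190) (.leaf 2039)) (.node (.leaf 909) (.leaf 1125))) (.node (.node (.leaf 309) (.leaf 3695)) (.node (.leaf 1917) (.leaf 3329))))) (.node (.node (.node (.node (.leaf 102) (.leaf 357)) (.node (.leaf 447) (.leaf 2685))) (.node (.node (.leaf 352) (.leaf 2875)) (.node (.leaf 3405) (.leaf 3699)))) (.node (.node (.node (.leaf 21) (.leaf 3189)) (.node (.leaf 1817) (.leaf 1459))) (.node (.node (.leaf 580) (.leaf 1699)) (.node (.leaf 3635) (.leaf 3305)))))) (.node (.node (.node (.node (.node (.leaf 50) (.leaf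 4007)) (.node (.leaf 962) (.leaf 1139))) (.node (.node (.leaf 13) (.leaf 2587)) (.node (.leaf 3579) (.leaf 3647)))) (.node (.node (.node (.leaf 0) (.leaf 2985)) (.node (.leaf 1745) (.leaf 3973))) (.node (.node (.leaf 2009) (.leaf 3591)) (.node (.leaf 2455) (.leaf 1991))))) (.node (.node (.node (.node (.leaf 130) (.leaf 2675)) (.node (.leaf 758) (.leaf 405))) (.node (.node (.leaf 1807) (.leaf 973)) (.node (.leaf 179) (.leaf 1881)))) (.node (.node (.node (.leaf 804) (.leaf 85)) (.node (.leaf 1278) (.leaf 3817))) (.node (.node (.leaf 813) (.leaf 3003)) (.node (.leaf 2818) (.leaf 3345)))))))) (.node (.node (.node (.node (.node (.node (.node (.node (.leaf 4) (.leaf 3953)) (.leaf 2087)) (.node (.leaf 1658) (.leaf 3995))) (.node (.node (.leaf 1219) (.leaf 2417)) (.node (.leaf 3713) (.leaf 1291)))) (.node (.node (.node (.leaf 62) (.leaf 573)) (.node (.leaf 766) (.leaf 1333))) (.node (.node (.leaf 1985) (.leaf 1509)) (.node (.leaf 3849) (.leaf 3693))))) (.node (.node (.node (.node (.leaf 3741) (.leaf 1944)) (.node (.leaf 411) (.leaf 2843))) (.node (.node (.leaf 1307) (.leaf 1995)) (.node (.leaf 1637)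 (.leaf 677)))) (.node (.node (.node (.leaf 2385) (.leaf 673)) (.node (.leaf 3839) (.leaf 3903))) (.node (.node (.leaf 187) (.leaf 2229)) (.node (.leaf 131) (.leaf 3779)))))) (.node (.node (.node (.node (.node (.leaf 0) (.leaf 2215)) (.node (.leaf 1871) (.leaf 2025))) (.node (.node (.leaf 1285) (.leaf 1735)) (.node (.leaf 1631) (.leaf 3907)))) (.node (.node (.node (.leaf 441) (.leaf 435)) (.node (.leaf 2093) (.leaf 1725))) (.node (.node (.leaf 571) (.leaf 1633)) (.node (.leaf 1231) (.leaf 4059))))) (.node (.node (.node (.node (.leaf 118) (.leaf 457)) (.node (.leaf 748) (.leaf 835))) (.node (.node (.leaf 151) (.leaf 1017)) (.node (.leaf 1701) (.leaf 2959)))) (.node (.node (.node (.leaf 2101) (.leaf 3867)) (.node (.leaf 2701) (.leaf 4051))) (.node (.node (.leaf 2831) (.leaf 2351)) (.node (.leaf 944) (.leaf 2127))))))) (.node (.node (.node (.node (.node (.node (.node (.leaf 0) (.leaf 707)) (.leaf 3751)) (.node (.leaf 743) (.leaf 2733))) (.node (.node (.leaf 2359) (.leaf 363)) (.node (.leaf 781) (.leaf 3005)))) (.node (.node (.node (.leaf 134) (.leaf 93)) (.node (.leaf 550) (.leaf 3237))) (.node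 (.node (.leaf 1043) (.leaf 2177)) (.node (.leaf 3758) (.leaf 3590))))) (.node (.node (.node (.node (.leaf 0) (.leaf 3301)) (.node (.leaf 876) (.leaf 3965))) (.node (.node (.leaf 0) (.leaf 2887)) (.node (.leaf 3369) (.leaf 3999)))) (.node (.node (.node (.leaf 695) (.leaf 2065)) (.node (.leaf 3489) (.leaf 1634))) (.node (.node (.leaf 394) (.leaf 1287)) (.node (.leaf 515) (.leaf 2631)))))) (.node (.node (.node (.node (.node (.leaf 24) (.leaf 3105)) (.node (.leaf 95) (.leaf 3129))) (.node (.node (.leaf 1056) (.leaf 4037)) (.node (.leaf 1554) (.leaf 3496)))) (.node (.node (.node (.leaf 218) (.leaf 1057)) (.node (.leaf 851) (.leaf 925))) (.node (.node (.leaf 471) (.leaf 3743)) (.node (.leaf 1309) (.leaf 1875))))) (.node (.node (.node (.node (.leaf 239) (.leaf 3840)) (.node (.leaf 701) (.leaf 2485))) (.node (.node (.leaf 1085) (.leaf 2815)) (.node (.leaf 413) (.leaf 611)))) (.node (.node (.node (.leaf 0) (.leaf 1163)) (.node (.leaf 3651) (.leaf 4125))) (.node (.node (.leaf 602) (.leaf 787)) (.node (.leaf 1719) (.leaf 3701))))))))) (.node (.node (.node (.node (.node (.node (.node (.node (.node (.leaf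 16) (.leaf 3265)) (.leaf 1344)) (.node (.leaf 3247) (.leaf 2331))) (.node (.node (.leaf 941) (.leaf 2491)) (.node (.leaf 445) (.leaf 2131)))) (.node (.node (.node (.leaf 2037) (.leaf 1281)) (.node (.leaf 1529) (.leaf 2267))) (.node (.node (.leaf 3227) (.leaf 2727)) (.node (.leaf 1703) (.leaf 577))))) (.node (.node (.node (.node (.leaf 0) (.leaf 1495)) (.node (.leaf 3985) (.leaf 3207))) (.node (.node (.leaf 393) (.leaf 1119)) (.node (.leaf 227) (.leaf 2757)))) (.node (.node (.node (.leaf 664) (.leaf 2767)) (.node (.leaf 655) (.leaf 1279))) (.node (.node (.leaf 0) (.leaf 889)) (.node (.leaf 2795) (.leaf 2817)))))) (.node (.node (.node (.node (.node (.leaf 46) (.leaf 4053)) (.node (.leaf 1332) (.leaf 1277))) (.node (.node (.leaf 659) (.leaf 109)) (.node (.leaf 1267) (.leaf 3311)))) (.node (.node (.node (.leaf 5) (.leaf 1833)) (.node (.leaf 2465) (.leaf 977))) (.node (.node (.leaf 1232) (.leaf 833)) (.node (.leaf 297) (.leaf 3911))))) (.node (.node (.node (.node (.leaf 0) (.leaf 1577)) (.node (.leaf 2367) (.leaf 2231))) (.node (.node (.leaf 382) (.leaf 1243)) (.node (.leaf 77) (.leaf 3187)))) (.node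 (.node (.node (.leaf 278) (.leaf 3435)) (.node (.leaf 3963) (.leaf 185))) (.node (.node (.leaf 2299) (.leaf 533)) (.node (.leaf 505) (.leaf 4025))))))) (.node (.node (.node (.node (.node (.node (.node (.leaf 12) (.leaf 3411)) (.leaf 1033)) (.node (.leaf 243) (.leaf 2469))) (.node (.node (.leaf 0) (.leaf 3279)) (.node (.leaf 2325) (.leaf 2137)))) (.node (.node (.node (.leaf 500) (.leaf 421)) (.node (.leaf 191) (.leaf 1215))) (.node (.node (.leaf 169) (.leaf 1922)) (.node (.leaf 412) (.leaf 3939))))) (.node (.node (.node (.node (.leaf 0) (.leaf 1419)) (.node (.leaf 521) (.leaf 2283))) (.node (.node (.leaf 0) (.leaf 1037)) (.node (.leaf 2507) (.leaf 3367)))) (.node (.node (.node (.leaf 296) (.leaf 2425)) (.node (.leaf 2845) (.leaf 3486))) (.node (.node (.leaf 1390) (.leaf 901)) (.node (.leaf 1962) (.leaf 875)))))) (.node (.node (.node (.node (.node (.leaf 0) (.leaf 3739)) (.node (.leaf 3244) (.leaf 1121))) (.node (.node (.leaf 366) (.leaf 4041)) (.node (.leaf 3879) (.leaf 3523)))) (.node (.node (.node (.leaf 1129) (.leaf 685)) (.node (.leaf 3467) (.leaf 907))) (.node (.node (.leaf 1239) (.leaf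 501)) (.node (.leaf 341) (.leaf 2613))))) (.node (.node (.node (.node (.leaf 3089) (.leaf 321)) (.node (.leaf 326) (.leaf 3863))) (.node (.node (.leaf 969) (.leaf 1025)) (.node (.leaf 213) (.leaf 2553)))) (.node (.node (.node (.leaf 985) (.leaf 149)) (.node (.leaf 2313) (.leaf 2643))) (.node (.node (.leaf 0) (.leaf 3512)) (.node (.leaf 978) (.leaf 2949)))))))) (.node (.node (.node (.node (.node (.node (.node (.node (.leaf 6) (.leaf 729)) (.leaf 2323)) (.node (.leaf 933) (.leaf 3127))) (.node (.node (.leaf 1479) (.leaf 943)) (.node (.leaf 1545) (.leaf 1845)))) (.node (.node (.node (.leaf 1445) (.leaf 1539)) (.node (.leaf 753) (.leaf 2679))) (.node (.node (.leaf 3015) (.leaf 1953)) (.node (.leaf 1365) (.leaf 3079))))) (.node (.node (.node (.node (.leaf 155) (.leaf 562)) (.node (.leaf 2441) (.leaf 2259))) (.node (.node (.leaf 1726) (.leaf 197)) (.node (.leaf 2189) (.leaf 433)))) (.node (.node (.node (.leaf 0) (.leaf 555)) (.node (.leaf 3755) (.leaf 4131))) (.node (.node (.leaf 3833) (.leaf 407)) (.node (.leaf 2200) (.leaf 1175)))))) (.node (.node (.node (.node (.node (.leaf 252) (.leaf 2217)) (.node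 (.leaf 1115) (.leaf 4073))) (.node (.node (.leaf 2386) (.leaf 3805)) (.node (.leaf 928) (.leaf 1791)))) (.node (.node (.node (.leaf 458) (.leaf 1929)) (.node (.leaf 2069) (.leaf 3287))) (.node (.node (.leaf 0) (.leaf 1461)) (.node (.leaf 691) (.leaf 3285))))) (.node (.node (.node (.node (.leaf 1052) (.leaf 125)) (.node (.leaf 1355) (.leaf 2715))) (.node (.node (.leaf 29) (.leaf 3613)) (.node (.leaf 2355) (.leaf 3071)))) (.node (.node (.node (.leaf 2501) (.leaf 915)) (.node (.leaf 1299) (.leaf 3497))) (.node (.node (.leaf 389) (.leaf 963)) (.node (.leaf 299) (.leaf 4115))))))) (.node (.node (.node (.node (.node (.node (.node (.leaf 42) (.leaf 4121)) (.leaf 2591)) (.node (.leaf 1605) (.leaf 1379))) (.node (.node (.leaf 579) (.leaf 1935)) (.node (.leaf 2011) (.leaf 1771)))) (.node (.node (.node (.leaf 192) (.leaf 3173)) (.node (.leaf 593) (.leaf 3761))) (.node (.node (.leaf 2257) (.leaf 3397)) (.node (.leaf 2409) (.leaf 3997))))) (.node (.node (.node (.node (.leaf 96) (.leaf 1249)) (.node (.leaf 725) (.leaf 4011))) (.node (.node (.leaf 4147) (.leaf 2261)) (.node (.leaf 3091) (.leaf 1801)))) (.node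 (.node (.node (.leaf 172) (.leaf 1821)) (.node (.leaf 942) (.leaf 2626))) (.node (.node (.leaf 1931) (.leaf 1247)) (.node (.leaf 469) (.leaf 3501)))))) (.node (.node (.node (.node (.node (.leaf 0) (.leaf 3277)) (.node (.leaf 638) (.leaf 1377))) (.node (.node (.leaf 3503) (.leaf 425)) (.node (.leaf 1349) (.leaf 3841)))) (.node (.node (.node (.leaf 1700) (.leaf 3593)) (.node (.leaf 1755) (.leaf 1789))) (.node (.node (.leaf 531) (.leaf 523)) (.node (.leaf 539) (.leaf 3357))))) (.node (.node (.node (.node (.leaf 0) (.leaf 503)) (.node (.leaf 282) (.leaf 2583))) (.node (.node (.leaf 450) (.leaf 1453)) (.node (.leaf 3955) (.leaf 3753)))) (.node (.node (.node (.leaf 869) (.leaf 2589)) (.node (.leaf 45) (.leaf 4083))) (.node (.node (.leaf 3291) (.leaf 1499)) (.node (.leaf 2823) (.leaf 4065)))))))))) (.node (.node (.node (.node (.node (.node (.node (.node (.node (.node (.leaf 0) (.leaf 3899)) (.leaf 1853)) (.node (.leaf 477) (.leaf 3161))) (.node (.node (.leaf 1225) (.leaf 679)) (.node (.leaf 2607) (.leaf 2293)))) (.node (.node (.node (.leaf 637) (.leaf 2691)) (.node (.leaf 1469) (.leaf 3337))) (.node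 (.node (.leaf 557) (.leaf 3153)) (.node (.leaf 1611) (.leaf 3917))))) (.node (.node (.node (.node (.leaf 76) (.leaf 3073)) (.node (.leaf 1273) (.leaf 3001))) (.node (.node (.leaf 2045) (.leaf 2618)) (.node (.leaf 3401) (.leaf 3313)))) (.node (.node (.node (.leaf 719) (.leaf 2449)) (.node (.leaf 3969) (.leaf 3823))) (.node (.node (.leaf 0) (.leaf 2227)) (.node (.leaf 3437) (.leaf 2881)))))) (.node (.node (.node (.node (.node (.leaf 370) (.leaf 1428)) (.node (.leaf 1096) (.leaf 4055))) (.node (.node (.leaf 0) (.leaf 2397)) (.node (.leaf 916) (.leaf 1749)))) (.node (.node (.node (.leaf 0) (.leaf 3163)) (.node (.leaf 983) (.leaf 3155))) (.node (.node (.leaf 2856) (.leaf 0)) (.node (.leaf 1431) (.leaf 2241))))) (.node (.node (.node (.node (.leaf 2833) (.leaf 2893)) (.node (.leaf 2185) (.leaf 3749))) (.node (.node (.leaf 1201) (.leaf 3463)) (.node (.leaf 2495) (.leaf 3299)))) (.node (.node (.node (.leaf 756) (.leaf 759)) (.node (.leaf 193) (.leaf 3581))) (.node (.node (.leaf 1122) (.leaf 2479)) (.node (.leaf 2517) (.leaf 2681))))))) (.node (.node (.node (.node (.node (.node (.node (.leaf 154) (.leaf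 3905)) (.leaf 2067)) (.node (.leaf 934) (.leaf 1441))) (.node (.node (.leaf 0) (.leaf 4139)) (.node (.leaf 1471) (.leaf 2473)))) (.node (.node (.node (.leaf 1561) (.leaf 2022)) (.node (.leaf 323) (.leaf 3957))) (.node (.node (.leaf 456) (.leaf 847)) (.node (.leaf 1035) (.leaf 2079))))) (.node (.node (.node (.node (.leaf 37) (.leaf 777)) (.node (.leaf 253) (.leaf 415))) (.node (.node (.leaf 402) (.leaf 2935)) (.node (.leaf 406) (.leaf 3113)))) (.node (.node (.node (.leaf 418) (.leaf 1663)) (.node (.leaf 1447) (.leaf 3485))) (.node (.node (.leaf 782) (.leaf 615)) (.node (.leaf 1557) (.leaf 1885)))))) (.node (.node (.node (.node (.node (.leaf 3333) (.leaf 1343)) (.node (.leaf 27) (.leaf 2995))) (.node (.node (.leaf 0) (.leaf 1345)) (.node (.leaf 2979) (.leaf 607)))) (.node (.node (.node (.leaf 1622) (.leaf 2023)) (.node (.leaf 373) (.leaf 3951))) (.node (.node (.leaf 761) (.leaf 3893)) (.node (.leaf 1199) (.leaf 1141))))) (.node (.node (.node (.node (.leaf 81) (.leaf 2771)) (.node (.leaf 854) (.leaf 1177))) (.node (.node (.leaf 2175) (.leaf 2799)) (.node (.leaf 2291) (.leaf 3363)))) (.node (.node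 (.node (.leaf 324) (.leaf 1803)) (.node (.leaf 1053) (.leaf 4143))) (.node (.node (.leaf 1589) (.leaf 3377)) (.node (.leaf 478) (.leaf 4093)))))))) (.node (.node (.node (.node (.node (.node (.node (.node (.leaf 60) (.leaf 2117)) (.leaf 2847)) (.node (.leaf 214) (.leaf 1511))) (.node (.node (.leaf 110) (.leaf 4159)) (.node (.leaf 625) (.leaf 2457)))) (.node (.node (.node (.leaf 770) (.leaf 837)) (.node (.leaf 1173) (.leaf 427))) (.node (.node (.leaf 1223) (.leaf 3855)) (.node (.leaf 2561) (.leaf 2827))))) (.node (.node (.node (.node (.leaf 712) (.leaf 1841)) (.node (.leaf 2955) (.leaf 2755))) (.node (.node (.leaf 127) (.leaf 1159)) (.node (.leaf 2453) (.leaf 4085)))) (.node (.node (.node (.leaf 0) (.leaf 3507)) (.node (.leaf 0) (.leaf 4091))) (.node (.node (.leaf 564) (.leaf 4069)) (.node (.leaf 1809) (.leaf 2937)))))) (.node (.node (.node (.node (.node (.leaf 123) (.leaf 2655)) (.node (.leaf 2063) (.leaf 241))) (.node (.node (.leaf 3349) (.leaf 2095)) (.node (.leaf 3315) (.leaf 1171)))) (.node (.node (.node (.leaf 541) (.leaf 2411)) (.node (.leaf 819) (.leaf 3871))) (.node (.node (.leaf 493)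 (.leaf 1297)) (.node (.leaf 1421) (.leaf 4141))))) (.node (.node (.node (.node (.leaf 0) (.leaf 2627)) (.node (.leaf 53) (.leaf 2567))) (.node (.node (.leaf 2499) (.leaf 951)) (.node (.leaf 75) (.leaf 3929)))) (.node (.node (.node (.leaf 17) (.leaf 419)) (.node (.leaf 791) (.leaf 3561))) (.node (.node (.leaf 2311) (.leaf 2053)) (.node (.leaf 2855) (.leaf 4003))))))) (.node (.node (.node (.node (.node (.node (.node (.leaf 0) (.leaf 4145)) (.leaf 301)) (.node (.leaf 271) (.leaf 119))) (.node (.node (.leaf 672) (.leaf 1823)) (.node (.leaf 2395) (.leaf 2787)))) (.node (.node (.node (.leaf 177) (.leaf 1525)) (.node (.leaf 856) (.leaf 257))) (.node (.node (.leaf 947) (.leaf 3543)) (.node (.leaf 1653) (.leaf 3895))))) (.node (.node (.node (.node (.leaf 487) (.leaf 2443)) (.node (.leaf 689) (.leaf 3111))) (.node (.node (.leaf 3157) (.leaf 473)) (.node (.leaf 1587) (.leaf 3943)))) (.node (.node (.node (.leaf 2673) (.leaf 2551)) (.node (.leaf 3037) (.leaf 3395))) (.node (.node (.leaf 999) (.leaf 287)) (.node (.leaf 1391) (.leaf 2987)))))) (.node (.node (.node (.node (.node (.leaf 2285) (.leaf 1433)) (.node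 (.leaf 1707) (.leaf 87))) (.node (.node (.leaf 124) (.leaf 2683)) (.node (.leaf 2565) (.leaf 2403)))) (.node (.node (.node (.leaf 71) (.leaf 423)) (.node (.leaf 41) (.leaf 747))) (.node (.node (.leaf 3025) (.leaf 3705)) (.node (.leaf 1523) (.leaf 2005))))) (.node (.node (.node (.node (.leaf 3233) (.leaf 2317)) (.node (.leaf 1977) (.leaf 2475))) (.node (.node (.leaf 1382) (.leaf 3923)) (.node (.leaf 3409) (.leaf 3987)))) (.node (.node (.node (.leaf 262) (.leaf 2781)) (.node (.leaf 2281) (.leaf 3889))) (.node (.node (.leaf 1001) (.leaf 3075)) (.node (.leaf 1323) (.leaf 2621))))))))) (.node (.node (.node (.node (.node (.node (.node (.node (.node (.leaf 0) (.leaf 2151)) (.leaf 2647)) (.node (.leaf 47) (.leaf 1617))) (.node (.node (.leaf 2171) (.leaf 4079)) (.node (.leaf 173) (.leaf 1859)))) (.node (.node (.node (.leaf 176) (.leaf 3137)) (.node (.leaf 1263) (.leaf 3373))) (.node (.node (.leaf 930) (.leaf 1693)) (.node (.leaf 3767) (.leaf 3781))))) (.node (.node (.node (.node (.leaf 0) (.leaf 3447)) (.node (.leaf 3213) (.leaf 1103))) (.node (.node (.leaf 269) (.leaf 3239)) (.node (.leaf 1891) (.leaf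 3417)))) (.node (.node (.node (.leaf 3059) (.leaf 2497)) (.node (.leaf 463) (.leaf 1049))) (.node (.node (.leaf 3407) (.leaf 2519)) (.node (.leaf 2377) (.leaf 3231)))))) (.node (.node (.node (.node (.node (.leaf 74) (.leaf 2692)) (.node (.leaf 1305) (.leaf 1635))) (.node (.node (.leaf 585) (.leaf 1999)) (.node (.leaf 3043) (.leaf 1969)))) (.node (.node (.node (.leaf 398) (.leaf 3859)) (.node (.leaf 3011) (.leaf 3659))) (.node (.node (.leaf 1065) (.leaf 2153)) (.node (.leaf 2575) (.leaf 3335))))) (.node (.node (.node (.node (.leaf 137) (.leaf 2761)) (.node (.leaf 0) (.leaf 3257))) (.node (.node (.leaf 738) (.leaf 1257)) (.node (.leaf 3179) (.leaf 3551)))) (.node (.node (.node (.leaf 19) (.leaf 639)) (.node (.leaf 1623) (.leaf 2111))) (.node (.node (.leaf 331) (.leaf 3147)) (.node (.leaf 175) (.leaf 1835))))))) (.node (.node (.node (.node (.node (.node (.node (.leaf 3) (.leaf 3271)) (.leaf 1555)) (.node (.leaf 61) (.leaf 1715))) (.node (.node (.leaf 569) (.leaf 4105)) (.node (.leaf 1947) (.leaf 1137)))) (.node (.node (.node (.leaf 158) (.leaf 2763)) (.node (.leaf 2038) (.leaf 1883))) (.node (.node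 (.leaf 157) (.leaf 3921)) (.node (.leaf 1045) (.leaf 2637))))) (.node (.node (.node (.node (.leaf 0) (.leaf 2405)) (.node (.leaf 1889) (.leaf 3126))) (.node (.node (.leaf 2562) (.leaf 641)) (.node (.leaf 621) (.leaf 4021)))) (.node (.node (.node (.leaf 424) (.leaf 3215)) (.node (.leaf 2957) (.leaf 1233))) (.node (.node (.leaf 807) (.leaf 4097)) (.node (.leaf 1359) (.leaf 2961)))))) (.node (.node (.node (.node (.node (.leaf 184) (.leaf 1811)) (.node (.leaf 1909) (.leaf 1272))) (.node (.node (.leaf 353) (.leaf 1751)) (.node (.leaf 39) (.leaf 841)))) (.node (.node (.node (.leaf 2249) (.leaf 604)) (.node (.leaf 2863) (.leaf 3629))) (.node (.node (.leaf 522) (.leaf 900)) (.node (.leaf 3499) (.leaf 3027))))) (.node (.node (.node (.node (.leaf 0) (.leaf 2927)) (.node (.leaf 2783) (.leaf 549))) (.node (.node (.leaf 746) (.leaf 683)) (.node (.leaf 4149) (.leaf 3977)))) (.node (.node (.node (.leaf 803) (.leaf 1546)) (.node (.leaf 3759) (.leaf 3993))) (.node (.node (.leaf 2085) (.leaf 3949)) (.node (.leaf 1314) (.leaf 4039)))))))) (.node (.node (.node (.node (.node (.node (.node (.node (.leaf 0) (.leaf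 3865)) (.leaf 1505)) (.node (.leaf 646) (.leaf 1165))) (.node (.node (.leaf 1189) (.leaf 2693)) (.node (.leaf 3441) (.leaf 3143)))) (.node (.node (.node (.leaf 205) (.leaf 2625)) (.node (.leaf 385) (.leaf 1659))) (.node (.node (.leaf 1295) (.leaf 3777)) (.node (.leaf 1131) (.leaf 2157))))) (.node (.node (.node (.node (.leaf 1147) (.leaf 545)) (.node (.leaf 3169) (.leaf 1118))) (.node (.node (.leaf 1403) (.leaf 839)) (.node (.leaf 143) (.leaf 3361)))) (.node (.node (.node (.leaf 248) (.leaf 1059)) (.node (.leaf 3897) (.leaf 479))) (.node (.node (.leaf 1409) (.leaf 2579)) (.node (.leaf 1939) (.leaf 709)))))) (.node (.node (.node (.node (.node (.leaf 0) (.leaf 3493)) (.node (.leaf 1303) (.leaf 2429))) (.node (.node (.leaf 358) (.leaf 1093)) (.node (.leaf 1071) (.leaf 2015)))) (.node (.node (.node (.leaf 991) (.leaf 2019)) (.node (.leaf 3847) (.leaf 2207))) (.node (.node (.leaf 3389) (.leaf 4119)) (.node (.leaf 2263) (.leaf 885))))) (.node (.node (.node (.node (.leaf 0) (.leaf 561)) (.node (.leaf 1777) (.leaf 283))) (.node (.node (.leaf 2431) (.leaf 325)) (.node (.leaf 2973) (.leaf 2921)))) (.node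 (.node (.node (.leaf 0) (.leaf 3525)) (.node (.leaf 1630) (.leaf 2793))) (.node (.node (.leaf 2031) (.leaf 481)) (.node (.leaf 3443) (.leaf 3909))))))) (.node (.node (.node (.node (.node (.node (.node (.leaf 32) (.leaf 4129)) (.leaf 3251)) (.node (.leaf 451) (.leaf 1181))) (.node (.node (.leaf 1235) (.leaf 1442)) (.node (.leaf 670) (.leaf 1567)))) (.node (.node (.node (.leaf 1418) (.leaf 2091)) (.node (.leaf 1081) (.leaf 3719))) (.node (.node (.leaf 801) (.leaf 1518)) (.node (.leaf 2113) (.leaf 4095))))) (.node (.node (.node (.node (.leaf 3891) (.leaf 1987)) (.node (.leaf 2531) (.leaf 3211))) (.node (.node (.leaf 2549) (.leaf 959)) (.node (.leaf 3165) (.leaf 3991)))) (.node (.node (.node (.leaf 225) (.leaf 1667)) (.node (.leaf 1491) (.leaf 2969))) (.node (.node (.leaf 211) (.leaf 3885)) (.node (.leaf 1531) (.leaf 3677)))))) (.node (.node (.node (.node (.node (.leaf 26) (.leaf 3775)) (.node (.leaf 1973) (.leaf 1145))) (.node (.node (.leaf 1074) (.leaf 2265)) (.node (.leaf 1941) (.leaf 2020)))) (.node (.node (.node (.leaf 650) (.leaf 610)) (.node (.leaf 312) (.leaf 1013))) (.node (.node (.leaf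 1727) (.leaf 881)) (.node (.leaf 2089) (.leaf 4063))))) (.node (.node (.node (.node (.leaf 56) (.leaf 4133)) (.node (.leaf 0) (.leaf 1319))) (.node (.node (.leaf 319) (.leaf 3690)) (.node (.leaf 966) (.leaf 3915)))) (.node (.node (.node (.leaf 2301) (.leaf 4033)) (.node (.leaf 1933) (.leaf 3449))) (.node (.node (.leaf 208) (.leaf 399)) (.node (.leaf 2779) (.leaf 2939)))))))))))

/-- Part of a table. -/
noncomputable def fixParR : BTree := (.node (.node (.node (.node (.node (.node (.node (.node (.node (.node (.node (.leaf 8) (.leaf 1837)) (.leaf 917)) (.node (.leaf 3967) (.leaf 3857))) (.node (.node (.leaf 159) (.leaf 2428)) (.node (.leaf 2059) (.leaf 1111)))) (.node (.node (.node (.leaf 879) (.leaf 2873)) (.node (.leaf 805) (.leaf 3655))) (.node (.node (.leaf 200) (.leaf 2816)) (.node (.leaf 681) (.leaf 4157))))) (.node (.node (.node (.node (.leaf 0) (.leaf 2849)) (.node (.leaf 4005) (.leaf 1993))) (.node (.node (.leaf 449) (.leaf 3375)) (.node (.leaf 2506) (.leaf 3597)))) (.node (.node (.node (.leaf 1351) (.leaf 3177)) (.node (.leaf 315) (.leaf 3975))) (.node (.node (.leaf 1535) (.leaf 3697))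 (.node (.leaf 440) (.leaf 1415)))))) (.node (.node (.node (.node (.node (.leaf 272) (.leaf 2119)) (.node (.leaf 181) (.leaf 3383))) (.node (.node (.leaf 23) (.leaf 1464)) (.node (.leaf 2179) (.leaf 275)))) (.node (.node (.node (.leaf 903) (.leaf 3687)) (.node (.leaf 3465) (.leaf 1157))) (.node (.node (.leaf 498) (.leaf 2197)) (.node (.leaf 2537) (.leaf 3545))))) (.node (.node (.node (.node (.leaf 3053) (.leaf 2813)) (.node (.leaf 716) (.leaf 1869))) (.node (.node (.leaf 215) (.leaf 3983)) (.node (.leaf 591) (.leaf 2697)))) (.node (.node (.node (.leaf 160) (.leaf 467)) (.node (.leaf 3391) (.leaf 831))) (.node (.node (.leaf 2762) (.leaf 2295)) (.node (.leaf 765) (.leaf 3733))))))) (.node (.node (.node (.node (.node (.node (.node (.leaf 162) (.leaf 4127)) (.leaf 2139)) (.node (.leaf 1641) (.leaf 1797))) (.node (.node (.leaf 1404) (.leaf 3947)) (.node (.leaf 1585) (.leaf 3569)))) (.node (.node (.node (.leaf 2785) (.leaf 3007)) (.node (.leaf 834) (.leaf 2577))) (.node (.node (.leaf 1729) (.leaf 3451)) (.node (.leaf 3181) (.leaf 3413))))) (.node (.node (.node (.node (.leaf 112) (.leaf 2297)) (.node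 (.leaf 1200) (.leaf 2731))) (.node (.node (.leaf 574) (.leaf 693)) (.node (.leaf 2043) (.leaf 3845)))) (.node (.node (.node (.leaf 0) (.leaf 345)) (.node (.leaf 0) (.leaf 2083))) (.node (.node (.leaf 1060) (.leaf 3505)) (.node (.leaf 1455) (.leaf 2191)))))) (.node (.node (.node (.node (.node (.leaf 43) (.leaf 2116)) (.node (.leaf 678) (.leaf 3317))) (.node (.node (.leaf 140) (.leaf 3235)) (.node (.leaf 1024) (.leaf 1643)))) (.node (.node (.node (.leaf 3681) (.leaf 2527)) (.node (.leaf 229) (.leaf 2841))) (.node (.node (.leaf 2521) (.leaf 1813)) (.node (.leaf 1895) (.leaf 2753))))) (.node (.node (.node (.node (.leaf 1088) (.leaf 459)) (.node (.leaf 627) (.leaf 3675))) (.node (.node (.leaf 530) (.leaf 3445)) (.node (.leaf 829) (.leaf 3959)))) (.node (.node (.node (.leaf 2099) (.leaf 3421)) (.node (.leaf 267) (.leaf 3787))) (.node (.node (.leaf 2749) (.leaf 3961)) (.node (.leaf 289) (.leaf 2641)))))))) (.node (.node (.node (.node (.node (.node (.node (.node (.leaf 0) (.leaf 3679)) (.leaf 1819)) (.node (.leaf 1079) (.leaf 779))) (.node (.node (.leaf 314) (.leaf 3423)) (.node (.leaf 970) (.leaf 3653))))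 (.node (.node (.node (.leaf 0) (.leaf 1543)) (.node (.leaf 443) (.leaf 209))) (.node (.node (.leaf 2493) (.leaf 2867)) (.node (.leaf 769) (.leaf 3259))))) (.node (.node (.node (.node (.leaf 49) (.leaf 1983)) (.node (.leaf 1651) (.leaf 3565))) (.node (.node (.leaf 1258) (.leaf 3293)) (.node (.leaf 1887) (.leaf 3547)))) (.node (.node (.node (.leaf 0) (.leaf 2489)) (.node (.leaf 1207) (.leaf 939))) (.node (.node (.leaf 3159) (.leaf 1413)) (.node (.leaf 103) (.leaf 3419)))))) (.node (.node (.node (.node (.node (.leaf 1537) (.leaf 3504)) (.node (.leaf 2689) (.leaf 2021))) (.node (.node (.leaf 2192) (.leaf 263)) (.node (.leaf 929) (.leaf 2421)))) (.node (.node (.node (.leaf 2027) (.leaf 2574)) (.node (.leaf 2981) (.leaf 3888))) (.node (.node (.leaf 1248) (.leaf 2333)) (.node (.leaf 2057) (.leaf 3913))))) (.node (.node (.node (.node (.leaf 9) (.leaf 3809)) (.node (.leaf 1075) (.leaf 1443))) (.node (.node (.leaf 2649) (.leaf 329)) (.node (.leaf 771) (.leaf 3529)))) (.node (.node (.node (.leaf 114) (.leaf 3429)) (.node (.leaf 362) (.leaf 1411))) (.node (.node (.leaf 548) (.leaf 97)) (.node (.leaf 2235)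 (.leaf 2951))))))) (.node (.node (.node (.node (.node (.node (.node (.leaf 0) (.leaf 4103)) (.leaf 513)) (.node (.leaf 616) (.leaf 3862))) (.node (.node (.leaf 0) (.leaf 2721)) (.node (.leaf 2539) (.leaf 2877)))) (.node (.node (.node (.leaf 961) (.leaf 2389)) (.node (.leaf 1722) (.leaf 3643))) (.node (.node (.leaf 2042) (.leaf 2924)) (.node (.leaf 2203) (.leaf 3627))))) (.node (.node (.node (.node (.leaf 92) (.leaf 0)) (.node (.leaf 4153) (.leaf 1571))) (.node (.node (.leaf 688) (.leaf 967)) (.node (.leaf 378) (.leaf 3255)))) (.node (.node (.node (.leaf 3825) (.leaf 1681)) (.node (.leaf 2130) (.leaf 3149))) (.node (.node (.leaf 3069) (.leaf 2205)) (.node (.leaf 565) (.leaf 3665)))))) (.node (.node (.node (.node (.node (.leaf 0) (.leaf 717)) (.node (.leaf 1003) (.leaf 2387))) (.node (.node (.leaf 815) (.leaf 2529)) (.node (.leaf 3033) (.leaf 2865)))) (.node (.node (.node (.leaf 628) (.leaf 1020)) (.node (.leaf 73) (.leaf 3639))) (.node (.node (.leaf 255) (.leaf 2134)) (.node (.leaf 3785) (.leaf 2619))))) (.node (.node (.node (.node (.leaf 1144) (.leaf 3221)) (.node (.leaf 327) (.leaf 4107)))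 (.node (.node (.leaf 381) (.leaf 2729)) (.node (.leaf 3603) (.leaf 1519)))) (.node (.node (.node (.leaf 496) (.leaf 1831)) (.node (.leaf 737) (.leaf 3009))) (.node (.node (.leaf 3901) (.leaf 949)) (.node (.leaf 3197) (.leaf 3327))))))))) (.node (.node (.node (.node (.node (.node (.node (.node (.node (.leaf 0) (.leaf 2603)) (.leaf 2077)) (.node (.leaf 544) (.leaf 755))) (.node (.node (.leaf 0) (.leaf 1609)) (.node (.leaf 964) (.leaf 1363)))) (.node (.node (.node (.leaf 58) (.leaf 2743)) (.node (.leaf 499) (.leaf 3881))) (.node (.node (.leaf 2233) (.leaf 1047)) (.node (.leaf 2437) (.leaf 705))))) (.node (.node (.node (.node (.leaf 2277) (.leaf 3663)) (.node (.leaf 2412) (.leaf 2545))) (.node (.node (.leaf 368) (.leaf 2719)) (.node (.leaf 2825) (.leaf 1915)))) (.node (.node (.node (.leaf 0) (.leaf 1123)) (.node (.leaf 532) (.leaf 2033))) (.node (.node (.leaf 2941) (.leaf 3521)) (.node (.leaf 1487) (.leaf 3821)))))) (.node (.node (.node (.node (.node (.leaf 94) (.leaf 3729)) (.node (.leaf 2975) (.leaf 3601))) (.node (.node (.leaf 107) (.leaf 1997)) (.node (.leaf 2107) (.leaf 417)))) (.node (.node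 (.node (.leaf 199) (.leaf 1371)) (.node (.leaf 832) (.leaf 1397))) (.node (.node (.leaf 647) (.leaf 2963)) (.node (.leaf 3261) (.leaf 4123))))) (.node (.node (.node (.node (.leaf 276) (.leaf 217)) (.node (.leaf 1575) (.leaf 1019))) (.node (.node (.leaf 1251) (.leaf 1126)) (.node (.leaf 277) (.leaf 2219)))) (.node (.node (.node (.leaf 466) (.leaf 2766)) (.node (.leaf 3309) (.leaf 2905))) (.node (.node (.leaf 1030) (.leaf 3789)) (.node (.leaf 337) (.leaf 4017))))))) (.node (.node (.node (.node (.node (.node (.node (.leaf 18) (.leaf 4001)) (.leaf 2707)) (.node (.leaf 251) (.leaf 3325))) (.node (.node (.leaf 0) (.leaf 1597)) (.node (.leaf 135) (.leaf 3039)))) (.node (.node (.node (.leaf 1761) (.leaf 183)) (.node (.leaf 59) (.leaf 3819))) (.node (.node (.leaf 2353) (.leaf 1395)) (.node (.leaf 2435) (.leaf 4113))))) (.node (.node (.node (.node (.leaf 897) (.leaf 0)) (.node (.leaf 3135) (.leaf 2617))) (.node (.node (.leaf 404) (.leaf 1485)) (.node (.leaf 1252) (.leaf 403)))) (.node (.node (.node (.leaf 2375) (.leaf 603)) (.node (.leaf 461) (.leaf 2601))) (.node (.node (.leaf 1517) (.leaf 3229)) (.node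 (.leaf 1276) (.leaf 2147)))))) (.node (.node (.node (.node (.node (.leaf 649) (.leaf 2977)) (.node (.leaf 237) (.leaf 3241))) (.node (.node (.leaf 1044) (.leaf 3637)) (.node (.leaf 3245) (.leaf 3982)))) (.node (.node (.node (.leaf 236) (.leaf 979)) (.node (.leaf 859) (.leaf 3851))) (.node (.node (.leaf 2895) (.leaf 2835)) (.node (.leaf 1877) (.leaf 3455))))) (.node (.node (.node (.node (.leaf 547) (.leaf 567)) (.node (.leaf 266) (.leaf 3471))) (.node (.node (.leaf 0) (.leaf 1998)) (.node (.leaf 1687) (.leaf 1865)))) (.node (.node (.node (.leaf 3541) (.leaf 1769)) (.node (.leaf 79) (.leaf 4155))) (.node (.node (.leaf 238) (.leaf 201)) (.node (.leaf 2735) (.leaf 3415)))))))) (.node (.node (.node (.node (.node (.node (.node (.node (.leaf 0) (.leaf 2913)) (.leaf 4043)) (.node (.leaf 821) (.leaf 295))) (.node (.node (.leaf 3083) (.leaf 2345)) (.node (.leaf 2141) (.leaf 4047)))) (.node (.node (.node (.leaf 0) (.leaf 1965)) (.node (.leaf 811) (.leaf 3925))) (.node (.node (.leaf 1296) (.leaf 3191)) (.node (.leaf 2759) (.leaf 1927))))) (.node (.node (.node (.node (.leaf 150) (.leaf 1245)) (.node (.leaf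 4109) (.leaf 643))) (.node (.node (.leaf 2061) (.leaf 609)) (.node (.leaf 713) (.leaf 675)))) (.node (.node (.node (.leaf 0) (.leaf 3131)) (.node (.leaf 3587) (.leaf 911))) (.node (.node (.leaf 198) (.leaf 1759)) (.node (.leaf 465) (.leaf 3347)))))) (.node (.node (.node (.node (.node (.leaf 1861) (.leaf 1029)) (.node (.leaf 1541) (.leaf 1849))) (.node (.node (.leaf 408) (.leaf 3927)) (.node (.leaf 3253) (.leaf 1596)))) (.node (.node (.node (.leaf 587) (.leaf 2399)) (.node (.leaf 2709) (.leaf 3515))) (.node (.node (.leaf 178) (.leaf 2901)) (.node (.leaf 429) (.leaf 2511))))) (.node (.node (.node (.node (.leaf 128) (.leaf 65)) (.node (.leaf 1387) (.leaf 3323))) (.node (.node (.leaf 3371) (.leaf 2609)) (.node (.leaf 3085) (.leaf 3575)))) (.node (.node (.node (.leaf 2003) (.leaf 2041)) (.node (.leaf 2243) (.leaf 2419))) (.node (.node (.leaf 202) (.leaf 3725)) (.node (.leaf 3712) (.leaf 4077))))))) (.node (.node (.node (.node (.node (.node (.node (.leaf 0) (.leaf 4075)) (.leaf 1335)) (.node (.leaf 2741) (.leaf 3517))) (.node (.node (.leaf 3731) (.leaf 2620)) (.node (.leaf 1483) (.leaf 1989)))) (.node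 (.node (.node (.leaf 0) (.leaf 2221)) (.node (.leaf 2471) (.leaf 2125))) (.node (.node (.leaf 981) (.leaf 1553)) (.node (.leaf 1186) (.leaf 529))))) (.node (.node (.node (.node (.leaf 870) (.leaf 1477)) (.node (.leaf 2275) (.leaf 3281))) (.node (.node (.leaf 671) (.leaf 2839)) (.node (.leaf 484) (.leaf 4089)))) (.node (.node (.node (.leaf 913) (.leaf 1815)) (.node (.leaf 2326) (.leaf 3513))) (.node (.node (.leaf 3057) (.leaf 3689)) (.node (.leaf 3611) (.leaf 2919)))))) (.node (.node (.node (.node (.node (.leaf 618) (.leaf 153)) (.node (.leaf 665) (.leaf 3180))) (.node (.node (.leaf 1353) (.leaf 3275)) (.node (.leaf 1038) (.leaf 3097)))) (.node (.node (.node (.leaf 0) (.leaf 3267)) (.node (.leaf 2821) (.leaf 3055))) (.node (.node (.leaf 663) (.leaf 1851)) (.node (.leaf 1347) (.leaf 3685))))) (.node (.node (.node (.node (.leaf 86) (.leaf 843)) (.node (.leaf 1949) (.leaf 1503))) (.node (.node (.leaf 893) (.leaf 3877)) (.node (.leaf 2535) (.leaf 2211)))) (.node (.node (.node (.leaf 1481) (.leaf 1829)) (.node (.leaf 333) (.leaf 3519))) (.node (.node (.leaf 623) (.leaf 2369)) (.node (.leaf 1256) (.leaf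 2883)))))))))) (.node (.node (.node (.node (.node (.node (.node (.node (.node (.node (.leaf 0) (.leaf 687)) (.leaf 3853)) (.node (.leaf 612) (.leaf 2218))) (.node (.node (.leaf 3121) (.leaf 1253)) (.node (.leaf 1921) (.leaf 2884)))) (.node (.node (.node (.leaf 0) (.leaf 261)) (.node (.leaf 1341) (.leaf 857))) (.node (.node (.leaf 2758) (.leaf 1619)) (.node (.leaf 3703) (.leaf 3399))))) (.node (.node (.node (.node (.leaf 0) (.leaf 1321)) (.node (.leaf 3709) (.leaf 1457))) (.node (.node (.leaf 224) (.leaf 2829)) (.node (.leaf 931) (.leaf 2509)))) (.node (.node (.node (.leaf 377) (.leaf 2097)) (.node (.leaf 2971) (.leaf 1358))) (.node (.node (.leaf 165) (.leaf 2885)) (.node (.leaf 1673) (.leaf 4061)))))) (.node (.node (.node (.node (.node (.leaf 0) (.leaf 1521)) (.node (.leaf 1893) (.leaf 2889))) (.node (.node (.leaf 303) (.leaf 1229)) (.node (.leaf 361) (.leaf 2801)))) (.node (.node (.node (.leaf 168) (.leaf 141)) (.node (.leaf 2859) (.leaf 1069))) (.node (.node (.leaf 33) (.leaf 2593)) (.node (.leaf 1097) (.leaf 2017))))) (.node (.node (.node (.node (.leaf 136) (.leaf 2585)) (.node (.leaf 3351)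 (.leaf 1255))) (.node (.node (.leaf 3289) (.leaf 3708)) (.node (.leaf 1092) (.leaf 1435)))) (.node (.node (.node (.leaf 265) (.leaf 1293)) (.node (.leaf 3535) (.leaf 3457))) (.node (.node (.leaf 576) (.leaf 1383)) (.node (.leaf 497) (.leaf 3078))))))) (.node (.node (.node (.node (.node (.node (.node (.leaf 0) (.leaf 2947)) (.leaf 1067)) (.node (.leaf 2423) (.leaf 1325))) (.node (.node (.leaf 286) (.leaf 1919)) (.node (.leaf 3099) (.leaf 3585)))) (.node (.node (.node (.leaf 221) (.leaf 797)) (.node (.leaf 1671) (.leaf 1009))) (.node (.node (.leaf 89) (.leaf 1375)) (.node (.leaf 2725) (.leaf 1639))))) (.node (.node (.node (.node (.leaf 2639) (.leaf 2143)) (.node (.leaf 55) (.leaf 1195))) (.node (.node (.leaf 0) (.leaf 3175)) (.node (.leaf 1706) (.leaf 3297)))) (.node (.node (.node (.leaf 3617) (.leaf 2555)) (.node (.leaf 99) (.leaf 3937))) (.node (.node (.leaf 554) (.leaf 3945)) (.node (.leaf 476) (.leaf 1783)))))) (.node (.node (.node (.node (.node (.leaf 0) (.leaf 2163)) (.node (.leaf 680) (.leaf 935))) (.node (.node (.leaf 1959) (.leaf 1911)) (.node (.leaf 1022) (.leaf 1963)))) (.node (.node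 (.node (.leaf 246) (.leaf 1501)) (.node (.leaf 300) (.leaf 1015))) (.node (.node (.leaf 922) (.leaf 3487)) (.node (.leaf 1731) (.leaf 1237))))) (.node (.node (.node (.node (.leaf 658) (.leaf 2371)) (.node (.leaf 1702) (.leaf 3757))) (.node (.node (.leaf 1573) (.leaf 2251)) (.node (.leaf 3645) (.leaf 1527)))) (.node (.node (.node (.leaf 1507) (.leaf 3117)) (.node (.leaf 219) (.leaf 4071))) (.node (.node (.leaf 379) (.leaf 3807)) (.node (.leaf 1624) (.leaf 3539)))))))) (.node (.node (.node (.node (.node (.node (.node (.node (.leaf 0) (.leaf 2559)) (.leaf 2173)) (.node (.leaf 1061) (.leaf 2745))) (.node (.node (.leaf 883) (.leaf 2557)) (.node (.leaf 3093) (.leaf 2571)))) (.node (.node (.node (.leaf 274) (.leaf 2000)) (.node (.leaf 793) (.leaf 1407))) (.node (.node (.leaf 483) (.leaf 2247)) (.node (.leaf 2797) (.leaf 3228))))) (.node (.node (.node (.node (.leaf 30) (.leaf 1709)) (.node (.leaf 1187) (.leaf 1439))) (.node (.node (.leaf 349) (.leaf 2321)) (.node (.leaf 1971) (.leaf 147)))) (.node (.node (.node (.leaf 142) (.leaf 203)) (.node (.leaf 2287) (.leaf 3095))) (.node (.node (.leaf 2303) (.leaf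 3563)) (.node (.leaf 763) (.leaf 4135)))))) (.node (.node (.node (.node (.node (.leaf 38) (.leaf 2146)) (.node (.leaf 1127) (.leaf 2341))) (.node (.node (.leaf 1787) (.leaf 1645)) (.node (.leaf 1832) (.leaf 2155)))) (.node (.node (.node (.leaf 305) (.leaf 2765)) (.node (.leaf 367) (.leaf 3410))) (.node (.node (.leaf 0) (.leaf 2149)) (.node (.leaf 2657) (.leaf 3769))))) (.node (.node (.node (.node (.leaf 48) (.leaf 629)) (.node (.leaf 31) (.leaf 905))) (.node (.node (.leaf 3683) (.leaf 4087)) (.node (.leaf 115) (.leaf 4023)))) (.node (.node (.node (.leaf 462) (.leaf 1723)) (.node (.leaf 527) (.leaf 2933))) (.node (.node (.leaf 3615) (.leaf 4057)) (.node (.leaf 1167) (.leaf 3727))))))) (.node (.node (.node (.node (.node (.node (.node (.leaf 108) (.leaf 1429)) (.leaf 1275)) (.node (.leaf 1185) (.leaf 1002))) (.node (.node (.leaf 320) (.leaf 2199)) (.node (.leaf 1595) (.leaf 2663)))) (.node (.node (.node (.leaf 3625) (.leaf 2051)) (.node (.leaf 288) (.leaf 3353))) (.node (.node (.leaf 3341) (.leaf 1649)) (.node (.leaf 4101) (.leaf 4049))))) (.node (.node (.node (.node (.leaf 302) (.leaf 2349)) (.node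 (.leaf 825) (.leaf 2393))) (.node (.node (.leaf 410) (.leaf 3827)) (.node (.leaf 783) (.leaf 3919)))) (.node (.node (.node (.leaf 339) (.leaf 1627)) (.node (.leaf 1465) (.leaf 971))) (.node (.node (.leaf 3533) (.leaf 3273)) (.node (.leaf 2315) (.leaf 2289)))))) (.node (.node (.node (.node (.node (.leaf 0) (.leaf 1747)) (.node (.leaf 4031) (.leaf 1691))) (.node (.node (.leaf 3193) (.leaf 1041)) (.node (.leaf 2645) (.leaf 3737)))) (.node (.node (.node (.leaf 2705) (.leaf 845)) (.node (.leaf 1089) (.leaf 1023))) (.node (.node (.leaf 2943) (.leaf 1031)) (.node (.leaf 1230) (.leaf 1957))))) (.node (.node (.node (.node (.leaf 0) (.leaf 1937)) (.node (.leaf 2599) (.leaf 4015))) (.node (.node (.leaf 268) (.leaf 3979)) (.node (.leaf 3387) (.leaf 3475)))) (.node (.node (.node (.leaf 651) (.leaf 249)) (.node (.leaf 371) (.leaf 3941))) (.node (.node (.leaf 2543) (.leaf 1197)) (.node (.leaf 1328) (.leaf 3359))))))))) (.node (.node (.node (.node (.node (.node (.node (.node (.node (.leaf 66) (.leaf 2931)) (.leaf 1629)) (.node (.leaf 690) (.leaf 2775))) (.node (.node (.leaf 923) (.leaf 694)) (.node (.leaf 3065)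 (.leaf 1839)))) (.node (.node (.node (.leaf 448) (.leaf 682)) (.node (.leaf 653) (.leaf 3577))) (.node (.node (.leaf 552) (.leaf 553)) (.node (.leaf 3134) (.leaf 3453))))) (.node (.node (.node (.node (.leaf 70) (.leaf 877)) (.node (.leaf 2159) (.leaf 3549))) (.node (.node (.leaf 589) (.leaf 3599)) (.node (.leaf 1943) (.leaf 583)))) (.node (.node (.node (.leaf 212) (.leaf 3861)) (.node (.leaf 721) (.leaf 2209))) (.node (.node (.leaf 2791) (.leaf 2183)) (.node (.leaf 1775) (.leaf 3462)))))) (.node (.node (.node (.node (.node (.leaf 1) (.leaf 0)) (.node (.leaf 2541) (.leaf 2925))) (.node (.node (.leaf 344) (.leaf 2911)) (.node (.leaf 3801) (.leaf 3674)))) (.node (.node (.node (.leaf 121) (.leaf 3495)) (.node (.leaf 0) (.leaf 617))) (.node (.node (.leaf 391) (.leaf 1795)) (.node (.leaf 1211) (.leaf 2653))))) (.node (.node (.node (.node (.leaf 3981) (.leaf 1313)) (.node (.leaf 1228) (.leaf 1315))) (.node (.node (.leaf 105) (.leaf 1714)) (.node (.leaf 2165) (.leaf 3049)))) (.node (.node (.node (.leaf 0) (.leaf 739)) (.node (.leaf 359) (.leaf 1191))) (.node (.node (.leaf 535) (.leaf 3567)) (.node (.leaf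 1354) (.leaf 1241))))))) (.node (.node (.node (.node (.node (.node (.node (.leaf 0) (.leaf 2953)) (.leaf 661)) (.node (.leaf 383) (.leaf 1689))) (.node (.node (.leaf 1269) (.leaf 581)) (.node (.leaf 2363) (.leaf 1873)))) (.node (.node (.node (.leaf 510) (.leaf 965)) (.node (.leaf 1569) (.leaf 1205))) (.node (.node (.leaf 231) (.leaf 1381)) (.node (.leaf 409) (.leaf 3151))))) (.node (.node (.node (.node (.leaf 235) (.leaf 605)) (.node (.leaf 3051) (.leaf 1958))) (.node (.node (.leaf 69) (.leaf 129)) (.node (.leaf 3661) (.leaf 2876)))) (.node (.node (.node (.leaf 895) (.leaf 2923)) (.node (.leaf 2907) (.leaf 2035))) (.node (.node (.leaf 0) (.leaf 3199)) (.node (.leaf 3691) (.leaf 3263)))))) (.node (.node (.node (.node (.node (.leaf 64) (.leaf 2335)) (.node (.leaf 2427) (.leaf 2401))) (.node (.node (.leaf 420) (.leaf 1209)) (.node (.leaf 1907) (.leaf 3195)))) (.node (.node (.node (.leaf 220) (.leaf 727)) (.node (.leaf 1334) (.leaf 2629))) (.node (.node (.leaf 1451) (.leaf 1855)) (.node (.leaf 3081) (.leaf 1737))))) (.node (.node (.node (.node (.leaf 0) (.leaf 111)) (.node (.leaf 1077) (.leaf 4027)))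 (.node (.node (.leaf 335) (.leaf 3631)) (.node (.leaf 2413) (.leaf 4029)))) (.node (.node (.node (.leaf 1559) (.leaf 2337)) (.node (.leaf 904) (.leaf 3555))) (.node (.node (.leaf 1425) (.leaf 2661)) (.node (.leaf 3469) (.leaf 4067)))))))) (.node (.node (.node (.node (.node (.node (.node (.node (.leaf 22) (.leaf 4137)) (.leaf 2871)) (.node (.leaf 932) (.leaf 2279))) (.node (.node (.leaf 2195) (.leaf 2717)) (.node (.leaf 1967) (.leaf 2857)))) (.node (.node (.node (.leaf 0) (.leaf 485)) (.node (.leaf 3194) (.leaf 1039))) (.node (.node (.leaf 3935) (.leaf 1311)) (.node (.leaf 3123) (.leaf 1593))))) (.node (.node (.node (.node (.leaf 0) (.leaf 247)) (.node (.leaf 1607) (.leaf 1579))) (.node (.node (.leaf 0) (.leaf 3721)) (.node (.leaf 2803) (.leaf 1785)))) (.node (.node (.node (.leaf 619) (.leaf 2687)) (.node (.leaf 1149) (.leaf 3008))) (.node (.node (.leaf 511) (.leaf 1217)) (.node (.leaf 703) (.leaf 4151)))))) (.node (.node (.node (.node (.node (.leaf 52) (.leaf 2633)) (.node (.leaf 1000) (.leaf 1183))) (.node (.node (.leaf 2418) (.leaf 2181)) (.node (.leaf 2024) (.leaf 2819)))) (.node (.node (.node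 (.leaf 1289) (.leaf 1625)) (.node (.leaf 840) (.leaf 2319))) (.node (.node (.leaf 2853) (.leaf 3017)) (.node (.leaf 733) (.leaf 1361))))) (.node (.node (.node (.node (.leaf 2879) (.leaf 1169)) (.node (.leaf 2223) (.leaf 4081))) (.node (.node (.leaf 1533) (.leaf 285)) (.node (.leaf 1547) (.leaf 4099)))) (.node (.node (.node (.leaf 0) (.leaf 3662)) (.node (.leaf 1330) (.leaf 3571))) (.node (.node (.leaf 1259) (.leaf 317)) (.node (.leaf 0) (.leaf 1863))))))) (.node (.node (.node (.node (.node (.node (.node (.leaf 10) (.leaf 3815)) (.leaf 767)) (.node (.leaf 1905) (.leaf 1008))) (.node (.node (.leaf 2318) (.leaf 953)) (.node (.leaf 3509) (.leaf 343)))) (.node (.node (.node (.leaf 1405) (.leaf 1393)) (.node (.leaf 1283) (.leaf 2271))) (.node (.node (.leaf 0) (.leaf 2049)) (.node (.leaf 51) (.leaf 3799))))) (.node (.node (.node (.node (.leaf 0) (.leaf 3067)) (.node (.leaf 1739) (.leaf 4111))) (.node (.node (.leaf 2161) (.leaf 1899)) (.node (.leaf 446) (.leaf 2997)))) (.node (.node (.node (.leaf 104) (.leaf 1981)) (.node (.leaf 1923) (.leaf 1331))) (.node (.node (.leaf 2407) (.leaf 1367)) (.node (.leaf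 1705) (.leaf 3735)))))) (.node (.node (.node (.node (.node (.leaf 80) (.leaf 751)) (.node (.leaf 809) (.leaf 601))) (.node (.node (.leaf 126) (.leaf 2669)) (.node (.leaf 1054) (.leaf 3307)))) (.node (.node (.node (.leaf 72) (.leaf 987)) (.node (.leaf 795) (.leaf 2187))) (.node (.node (.leaf 1423) (.leaf 3989)) (.node (.leaf 3511) (.leaf 3403))))) (.node (.node (.node (.node (.leaf 57) (.leaf 2991)) (.node (.leaf 1960) (.leaf 855))) (.node (.node (.leaf 470) (.leaf 749)) (.node (.leaf 1151) (.leaf 1827)))) (.node (.node (.node (.leaf 304) (.leaf 3283)) (.node (.leaf 3795) (.leaf 3537))) (.node (.node (.leaf 2866) (.leaf 927)) (.node (.leaf 2357) (.leaf 2347)))))))))))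

/-- A table. -/
noncomputable def fixPar : BTree := .node fixParL fixParR

/-- Part of a table. -/
noncomputable def fixRankL : BTree := (.node (.node (.node (.node (.node (.node (.node (.node (.node (.node (.node (.leaf 0) (.leaf 5)) (.leaf 2)) (.node (.leaf 0) (.leaf 2))) (.node (.node (.leaf 4) (.leaf 3)) (.node (.leaf 3) (.leaf 4)))) (.node (.node (.node (.leaf 5) (.leaf 8)) (.node (.leaf 3) (.leaf 5))) (.node (.node (.leaf 5) (.leaf 1)) (.node (.leaf 4) (.leaf 3))))) (.node (.node (.node (.node (.leaf 0) (.leaf 1)) (.node (.leaf 4) (.leaf 4))) (.node (.node (.leaf 2) (.leaf 4)) (.node (.leaf 4) (.leaf 3)))) (.node (.node (.node (.leaf 5) (.leaf 5)) (.node (.leaf 3) (.leaf 6))) (.node (.node (.leaf 4) (.leaf 5)) (.node (.leaf 3) (.leaf 4)))))) (.node (.node (.node (.node (.node (.leaf 0) (.leaf 4)) (.node (.leaf 3) (.leaf 3))) (.node (.node (.leaf 2) (.leaf 5)) (.node (.leaf 8) (.leaf 2)))) (.node (.node (.node (.leaf 3) (.leaf 2)) (.node (.leaf 3) (.leaf 5))) (.node (.node (.leaf 1) (.leaf 6)) (.node (.leaf 7) (.leaf 3))))) (.node (.node (.node (.node (.leaf 1) (.leaf 4)) (.node (.leaf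 5) (.leaf 2))) (.node (.node (.leaf 5) (.leaf 5)) (.node (.leaf 4) (.leaf 5)))) (.node (.node (.node (.leaf 3) (.leaf 4)) (.node (.leaf 5) (.leaf 2))) (.node (.node (.leaf 3) (.leaf 1)) (.node (.leaf 6) (.leaf 4))))))) (.node (.node (.node (.node (.node (.node (.node (.leaf 2) (.leaf 4)) (.leaf 5)) (.node (.leaf 3) (.leaf 3))) (.node (.node (.leaf 3) (.leaf 5)) (.node (.leaf 3) (.leaf 4)))) (.node (.node (.node (.leaf 1) (.leaf 4)) (.node (.leaf 5) (.leaf 2))) (.node (.node (.leaf 2) (.leaf 5)) (.node (.leaf 6) (.leaf 6))))) (.node (.node (.node (.node (.leaf 1) (.leaf 5)) (.node (.leaf 2) (.leaf 4))) (.node (.node (.leaf 1) (.leaf 6)) (.node (.leaf 8) (.leaf 4)))) (.node (.node (.node (.leaf 5) (.leaf 3)) (.node (.leaf 7) (.leaf 5))) (.node (.node (.leaf 1) (.leaf 5)) (.node (.leaf 4) (.leaf 5)))))) (.node (.node (.node (.node (.node (.leaf 1) (.leaf 8)) (.node (.leaf 4) (.leaf 3))) (.node (.node (.leaf 1) (.leaf 4)) (.node (.leaf 6) (.leaf 4)))) (.node (.node (.node (.leaf 0) (.leaf 2)) (.node (.leaf 5) (.leaf 8))) (.node (.node (.leaf 5) (.leaf 2)) (.node (.leaf 5) (.leaf 2))))) (.node (.node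 (.node (.node (.leaf 1) (.leaf 8)) (.node (.leaf 3) (.leaf 1))) (.node (.node (.leaf 5) (.leaf 4)) (.node (.leaf 2) (.leaf 3)))) (.node (.node (.node (.leaf 4) (.leaf 6)) (.node (.leaf 4) (.leaf 7))) (.node (.node (.leaf 7) (.leaf 4)) (.node (.leaf 3) (.leaf 3)))))))) (.node (.node (.node (.node (.node (.node (.node (.node (.leaf 2) (.leaf 7)) (.leaf 5)) (.node (.leaf 4) (.leaf 4))) (.node (.node (.leaf 5) (.leaf 5)) (.node (.leaf 4) (.leaf 3)))) (.node (.node (.node (.leaf 2) (.leaf 6)) (.node (.leaf 3) (.leaf 2))) (.node (.node (.leaf 7) (.leaf 5)) (.node (.leaf 4) (.leaf 5))))) (.node (.node (.node (.node (.leaf 4) (.leaf 3)) (.node (.leaf 1) (.leaf 7))) (.node (.node (.leaf 4) (.leaf 4)) (.node (.leaf 5) (.leaf 2)))) (.node (.node (.node (.leaf 5) (.leaf 2)) (.node (.leaf 5) (.leaf 8))) (.node (.node (.leaf 5) (.leaf 4)) (.node (.leaf 1) (.leaf 4)))))) (.node (.node (.node (.node (.node (.leaf 0) (.leaf 7)) (.node (.leaf 6) (.leaf 3))) (.node (.node (.leaf 5) (.leaf 5)) (.node (.leaf 4) (.leaf 6)))) (.node (.node (.node (.leaf 2) (.leaf 4)) (.node (.leaf 5) (.leaf 5))) (.node (.node (.leaf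 7) (.leaf 7)) (.node (.leaf 2) (.leaf 5))))) (.node (.node (.node (.node (.leaf 1) (.leaf 3)) (.node (.leaf 2) (.leaf 3))) (.node (.node (.leaf 3) (.leaf 8)) (.node (.leaf 4) (.leaf 4)))) (.node (.node (.node (.leaf 3) (.leaf 8)) (.node (.leaf 7) (.leaf 3))) (.node (.node (.leaf 2) (.leaf 4)) (.node (.leaf 2) (.leaf 1))))))) (.node (.node (.node (.node (.node (.node (.node (.leaf 0) (.leaf 3)) (.leaf 3)) (.node (.leaf 6) (.leaf 4))) (.node (.node (.leaf 6) (.leaf 2)) (.node (.leaf 5) (.leaf 7)))) (.node (.node (.node (.leaf 1) (.leaf 1)) (.node (.leaf 2) (.leaf 6))) (.node (.node (.leaf 5) (.leaf 2)) (.node (.leaf 4) (.leaf 2))))) (.node (.node (.node (.node (.leaf 0) (.leaf 6)) (.node (.leaf 2) (.leaf 6))) (.node (.node (.leaf 0) (.leaf 7)) (.node (.leaf 6) (.leaf 3)))) (.node (.node (.node (.leaf 2) (.leaf 6)) (.node (.leaf 6) (.leaf 2))) (.node (.node (.leaf 1) (.leaf 8)) (.node (.leaf 2) (.leaf 2)))))) (.node (.node (.node (.node (.node (.leaf 2) (.leaf 4)) (.node (.leaf 2) (.leaf 4))) (.node (.node (.leaf 4) (.leaf 6)) (.node (.leaf 4) (.leaf 4)))) (.node (.node (.node (.leaf 2) (.leaf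 4)) (.node (.leaf 5) (.leaf 5))) (.node (.node (.leaf 2) (.leaf 6)) (.node (.leaf 7) (.leaf 6))))) (.node (.node (.node (.node (.leaf 1) (.leaf 4)) (.node (.leaf 4) (.leaf 3))) (.node (.node (.leaf 4) (.leaf 3)) (.node (.leaf 2) (.leaf 2)))) (.node (.node (.node (.leaf 0) (.leaf 5)) (.node (.leaf 2) (.leaf 4))) (.node (.node (.leaf 2) (.leaf 7)) (.node (.leaf 3) (.leaf 7))))))))) (.node (.node (.node (.node (.node (.node (.node (.node (.node (.leaf 3) (.leaf 3)) (.leaf 4)) (.node (.leaf 3) (.leaf 3))) (.node (.node (.leaf 7) (.leaf 5)) (.node (.leaf 3) (.leaf 4)))) (.node (.node (.node (.leaf 3) (.leaf 4)) (.node (.leaf 7) (.leaf 2))) (.node (.node (.leaf 6) (.leaf 4)) (.node (.leaf 4) (.leaf 3))))) (.node (.node (.node (.node (.leaf 0) (.leaf 5)) (.node (.leaf 5) (.leaf 8))) (.node (.node (.leaf 5) (.leaf 2)) (.node (.leaf 5) (.leaf 3)))) (.node (.node (.node (.leaf 4) (.leaf 3)) (.node (.leaf 7) (.leaf 4))) (.node (.node (.leaf 0) (.leaf 3)) (.node (.leaf 5) (.leaf 2)))))) (.node (.node (.node (.node (.node (.leaf 1) (.leaf 5)) (.node (.leaf 2) (.leaf 1))) (.node (.node (.leaf 4) (.leaf 4))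 (.node (.leaf 3) (.leaf 6)))) (.node (.node (.node (.leaf 2) (.leaf 3)) (.node (.leaf 4) (.leaf 3))) (.node (.node (.leaf 3) (.leaf 2)) (.node (.leaf 3) (.leaf 5))))) (.node (.node (.node (.node (.leaf 0) (.leaf 7)) (.node (.leaf 7) (.leaf 5))) (.node (.node (.leaf 3) (.leaf 5)) (.node (.leaf 4) (.leaf 5)))) (.node (.node (.node (.leaf 2) (.leaf 8)) (.node (.leaf 7) (.leaf 3))) (.node (.node (.leaf 5) (.leaf 3)) (.node (.leaf 6) (.leaf 5))))))) (.node (.node (.node (.node (.node (.node (.node (.leaf 1) (.leaf 4)) (.leaf 4)) (.node (.leaf 5) (.leaf 6))) (.node (.node (.leaf 0) (.leaf 5)) (.node (.leaf 6) (.leaf 6)))) (.node (.node (.node (.leaf 2) (.leaf 2)) (.node (.leaf 1) (.leaf 5))) (.node (.node (.leaf 1) (.leaf 3)) (.node (.leaf 2) (.leaf 7))))) (.node (.node (.node (.node (.leaf 0) (.leaf 4)) (.node (.leaf 8) (.leaf 6))) (.node (.node (.leaf 0) (.leaf 2)) (.node (.leaf 4) (.leaf 4)))) (.node (.node (.node (.leaf 3) (.leaf 6)) (.node (.leaf 7) (.leaf 3))) (.node (.node (.leaf 4) (.leaf 1)) (.node (.leaf 2) (.leaf 4)))))) (.node (.node (.node (.node (.node (.leaf 0) (.leaf 6)) (.node (.leaf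 4) (.leaf 5))) (.node (.node (.leaf 2) (.leaf 6)) (.node (.leaf 6) (.leaf 2)))) (.node (.node (.node (.leaf 5) (.leaf 5)) (.node (.leaf 5) (.leaf 5))) (.node (.node (.leaf 3) (.leaf 2)) (.node (.leaf 7) (.leaf 7))))) (.node (.node (.node (.node (.leaf 5) (.leaf 4)) (.node (.leaf 2) (.leaf 4))) (.node (.node (.leaf 6) (.leaf 1)) (.node (.leaf 1) (.leaf 6)))) (.node (.node (.node (.leaf 4) (.leaf 5)) (.node (.leaf 5) (.leaf 2))) (.node (.node (.leaf 0) (.leaf 4)) (.node (.leaf 2) (.leaf 2)))))))) (.node (.node (.node (.node (.node (.node (.node (.node (.leaf 1) (.leaf 2)) (.leaf 6)) (.node (.leaf 3) (.leaf 3))) (.node (.node (.leaf 8) (.leaf 1)) (.node (.leaf 4) (.leaf 4)))) (.node (.node (.node (.leaf 5) (.leaf 8)) (.node (.leaf 5) (.leaf 6))) (.node (.node (.leaf 4) (.leaf 5)) (.node (.leaf 6) (.leaf 2))))) (.node (.node (.node (.node (.leaf 4) (.leaf 1)) (.node (.leaf 4) (.leaf 5))) (.node (.node (.leaf 3) (.leaf 7)) (.node (.leaf 6) (.leaf 3)))) (.node (.node (.node (.leaf 0) (.leaf 1)) (.node (.leaf 2) (.leaf 7))) (.node (.node (.leaf 6) (.leaf 3)) (.node (.leaf 2) (.leaf 5)))))) (.node (.node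 (.node (.node (.node (.leaf 4) (.leaf 5)) (.node (.leaf 4) (.leaf 3))) (.node (.node (.leaf 4) (.leaf 4)) (.node (.leaf 2) (.leaf 4)))) (.node (.node (.node (.leaf 3) (.leaf 6)) (.node (.leaf 7) (.leaf 2))) (.node (.node (.leaf 0) (.leaf 7)) (.node (.leaf 2) (.leaf 4))))) (.node (.node (.node (.node (.leaf 4) (.leaf 2)) (.node (.leaf 3) (.leaf 3))) (.node (.node (.leaf 1) (.leaf 5)) (.node (.leaf 5) (.leaf 5)))) (.node (.node (.node (.leaf 4) (.leaf 7)) (.node (.leaf 8) (.leaf 4))) (.node (.node (.leaf 3) (.leaf 4)) (.node (.leaf 4) (.leaf 5))))))) (.node (.node (.node (.node (.node (.node (.node (.leaf 2) (.leaf 3)) (.leaf 6)) (.node (.leaf 5) (.leaf 3))) (.node (.node (.leaf 2) (.leaf 6)) (.node (.leaf 5) (.leaf 6)))) (.node (.node (.node (.leaf 2) (.leaf 7)) (.node (.leaf 6) (.leaf 4))) (.node (.node (.leaf 4) (.leaf 4)) (.node (.leaf 6) (.leaf 5))))) (.node (.node (.node (.node (.leaf 2) (.leaf 4)) (.node (.leaf 4) (.leaf 4))) (.node (.node (.leaf 8) (.leaf 4)) (.node (.leaf 7) (.leaf 5)))) (.node (.node (.node (.leaf 1) (.leaf 3)) (.node (.leaf 1) (.leaf 3))) (.node (.node (.leaf 4) (.leaf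 5)) (.node (.leaf 4) (.leaf 4)))))) (.node (.node (.node (.node (.node (.leaf 0) (.leaf 6)) (.node (.leaf 3) (.leaf 6))) (.node (.node (.leaf 7) (.leaf 4)) (.node (.leaf 7) (.leaf 4)))) (.node (.node (.node (.leaf 4) (.leaf 5)) (.node (.leaf 7) (.leaf 5))) (.node (.node (.leaf 2) (.leaf 1)) (.node (.leaf 8) (.leaf 5))))) (.node (.node (.node (.node (.leaf 0) (.leaf 5)) (.node (.leaf 1) (.leaf 7))) (.node (.node (.leaf 3) (.leaf 6)) (.node (.leaf 4) (.leaf 5)))) (.node (.node (.node (.leaf 5) (.leaf 5)) (.node (.leaf 6) (.leaf 3))) (.node (.node (.leaf 7) (.leaf 7)) (.node (.leaf 4) (.leaf 4)))))))))) (.node (.node (.node (.node (.node (.node (.node (.node (.node (.node (.leaf 1) (.leaf 7)) (.leaf 6)) (.node (.leaf 1) (.leaf 4))) (.node (.node (.leaf 8) (.leaf 1)) (.node (.leaf 2) (.leaf 6)))) (.node (.node (.node (.leaf 5) (.leaf 4)) (.node (.leaf 4) (.leaf 3))) (.node (.node (.leaf 4) (.leaf 4)) (.node (.leaf 5) (.leaf 3))))) (.node (.node (.node (.node (.leaf 4) (.leaf 3)) (.node (.leaf 2) (.leaf 6))) (.node (.node (.leaf 5) (.leaf 3)) (.node (.leaf 4) (.leaf 4)))) (.node (.node (.node (.leaf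 2) (.leaf 3)) (.node (.leaf 5) (.leaf 4))) (.node (.node (.leaf 0) (.leaf 1)) (.node (.leaf 5) (.leaf 7)))))) (.node (.node (.node (.node (.node (.leaf 4) (.leaf 1)) (.node (.leaf 3) (.leaf 7))) (.node (.node (.leaf 0) (.leaf 4)) (.node (.leaf 4) (.leaf 4)))) (.node (.node (.node (.leaf 0) (.leaf 8)) (.node (.leaf 6) (.leaf 3))) (.node (.node (.leaf 4) (.leaf 0)) (.node (.leaf 4) (.leaf 5))))) (.node (.node (.node (.node (.leaf 6) (.leaf 8)) (.node (.leaf 6) (.leaf 8))) (.node (.node (.leaf 3) (.leaf 2)) (.node (.leaf 6) (.leaf 4)))) (.node (.node (.node (.leaf 4) (.leaf 3)) (.node (.leaf 2) (.leaf 7))) (.node (.node (.leaf 2) (.leaf 6)) (.node (.leaf 2) (.leaf 5))))))) (.node (.node (.node (.node (.node (.node (.node (.leaf 4) (.leaf 4)) (.leaf 6)) (.node (.leaf 2) (.leaf 8))) (.node (.node (.leaf 0) (.leaf 7)) (.node (.leaf 4) (.leaf 7)))) (.node (.node (.node (.leaf 5) (.leaf 4)) (.node (.leaf 8) (.leaf 8))) (.node (.node (.leaf 3) (.leaf 7)) (.node (.leaf 5) (.leaf 7))))) (.node (.node (.node (.node (.leaf 5) (.leaf 7)) (.node (.leaf 4) (.leaf 5))) (.node (.node (.leaf 1) (.leaf 3)) (.node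 (.leaf 3) (.leaf 7)))) (.node (.node (.node (.leaf 1) (.leaf 5)) (.node (.leaf 4) (.leaf 2))) (.node (.node (.leaf 2) (.leaf 3)) (.node (.leaf 6) (.leaf 5)))))) (.node (.node (.node (.node (.node (.leaf 4) (.leaf 6)) (.node (.leaf 1) (.leaf 6))) (.node (.node (.leaf 0) (.leaf 4)) (.node (.leaf 4) (.leaf 5)))) (.node (.node (.node (.leaf 4) (.leaf 4)) (.node (.leaf 2) (.leaf 6))) (.node (.node (.leaf 4) (.leaf 4)) (.node (.leaf 3) (.leaf 4))))) (.node (.node (.node (.node (.leaf 1) (.leaf 4)) (.node (.leaf 1) (.leaf 5))) (.node (.node (.leaf 4) (.leaf 5)) (.node (.leaf 6) (.leaf 7)))) (.node (.node (.node (.leaf 1) (.leaf 5)) (.node (.leaf 4) (.leaf 5))) (.node (.node (.leaf 6) (.leaf 7)) (.node (.leaf 1) (.leaf 7)))))))) (.node (.node (.node (.node (.node (.node (.node (.node (.leaf 4) (.leaf 2)) (.leaf 6)) (.node (.leaf 2) (.leaf 3))) (.node (.node (.leaf 2) (.leaf 7)) (.node (.leaf 5) (.leaf 2)))) (.node (.node (.node (.leaf 2) (.leaf 5)) (.node (.leaf 5) (.leaf 3))) (.node (.node (.leaf 8) (.leaf 4)) (.node (.leaf 4) (.leaf 5))))) (.node (.node (.node (.node (.leaf 4) (.leaf 5)) (.node (.leaf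 4) (.leaf 4))) (.node (.node (.leaf 2) (.leaf 4)) (.node (.leaf 5) (.leaf 3)))) (.node (.node (.node (.leaf 0) (.leaf 4)) (.node (.leaf 0) (.leaf 8))) (.node (.node (.leaf 3) (.leaf 8)) (.node (.leaf 5) (.leaf 2)))))) (.node (.node (.node (.node (.node (.leaf 5) (.leaf 5)) (.node (.leaf 6) (.leaf 2))) (.node (.node (.leaf 4) (.leaf 4)) (.node (.leaf 5) (.leaf 7)))) (.node (.node (.node (.leaf 6) (.leaf 3)) (.node (.leaf 5) (.leaf 7))) (.node (.node (.leaf 7) (.leaf 4)) (.node (.leaf 2) (.leaf 7))))) (.node (.node (.node (.node (.leaf 0) (.leaf 3)) (.node (.leaf 1) (.leaf 3))) (.node (.node (.leaf 3) (.leaf 6)) (.node (.leaf 3) (.leaf 5)))) (.node (.node (.node (.leaf 3) (.leaf 1)) (.node (.leaf 8) (.leaf 3))) (.node (.node (.leaf 7) (.leaf 7)) (.node (.leaf 6) (.leaf 4))))))) (.node (.node (.node (.node (.node (.node (.node (.leaf 0) (.leaf 4)) (.leaf 2)) (.node (.leaf 5) (.leaf 1))) (.node (.node (.leaf 2) (.leaf 6)) (.node (.leaf 5) (.leaf 3)))) (.node (.node (.node (.leaf 1) (.leaf 6)) (.node (.leaf 1) (.leaf 6))) (.node (.node (.leaf 4) (.leaf 7)) (.node (.leaf 3) (.leaf 3))))) (.node (.node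 (.node (.node (.leaf 4) (.leaf 3)) (.node (.leaf 1) (.leaf 6))) (.node (.node (.leaf 3) (.leaf 5)) (.node (.leaf 4) (.leaf 3)))) (.node (.node (.node (.leaf 7) (.leaf 2)) (.node (.leaf 6) (.leaf 4))) (.node (.node (.leaf 2) (.leaf 1)) (.node (.leaf 4) (.leaf 4)))))) (.node (.node (.node (.node (.node (.leaf 4) (.leaf 3)) (.node (.leaf 3) (.leaf 2))) (.node (.node (.leaf 2) (.leaf 6)) (.node (.leaf 2) (.leaf 6)))) (.node (.node (.node (.leaf 1) (.leaf 6)) (.node (.leaf 2) (.leaf 1))) (.node (.node (.leaf 5) (.leaf 5)) (.node (.leaf 7) (.leaf 7))))) (.node (.node (.node (.node (.leaf 5) (.leaf 5)) (.node (.leaf 5) (.leaf 3))) (.node (.node (.leaf 3) (.leaf 7)) (.node (.leaf 6) (.leaf 7)))) (.node (.node (.node (.leaf 1) (.leaf 2)) (.node (.leaf 5) (.leaf 3))) (.node (.node (.leaf 1) (.leaf 7)) (.node (.leaf 2) (.leaf 2))))))))) (.node (.node (.node (.node (.node (.node (.node (.node (.node (.leaf 0) (.leaf 6)) (.leaf 3)) (.node (.leaf 1) (.leaf 5))) (.node (.node (.leaf 6) (.leaf 8)) (.node (.leaf 1) (.leaf 7)))) (.node (.node (.node (.leaf 1) (.leaf 4)) (.node (.leaf 7) (.leaf 7))) (.node (.node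 (.leaf 4) (.leaf 3)) (.node (.leaf 7) (.leaf 5))))) (.node (.node (.node (.node (.leaf 0) (.leaf 5)) (.node (.leaf 7) (.leaf 6))) (.node (.node (.leaf 2) (.leaf 6)) (.node (.leaf 8) (.leaf 3)))) (.node (.node (.node (.leaf 4) (.leaf 5)) (.node (.leaf 1) (.leaf 4))) (.node (.node (.leaf 4) (.leaf 4)) (.node (.leaf 4) (.leaf 3)))))) (.node (.node (.node (.node (.node (.leaf 3) (.leaf 4)) (.node (.leaf 6) (.leaf 2))) (.node (.node (.leaf 5) (.leaf 4)) (.node (.leaf 7) (.leaf 3)))) (.node (.node (.node (.leaf 2) (.leaf 6)) (.node (.leaf 4) (.leaf 7))) (.node (.node (.leaf 6) (.leaf 7)) (.node (.leaf 3) (.leaf 2))))) (.node (.node (.node (.node (.leaf 1) (.leaf 6)) (.node (.leaf 0) (.leaf 5))) (.node (.node (.leaf 3) (.leaf 3)) (.node (.leaf 8) (.leaf 4)))) (.node (.node (.node (.leaf 1) (.leaf 3)) (.node (.leaf 4) (.leaf 4))) (.node (.node (.leaf 3) (.leaf 5)) (.node (.leaf 7) (.leaf 8))))))) (.node (.node (.node (.node (.node (.node (.node (.leaf 5) (.leaf 6)) (.leaf 4)) (.node (.leaf 4) (.leaf 2))) (.node (.node (.leaf 3) (.leaf 4)) (.node (.leaf 5) (.leaf 3)))) (.node (.node (.node (.leaf 1)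 (.leaf 3)) (.node (.leaf 4) (.leaf 6))) (.node (.node (.leaf 6) (.leaf 6)) (.node (.leaf 3) (.leaf 5))))) (.node (.node (.node (.node (.leaf 0) (.leaf 5)) (.node (.leaf 6) (.leaf 3))) (.node (.node (.leaf 4) (.leaf 3)) (.node (.leaf 2) (.leaf 5)))) (.node (.node (.node (.leaf 4) (.leaf 4)) (.node (.leaf 5) (.leaf 3))) (.node (.node (.leaf 6) (.leaf 6)) (.node (.leaf 1) (.leaf 5)))))) (.node (.node (.node (.node (.node (.leaf 3) (.leaf 7)) (.node (.leaf 8) (.leaf 2))) (.node (.node (.leaf 1) (.leaf 2)) (.node (.leaf 1) (.leaf 4)))) (.node (.node (.node (.leaf 8) (.leaf 3)) (.node (.leaf 4) (.leaf 4))) (.node (.node (.leaf 1) (.leaf 1)) (.node (.leaf 7) (.leaf 3))))) (.node (.node (.node (.node (.leaf 0) (.leaf 3)) (.node (.leaf 4) (.leaf 1))) (.node (.node (.leaf 1) (.leaf 2)) (.node (.leaf 5) (.leaf 3)))) (.node (.node (.node (.leaf 6) (.leaf 4)) (.node (.leaf 4) (.leaf 6))) (.node (.node (.leaf 7) (.leaf 4)) (.node (.leaf 4) (.leaf 3)))))))) (.node (.node (.node (.node (.node (.node (.node (.node (.leaf 0) (.leaf 3)) (.leaf 5)) (.node (.leaf 3) (.leaf 8))) (.node (.node (.leaf 5) (.leaf 4))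 (.node (.leaf 6) (.leaf 4)))) (.node (.node (.node (.leaf 2) (.leaf 6)) (.node (.leaf 6) (.leaf 4))) (.node (.node (.leaf 4) (.leaf 6)) (.node (.leaf 2) (.leaf 8))))) (.node (.node (.node (.node (.leaf 5) (.leaf 4)) (.node (.leaf 4) (.leaf 2))) (.node (.node (.leaf 6) (.leaf 4)) (.node (.leaf 2) (.leaf 3)))) (.node (.node (.node (.leaf 1) (.leaf 8)) (.node (.leaf 6) (.leaf 1))) (.node (.node (.leaf 4) (.leaf 5)) (.node (.leaf 2) (.leaf 4)))))) (.node (.node (.node (.node (.node (.leaf 0) (.leaf 3)) (.node (.leaf 6) (.leaf 3))) (.node (.node (.leaf 2) (.leaf 4)) (.node (.leaf 4) (.leaf 1)))) (.node (.node (.node (.leaf 4) (.leaf 3)) (.node (.leaf 7) (.leaf 2))) (.node (.node (.leaf 6) (.leaf 4)) (.node (.leaf 4) (.leaf 6))))) (.node (.node (.node (.node (.leaf 0) (.leaf 7)) (.node (.leaf 3) (.leaf 1))) (.node (.node (.leaf 6) (.leaf 1)) (.node (.leaf 6) (.leaf 3)))) (.node (.node (.node (.leaf 0) (.leaf 8)) (.node (.leaf 4) (.leaf 2))) (.node (.node (.leaf 6) (.leaf 5)) (.node (.leaf 6) (.leaf 6))))))) (.node (.node (.node (.node (.node (.node (.node (.leaf 3) (.leaf 5)) (.leaf 8)) (.node (.leaf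 3) (.leaf 5))) (.node (.node (.leaf 5) (.leaf 1)) (.node (.leaf 1) (.leaf 6)))) (.node (.node (.node (.leaf 4) (.leaf 4)) (.node (.leaf 6) (.leaf 5))) (.node (.node (.leaf 3) (.leaf 2)) (.node (.leaf 5) (.leaf 7))))) (.node (.node (.node (.node (.leaf 8) (.leaf 7)) (.node (.leaf 4) (.leaf 7))) (.node (.node (.leaf 3) (.leaf 7)) (.node (.leaf 4) (.leaf 8)))) (.node (.node (.node (.leaf 2) (.leaf 5)) (.node (.leaf 3) (.leaf 4))) (.node (.node (.leaf 5) (.leaf 6)) (.node (.leaf 4) (.leaf 2)))))) (.node (.node (.node (.node (.node (.leaf 1) (.leaf 3)) (.node (.leaf 5) (.leaf 4))) (.node (.node (.leaf 4) (.leaf 3)) (.node (.leaf 6) (.leaf 2)))) (.node (.node (.node (.leaf 4) (.leaf 2)) (.node (.leaf 3) (.leaf 2))) (.node (.node (.leaf 3) (.leaf 3)) (.node (.leaf 5) (.leaf 5))))) (.node (.node (.node (.node (.leaf 3) (.leaf 5)) (.node (.leaf 0) (.leaf 6))) (.node (.node (.leaf 5) (.leaf 4)) (.node (.leaf 4) (.leaf 5)))) (.node (.node (.node (.leaf 6) (.leaf 5)) (.node (.leaf 5) (.leaf 6))) (.node (.node (.leaf 2) (.leaf 2)) (.node (.leaf 4) (.leaf 6)))))))))))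

/-- Part of a table. -/
noncomputable def fixRankR : BTree := (.node (.node (.node (.node (.node (.node (.node (.node (.node (.node (.node (.leaf 4) (.leaf 4)) (.leaf 4)) (.node (.leaf 5) (.leaf 6))) (.node (.node (.leaf 1) (.leaf 3)) (.node (.leaf 7) (.leaf 3)))) (.node (.node (.node (.leaf 4) (.leaf 5)) (.node (.leaf 4) (.leaf 5))) (.node (.node (.leaf 1) (.leaf 2)) (.node (.leaf 1) (.leaf 6))))) (.node (.node (.node (.node (.leaf 0) (.leaf 6)) (.node (.leaf 6) (.leaf 7))) (.node (.node (.leaf 4) (.leaf 3)) (.node (.leaf 4) (.leaf 8)))) (.node (.node (.node (.leaf 5) (.leaf 6)) (.node (.leaf 1) (.leaf 8))) (.node (.node (.leaf 6) (.leaf 5)) (.node (.leaf 2) (.leaf 7)))))) (.node (.node (.node (.node (.node (.leaf 3) (.leaf 4)) (.node (.leaf 5) (.leaf 8))) (.node (.node (.leaf 1) (.leaf 2)) (.node (.leaf 7) (.leaf 1)))) (.node (.node (.node (.leaf 7) (.leaf 3)) (.node (.leaf 5) (.leaf 3))) (.node (.node (.leaf 2) (.leaf 6)) (.node (.leaf 6) (.leaf 5))))) (.node (.node (.node (.node (.leaf 5) (.leaf 5)) (.node (.leaf 4) (.leaf 4))) (.node (.node (.leaf 2) (.leaf 3)) (.node (.leaf 5) (.leaf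 3)))) (.node (.node (.node (.leaf 2) (.leaf 2)) (.node (.leaf 4) (.leaf 1))) (.node (.node (.leaf 3) (.leaf 3)) (.node (.leaf 6) (.leaf 4))))))) (.node (.node (.node (.node (.node (.node (.node (.leaf 4) (.leaf 6)) (.leaf 3)) (.node (.leaf 7) (.leaf 6))) (.node (.node (.leaf 4) (.leaf 7)) (.node (.leaf 6) (.leaf 5)))) (.node (.node (.node (.leaf 5) (.leaf 4)) (.node (.leaf 3) (.leaf 6))) (.node (.node (.leaf 5) (.leaf 7)) (.node (.leaf 3) (.leaf 8))))) (.node (.node (.node (.node (.leaf 3) (.leaf 6)) (.node (.leaf 3) (.leaf 6))) (.node (.node (.leaf 4) (.leaf 4)) (.node (.leaf 4) (.leaf 4)))) (.node (.node (.node (.leaf 0) (.leaf 4)) (.node (.leaf 0) (.leaf 4))) (.node (.node (.leaf 3) (.leaf 3)) (.node (.leaf 7) (.leaf 3)))))) (.node (.node (.node (.node (.node (.leaf 2) (.leaf 2)) (.node (.leaf 1) (.leaf 4))) (.node (.node (.leaf 1) (.leaf 7)) (.node (.leaf 1) (.leaf 5)))) (.node (.node (.node (.leaf 5) (.leaf 5)) (.node (.leaf 2) (.leaf 6))) (.node (.node (.leaf 8) (.leaf 5)) (.node (.leaf 7) (.leaf 6))))) (.node (.node (.node (.node (.leaf 4) (.leaf 3)) (.node (.leaf 7) (.leaf 3))) (.node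 (.node (.leaf 2) (.leaf 2)) (.node (.leaf 4) (.leaf 8)))) (.node (.node (.node (.leaf 6) (.leaf 3)) (.node (.leaf 2) (.leaf 2))) (.node (.node (.leaf 8) (.leaf 6)) (.node (.leaf 2) (.leaf 6)))))))) (.node (.node (.node (.node (.node (.node (.node (.node (.leaf 0) (.leaf 4)) (.leaf 5)) (.node (.leaf 4) (.leaf 6))) (.node (.node (.leaf 1) (.leaf 4)) (.node (.leaf 3) (.leaf 5)))) (.node (.node (.node (.leaf 0) (.leaf 5)) (.node (.leaf 7) (.leaf 2))) (.node (.node (.leaf 6) (.leaf 3)) (.node (.leaf 6) (.leaf 5))))) (.node (.node (.node (.node (.leaf 1) (.leaf 6)) (.node (.leaf 6) (.leaf 7))) (.node (.node (.leaf 3) (.leaf 2)) (.node (.leaf 8) (.leaf 5)))) (.node (.node (.node (.leaf 0) (.leaf 4)) (.node (.leaf 6) (.leaf 6))) (.node (.node (.leaf 6) (.leaf 6)) (.node (.leaf 1) (.leaf 6)))))) (.node (.node (.node (.node (.node (.leaf 4) (.leaf 3)) (.node (.leaf 5) (.leaf 2))) (.node (.node (.leaf 4) (.leaf 1)) (.node (.leaf 2) (.leaf 7)))) (.node (.node (.node (.leaf 3) (.leaf 3)) (.node (.leaf 4) (.leaf 3))) (.node (.node (.leaf 4) (.leaf 7)) (.node (.leaf 5) (.leaf 6))))) (.node (.node (.node (.node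 (.leaf 4) (.leaf 4)) (.node (.leaf 4) (.leaf 1))) (.node (.node (.leaf 5) (.leaf 3)) (.node (.leaf 2) (.leaf 4)))) (.node (.node (.node (.leaf 1) (.leaf 7)) (.node (.leaf 2) (.leaf 2))) (.node (.node (.leaf 1) (.leaf 2)) (.node (.leaf 4) (.leaf 2))))))) (.node (.node (.node (.node (.node (.node (.node (.leaf 0) (.leaf 7)) (.leaf 5)) (.node (.leaf 3) (.leaf 4))) (.node (.node (.leaf 0) (.leaf 7)) (.node (.leaf 3) (.leaf 3)))) (.node (.node (.node (.leaf 4) (.leaf 4)) (.node (.leaf 3) (.leaf 4))) (.node (.node (.leaf 4) (.leaf 2)) (.node (.leaf 5) (.leaf 7))))) (.node (.node (.node (.node (.leaf 1) (.leaf 0)) (.node (.leaf 4) (.leaf 7))) (.node (.node (.leaf 1) (.leaf 4)) (.node (.leaf 1) (.leaf 8)))) (.node (.node (.node (.leaf 3) (.leaf 6)) (.node (.leaf 4) (.leaf 3))) (.node (.node (.leaf 3) (.leaf 5)) (.node (.leaf 3) (.leaf 7)))))) (.node (.node (.node (.node (.node (.leaf 0) (.leaf 4)) (.node (.leaf 2) (.leaf 4))) (.node (.node (.leaf 6) (.leaf 7)) (.node (.leaf 5) (.leaf 3)))) (.node (.node (.node (.leaf 3) (.leaf 3)) (.node (.leaf 2) (.leaf 5))) (.node (.node (.leaf 4) (.leaf 4)) (.node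 (.leaf 6) (.leaf 3))))) (.node (.node (.node (.node (.leaf 4) (.leaf 5)) (.node (.leaf 2) (.leaf 4))) (.node (.node (.leaf 5) (.leaf 3)) (.node (.leaf 6) (.leaf 2)))) (.node (.node (.node (.leaf 1) (.leaf 5)) (.node (.leaf 6) (.leaf 2))) (.node (.node (.leaf 8) (.leaf 3)) (.node (.leaf 5) (.leaf 2))))))))) (.node (.node (.node (.node (.node (.node (.node (.node (.node (.leaf 0) (.leaf 3)) (.leaf 6)) (.node (.leaf 4) (.leaf 6))) (.node (.node (.leaf 0) (.leaf 4)) (.node (.leaf 3) (.leaf 5)))) (.node (.node (.node (.leaf 1) (.leaf 4)) (.node (.leaf 2) (.leaf 8))) (.node (.node (.leaf 5) (.leaf 4)) (.node (.leaf 4) (.leaf 6))))) (.node (.node (.node (.node (.leaf 5) (.leaf 4)) (.node (.leaf 4) (.leaf 6))) (.node (.node (.leaf 3) (.leaf 5)) (.node (.leaf 5) (.leaf 7)))) (.node (.node (.node (.leaf 0) (.leaf 2)) (.node (.leaf 3) (.leaf 4))) (.node (.node (.leaf 4) (.leaf 3)) (.node (.leaf 3) (.leaf 4)))))) (.node (.node (.node (.node (.node (.leaf 2) (.leaf 3)) (.node (.leaf 7) (.leaf 4))) (.node (.node (.leaf 7) (.leaf 8)) (.node (.leaf 4) (.leaf 6)))) (.node (.node (.node (.leaf 2) (.leaf 6)) (.node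 (.leaf 2) (.leaf 3))) (.node (.node (.leaf 3) (.leaf 7)) (.node (.leaf 8) (.leaf 4))))) (.node (.node (.node (.node (.leaf 3) (.leaf 5)) (.node (.leaf 4) (.leaf 4))) (.node (.node (.leaf 8) (.leaf 2)) (.node (.leaf 3) (.leaf 1)))) (.node (.node (.node (.leaf 2) (.leaf 3)) (.node (.leaf 2) (.leaf 8))) (.node (.node (.leaf 2) (.leaf 5)) (.node (.leaf 3) (.leaf 3))))))) (.node (.node (.node (.node (.node (.node (.node (.leaf 1) (.leaf 6)) (.leaf 3)) (.node (.leaf 3) (.leaf 7))) (.node (.node (.leaf 0) (.leaf 2)) (.node (.leaf 1) (.leaf 6)))) (.node (.node (.node (.leaf 3) (.leaf 5)) (.node (.leaf 1) (.leaf 5))) (.node (.node (.leaf 2) (.leaf 3)) (.node (.leaf 7) (.leaf 8))))) (.node (.node (.node (.node (.leaf 5) (.leaf 0)) (.node (.leaf 4) (.leaf 7))) (.node (.node (.leaf 1) (.leaf 5)) (.node (.leaf 2) (.leaf 1)))) (.node (.node (.node (.leaf 2) (.leaf 2)) (.node (.leaf 2) (.leaf 6))) (.node (.node (.leaf 5) (.leaf 3)) (.node (.leaf 1) (.leaf 3)))))) (.node (.node (.node (.node (.node (.leaf 6) (.leaf 6)) (.node (.leaf 1) (.leaf 7))) (.node (.node (.leaf 3) (.leaf 4)) (.node (.leaf 4) (.leaf 3))))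 (.node (.node (.node (.leaf 1) (.leaf 2)) (.node (.leaf 3) (.leaf 7))) (.node (.node (.leaf 3) (.leaf 4)) (.node (.leaf 3) (.leaf 6))))) (.node (.node (.node (.node (.leaf 5) (.leaf 5)) (.node (.leaf 2) (.leaf 7))) (.node (.node (.leaf 0) (.leaf 4)) (.node (.leaf 5) (.leaf 4)))) (.node (.node (.node (.leaf 4) (.leaf 2)) (.node (.leaf 2) (.leaf 7))) (.node (.node (.leaf 1) (.leaf 1)) (.node (.leaf 2) (.leaf 5)))))))) (.node (.node (.node (.node (.node (.node (.node (.node (.leaf 0) (.leaf 3)) (.leaf 4)) (.node (.leaf 5) (.leaf 2))) (.node (.node (.leaf 7) (.leaf 3)) (.node (.leaf 4) (.leaf 5)))) (.node (.node (.node (.leaf 0) (.leaf 2)) (.node (.leaf 3) (.leaf 8))) (.node (.node (.leaf 4) (.leaf 6)) (.node (.leaf 4) (.leaf 7))))) (.node (.node (.node (.node (.leaf 3) (.leaf 4)) (.node (.leaf 7) (.leaf 5))) (.node (.node (.leaf 4) (.leaf 2)) (.node (.leaf 4) (.leaf 5)))) (.node (.node (.node (.leaf 0) (.leaf 6)) (.node (.leaf 4) (.leaf 8))) (.node (.node (.leaf 2) (.leaf 5)) (.node (.leaf 4) (.leaf 3)))))) (.node (.node (.node (.node (.node (.leaf 5) (.leaf 2)) (.node (.leaf 3) (.leaf 7))) (.node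 (.node (.leaf 1) (.leaf 7)) (.node (.leaf 7) (.leaf 2)))) (.node (.node (.node (.leaf 8) (.leaf 4)) (.node (.leaf 5) (.leaf 5))) (.node (.node (.leaf 2) (.leaf 5)) (.node (.leaf 5) (.leaf 4))))) (.node (.node (.node (.node (.leaf 1) (.leaf 1)) (.node (.leaf 4) (.leaf 6))) (.node (.node (.leaf 6) (.leaf 3)) (.node (.leaf 6) (.leaf 6)))) (.node (.node (.node (.leaf 5) (.leaf 5)) (.node (.leaf 6) (.leaf 4))) (.node (.node (.leaf 4) (.leaf 4)) (.node (.leaf 4) (.leaf 4))))))) (.node (.node (.node (.node (.node (.node (.node (.leaf 0) (.leaf 6)) (.leaf 3)) (.node (.leaf 6) (.leaf 5))) (.node (.node (.leaf 6) (.leaf 2)) (.node (.leaf 3) (.leaf 3)))) (.node (.node (.node (.leaf 0) (.leaf 6)) (.node (.leaf 8) (.leaf 5))) (.node (.node (.leaf 8) (.leaf 5)) (.node (.leaf 4) (.leaf 6))))) (.node (.node (.node (.node (.leaf 4) (.leaf 3)) (.node (.leaf 4) (.leaf 4))) (.node (.node (.leaf 1) (.leaf 4)) (.node (.leaf 2) (.leaf 5)))) (.node (.node (.node (.leaf 6) (.leaf 4)) (.node (.leaf 4) (.leaf 4))) (.node (.node (.leaf 8) (.leaf 3)) (.node (.leaf 6) (.leaf 4)))))) (.node (.node (.node (.node (.node (.leaf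 4) (.leaf 5)) (.node (.leaf 4) (.leaf 3))) (.node (.node (.leaf 5) (.leaf 5)) (.node (.leaf 3) (.leaf 4)))) (.node (.node (.node (.leaf 0) (.leaf 5)) (.node (.leaf 5) (.leaf 6))) (.node (.node (.leaf 6) (.leaf 5)) (.node (.leaf 6) (.leaf 6))))) (.node (.node (.node (.node (.leaf 2) (.leaf 4)) (.node (.leaf 3) (.leaf 5))) (.node (.node (.leaf 4) (.leaf 8)) (.node (.leaf 4) (.leaf 7)))) (.node (.node (.node (.leaf 8) (.leaf 6)) (.node (.leaf 3) (.leaf 5))) (.node (.node (.leaf 3) (.leaf 3)) (.node (.leaf 3) (.leaf 7)))))))))) (.node (.node (.node (.node (.node (.node (.node (.node (.node (.node (.leaf 0) (.leaf 6)) (.leaf 6)) (.node (.leaf 1) (.leaf 1))) (.node (.node (.leaf 5) (.leaf 2)) (.node (.leaf 4) (.leaf 1)))) (.node (.node (.node (.leaf 0) (.leaf 6)) (.node (.leaf 7) (.leaf 1))) (.node (.node (.leaf 4) (.leaf 3)) (.node (.leaf 5) (.leaf 6))))) (.node (.node (.node (.node (.leaf 0) (.leaf 2)) (.node (.leaf 3) (.leaf 7))) (.node (.node (.leaf 2) (.leaf 4)) (.node (.leaf 4) (.leaf 4)))) (.node (.node (.node (.leaf 5) (.leaf 4)) (.node (.leaf 6) (.leaf 1))) (.node (.node (.leaf 6) (.leaf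 1)) (.node (.leaf 6) (.leaf 7)))))) (.node (.node (.node (.node (.node (.leaf 0) (.leaf 3)) (.node (.leaf 4) (.leaf 3))) (.node (.node (.leaf 4) (.leaf 1)) (.node (.leaf 6) (.leaf 4)))) (.node (.node (.node (.leaf 1) (.leaf 1)) (.node (.leaf 4) (.leaf 5))) (.node (.node (.leaf 3) (.leaf 6)) (.node (.leaf 3) (.leaf 4))))) (.node (.node (.node (.node (.leaf 1) (.leaf 2)) (.node (.leaf 7) (.leaf 5))) (.node (.node (.leaf 4) (.leaf 3)) (.node (.leaf 4) (.leaf 5)))) (.node (.node (.node (.leaf 4) (.leaf 8)) (.node (.leaf 7) (.leaf 7))) (.node (.node (.leaf 3) (.leaf 3)) (.node (.leaf 1) (.leaf 2))))))) (.node (.node (.node (.node (.node (.node (.node (.leaf 0) (.leaf 6)) (.leaf 4)) (.node (.leaf 8) (.leaf 5))) (.node (.node (.leaf 1) (.leaf 5)) (.node (.leaf 3) (.leaf 5)))) (.node (.node (.node (.leaf 1) (.leaf 5)) (.node (.leaf 5) (.leaf 3))) (.node (.node (.leaf 5) (.leaf 5)) (.node (.leaf 4) (.leaf 5))))) (.node (.node (.node (.node (.leaf 6) (.leaf 6)) (.node (.leaf 5) (.leaf 5))) (.node (.node (.leaf 0) (.leaf 3)) (.node (.leaf 3) (.leaf 2)))) (.node (.node (.node (.leaf 5) (.leaf 7)) (.node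 (.leaf 3) (.leaf 3))) (.node (.node (.leaf 1) (.leaf 8)) (.node (.leaf 1) (.leaf 7)))))) (.node (.node (.node (.node (.node (.leaf 0) (.leaf 5)) (.node (.leaf 1) (.leaf 2))) (.node (.node (.leaf 2) (.leaf 3)) (.node (.leaf 4) (.leaf 2)))) (.node (.node (.node (.leaf 1) (.leaf 5)) (.node (.leaf 2) (.leaf 7))) (.node (.node (.leaf 3) (.leaf 3)) (.node (.leaf 6) (.leaf 2))))) (.node (.node (.node (.node (.leaf 4) (.leaf 4)) (.node (.leaf 4) (.leaf 6))) (.node (.node (.leaf 5) (.leaf 6)) (.node (.leaf 7) (.leaf 5)))) (.node (.node (.node (.leaf 3) (.leaf 3)) (.node (.leaf 2) (.leaf 4))) (.node (.node (.leaf 1) (.leaf 6)) (.node (.leaf 3) (.leaf 3)))))))) (.node (.node (.node (.node (.node (.node (.node (.node (.leaf 0) (.leaf 3)) (.leaf 4)) (.node (.leaf 3) (.leaf 5))) (.node (.node (.leaf 5) (.leaf 6)) (.node (.leaf 4) (.leaf 5)))) (.node (.node (.node (.leaf 1) (.leaf 3)) (.node (.leaf 5) (.leaf 6))) (.node (.node (.leaf 7) (.leaf 3)) (.node (.leaf 3) (.leaf 3))))) (.node (.node (.node (.node (.leaf 2) (.leaf 3)) (.node (.leaf 4) (.leaf 7))) (.node (.node (.leaf 5) (.leaf 7)) (.node (.leaf 4)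 (.leaf 2)))) (.node (.node (.node (.leaf 2) (.leaf 4)) (.node (.leaf 3) (.leaf 6))) (.node (.node (.leaf 8) (.leaf 8)) (.node (.leaf 5) (.leaf 7)))))) (.node (.node (.node (.node (.node (.leaf 1) (.leaf 3)) (.node (.leaf 2) (.leaf 5))) (.node (.node (.leaf 5) (.leaf 2)) (.node (.leaf 3) (.leaf 7)))) (.node (.node (.node (.leaf 2) (.leaf 4)) (.node (.leaf 2) (.leaf 4))) (.node (.node (.leaf 0) (.leaf 7)) (.node (.leaf 5) (.leaf 6))))) (.node (.node (.node (.node (.leaf 1) (.leaf 3)) (.node (.leaf 2) (.leaf 1))) (.node (.node (.leaf 6) (.leaf 5)) (.node (.leaf 1) (.leaf 6)))) (.node (.node (.node (.leaf 1) (.leaf 3)) (.node (.leaf 4) (.leaf 6))) (.node (.node (.leaf 5) (.leaf 6)) (.node (.leaf 5) (.leaf 6))))))) (.node (.node (.node (.node (.node (.node (.node (.leaf 4) (.leaf 1)) (.leaf 4)) (.node (.leaf 3) (.leaf 2))) (.node (.node (.leaf 4) (.leaf 4)) (.node (.leaf 4) (.leaf 4)))) (.node (.node (.node (.leaf 7) (.leaf 5)) (.node (.leaf 2) (.leaf 7))) (.node (.node (.leaf 8) (.leaf 5)) (.node (.leaf 8) (.leaf 2))))) (.node (.node (.node (.node (.leaf 4) (.leaf 4)) (.node (.leaf 5) (.leaf 7)))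 (.node (.node (.leaf 1) (.leaf 3)) (.node (.leaf 2) (.leaf 6)))) (.node (.node (.node (.leaf 4) (.leaf 8)) (.node (.leaf 2) (.leaf 3))) (.node (.node (.leaf 5) (.leaf 6)) (.node (.leaf 5) (.leaf 5)))))) (.node (.node (.node (.node (.node (.leaf 0) (.leaf 3)) (.node (.leaf 4) (.leaf 5))) (.node (.node (.leaf 7) (.leaf 5)) (.node (.leaf 5) (.leaf 4)))) (.node (.node (.node (.leaf 5) (.leaf 7)) (.node (.leaf 4) (.leaf 4))) (.node (.node (.leaf 4) (.leaf 2)) (.node (.leaf 2) (.leaf 7))))) (.node (.node (.node (.node (.leaf 0) (.leaf 2)) (.node (.leaf 6) (.leaf 8))) (.node (.node (.leaf 2) (.leaf 5)) (.node (.leaf 6) (.leaf 7)))) (.node (.node (.node (.leaf 4) (.leaf 1)) (.node (.leaf 4) (.leaf 5))) (.node (.node (.leaf 6) (.leaf 7)) (.node (.leaf 3) (.leaf 4))))))))) (.node (.node (.node (.node (.node (.node (.node (.node (.node (.leaf 4) (.leaf 5)) (.leaf 5)) (.node (.leaf 2) (.leaf 6))) (.node (.node (.leaf 3) (.leaf 2)) (.node (.leaf 8) (.leaf 2)))) (.node (.node (.node (.leaf 4) (.leaf 2)) (.node (.leaf 3) (.leaf 4))) (.node (.node (.leaf 1) (.leaf 1)) (.node (.leaf 4) (.leaf 3))))) (.node (.node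 (.node (.node (.leaf 1) (.leaf 2)) (.node (.leaf 4) (.leaf 3))) (.node (.node (.leaf 6) (.leaf 3)) (.node (.leaf 6) (.leaf 5)))) (.node (.node (.node (.leaf 1) (.leaf 6)) (.node (.leaf 4) (.leaf 6))) (.node (.node (.leaf 7) (.leaf 3)) (.node (.leaf 5) (.leaf 2)))))) (.node (.node (.node (.node (.node (.leaf 1) (.leaf 0)) (.node (.leaf 5) (.leaf 2))) (.node (.node (.leaf 4) (.leaf 5)) (.node (.leaf 6) (.leaf 3)))) (.node (.node (.node (.leaf 1) (.leaf 4)) (.node (.leaf 0) (.leaf 3))) (.node (.node (.leaf 6) (.leaf 2)) (.node (.leaf 5) (.leaf 5))))) (.node (.node (.node (.node (.leaf 4) (.leaf 6)) (.node (.leaf 1) (.leaf 4))) (.node (.node (.leaf 1) (.leaf 2)) (.node (.leaf 4) (.leaf 5)))) (.node (.node (.node (.leaf 0) (.leaf 3)) (.node (.leaf 2) (.leaf 6))) (.node (.node (.leaf 6) (.leaf 4)) (.node (.leaf 3) (.leaf 4))))))) (.node (.node (.node (.node (.node (.node (.node (.leaf 0) (.leaf 4)) (.leaf 3)) (.node (.leaf 3) (.leaf 7))) (.node (.node (.leaf 6) (.leaf 1)) (.node (.leaf 7) (.leaf 3)))) (.node (.node (.node (.leaf 3) (.leaf 3)) (.node (.leaf 4) (.leaf 2))) (.node (.node (.leaf 5) (.leaf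 3)) (.node (.leaf 1) (.leaf 3))))) (.node (.node (.node (.node (.leaf 6) (.leaf 3)) (.node (.leaf 2) (.leaf 2))) (.node (.node (.leaf 5) (.leaf 1)) (.node (.leaf 4) (.leaf 3)))) (.node (.node (.node (.leaf 6) (.leaf 5)) (.node (.leaf 6) (.leaf 6))) (.node (.node (.leaf 0) (.leaf 6)) (.node (.leaf 4) (.leaf 7)))))) (.node (.node (.node (.node (.node (.leaf 1) (.leaf 3)) (.node (.leaf 6) (.leaf 3))) (.node (.node (.leaf 2) (.leaf 5)) (.node (.leaf 7) (.leaf 4)))) (.node (.node (.node (.leaf 1) (.leaf 7)) (.node (.leaf 3) (.leaf 5))) (.node (.node (.leaf 3) (.leaf 2)) (.node (.leaf 4) (.leaf 5))))) (.node (.node (.node (.node (.leaf 0) (.leaf 2)) (.node (.leaf 6) (.leaf 5))) (.node (.node (.leaf 2) (.leaf 4)) (.node (.leaf 4) (.leaf 3)))) (.node (.node (.node (.leaf 5) (.leaf 5)) (.node (.leaf 1) (.leaf 3))) (.node (.node (.leaf 6) (.leaf 5)) (.node (.leaf 5) (.leaf 7)))))))) (.node (.node (.node (.node (.node (.node (.node (.node (.leaf 1) (.leaf 5)) (.leaf 6)) (.node (.leaf 3) (.leaf 5))) (.node (.node (.leaf 7) (.leaf 5)) (.node (.leaf 5) (.leaf 4)))) (.node (.node (.node (.leaf 0) (.leaf 2))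 (.node (.leaf 4) (.leaf 3))) (.node (.node (.leaf 7) (.leaf 5)) (.node (.leaf 5) (.leaf 6))))) (.node (.node (.node (.node (.leaf 0) (.leaf 1)) (.node (.leaf 7) (.leaf 2))) (.node (.node (.leaf 0) (.leaf 4)) (.node (.leaf 4) (.leaf 5)))) (.node (.node (.node (.leaf 4) (.leaf 4)) (.node (.leaf 6) (.leaf 2))) (.node (.node (.leaf 3) (.leaf 6)) (.node (.leaf 6) (.leaf 2)))))) (.node (.node (.node (.node (.node (.leaf 1) (.leaf 5)) (.node (.leaf 1) (.leaf 8))) (.node (.node (.leaf 4) (.leaf 4)) (.node (.leaf 3) (.leaf 3)))) (.node (.node (.node (.leaf 8) (.leaf 3)) (.node (.leaf 4) (.leaf 3))) (.node (.node (.leaf 8) (.leaf 4)) (.node (.leaf 7) (.leaf 6))))) (.node (.node (.node (.node (.leaf 4) (.leaf 2)) (.node (.leaf 4) (.leaf 8))) (.node (.node (.leaf 6) (.leaf 3)) (.node (.leaf 4) (.leaf 5)))) (.node (.node (.node (.leaf 0) (.leaf 4)) (.node (.leaf 4) (.leaf 3))) (.node (.node (.leaf 3) (.leaf 5)) (.node (.leaf 0) (.leaf 4))))))) (.node (.node (.node (.node (.node (.node (.node (.leaf 1) (.leaf 6)) (.leaf 3)) (.node (.leaf 8) (.leaf 3))) (.node (.node (.leaf 3) (.leaf 5)) (.node (.leaf 5) (.leaf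 3)))) (.node (.node (.node (.leaf 4) (.leaf 6)) (.node (.leaf 5) (.leaf 3))) (.node (.node (.leaf 0) (.leaf 3)) (.node (.leaf 1) (.leaf 7))))) (.node (.node (.node (.node (.leaf 0) (.leaf 4)) (.node (.leaf 4) (.leaf 6))) (.node (.node (.leaf 5) (.leaf 4)) (.node (.leaf 2) (.leaf 2)))) (.node (.node (.node (.leaf 1) (.leaf 5)) (.node (.leaf 3) (.leaf 4))) (.node (.node (.leaf 6) (.leaf 3)) (.node (.leaf 5) (.leaf 3)))))) (.node (.node (.node (.node (.node (.leaf 1) (.leaf 3)) (.node (.leaf 2) (.leaf 5))) (.node (.node (.leaf 2) (.leaf 3)) (.node (.leaf 4) (.leaf 8)))) (.node (.node (.node (.leaf 2) (.leaf 5)) (.node (.leaf 5) (.leaf 5))) (.node (.node (.leaf 5) (.leaf 3)) (.node (.leaf 4) (.leaf 4))))) (.node (.node (.node (.node (.leaf 3) (.leaf 7)) (.node (.leaf 3) (.leaf 1))) (.node (.node (.leaf 2) (.leaf 2)) (.node (.leaf 3) (.leaf 4)))) (.node (.node (.node (.leaf 2) (.leaf 2)) (.node (.leaf 5) (.leaf 4))) (.node (.node (.leaf 3) (.leaf 4)) (.node (.leaf 7) (.leaf 6)))))))))))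

/-- A table. -/
noncomputable def fixRank : BTree := .node fixRankL fixRankR

/-- Representatives: number, word, members with small meet, a word with a 13-cycle, a point. -/
def fixReps : List (ℕ × List ℕ × List ℕ × List ℕ × ℕ) :=
  [(0, [], [0, 39], [], 0),
   (3, [3, 2], [3, 12], [], 0),
   (5, [3, 1, 2], [5, 31], [], 0),
   (6, [5, 1, 2], [], [0, 2], 0),
   (9, [3, 0, 1, 2], [9, 28], [], 0),
   (11, [2, 3, 1, 2], [11, 75], [], 0),
   (13, [5, 3, 1, 2], [], [0, 2, 1, 2], 0),
   (14, [0, 1, 0, 1, 2], [14, 2060], [], 0),
   (19, [5, 3, 0, 1, 2], [], [0, 1, 2, 2], 0),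
   (23, [5, 2, 3, 1, 2], [], [2, 2, 0, 0, 1], 0),
   (24, [5, 4, 3, 1, 2], [], [2, 1, 1], 0),
   (25, [3, 0, 1, 0, 1, 2], [25, 1513], [], 0),
   (26, [5, 0, 1, 0, 1, 2], [], [0, 2, 0], 0),
   (29, [5, 3, 1, 0, 1, 2], [], [0, 0, 2, 0], 0),
   (32, [3, 2, 3, 0, 1, 2], [32, 1143], [], 0),
   (35, [5, 4, 3, 0, 1, 2], [], [0, 0, 2, 1], 0),
   (40, [5, 1, 2, 3, 1, 2], [], [2, 1, 0, 2], 0),
   (46, [5, 3, 0, 1, 0, 1, 2], [], [1, 1, 2, 2], 0),
   (51, [5, 2, 3, 1, 0, 1, 2], [], [2, 0, 0, 1, 2], 0),
   (52, [5, 4, 3, 1, 0, 1, 2], [], [0, 0, 2, 0], 0),
   (57, [5, 1, 2, 3, 0, 1, 2], [], [2, 0, 1, 0, 2], 0),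
   (59, [5, 3, 2, 3, 0, 1, 2], [], [1, 2, 0, 2], 0),
   (60, [3, 4, 2, 3, 0, 1, 2], [60, 96], [], 0),
   (64, [0, 1, 5, 3, 0, 1, 2], [], [2, 0], 0),
   (65, [2, 1, 5, 3, 0, 1, 2], [], [0, 2, 2], 0),
   (67, [3, 2, 1, 5, 0, 1, 2], [], [1, 2, 2, 1, 2, 0], 0),
   (68, [2, 3, 1, 2, 3, 1, 2], [68, 99], [], 0),
   (70, [5, 3, 1, 2, 3, 1, 2], [], [1, 2, 1], 0),
   (79, [5, 4, 3, 0, 1, 0, 1, 2], [], [1, 1, 2, 0], 0),
   (84, [5, 1, 2, 3, 1, 0, 1, 2], [], [2, 0, 2], 0),
   (86, [5, 3, 2, 3, 1, 0, 1, 2], [], [1, 2, 1], 0),
   (88, [5, 4, 2, 3, 1, 0, 1, 2], [], [0, 1, 2], 0),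
   (95, [5, 0, 1, 2, 3, 0, 1, 2], [], [2, 1], 0),
   (100, [5, 4, 1, 2, 3, 0, 1, 2], [], [2, 1], 0),
   (106, [5, 3, 4, 2, 3, 0, 1, 2], [], [1, 0, 2], 0),
   (110, [0, 1, 5, 4, 3, 0, 1, 2], [], [2, 0], 0),
   (118, [5, 2, 3, 1, 2, 3, 1, 2], [], [1, 2, 1, 0], 0),
   (119, [5, 4, 3, 1, 2, 3, 1, 2], [], [0, 2, 0, 2], 0),
   (123, [0, 1, 5, 3, 2, 3, 1, 2], [], [2, 1, 1, 1], 0),
   (124, [2, 1, 5, 3, 2, 3, 1, 2], [], [1, 2, 2], 0),
   (131, [3, 4, 2, 3, 0, 1, 0, 1, 2], [131, 1460], [], 0),
   (137, [3, 0, 1, 2, 3, 1, 0, 1, 2], [137, 1128], [], 0),
   (141, [5, 3, 1, 2, 3, 1, 0, 1, 2], [], [0, 2, 1, 2], 0),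
   (143, [5, 4, 1, 2, 3, 1, 0, 1, 2], [], [2, 2, 1], 0),
   (157, [5, 1, 0, 1, 2, 3, 0, 1, 2], [], [2, 1, 0], 0),
   (162, [5, 4, 0, 1, 2, 3, 0, 1, 2], [], [2, 0], 0),
   (176, [5, 3, 4, 3, 2, 3, 0, 1, 2], [], [2, 1, 0, 0], 0),
   (189, [3, 2, 1, 5, 4, 3, 0, 1, 2], [], [2, 0, 1], 0),
   (197, [3, 4, 2, 3, 1, 2, 3, 1, 2], [197, 1000], [], 0),
   (201, [0, 1, 5, 3, 1, 2, 3, 1, 2], [], [0, 1, 0, 2], 0),
   (202, [2, 1, 5, 3, 1, 2, 3, 1, 2], [], [2, 1], 0),
   (204, [0, 1, 5, 4, 3, 2, 3, 1, 2], [], [1, 2, 2], 0),
   (205, [2, 1, 5, 4, 3, 2, 3, 1, 2], [], [1, 2, 1], 0),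
   (209, [0, 1, 0, 1, 5, 2, 3, 1, 2], [], [1, 2, 1, 0], 0),
   (231, [4, 3, 0, 1, 2, 3, 1, 0, 1, 2], [231, 1055], [], 0),
   (238, [5, 4, 3, 1, 2, 3, 1, 0, 1, 2], [], [2, 0, 0], 0),
   (239, [1, 5, 3, 1, 2, 3, 1, 0, 1, 2], [], [2, 0, 2, 1], 0),
   (248, [0, 1, 5, 3, 2, 3, 1, 0, 1, 2], [], [2, 1, 2], 0),
   (261, [5, 0, 1, 0, 1, 2, 3, 0, 1, 2], [], [1, 0, 2], 0),
   (274, [5, 3, 4, 0, 1, 2, 3, 0, 1, 2], [], [2, 1, 1, 2, 1], 0),
   (276, [0, 1, 5, 0, 1, 2, 3, 0, 1, 2], [], [1, 1, 2], 0),
   (277, [2, 1, 5, 0, 1, 2, 3, 0, 1, 2], [], [1, 2, 2], 0),
   (281, [3, 4, 2, 3, 1, 2, 3, 0, 1, 2], [281, 972], [], 0),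
   (290, [5, 2, 3, 4, 1, 2, 3, 0, 1, 2], [], [1, 2, 1], 0),
   (306, [0, 1, 5, 3, 4, 2, 3, 0, 1, 2], [], [2, 2, 0, 0], 0),
   (335, [5, 3, 4, 2, 3, 1, 2, 3, 1, 2], [], [2, 0, 2], 0),
   (339, [0, 1, 5, 4, 3, 1, 2, 3, 1, 2], [], [1, 2, 0], 0),
   (340, [2, 1, 5, 4, 3, 1, 2, 3, 1, 2], [], [2, 0, 2, 1], 0),
   (344, [0, 1, 0, 1, 5, 1, 2, 3, 1, 2], [], [1, 0, 2], 0),
   (373, [0, 1, 5, 3, 2, 3, 0, 1, 0, 1, 2], [], [2, 2, 1, 0, 2, 1], 0),
   (415, [0, 1, 5, 4, 3, 2, 3, 1, 0, 1, 2], [], [1, 2], 0),
   (427, [0, 1, 0, 1, 5, 2, 3, 1, 0, 1, 2], [], [1, 1, 2], 0),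
   (428, [5, 1, 0, 1, 5, 2, 3, 1, 0, 1, 2], [], [1, 1, 2], 0),
   (450, [5, 1, 2, 3, 0, 1, 2, 3, 0, 1, 2], [], [1, 2], 0),
   (452, [5, 3, 2, 3, 0, 1, 2, 3, 0, 1, 2], [], [0, 2, 2, 1], 0),
   (471, [5, 2, 3, 2, 3, 1, 2, 3, 0, 1, 2], [], [2, 0, 0], 0),
   (500, [5, 3, 2, 3, 4, 3, 2, 3, 0, 1, 2], [], [0, 2, 2], 0),
   (512, [2, 3, 2, 1, 5, 3, 2, 3, 0, 1, 2], [], [2, 1, 1, 1], 0),
   (614, [0, 1, 5, 4, 3, 2, 3, 0, 1, 0, 1, 2], [], [1, 2, 0, 2, 2, 1], 0),
   (638, [0, 1, 5, 3, 0, 1, 2, 3, 1, 0, 1, 2], [], [1, 2, 0], 0),
   (679, [3, 2, 1, 5, 4, 3, 2, 3, 1, 0, 1, 2], [], [1, 2, 2, 0], 0),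
   (714, [5, 3, 2, 3, 1, 0, 1, 2, 3, 0, 1, 2], [], [0, 2, 2], 0),
   (721, [3, 2, 1, 5, 1, 0, 1, 2, 3, 0, 1, 2], [], [1, 2, 0], 0),
   (1007, [0, 1, 0, 1, 5, 3, 1, 2, 3, 1, 0, 1, 2], [], [2, 0], 0),
   (1063, [3, 0, 1, 2, 3, 1, 0, 1, 2, 3, 0, 1, 2], [1063, 2024], [], 0),
   (1109, [5, 3, 2, 3, 4, 3, 0, 1, 2, 3, 0, 1, 2], [], [2, 2, 0, 0], 0),
   (1113, [3, 2, 1, 5, 4, 3, 0, 1, 2, 3, 0, 1, 2], [], [2, 0, 0], 0),
   (1442, [5, 1, 0, 1, 5, 2, 3, 4, 2, 3, 1, 0, 1, 2], [], [2, 0, 0], 0)]

end Cfsg.Agent.SuzRankThree
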