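import Cfsg.Agent.Lib.SuzRankThree.Basic

/-!
# Tables: the orbit of 1365 sets of 96 points
-/

set_option autoImplicit false
set_option maxRecDepth 100000
set_option maxHeartbeats 400000

namespace Cfsg.Agent.SuzRankThree

open Cfsg.Agent.CosetEnum

/-- Part of a table. -/
noncomputable def lineOrbMasksLLL : BTree := (.node (.node (.node (.node (.node (.node (.node (.node (.leaf (spread 10 9 0x310880442ad00700480433400600810601200c0484482e80080210b4410d00147240404321101330523881400300003140181910)) (.leaf (spread 10 9 0x4904011a04840108c0440083a63410a3aac010052c0062400004008a270c8000302121804002c89441042399a0148000130060c0))) (.leaf (spread 10 9 0x140017316390000805d4a4940000a64941400090800436010001001801b34a2c48202084c10c08c0090360a090000920001c1a40))) (.node (.node (.leaf (spread 10 9 0xc401008a8a840242c00100360080a0c480221b821707018c00032750200834114900320024010d040401a2021009145010142422)) (.leaf (spread 10 9 0xa01c8800121c08c88a00800100c00821080a4211645002e850008342890d00411044240000a750aca000000885384c1405f88))) (.leaf (spread 10 9 0x20400081260c0ab97210704040280098081000210181500802c0a201802048544010820419049911b52c8201a052400044057005))))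 (.node (.node (.node (.leaf (spread 10 9 0x801c806091008600c0410008014ae090421060180c0c5449404502e0501180019054142008298884802004841721482062a02404)) (.leaf (spread 10 9 0x909040100444201c018b1000022241d800208225840800888000004100c8a620000887b12690d8aa08c02000c1601f20a012a508))) (.leaf (spread 10 9 0x10400d4c100800a401036a0994288300518a824232720300000006c0903110040200020930464a4a4314100520298800320022c0))) (.node (.leaf (spread 10 9 0xa810110005801c200006118a1a0a620242060a1094820315220a44020150020441041188c80c20806d0252021032c1485090004)) (.leaf (spread 10 9 0x10a04310a40416041800010048c8bc8501101006980208203208648b4020c080044c201e180020e1562281215008040906028480))))) (.node (.node (.node (.node (.leaf (spread 10 9 0x50081088506208812085092ac204209081c640108498e056046005600800506804c01885080020211190082009904442101211c0)) (.leaf (spread 10 9 0x40c00e018a48dd8608391680130884c106820d150402000024008324044008188115b80400044000040400ca04118a0081889504))) (.leaf (spread 10 9 0x10000c40000c820a44100e50520109138099f054005124cc00092a08404000ba2003041380b806000c40022922062042108b0c00)))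 (.node (.node (.leaf (spread 10 9 0x48086400558cc1020014004aa28000812a901105a800624200242020331068026289410060421da441002418600082c08e004440)) (.leaf (spread 10 9 0x472f222101a111000129210020052802000c901100000010800020c81000095000580840c104482195804b44326a38d4381aa210))) (.leaf (spread 10 9 0x591804c042444d050401412c128a07000818900608008261010000810202aa70f614d0008122280a0018260000c1006e4083200)))) (.node (.node (.node (.leaf (spread 10 9 0x2a00b895a02220608142890240c111084025040041121402420000040348d8009142d00100320da90151010aa001a09006889400)) (.leaf (spread 10 9 0x100802b302d13000028002e3340000c3140003000629808050519800010402086200a023060408c9641a11189145021002b5409))) (.leaf (spread 10 9 0x65020342088c1d8c0021882c08800842004601002022418bc40d10a08041030122aa420460c1440c3066800000a000060809078))) (.node (.leaf (spread 10 9 0x882842208a0170a53084803a02813980614220800a480039006801824a85094880400d72200002189000008020a043aa9000081)) (.leaf (spread 10 9 0x1010880020190047e00e004005c01321a0080d080880b870868ba05030020082800f420460a440a6210200060140480251360200)))))) (.node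 (.node (.node (.node (.node (.leaf (spread 10 9 0x404490a0c04040002408020300090c2801a84227082bc043000cb00991031080e3c02420208143509013400050c5010c04822140)) (.leaf (spread 10 9 0x8014000085b4824400420056004031912c48c00810014009000c094844029a5104048080b80f041d604461212220c210011c89))) (.leaf (spread 10 9 0xc02060045c005a00201d201eea8a0100099118a9aa10822122042020000240024001000066361d4240202c0820003200ca300601))) (.node (.node (.leaf (spread 10 9 0x984a2480501c0322a0c4084c00000048402118354481521981018404000984011c10216934038c8010042204a11212001860a00)) (.leaf (spread 10 9 0x22863e090504c601020400420528101c44456808080294800054a13a24050041283a01000d500000280004080429002740ba290))) (.leaf (spread 10 9 0xa58024009098025018400198000114135dc504054147507024400001a0165410002402e001d2280a280003040140000e01100474)))) (.node (.node (.node (.leaf (spread 10 9 0x100170011008c68142c201243801180003482809952420014b14400c01002300011187903140c20280ca8a2202808c9050008060)) (.leaf (spread 10 9 0x638090108015190314600101280381340314241921c3c284184182214801201281020002200006024348280419380020a430028)))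 (.leaf (spread 10 9 0x2210eb000c828121762804080001005044c840b21902b2150823248002ae2a381000c10a2000a00040000000146110499240500a))) (.node (.leaf (spread 10 9 0x10412d14102000882502200c140c0340b28b100210380910808484441918411d0204230910162a94320810a002010000200026cc)) (.leaf (spread 10 9 0x1403008285710446850688500022610000201109409c20b506832003b2002000906a840009a0200c408011f008012b0a0120888))))) (.node (.node (.node (.node (.leaf (spread 10 9 0x836306080c022c80208101708481046800080000000718d24000183d06e000049001013e00e58580470c0e00003842640020084c)) (.leaf (spread 10 9 0x91411a84000141600081008000502010040030208101a000280c161014424017b40003801cabf22b601060e2d204a088a8001003))) (.leaf (spread 10 9 0x59c0480468b0a2101c1000740044140000006000400a85200000c231050912400818cd08607ce00001e432543800471000813080))) (.node (.leaf (spread 10 9 0x418c264129019048020a094088190c80a00d91934848100098041440000019424140001083008828058043449338302800822210)) (.leaf (spread 10 9 0x4b6062ac3020050509a094004300023008000249d00810502000184831000e940128002b623224c312c30080c20c01220018010)))) (.node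 (.node (.node (.leaf (spread 10 9 0x128220a82810006002550c2eb00202a31106043450111004ab00900d00c0b00240080140401102b0822016800e0208081c60a006)) (.leaf (spread 10 9 0xe1031e48191022002022016080a413448a288410500248484000283c02e00881440180b818a5815000006800001a0000c022086d))) (.leaf (spread 10 9 0x8141810281a2208c202c68507010000922808900091284020800620168864403064a1008054d10a280a402800080ac2840414920))) (.node (.leaf (spread 10 9 0xc0240508600e010219801e093204880452a410a000883c01c8103220884409000ca007840080848b2022100a10404450c0808a02)) (.leaf (spread 10 9 0x64120c9040190000b2c068203b229080019003071000a7520100ce900089885620c0050404002400840940028380020400288c31))))))) (.node (.node (.node (.node (.node (.node (.leaf (spread 10 9 0x34902140802412010818111308c430818000880608008b00506c6c074020f0008048018e14080443260784407404080100108a84)) (.leaf (spread 10 9 0x30070100810408d0063090810f0d02904f001298a80d20201300304800880020806240082075340014815007050880004d841108))) (.leaf (spread 10 9 0x180220530010600060e085a194098c104420b0a310214804010a090080484212189c50484e000464900400100900ea4140106220)))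 (.node (.node (.leaf (spread 10 9 0x50089048888849510c9023082112400a80115022105088822690000804a89090443220225808080c09d8040204c8028040406b00)) (.leaf (spread 10 9 0xd2944052200c2010050a401003004888000004a40400501a0000000068c0638000006e3192807a62401d0400814297013930312c))) (.leaf (spread 10 9 0x402100030a618044a89880081584200e0e4280021001190e0041a2811920418608948180a8021000218c20140060b180a84e010)))) (.node (.node (.node (.leaf (spread 10 9 0x110c5013520096e100628210380111010042600035604003cb0842c80022211111010f14252000810008040060c88c1848001058)) (.leaf (spread 10 9 0x900020000302414002048100142880200a11820210a01f412268062004245420a008a8408120319208006860209255b311a8210b))) (.leaf (spread 10 9 0x40041e018808e780201d16200d08440056420d4e0002000090350210008430ac040eb004010242610408218800502a040301b100))) (.node (.leaf (spread 10 9 0x4e80c00841620b0020088aa052100400215449c09608090012b02960904920248902650800408820111094142042401c8420005)) (.leaf (spread 10 9 0x82121404114022644204e4150478b80c1901140108900082e8b780120090087011020c046088600104040040cc00805000024544))))) (.node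 (.node (.node (.node (.leaf (spread 10 9 0x80200001074c020b0000a04280000d17449960446040841480400b0a00caa03a80030011927a46100e0800841084445034820820)) (.leaf (spread 10 9 0x540690c08808e1902418030001084c0a020054e62002c50200951008328170804422242050804a71001b040000c0170401003108))) (.leaf (spread 10 9 0x20812f8800f042100000142a41000818210202805a00424822210436d57404a08200810191b034040000a496e58014082181))) (.node (.node (.leaf (spread 10 9 0x820250d01100801090401006a540e4d0048ac078c0a45001000522e019108410305c10020089004601600540c280402062840904)) (.leaf (spread 10 9 0x46800692ac4814054830040051003140012700210028000800000120120000188001300894447010098204ce00178a20c1c8d757))) (.leaf (spread 10 9 0x47e10c610604d1080082880108005600b4420824294024c40a00209486001722808420a33024080806005823508010083060010)))) (.node (.node (.node (.leaf (spread 10 9 0x220b6020c540112322248a180854a480413128c84c040222804310e0a045011050088100201304001028452064026414008006)) (.leaf (spread 10 9 0x42100000e44014004130640001041850010b0000000c0280121001613204b1333002515014c508500912a0930916cc0801e00613)))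 (.leaf (spread 10 9 0x22d80034800e003b0c500ac103020891207000952800003c4ad8610000d028208443888112000c5400200045214851a10440))) (.node (.leaf (spread 10 9 0x10001ac140c2091504170524b28005068204000018100010090020108202886425188564b024210b1018262a110100346003206)) (.leaf (spread 10 9 0x80201101808488000080c8d232801c100843084e000b10003332048200448028000137502120018270a306004189048c525391)))))) (.node (.node (.node (.node (.node (.leaf (spread 10 9 0x4408c8800a04024d004100060400c840c0621b320b03018800a2102a601408040880922006652a0d8401a40022084458114c00a0)) (.leaf (spread 10 9 0x810088008039844496021944404020002720000a0414202f06862000100120a05022045e0c1a200806b081f41005020b002681c))) (.leaf (spread 10 9 0x44208cc0081066b8044105000d0448004446192e2002830080a4100822154004000a942444a20a110411a5a000d0246001058008))) (.node (.node (.leaf (spread 10 9 0x84690011100022044d001ab4a800002a4000d1034000aa9120480500da64108100854001204140302c585880ae20002845045400)) (.leaf (spread 10 9 0xab0352c411405060900044142450a490840056218080a100281502131050401430221200a089600303080140c202804060020107)))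 (.leaf (spread 10 9 0x4a53602800820d05041048820010c18994010002060504008210048088134a488c4d0540a4e0435020109180631a200040420028)))) (.node (.node (.node (.leaf (spread 10 9 0x248c48414480204412844440288000b202021018233e1018c0a04104205000128e60a00a0028431002a0503849e4812000102601)) (.leaf (spread 10 9 0x48082190880042010000210402c201001840b18489460660010010ab0218b2b020b41002806128a0209c0404404721460a86228))) (.leaf (spread 10 9 0x61000644eb011009004201608a009010aaa8849b680a0008cc00001002305940400060990aab8010004051400618300840622028))) (.node (.leaf (spread 10 9 0x50a01a5100d2829011020049010000424124048f1f50284224c0028102230423505009121001080129c31a4001208a2110500)) (.leaf (spread 10 9 0x711101c008442f040221682c50c00d001148318280468201400110a000400200a6a450020143408828950600408630264801028))))) (.node (.node (.node (.node (.leaf (spread 10 9 0x40203400140e0701a2c01409382068005220100004a038054c10001cd1005100091207803240800202a64a3a1100241051c08900)) (.leaf (spread 10 9 0x10000c83548012d2206a9203008015018802401007a80a07284942c80a0901020101091005a12009100805804462030148490240)))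 (.leaf (spread 10 9 0x908000010a0a00b046b401000008e1200a01030012200f016422700100129551a0a888008083c4a018046840a286500307800188))) (.node (.leaf (spread 10 9 0x280835804084ab1e0d0004060a1ac2002006062110100014002909101626082181420010151080c212461ec00340c01486300000)) (.leaf (spread 10 9 0x490480090c009058060408c448610c01a507801158010d2100945d4040001900508112049200902040080044c929252083002a10)))) (.node (.node (.node (.leaf (spread 10 9 0xb60aa0d030917100441960062b280a951021008500811100002180a15420e9500000081432008c001e40080008d12200418006)) (.leaf (spread 10 9 0x9004a00001040040010150b0210d02000e410200c40da0e0098804a0108021180042801842220540148751050c488000cf4d198b))) (.leaf (spread 10 9 0x50340160628f0186180183381095881c03c4000040881809d0980000024c8004488404008014d40f002030c24080014862000803))) (.node (.leaf (spread 10 9 0x5d20202800411c8090000404220413850830a35011285192129900120051009a4100c02a0043148320140880902024ac02005120)) (.leaf (spread 10 9 0x146500e4122a6890036841030008009246584000d728002880842c86022840100c220000504108024282010a1818c0e4800480a)))))))) (.node (.node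 (.node (.node (.node (.node (.node (.leaf (spread 10 9 0x804401310910102500120c0a0c0000088e08008904a041a45c82ce2a1608004a2402c82400104a8e583082501002002404101c30)) (.leaf (spread 10 9 0x2040800c00b084084000a24007828084100a528cc4481a0040021005820604c870100103410030318234a90442048410c1191b30))) (.leaf (spread 10 9 0x4203603810a819a505250204008018130200900014050010801000b09927ca68a458044184244000140183043a6a308000020210))) (.node (.node (.leaf (spread 10 9 0x21a0810218812a12001834004813c280201e16202084003000aa09001c71382021c000009830a1c050422a9102c0889040008060)) (.leaf (spread 10 9 0x55000a000413a0401293288140038000201232e05000a14040410209006313004e1404a120811008018020a88b59c8491259))) (.leaf (spread 10 9 0x48118104b1188000800400220101824620c30809220020a20d213c55080c0b8004b46cc02148208600081080035418044310142)))) (.node (.node (.node (.leaf (spread 10 9 0x8204848c6906080a10205209120014200a0454222b412430c11405a080440ba108a8c20200800803202a000210064ca000108a84)) (.leaf (spread 10 9 0x804880908008008100002284a62240889040e105a05242240160588a0000b2902994200000a11035a0800c249a664200100aa1c)))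 (.leaf (spread 10 9 0x410c3e112908a4c0021800118c8a4500b058010600083084910d02010804376604408000a100812c2400018c801c620000002191))) (.node (.leaf (spread 10 9 0x4600229400408290318200090100006c30204400de0f304830c008050a0110842061cc12800009217547124001080ca092181)) (.leaf (spread 10 9 0x91c10884000800102c31a080003000004404a1728e0030406406c03012402226b40022c21d080619300060525008a0381a201080))))) (.node (.node (.node (.node (.leaf (spread 10 9 0x260000100008c31a139021800020201818850c1535ab506024c12001e0404054400402080d540900a80a03057050400804011054)) (.leaf (spread 10 9 0x1a66223c0c002082225101608103202301420220281110808841903d4ce01002a810034400c104a802009600002410000420894e))) (.leaf (spread 10 9 0x25e50c091000610c0010008a50e256803a22056c0a404484000620048010030300c00020a2008c2806007c49761408082240800))) (.node (.node (.leaf (spread 10 9 0x180980004a09002582a81430804c92a0524501040260840104223001ca008540d8200018808f02a0184caa40908202020a000608)) (.leaf (spread 10 9 0xfb75082140250000016841200000680004001450020008918000200a10000c50020a00460113010425a2096126a50e84b9307250)))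 (.leaf (spread 10 9 0x228c0c0001664e10400008409068841c4561a040321030880060022620148440282c0b042c7000c8400346000d00038500b8080)))) (.node (.node (.node (.leaf (spread 10 9 0x18012440000a002824036a89002cd0ca210a8200225a090080848204082c411d22012208205020cc451c00241a21180072000404)) (.leaf (spread 10 9 0x204440000003ca5001260a6403402224270000000008528420020909c818220c202281c0080281530500060480892f5e40428685))) (.leaf (spread 10 9 0x20082421021eaa16008045960352152020040260d90812000020006a142e00c10302121010080800901710e8034a60040230400a))) (.node (.leaf (spread 10 9 0x8a2240040009200d401a200000810e82470803122da2922012000150a82294d24022200005801cdc41080248800088173d00001)) (.leaf (spread 10 9 0x10402086000624890020810820208034a080260211d2238408c3419644202031882d39100000000891dbc00200188884e232)))))) (.node (.node (.node (.node (.node (.leaf (spread 10 9 0x5408805ac04b088100000c61e44400080c026000c698c0500601000004007e6801d11a8008942061062030200304006b12100058)) (.leaf (spread 10 9 0x20408002420d38400268003c10400086564801100070c0000404b880080120e09c20001822401a849a4ca962c85200000228960a)))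 (.leaf (spread 10 9 0x10d404008a0004a2208620050011c01021211120e3200e004411e08f20810491a0e888008842800008015c088a02504107121090))) (.node (.node (.leaf (spread 10 9 0xc1200a280185001140042a10460814405000629201a2000144a901410108ac86024380454ac0405058009622e30018000c408006)) (.leaf (spread 10 9 0x1005120044001d2900000a00a1406185301890010900c02000691a00021a442000283190020095400684c1812042809311fc176))) (.leaf (spread 10 9 0x201bc308169804422c41042066482b0800488018630802030c44070100c082002a020800c6100813314430011015068501020010)))) (.node (.node (.node (.leaf (spread 10 9 0x2020889001008c1049450112048c1a001420840028d15602b42246100400139846a1012094414000802a181b80201860a0070008)) (.leaf (spread 10 9 0xa01c0000098c08c6030c00615020902001048a1030026d1602008811802260042228da041b40000212807171200200da06708))) (.leaf (spread 10 9 0x50208132942280130530d00c0222048000282900620654c435285c6400004034480224004007c0222008c1600a20809001024043))) (.node (.leaf (spread 10 9 0x142830024022cc9a88023b020400010000901cc826708c44030109206c06040008101220484418057020480012841b228a02404)) (.leaf (spread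 10 9 0x620109201010112042060004580010020200002404c180d4882501208823c604257864318c1d54001405840c0029618883000a10))))) (.node (.node (.node (.node (.leaf (spread 10 9 0xa024100001c800040e4815c46081c144230029460cb1202a13201880304a504700300110400600110170002048235a01002000b2)) (.leaf (spread 10 9 0xa804048024846d1c14408e020026020e200241091030000804291700450240218451005821918442308244408200805413600290))) (.leaf (spread 10 9 0x130600091260b048041400001c6191012447e0007822c0010180504040221d00108327040c04140020280418c149041448101c12))) (.node (.leaf (spread 10 9 0x14221300100e504020000102068228842423008248c0423c121380c40c430904020094c121ac000028ec4284088402280f004480)) (.leaf (spread 10 9 0xbc2080200030008228208048082002011a80820242001088032500088007800b10c4ac84be800300c7da07508419c24020900003)))) (.node (.node (.node (.leaf (spread 10 9 0x4488480440d020001405d1440844048290023208002a10204820e280464293948a2084080068434001a012102904431380007220)) (.leaf (spread 10 9 0x6a4a38009100400200068e4a00c0c0000000000479003602000000002340791000005c5d20021da83541a41a600080a2268ccc40))) (.leaf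 (spread 10 9 0x1081810a0084541231c14218dc20724e00a0d48010230e080090011000407ca204e0004a0004625200820040850480063502001))) (.node (.leaf (spread 10 9 0x100006b010200248241908105a411a108818466404440c88003060406340007a0c2b8040000c9600005402292205004b40ac0240)) (.leaf (spread 10 9 0x5461000240bac99001080b820082000c00d949c8d728884082882920041820100902040040611800d13001003200502c8804085))))))) (.node (.node (.node (.node (.node (.node (.leaf (spread 10 9 0x8200060847210840b2241041131845200206c021a2414424c01c448004548a058004403260140802845a800220040400105490e0)) (.leaf (spread 10 9 0x50d4ce04f8b42000400000b42024090100006070211a042402d21c5084084c002018a9002048202010480e543010410420850083))) (.leaf (spread 10 9 0x2003411000bc98c123070600500000010080b60410d48080881401209b05cc44811060620829c40008010508180a518183060010))) (.node (.node (.leaf (spread 10 9 0x808281250444460a1388006680205198463a2244088084008040004801c8a039800080d12e5050280900010404c00630a0120888)) (.leaf (spread 10 9 0xa1251429300601e0000008714101603803300100280100000114201200021c8000300b95043094108b108242c102422102e6ee)))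 (.leaf (spread 10 9 0x16800c83a401589a04291600c28095010722011405aa0000284082a6960008000105080094006100888404860407022040484342)))) (.node (.node (.node (.leaf (spread 10 9 0xc0000a4a0001021164080a90920eb442108c02804180248045410006155284048240c044c240101154880c3841480c8004410412)) (.leaf (spread 10 9 0x82662a3040a550338a042d180608140090102b128168000100804120a18025a51041008158b00004001400012100112405408027))) (.leaf (spread 10 9 0x48110400251801c301004028a0800441243412018840600ec420744061312020621d410098011901089024302800821586010504))) (.node (.leaf (spread 10 9 0x188802a050200659200519205a252890911444c08400c792c02021403142106914201808000040080014802810104242406401c2)) (.leaf (spread 10 9 0xc500009800855223012a10823158040801528450304418015401118500124020622245403004600c82c100100430604300011c89))))) (.node (.node (.node (.node (.leaf (spread 10 9 0x3284004b8168d001a0000216082100800040080429040b08506e98130c10040a80480189101908432c125000351000d1c000aa02)) (.leaf (spread 10 9 0x4013c000202c00ac88c680401620332004080ca0004990201449805630033002002d520e40200164404040c224e0401254020210)))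 (.leaf (spread 10 9 0x88821521a2402010c80122001080082824d0a439900b0b120520048e4803214508020100c851002140808208481000a252940209))) (.node (.leaf (spread 10 9 0x702504a020610000204808114c02482806104442374408802002302222600c58082f80400148900403c100216f050404a8201240)) (.leaf (spread 10 9 0x838108b48008551020901008691003f6e0080a00115142c98008409e00104fc00106000ca000003100403054080045400ad02800)))) (.node (.node (.node (.leaf (spread 10 9 0x104120c2468506423101012043a020e0903480c8160301b22a0729402103146100203808200048000400808a900000504c042832)) (.leaf (spread 10 9 0x1e78202520818d470410088340082080200160250780240094100680881a2c00102e94280460035042006800001a0000c022086d))) (.leaf (spread 10 9 0x2040800008a80a711010320040124198001a302288810a1802c8802004309d304cb00024980089801148020184d0a88050416920))) (.node (.leaf (spread 10 9 0x2010830424000a28490020020e860042422e4e0405482214228ad32221c000044404b108b40020a84a0230801080804010860cc)) (.leaf (spread 10 9 0x50400a120a4181194c0902809388b5c107a50d20018000080c400086964000088110880c80403110858204480404882001400613)))))) (.node (.node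 (.node (.node (.node (.leaf (spread 10 9 0x1102208488080010cd21305242340106402004048e0022018092083040652006f240a8520900021c338080520180203942001054)) (.leaf (spread 10 9 0x824220814080013bb4000018000600402a210a0043815818850323c6846180009f2030432c00489120052300000200001a29b02))) (.leaf (spread 10 9 0x6001102260005420880c4090102b042800284034008980c00924a1488433120023d8a431001740183203200c4001014816000b20))) (.node (.node (.leaf (spread 10 9 0x739041452d022046800138484000002013081040504ea80100615284004000002e04207201091300a1951c0a6400a2254c01000)) (.leaf (spread 10 9 0x31c00822000510304018178040407b8001ad86b0800000017040600200002783004c080880288100060b3400ac080ee4083f01))) (.leaf (spread 10 9 0x888295271465510841100065a0084200003c010c0085040340028040254cd0bc880030962c4000084000100406ca040d00110209)))) (.node (.node (.node (.leaf (spread 10 9 0x139240c9a001001002010608a20207230322001440a10020e902820402047020508f00010c1003c080a506a4960300c0006c4082)) (.leaf (spread 10 9 0x80a0800900140082002a60a08424444814020045a0cb42214120118a000490104144809040311001540324b606604211400a94e)))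 (.leaf (spread 10 9 0x15323200000810088408140212040186402302801c204236129300100051000e5288a84209e1880022c6908c088024ac02005005))) (.node (.leaf (spread 10 9 0x7002a0010980604686c0182a8640360c2220580046280204140009cd6a08080188101814042830600115511000181200582101)) (.leaf (spread 10 9 0x9814126a860088a0280cd4806002100484000103208a33318002104011a082001180207a1b501b02800022802a046042008b0c00))))) (.node (.node (.node (.node (.leaf (spread 10 9 0x20100b021b72813154c801408209204985900120190091150818208482442028101a800aa0002244a10230080420912018400412)) (.leaf (spread 10 9 0xe58918002351880841a02201221010005401609207a0032802ac01410101c08c0a4f0444020084a840009600002410000420894e))) (.leaf (spread 10 9 0x6042088300e012520080d00d008c100140140801c23808b5081206c84a9100028021281101810435402a22204470720120480040))) (.node (.leaf (spread 10 9 0xa0181a04294aa08604c80003a808200981100320200c1596010c8881c20425201411806aa9040004200099ae80002000080020b2)) (.leaf (spread 10 9 0x880010420003242124801a880a2eb842200e020443180104920420262820461482a0c0c0c241000c440c043450400900502b1400)))) (.node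 (.node (.node (.leaf (spread 10 9 0xa81550042000828800095410452100681034880620284500171908042184060010d2003104984770204a0080a818a1061a006)) (.leaf (spread 10 9 0x1ac922621684061b0107380010254871c220048950028232620f31000501024816201002000000000410002280004200082029f3))) (.leaf (spread 10 9 0x2400802000a011a668200000d060c4011828028a41100342831000284004208b1034268082990b0045c244d581204042081090c1))) (.node (.leaf (spread 10 9 0x212005c08e08180b000740209200200810c0a60c080800008a1a41001b1c5d400012688a0a298410e84145004808190220221020)) (.leaf (spread 10 9 0xc19845c221519a4c0280830888110080000109f242a0824082040440050001896a460120030084280505821000a0300004821256)))))))))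

/-- Part of a table. -/
noncomputable def lineOrbMasksLLR : BTree := (.node (.node (.node (.node (.node (.node (.node (.node (.leaf (spread 10 9 0x8052042100022420462620050119a10209a111807b0900006033908220909150014a08003880c48108042c48a8800043001211c0)) (.leaf (spread 10 9 0x1a010c00621004088000d0c1225210e58435082120009540055204010b0910640528000200291a0606c00128020bc80225a108))) (.leaf (spread 10 9 0x841c2103040ca00c5382d68349040352104024022085294084202000408008001a281c80a2208430401c444c089210300408204))) (.node (.node (.leaf (spread 10 9 0xa600214900000019d310160800b403529c20280a43814800843a20004a5088209a20340320140210001c43020a4200001208a1c)) (.leaf (spread 10 9 0x480021020024820100a04200ea809420180084001402449000e034048b31040d4023ba240508101000217120ba280c02c085aa8))) (.leaf (spread 10 9 0xe80020028c0081083a0002622604c08040e141009942054610418a0004300000d4a08041101404a4802cb68f0600814021256)))) (.node (.node (.node (.leaf (spread 10 9 0x300c009017810000c0304c0101001a4a300409c0403320913014c01884546003029010200a20b1c00084810c64900211b0120888)) (.leaf (spread 10 9 0x480303504019120060c0c921110a84184c9008275410061081aa49910008401200c8022004002400810444128906221460084228)))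 (.leaf (spread 10 9 0x280530809628c08404080bc4c100d14e020030f60080002241811c8030815403002001a04004c251203a0055082016120008000a))) (.node (.leaf (spread 10 9 0xe00882012084024a168412a2864a10042184010d53124a84144208442a000c00e04020140440442228195198801c020808000a)) (.leaf (spread 10 9 0xd4080002483c02283d02a4101044c05ec0815a0450001034048030004038a49c1b308001000201100c21424051a01006289400))))) (.node (.node (.node (.node (.leaf (spread 10 9 0x22000604812314050d8001e28002d031ad90c488202800a84c018200002129004a0022014601b2110044c110208060c80125a008)) (.leaf (spread 10 9 0x1202a85a8052645910e880610008821420603053000149000112052040670102201450440218c84010040818440078400c004661))) (.leaf (spread 10 9 0x412007a4050901014047c0500a001010382222da000200004498018109281c004092081b0a8b0012e801156242101a0244403000))) (.node (.node (.leaf (spread 10 9 0x701202000a05110203100006100884e5828020421908244c10861cc541829c0181402088180182145c048d400205044081aa000)) (.leaf (spread 10 9 0x900a84460458e04914818000000200850a00085280018001c60004102c040180204440000210804802058a9960a179402c8a5677)))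 (.leaf (spread 10 9 0x822840410818806d0b0a2420e0b00c094019084405a4829014010051282214820182002010840098211ac248000c488d1180020)))) (.node (.node (.node (.leaf (spread 10 9 0xc5464443409202080a0101140414e0104824a8d16109948102201c801a40310c400008148205091a0808841000848a004410412)) (.leaf (spread 10 9 0x510070200812904020a2a90006131409884000820002118730a00a328690184091001001105e0c64444842007420309c0154))) (.leaf (spread 10 9 0xc261500108808547860010a060300801d0104c44146c838085040051403c100220590f0a18800092800222400080008011864a2))) (.node (.leaf (spread 10 9 0x47c89414ea141d4100420101880583203440000469c5808c1a90804006000122a00200a2200440800b031824182814002060005)) (.leaf (spread 10 9 0x8401800142230295cabd4500884c4300c044420410400100640210008952041078884918808a80c00008c204008612010f804480)))))) (.node (.node (.node (.node (.node (.leaf (spread 10 9 0x8040069091a210009491008080419014a850460c04400ca81c8020400485220a0ba202403400923080440d2820a480c80024a204)) (.leaf (spread 10 9 0x404020480b2640801002200068280004008123854c190028602c8010a120022513101820300a03684129804700e0202a3111d42)))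 (.leaf (spread 10 9 0xc010ca088884004540000034048008c0424066b21912100500a33558000c2c140140a120264021005800860632015048104c4082))) (.node (.node (.leaf (spread 10 9 0x8c1030000f898c0020b16131101800500884714a00001a02400012c0800c851c114f266082040020020109899909200910c0004)) (.leaf (spread 10 9 0x472b22208300000002020ec800c042200000002e3d00050f000000000f8000b000003024a102654a396ca0384d00c00a640b8290))) (.leaf (spread 10 9 0x104000902605462635804140c0a8208010150014340310602a812183602040400014b00c19508801142a8101d0020008c484e010)))) (.node (.node (.node (.leaf (spread 10 9 0x30b302c0400280000203028920204432297a82110280802081828214020661000603240c005801c5811c80249203109101d04400)) (.leaf (spread 10 9 0x20186120080119327187002104a525026000531500340cac050000220080528021004080130822002470808060918c264880480a))) (.leaf (spread 10 9 0x30302280000a9228f602c8882004c4720c6a0030204aa822002600010aae28590601040c20002008400000001023189112d04005))) (.node (.leaf (spread 10 9 0x4851801a53168080521322002f090104420001a05f065000a20802122120000030504029200a426c0009c85040e120810000942)) (.leaf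 (spread 10 9 0x84a28229030804023188a0440020011322824204488080042220010a8103812b00038080be62122c072901401404c25020900028))))) (.node (.node (.node (.node (.leaf (spread 10 9 0xd09c4010c000000a73880483484809c0104b460600902d11142026205020040070e8091080202440806c402c108910200418006)) (.leaf (spread 10 9 0xc943d308c18206052092d840111080091485080204540400804a60892802400204c8200004500200a0840090a10324244242412a))) (.leaf (spread 10 9 0x2581431006202040240e2140579290618a40181328b00828a8600122000a9200048001050a8f00028002c100c01804300001d84))) (.node (.leaf (spread 10 9 0x1420601c8408da410890d4800000ce80490100004063242208009640442060083052114028504806645084226180a4101081884)) (.leaf (spread 10 9 0x1201c0c92138c481440400840803088000c408450524030869468102018009820050819830c5010e8c42102000900095d2008041)))) (.node (.node (.node (.leaf (spread 10 9 0x20140018f9900420841000224480945481c2188620092020040038500eac0380483020182188210360600001995458414020140)) (.leaf (spread 10 9 0x901000009080428002980000f8119a00205806284406002018b040002d4122600181820030088610d0520b2102a588f2400c8264)))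 (.leaf (spread 10 9 0x24cd126040000801e128010128407403213110210140d1000248142104065084236038d00b2a8149008401002002009201c0154))) (.node (.leaf (spread 10 9 0xc0072000040208901019c0bd2a08020049093498ec1082a01a8820a00008010890200000663735400c83900001400000ca890181)) (.leaf (spread 10 9 0x54041500235000c04115e4d68062a8086901100000340041a043081a00920e295500440660084801404400219400012000488264))))))) (.node (.node (.node (.node (.node (.node (.leaf (spread 10 9 0x8282060a042958006400817592184460000c000000851ca2400046040554800490405036604e8a8044880c204048040c00550058)) (.leaf (spread 10 9 0x10268a8180108738204511200c0c080a140455c02000c70290200210301430a84424142015224010001a842800101b6002058108))) (.leaf (spread 10 9 0x200b060e80431443050001da4122d9204880d5000020203c0824d005010aa01008140a014001114a0002c1110082696402043000))) (.node (.node (.leaf (spread 10 9 0x785431c0b7100802010294a1306b0414004041200b06440a8204142020882286188202008a3020100b0e1400108101408004a2)) (.leaf (spread 10 9 0x880091022222820800a012200800d5848801340455004031604840041709800940a308041900101000913060125a0d046689431)))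 (.leaf (spread 10 9 0x2e1011180802c21082802a041860292018868189348b208084c028202049408040440010016c0100280029311444d04928401104)))) (.node (.node (.node (.leaf (spread 10 9 0x2108484822200509000cb10005822704092e5c880400308000001031c40d04d96040054320500621d00c280448008021c1182020)) (.leaf (spread 10 9 0x506c3a3648012108420102a08110290105002828215102200840145494604002a4108b0408cb302800420640900480012004042b))) (.leaf (spread 10 9 0x30434100001d00c22000818007a022a0a42000a808c921311213a044200310a08022500820a440a064c04486258408104d060010))) (.node (.leaf (spread 10 9 0x164001450001ad4613248a0341403060210821018440960400820c00c91a2000002a86a00043015110c022080409164c40222005)) (.leaf (spread 10 9 0x110c08002088328a06104c105009407211b4b8808801050c00032c0d0001128831070093048804061120450020040080108b5409))))) (.node (.node (.node (.node (.leaf (spread 10 9 0x8d60600e60402105810084060249401000000600110c10403c6925181084a406012c400302ca00031ac3a002870401021053001)) (.leaf (spread 10 9 0x2884114e200101880251100400018b40901050108a444287068147258e86020202080418184061010d00414801c120022434c000)))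 (.leaf (spread 10 9 0x548050810b020010b62010452740809400cc806840140891820106601d002050171c00810407004440020503e800002605810824))) (.node (.node (.leaf (spread 10 9 0x842021002c18050450e620c3f80603507244840020040000c440809dc480288018080888020a9900501c4410000285e00400681)) (.leaf (spread 10 9 0xfbf5487b120c0a10074e40020000c8006000048c000000160000a000400002400200000200800000441000638400c7883bb17bff))) (.leaf (spread 10 9 0x8208c2422200f0420c61220a0015160a10002049052008f480502804b03c08664008218c24011000412108038384000207800188)))) (.node (.node (.node (.leaf (spread 10 9 0xc040c2180201831024010810900603c30f290da081800408014300020310840583104c0803002401031209384d4c08a004002e01)) (.leaf (spread 10 9 0xc0e8ea6912081d028149f48010208053a282040548028004620a9501450100080021900000008000040000630400c3882990112c))) (.leaf (spread 10 9 0xb062218412544324a04020840000000d0102b82814800011c290841020888013641828552644850000406234e80012409900024))) (.node (.leaf (spread 10 9 0x14097840001816100850048000450360c10308000062006208c01804c421400810c03101e8f2022e095306352100a0004181811)) (.leaf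 (spread 10 9 0x8260604040405000a30c291a9e08102498511a2a89350e01220003200020442000013c00d8301102000028442020133411201003)))))) (.node (.node (.node (.node (.node (.leaf (spread 10 9 0x540c01880881c801a0088000211a4c0a0211c442314409822e01100022296050402304401888407c03c100020440440480401e88)) (.leaf (spread 10 9 0x420401000084000880081230800a2132840404012e00414002844882098e8080293101ad490202804085219b8230c03911826043))) (.leaf (spread 10 9 0x3027060032600148041000011e4312104e024a043a0c00002100704040600c60042700600044360601910219c50904454c841000))) (.node (.node (.leaf (spread 10 9 0x8412018102a00a405014a848000d1cad201904212080a1080808480993550092005010120444252341810853a28900040000608)) (.leaf (spread 10 9 0x2c8280002580c0271a8024420121200dd41c0922480010c100c005b804050841edb2000002180004090004000409403262ccc40))) (.leaf (spread 10 9 0x592000a442c10484b212002c000781050484821801a8181a70980440605c208840004420c000544714050a820014018822004810)))) (.node (.node (.node (.leaf (spread 10 9 0xa00812002400e2060d408a06a81c020a400047290020099c00480d00f6240921041104482501008020645c828300004007121090))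 (.leaf (spread 10 9 0x8800880d4034a48240a860380000c05912040040a2e80030008802a90090906210409208581410090c441024467012144112142))) (.leaf (spread 10 9 0xac80600860442140001080810270241022105a80140821023cf121a0900a240e29254800004200001301920684c702108002861))) (.node (.leaf (spread 10 9 0x402430862060141020ca3c40408000a007404482520600c40082860080648051a88a4288c1489004824104a1250010148a030140)) (.leaf (spread 10 9 0x6212ac1c3289080090046880092000000024024b80008cda23010acc2000a0442180010c8503e6448800520011800e2100289400))))) (.node (.node (.node (.node (.leaf (spread 10 9 0x440000604048c11202300102000020182a885447a82b4142009f2005b3806000e780000060400fa0800a54007041070804001058)) (.leaf (spread 10 9 0x301301120106c8400207024050600420499682031080828891d00620224544808310214001680184080029601002519109d00108))) (.leaf (spread 10 9 0x701242300530205e85d4040080002100102029290120020445814002928060078920c38008a0096e408010e00c6926084800080))) (.node (.leaf (spread 10 9 0x422023903890024058ca214208520130306481800046002001020389923cb2800088080d52408a00501c1401000385420182200)) (.leaf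 (spread 10 9 0x14321206c000001cc029005010300086400804059e242025920108204030100d42c2880280a12a1c3104140f080064958000c010)))) (.node (.node (.node (.leaf (spread 10 9 0x20080021c184408890080214d002612094030041600041490e82649408a48004043a42c2048224004415081602108b3900822042)) (.leaf (spread 10 9 0xaf8300002318848231a82045020202021842c0020aa0108c02a4010a8101900814c72c040222102840d20640100480012004042b))) (.leaf (spread 10 9 0x4240829414480492580080042e00262112a00000cc05106430c49025088011440162460284800a0240429162001214aa92024))) (.node (.leaf (spread 10 9 0xaa62848800100c0a40a082200bc84045808912000432422951c000459024264050080001410860280231600cc204009890011320)) (.leaf (spread 10 9 0x1425009b18006108200424887042a090083280200c425a8e00ae0040a0070002088008206100a00908500e8916340408260500a)))))))) (.node (.node (.node (.node (.node (.node (.node (.leaf (spread 10 9 0x318840005020645c602199a17804250420110c82080054100080a1402182080c31100210c001400a4a319108141200c620600580)) (.leaf (spread 10 9 0x2838103c804464230600588018130080b62404d500c4003500900300006824280453883d94000c0402082243210901060a00)))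 (.leaf (spread 10 9 0x20c23010564820140020a16850894082160c800120284880074a21c4033040500268a240530008a480340001f2900024880280))) (.node (.node (.leaf (spread 10 9 0x20908a4429cc208020a200aa2808082980262120a48e041622880852c09245003010884120080414000809f52000000480848282)) (.leaf (spread 10 9 0x428004121c4a04050264840058006000802000402821a80d00080000129144d00a0006805650201043a20ace901c201443cc8d04))) (.leaf (spread 10 9 0x104600208808209226300101010960322ba012a0a82905010013b00d20831080a1e2000030c144a1100154002084100005821158)))) (.node (.node (.node (.leaf (spread 10 9 0xc5000b9004080140288e2141d0320270a262008024228020c4428300049cba0000810105124a1006100d5111000104e20400580)) (.leaf (spread 10 9 0x75d0b11c000203822010391064080190004104342c82800a02834512000a1618190f8c4808130280020240008000020a2d821))) (.leaf (spread 10 9 0x80a20911a040921018008000108838814030000b921e28300100048b4e8108016c222a10480110e54432822c4010000332420008))) (.node (.leaf (spread 10 9 0x844101439104200449242a1078220028208ab91180029e1208000402c80e3043880a002080c1003100c082880c00042844055005)) (.leaf (spread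 10 9 0xa4000322274102005001302808822610021200a01a632801001894285000c80c08c3222400020a106e3a0103043a3180a111))))) (.node (.node (.node (.node (.leaf (spread 10 9 0x1c084105420c02000846280aa000061080619a420083006000a218a528140a80980098601605b20d040244084620c404104c0110)) (.leaf (spread 10 9 0x8305092144140428098804e4119071808c203a400a82dd008558000808002870c20000412111004801020d2124810600a0304010))) (.leaf (spread 10 9 0xa0103001439928000088b2f1102811c00800036800000a02581199040005113836882a280204098c022201189141210080d4008))) (.node (.node (.leaf (spread 10 9 0x2183000222000402806c790001034600083e5c200084108004a4270a8431380821c025030236002850422a8448008109400004a2)) (.leaf (spread 10 9 0x47ab27b605580205e810000000001000392320000000000000001d200000020000a0000b20081097080b15ce42d79a62d4c13080))) (.leaf (spread 10 9 0x80888804010c800424630089890008090106a3a0868e11c4220480910390202034200047991c04102000085a6002201c080442a0)))) (.node (.node (.node (.leaf (spread 10 9 0x140e0a11900824a400806042248440034050a2210c820004820a006f2155c1027810103089080128100003d17a50408008041)) (.leaf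 (spread 10 9 0x8000888f00221444a00b05000000040826282a4640406200f844002903000f08111048200001c656a80000012902b442c63409c))) (.leaf (spread 10 9 0x200000a4ed00090a400481509800b008926aa2d5600000080e824091183401400092688200a20402680100220e102b0824622008))) (.node (.leaf (spread 10 9 0x4004706020004a04270180880c0248c02614a412001003020a008010909098292010862151e812d041050180740c58010260902)) (.leaf (spread 10 9 0x83820810608081b800200038080200400816c24042804108850570a085e3c300236200c526c0610ce0060040008000020a2d821)))))) (.node (.node (.node (.node (.node (.leaf (spread 10 9 0xa824008017a0448404421e000100124e210019d101b120091221148004ca5463009000304008864021828154400102111020009c)) (.leaf (spread 10 9 0x2040c0094221235002004050300008822748013001b2580801010900003140009e20080a222046080a1169bb494600200212a605))) (.leaf (spread 10 9 0x22004e204c02a100601c0608010110104441080ed282000998212e02418e30280004d3420802608102c848011070200412007120))) (.node (.node (.leaf (spread 10 9 0xc0080880224a0aa802146420402902b6005080890185140810406c0d12010809111802810880001e332c84102049020008077001))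 (.leaf (spread 10 9 0x460003040210940082201a0880c02120000401093c11050440800800198b008000a100a4014e014938c421390740d44970222107))) (.leaf (spread 10 9 0x24b0604424240444101014134048ec0f8080888690008920506040e80020228084412188080220a1a0078d61000c080804000e01)))) (.node (.node (.node (.leaf (spread 10 9 0x20a48040014900022a4c00954000404406a0014a1470c0a0304038b028421844183b011023401885134000204a13a10000209202)) (.leaf (spread 10 9 0x1049a08201020495040481059004881050020640888326800c470486020622320028383010088948054a01c800882864e304))) (.leaf (spread 10 9 0xe00012080030a200a712c940e0040b420e680d30802248080042090202a4880106310c082121220800006882510a088006120885))) (.node (.leaf (spread 10 9 0x880608240150222c024144c8780c85050d10121c011c20188045004000804210c010161140a8e044880120d008150883862010)) (.leaf (spread 10 9 0xb82040f20010008028218580002810004401a123a200380045078040b840820a118420ca7f000700904022500808e64000d12800))))) (.node (.node (.node (.node (.leaf (spread 10 9 0x34102005b20802109c4208a8210004139c6d100000430062102e00212a360c91804000e40200700a0a6002000020b20410d40054))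 (.leaf (spread 10 9 0x8c898001002b02a4cc0154308800f1a0da41410012008a0120004000cb5010016080c1100005466018484804b20050000d004708))) (.leaf (spread 10 9 0x40290d1c861088100850d49000400dc8d80200004003046026401e00c003600030102040c8c202216f038210210044107121090))) (.node (.leaf (spread 10 9 0x62026908008489e5672004040880081002802620101080540821019012260e2c8160603204109000180487043a61500982040800)) (.leaf (spread 10 9 0x1206690900c5852020a0b100a8440808188004002200c02c00208216703414aac120523004008010390084244a01122002858821)))) (.node (.node (.node (.leaf (spread 10 9 0x85100405129002001c0809b8200008024520110541054010704e04218a24148101646205007050202b4011008060020e51e40440)) (.leaf (spread 10 9 0x10010204004100600417190212942000c244000108d84c0098406060020290a025880324222403030032a040c11814356001fa6))) (.leaf (spread 10 9 0x10308883458433423170030101b00560880000c8062101022c4101480b01150000c009d840083202070080889a6001004a090024))) (.node (.leaf (spread 10 9 0x515038200cc388c0203c6a04805054211403182200493008484000040010101062e12047881048028958481c0b210200008060)) (.leaf (spread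 10 9 0x105281350444e006024b10608266102041128263088080888041402900d006198010034104c008a8088023004120119040108988))))))) (.node (.node (.node (.node (.node (.node (.leaf (spread 10 9 0x40401211421001408513c150c0020ac129410090803014000143080201b54c051d21440223014001090360b11444082000108a84)) (.leaf (spread 10 9 0x1014008040ab06080404241e18c04118028c1304500010b0358114048408309902888401064261140400c04440821486a12504))) (.leaf (spread 10 9 0xe062090aa02080421890100d10040881403401891008284188120203881008122e211a11498084d34473000c006042120008000a))) (.node (.node (.leaf (spread 10 9 0x4a48c41c830d180004000800882400020c28040882c08459238912082000a645219019880114246102221028054c386100004440)) (.leaf (spread 10 9 0xe915801b04841d198645ac8200250823a2a2000d58000220000d9501450000001421900000808000401000418000850033216ad0))) (.leaf (spread 10 9 0xc4814508405a310214063a00444e0806d0213260000a7000481162400460210088a0048400030382812011000c1040118804c232)))) (.node (.node (.node (.leaf (spread 10 9 0x40d412010a005284202010840f10808148c0804d005200108431032404c4309c1d1d0880000600601008210a4401281485a92004))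 (.leaf (spread 10 9 0x2088022824106003ac524344ec580b0806e84a180201081418c005005080800122200c400500288020443002d00806c0030a0015))) (.leaf (spread 10 9 0x31848193082000602492020001804024ca844902002496052810e00808a80407186983185a30c0080888200108880c6300061))) (.node (.leaf (spread 10 9 0x201246210c0420f0105120800200a3102001080110210304558501209a1a248f6d214000406200404600106a84e322000200191)) (.leaf (spread 10 9 0x142028200aa5c0040818005869940486004080000099db040001e3803b0800080094c18008107004aa802214070e20c00540054))))) (.node (.node (.node (.node (.leaf (spread 10 9 0x1984084089009023a083a0266421440020400800a1000a0842118883184104318acc0121000238002c125a088442005981421200)) (.leaf (spread 10 9 0xaa60c0c20010548024801a080b083267e0591a0001314209920000a600204e7000820030c0080028000032565000033810211080))) (.leaf (spread 10 9 0xc040064800812020132630431918a70141b2a040764100004031148010109004020240283104480a8a56000420300043181090c1))) (.node (.leaf (spread 10 9 0x145614463c180022000020019641021054824a0432101100200804d0c0200c40072010914044564a0190881104ab48a006402080)) (.leaf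 (spread 10 9 0x28187005b22c080294042880890000020c6c124200c000620189388420008601000019e40405e2550a2642480420362020480040)))) (.node (.node (.node (.leaf (spread 10 9 0x2950ca51003110a40c22104690402c642000822c04143c0a82848000003c60005026005a84501011045001c000441028240281c)) (.leaf (spread 10 9 0x1912818225147b493680031008100104090101eac2210040640000500f1421080ac00120000400200720808920214980288a1424))) (.leaf (spread 10 9 0x19190800116009004000c85280301710224c21a0141943308032221198330188882000220080403d10024084be00080b190020))) (.node (.leaf (spread 10 9 0x40400a4102181d428101d009c490104121140001c871950440021c4049b120000029c40001010111288222310640d20d20100104)) (.leaf (spread 10 9 0x16d48404f8940c22004820851201001020117024231024a0c41004d082080c8120a898000140024200084c10101a48a006120885)))))) (.node (.node (.node (.node (.node (.leaf (spread 10 9 0x80d621000240030018540640c3a05400c00e00200320c88403061200610a490275448000000c20020a875802283008c8a0272008)) (.leaf (spread 10 9 0x80686048020011408148a0089c309014921080248937154022088d400c2010080009d44041102191088220600082538501801108)))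 (.leaf (spread 10 9 0x400be2000208002c02002420434c1ea02040800e2724040b0c4834190a8480001b0010008892001a396ca8101401820208030210))) (.node (.node (.leaf (spread 10 9 0x80a0800009890006240c2054608901012380090c0890e0622220203039024803020b4100676618a6032000004000fa4040304220)) (.leaf (spread 10 9 0x244082064098e0484000880400820084520a401080418002c600d806080400e0312000014a009046a206a900602a04406388977a))) (.leaf (spread 10 9 0x9590884a8401489202081400e002922004021100648a00309812080015207a6011c10a00981023c0882122a0020500e2400c0240)))) (.node (.node (.node (.leaf (spread 10 9 0x140058800b440003c220040503018bb2300c08c04010a4914080c00085206001061420600501b9c9c20011006810022609830a00)) (.leaf (spread 10 9 0x4204000482904000010802032c0d890040180228440390421040c08109430021418132022288821494124a405885098684464544))) (.leaf (spread 10 9 0x412450804160000424c92822429010a001cb4207100be05704008e1080059050a0c04484080030009013402001804004080aa1c1))) (.node (.leaf (spread 10 9 0x10000663448802804a62304200c026888001d60000a8224020001880280d03820d0998000717a0090018141044600184186e0c00)) (.leaf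 (spread 10 9 0x844181414721419d40140004ccca4a0200440404448c010a650280c0814008922800319e24c00008000210040082308512805005))))) (.node (.node (.node (.node (.leaf (spread 10 9 0x1422005a44004408020632001045a10009b490000c6028050316102868078002080458207940804510230a08922c10808e00412)) (.leaf (spread 10 9 0x90108000100413800138190304901071a000005802080b06086842000008900041d001ca45e8104b260984c8dc42010100488264))) (.leaf (spread 10 9 0x4a48044841802870a32000020a98ca1003a62021100080040829488014040e0d800660325110000a0a4e8084203404130c340000))) (.node (.leaf (spread 10 9 0xe0080022200b043500b40020010131aa014200a40a49a708803b010b0a80086c00c0884602400221100083a03090c0291808180)) (.leaf (spread 10 9 0x10220bd200064440001600512050001420f6001302804238111294a400472500071014c403380140095c0804120050000d004708)))) (.node (.node (.node (.leaf (spread 10 9 0x49209000041000c01700082c0803040124048e110a00280a609074c8e0183028f21952049208110318040086080401028240281c)) (.leaf (spread 10 9 0x30078090a5100b386004011208101a0a1024c3c06031300034024a101c14210802901120806200000020802b24300b08a0128508)))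 (.leaf (spread 10 9 0xa41071042002828110017410c4031180000304062210894032190900000416141816cc2008d2028b801a20408858710208821))) (.node (.leaf (spread 10 9 0x210345c0069c86c2310104a046002208104080081ad800830a16c92081019440800268080220483060c044081004088121060032)) (.leaf (spread 10 9 0x104600b42c10022220048142b001228210464314701110042a8100b14c20204002107184c0d0060a002080010e2608088460a108)))))))))

/-- A table. -/
noncomputable def lineOrbMasksLL : BTree := .node lineOrbMasksLLL lineOrbMasksLLR

/-- Part of a table. -/
noncomputable def lineOrbMasksLRL : BTree := (.node (.node (.node (.node (.node (.node (.node (.node (.leaf (spread 10 9 0x804600a42c1544041400c30210a40382305341003416800000312102440062000214418c8b908c07100a40008a22800c00ec0110)) (.leaf (spread 10 9 0x10f0083600dc402301081134d048406024a95a2010020200040080c68c841c0054862203400060410521a8501840011849100))) (.leaf (spread 10 9 0x21088dcc100c84800941081004088b00100880103ad042830f02472184c11200c2080008944048034104700900650804208600a0))) (.node (.node (.leaf (spread 10 9 0x1228400843420100204ca91a8210103080419a0e9093004100608f6008045028a000dc40180030810082482400b2440610083101))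 (.leaf (spread 10 9 0x1040480418020413511900801281080440020861850051450c06416469411868c00206004013200322041604ca272010cb84))) (.leaf (spread 10 9 0xa0000f00003a40288804800100c4020f082204616432038814002a54882e08101000400010e106242080403983ac069091a86)))) (.node (.node (.node (.leaf (spread 10 9 0x64058801b2404000849212a022f0201014316080027002280a2c812123160084804a00568200208a80200a81082812441000284c)) (.leaf (spread 10 9 0x400030c020044093208802480205c8e62b142402040001022600a4081092112800300509c1a443c072100c01440c420941208a8))) (.leaf (spread 10 9 0x58d224240820840528a46400ca0002300a1001ca10005890000010408900071c416b326542043021060103849a0800824080280))) (.node (.leaf (spread 10 9 0x88053000044b2409000140890a083002010e8404e15219041280a2220008038d82a828406611a0c00d510010126001004a090024)) (.leaf (spread 10 9 0x280281408cc0500a0a0900868100a28d82000042481c00d4008005ed09055c01b12020024008012458048f40800140402cc8c00))))) (.node (.node (.node (.node (.leaf (spread 10 9 0x2210c3031fb0040024c004080208224dc15881900100b2010821048400ea4a3828920000c0088a40210230001101032914001058))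 (.leaf (spread 10 9 0x2400502003006c108840425b04852a81e080202220c45420a0024414020094c822800a10141150009488008b8020185180611209))) (.leaf (spread 10 9 0x28eb401010940a08b24300002089080b060003002c0f28457850004d0380040a11100b26a000100015914022028651440440))) (.node (.node (.leaf (spread 10 9 0xc0880200200c1253480512a12a121014018800248a000e90160418042a52941ee1410090010044a8200048020814e2ac0c0040)) (.leaf (spread 10 9 0x6a4a7dc0010002ffec000000001a000023a2200000000040000049100000022001240002400010ca084a9fc41b75d41f8e340800))) (.leaf (spread 10 9 0x80180804a94bc280094c80000008229340114209000c1c1841440da9760108011410062068010084202484ac030100012a033020)))) (.node (.node (.node (.leaf (spread 10 9 0x425c19b1a0100294044080810400000840160b02c08cab2288384400002205219010e8841282308a04006811ec00402060d000)) (.leaf (spread 10 9 0x2044000ac02ac04001000a4403008084520010bc10881a02c00298038814040a20210181490080532432100432288652c0888e0a))) (.leaf (spread 10 9 0x6442421a8151265045928c71802201000000081049040a3543006401a08048030868c280010039642082010100280a0841208a8))) (.node (.leaf (spread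 10 9 0x243020073202943c6c00c0242504c43198021030004324401002000038882441c641006c2a00040a08e000001015a18518008041)) (.leaf (spread 10 9 0x2e0010010e92a60000a963000038318000c0622a800012002c019a00800b9126b7400a488200080400220999290801011416840)))))) (.node (.node (.node (.node (.node (.leaf (spread 10 9 0xc1c00e410766411000020001280806068098900408100262090020918b000224d71c1160712609081408002310c0003a3003002)) (.leaf (spread 10 9 0x42048004021414000228190080880032c4000418120405440298c200100e824129900189414c1149624104a98550907100024544))) (.leaf (spread 10 9 0x1f01642000020800205140604180804a010a020028160840cc4d900c4c2801243811023801e004ac451c080c0024526404008006))) (.node (.node (.leaf (spread 10 9 0x46a111010880d402c6c14200663030800090468e1020122c8400501000083022a4608b4a2011405200020253213001001506400)) (.leaf (spread 10 9 0x404820ac00a24404100a84405000000020242a4d4898a0006004006821204ea411100820a003065262431001226825222918078))) (.leaf (spread 10 9 0xa500a14090260080092808100c1200b12208a8110a108a0248006603e0887000c258100c95c81003000480880c440900004c18a4)))) (.node (.node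 (.node (.leaf (spread 10 9 0x402306612083800053223042181d26828001b180484800002000948030801152015808000304c80982102c44a07000ec181a8000)) (.leaf (spread 10 9 0x248205a849729160545e1820841a086391002024140010140a182004204020014008000012130280913070000c08403038418416))) (.leaf (spread 10 9 0x400315e102d6c010710014884815761002418108884804820200d190c020144280000b0103204b4462000c0000040088101bc006))) (.node (.leaf (spread 10 9 0x49a4114004a0020460600086061010a349c102450043f0580c100206a4059510302500800012280a3000232801080804010860cc)) (.leaf (spread 10 9 0x180288882003a63100241100c1c001142b000ac12042501510800800804483b0382010825a81184080440b8a2045414010d090))))) (.node (.node (.node (.node (.leaf (spread 10 9 0xc170010008600c130021221a4c18208c40080a853424914b111029021800000305140298509002a149a80406009b1010020042)) (.leaf (spread 10 9 0x2e04909aa4043061508201024010130e4135c02a42381040410260101b0800088040102080660020010000ea20118a8081889504))) (.leaf (spread 10 9 0xa098924008c2a082006b00ab21002820013282808280044001888052830661000421082e901c041420089025e002201c8080e010))) (.node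 (.leaf (spread 10 9 0xc01c00608624ae00609264800142101012000000080c3321204002e4103d81011302107018490820801220800b06684e02a00412)) (.leaf (spread 10 9 0x3a4910804808380480c8140090681005021019104048440400268881c200a5a05c000068a2c618045a00992298c008020808000a)))) (.node (.node (.node (.leaf (spread 10 9 0xc850b920c4020a00240280420001002d90840a0202454000020c20098003080ec8c42d00a480435080d60110c61b002440920102)) (.leaf (spread 10 9 0x40002024209d8404260813410000100024a4001a0654002c21c628401042201b500001560408a8280ca8c626848040870009078))) (.leaf (spread 10 9 0xa18810042a51010048006601020008242481241094090b0a036a3284590100340a4740c000140a2040088708003011b040108988))) (.node (.leaf (spread 10 9 0xc00320021005c8081a02010045c180084b83800100201785b3a80402266104a032182940002812900000512010124c1210582101)) (.leaf (spread 10 9 0x4b62200040001400c0002700000810400010491000ca000058214961a380ada7340202c012d4085458109023ad80090009d00003))))))) (.node (.node (.node (.node (.node (.node (.leaf (spread 10 9 0x31080041500484a50142621890000100508201603060416b0f0247e804e0000450080240a402004143151004604c881800862140))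 (.leaf (spread 10 9 0xa80204a300146100c82300a58009a0000029118233056004400b81402848d018090930823c0005040024a24009880c4100112320))) (.leaf (spread 10 9 0x20112550c24067010620690842480e0001508106814084614001000b005a98c05420c0028001682a28052004004531280205220))) (.node (.node (.leaf (spread 10 9 0x45142ba0401021ac0c40831002040001000313009bc2ab00283040112002807190a47800920312a200200d10c4005024820820)) (.leaf (spread 10 9 0x1051080800011290800aa50840003890018d9530a05000a0401021240900470002061b8c240900000a0b34300488492e491154))) (.leaf (spread 10 9 0x40a0c22110100802000834814cb08046b396842001648440400a09414cb13000000050404011a1812482221302c2908028801028)))) (.node (.node (.node (.leaf (spread 10 9 0x1480922481069121238061220482540924008880200042a842118b82084109050a0010014000361038e4430480c0004899a00440)) (.leaf (spread 10 9 0x7085c4c0a1780080600400960822082800a4414025340820304a18120c920d0810188151204808051040002135100104a0008243))) (.leaf (spread 10 9 0x2000412009112812201010810ca56282e380123020e4043001020045008910a021c0500010b1708174c000832088981048801058))) (.node (.leaf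 (spread 10 9 0xc08000280030c0078a1209024c4400484e88440982234184188a0c02b6a001202610084020200a8800245480d2020e0004181811)) (.leaf (spread 10 9 0x8204635060250032092a0c908e0040a40811283048350a0200004210e180618400503c0198801206001408000144135011601024))))) (.node (.node (.node (.node (.leaf (spread 10 9 0xd530020a0100a02000100408138a88e02010018262060604d143a50484209800494eca48468000092141084003604025310002)) (.leaf (spread 10 9 0xb0a4124e006049188020420610010340015000004a44035d44a402392e08064200081409120042a12c0241103d100000c404c010))) (.leaf (spread 10 9 0x50182000543680830114402a8200048062a60100a044604e0d605560022040e6408c0020e803002141900060680080d000024544))) (.node (.node (.leaf (spread 10 9 0x450ed2044022020462c0009410100400481489c5b00901811230a8227b49310400402412800c0814088084110002041c0621102)) (.leaf (spread 10 9 0xfbe148f6001802903c1000000018100060016800000000420000c034000002600184000a60080099084032575808e7781af13880))) (.leaf (spread 10 9 0x360400180d7020a0041b100a44809061c8441c122048606810002162020a02a84000230122ae010380a04040811014016800b20)))) (.node (.node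 (.node (.leaf (spread 10 9 0x24080c1204120090a3806820836180c2011024870860811241104292180288820c80a54000300c220201284746910004004d0011)) (.leaf (spread 10 9 0xa407901140a518918a95ad08000c0101a0a02a4411401080800411209d8024041901400008a8a00002100001000215014706e490))) (.leaf (spread 10 9 0x40691000089a8d1a890a308200a0000800194c41156cc80081410001681e04000112062088842090b13040204085580c1006480))) (.node (.leaf (spread 10 9 0x8a008044124160841a8010890208419140a00412201432041a0022200948052504402103c3d000952070610445003050118886)) (.leaf (spread 10 9 0x84c1048099d6003010409288000114502a55440c094104f0850001d0800c160208a00a4211c00a4220040d000004048802128605)))))) (.node (.node (.node (.node (.node (.leaf (spread 10 9 0x39092410ca04280406210820500a0a0019182080090604004101102a025a38f0d2908000016240a208892204408211484a86008)) (.leaf (spread 10 9 0xa80030208600810000402504604a18c000842a11420994e882490088490040404440210d280180005c81412019b5288930256))) (.leaf (spread 10 9 0x14041d022510109201016e2082618110450280060072010020400292f0120c00070004027002cd2242849807048b402010480240))) (.node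 (.node (.leaf (spread 10 9 0x8030840341002052311a8900053001312002408005890b0524204188030185024111008204613249370901481e22020002018060)) (.leaf (spread 10 9 0xe5365c110148004406c840026882c100315803062009251615008a80c20c124680500102080400000410002280004200082029f3))) (.leaf (spread 10 9 0x684598820510000d8200048830bc0414180004a80314402a890508202080c2149c900a011028e112aa8020000a1101c1804480)))) (.node (.node (.node (.leaf (spread 10 9 0x595008802065200431604919c40260000210001034412201e0003103322000480906a044017b8000046b0901418102a0b0106010)) (.leaf (spread 10 9 0x821c48606265f40020b0200000451848180b8000080020a420500205383d102241205134040108508b0080030b04a01203800083))) (.leaf (spread 10 9 0x312fa00058003010482d8821101c1a4008102000410400002566401a011024e4c89284000f0410020c69080461824240290400a))) (.node (.leaf (spread 10 9 0x8220040201018026481882001486620e2d8080025120218c39008e31104443040c80231050020000210525ac406031a80005220)) (.leaf (spread 10 9 0x428320aa001448058a1028220004c0891d0b040042011405ab201c4280c303800408014220281a900020158842120a0254403000))))) (.node (.node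 (.node (.node (.leaf (spread 10 9 0xa06060060044014582100084003a000322105c20144c2141a4b80490848c800220194a1302c000020ac222048ac00210b192020)) (.leaf (spread 10 9 0x4a68c20030243a0240248050051200800d5010800243c818cc18004528080880cc21068950022a112800310024920101c1a40))) (.leaf (spread 10 9 0x4b60810002001000400200060810b0020810000c00c3905888211320a0e1a787353c088000142c621088902a05092900818140c0))) (.node (.leaf (spread 10 9 0x190009016190720a17d004140000046001802482c60105000401001905313208080009fc400c300601b06084b8004980408b1400)) (.leaf (spread 10 9 0x3608180880a000e00244824300805084180800c090861602a2060045d844c0304425d0a032990048900028140881c4000310320)))) (.node (.node (.node (.leaf (spread 10 9 0x1c4230423c10a00200a0301194154c314420068910008849300a010081004a521e201011486004d39c10001000214a00000020b2)) (.leaf (spread 10 9 0x2040648001030271080012500008000227d00000090252e021000959801852000c2408c20002064a08000f840945041e23128775))) (.leaf (spread 10 9 0x24b12401d16261000a7001084251568822004105006085a520030008401089c14000016086004d3860066108021420080200861))) (.node (.leaf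 (spread 10 9 0xc4020133c10c00464a0a5203494cc310000b62008c140c5114200000108004106ac00590a2204470c0400000311a1010000b202)) (.leaf (spread 10 9 0x4803c201b08200048292d2401e342200140128800058002c244880a5334230022068200602000809800108e0a0614464d0020028)))))))) (.node (.node (.node (.node (.node (.node (.node (.leaf (spread 10 9 0x230080400600502608210804b108040a5000260c0100016482186144561c094b0c1025880309110161414c8181801042001211c0)) (.leaf (spread 10 9 0x204084894000042108004211102808000188033208b242eb0900014994311200d20800492006424a0211600d4045001c32822360))) (.leaf (spread 10 9 0x190083222514178018002b202a40811401400026806208a4240010924114411007480022308041b05622810101094031082a1400))) (.node (.node (.leaf (spread 10 9 0xc44c12c440802000684101141414e412403001159100d5006240b4212c41100400402c520219014c0088044010821e184080110)) (.leaf (spread 10 9 0x2540005822481030c1a2a3e800070000192c8108000010388760a040020008510000006013105a4ca1b4082152300020b80781))) (.leaf (spread 10 9 0x194a8a0200000b804000020480600402227ca00414118100a0373a601c3c1149c0230022640609dc00220400080008011864a2))))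 (.node (.node (.node (.leaf (spread 10 9 0x8280021c8508d91420000018182103c2050808000340065900ce121a2a100644c1021d8802100061001211102d0040c10c006a20)) (.leaf (spread 10 9 0x104008000006244035912089c0010420200a18e1c0c831400800014848431a384010466200b7101000000a31eb414010d2b2))) (.leaf (spread 10 9 0x8022a406180120304280541844d0a00c0b41004100001082a4ada402430108a212112d6104180001040050040d1ccc1010060140))) (.node (.leaf (spread 10 9 0x32cc004040021c38e1a8090188480585116b8001001073a000600620001c048270680910082804491204c0004040008101bc006)) (.leaf (spread 10 9 0x8141810141000015201288088d308a0904062082048c21ac6402c0a9134020022420208604500a09300108583022202412205120))))) (.node (.node (.node (.node (.leaf (spread 10 9 0x8044002201c823018e60154442a04440c005c00480a4320093001880200a41026500920c00162001485514004c251884202600a0)) (.leaf (spread 10 9 0x1200d737142008082510a01c120806408038010400041c810020c4442158403c48722084400e8a80200850a002010009001c0259))) (.leaf (spread 10 9 0x8500692144003428000e200c619a21400da158882a00900821509020840400504040004120908641400c2c2b38802203c0340000)))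 (.node (.node (.leaf (spread 10 9 0x80200c801584219010429a0205201450280240d801a10001042903c00908940240d1085a41c9024231018540c20002014a408204)) (.leaf (spread 10 9 0xd214000412140280031c400384189800600104080004004608f0c030000202614184000a6088001944500261dc0081f0004ac77c))) (.leaf (spread 10 9 0x4008104a1c0d028500904844121a0009514093400181045044104648d045451d49000224014112018140b40040980f2000c800)))) (.node (.node (.node (.leaf (spread 10 9 0x28013091008a210c090041830a48312004460400c11214144201086a060808c3c3421001141888c2815108080240e1100608000a)) (.leaf (spread 10 9 0x20c0001400940880204e00011011c0040000f104e034a0a08c10204f83010c15c00090040800804208091498991a52e1130a0015))) (.leaf (spread 10 9 0xe002a100840608c01728003c0c010090464826900810a240088034c8108820389060c01826503100180481060c400000824c188a))) (.node (.leaf (spread 10 9 0x142a1004002140840022005209ba0420800491c1009901850611a20a3b08300010e0a40109006404888006ba8802200805610c2)) (.leaf (spread 10 9 0x22038500480a09088800a04306078c02c8ac0e8608500010428a9a020180008704448100149032220212100808840212844c304)))))) (.node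 (.node (.node (.node (.node (.leaf (spread 10 9 0xc084461448c04200234004aa080229c0200d443202b225000a20025211008028f098002000a3324000a54184160858008400412)) (.leaf (spread 10 9 0x810094008028a20c540015442050009a092104803414024600822088040002e0052260ba08026608842201946121024188a0d12))) (.leaf (spread 10 9 0x70210020140280010203110d2420441011693909078410040700481c500063000803e4100040c062820ec02a1380809001c14840))) (.node (.node (.leaf (spread 10 9 0xc088081204120994800a00612000822848007140ec10c0a09e10280101201d0890001080589421418e0912a0010500e152080011)) (.leaf (spread 10 9 0x2140402b320c2a100248405e034008886000002001c050080000a000082060c002000a1212005e00941dc0eb815250010231720f))) (.leaf (spread 10 9 0x208700c1c00418918a10b841000c80990d0002400101300e836430508188020400024204292cb81014a038010232000045047400)))) (.node (.node (.node (.leaf (spread 10 9 0x202f8c12920428144c64980100300840388a00804002141025641020000a3824121020000c4610a0cca9aa00210841586300000)) (.leaf (spread 10 9 0x1000128844101c090840081025404a0820088b520104404e0460088242c804500010552c0240854004a5318a00580001354d1e0)))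 (.leaf (spread 10 9 0xae00000200108480a78c79418301024218781c2288244808860003820020880004833d000038102a10002ac67000010c20050083))) (.node (.leaf (spread 10 9 0xc10c80009720a800c493208100e0b0105010601804406728088400600015c0088b460450100080a480200c840c26024c1420a006)) (.leaf (spread 10 9 0x9004405220040440010240102115100110c201240400407b4d0a0ca000c2211909000e54832a0140431d1404204894004d043108))))) (.node (.node (.node (.node (.leaf (spread 10 9 0x1055a841024003001850022843f02582983c0080122300a20a0601082b020d2500c800d0400870028a0008820820a0400005281c)) (.leaf (spread 10 9 0x6011001b040685088021ac4208c10402339500189081092100dc48514500181010208220828012200059104008092920912140c0))) (.leaf (spread 10 9 0x2408802ac088028018000411d0c545011c030003c11441500600800000847408003e06c000d3a8184400c0560300016b88100054))) (.node (.leaf (spread 10 9 0x8880331080c0b4d2004e600c61802020172048800a20004001c084408444005044804088809886140649a4212122281e90010800)) (.leaf (spread 10 9 0x40c0cb0070202c22c14825b03020001320090044220a208cc2d214900608448000a191000000004294404444400861a22c940104)))) (.node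 (.node (.node (.leaf (spread 10 9 0x81030c0008200000a730804060a401068424a574c00002416052a9320264020046408eb01900025c0080e00251088800422000cc)) (.leaf (spread 10 9 0x8d10100701a10d010c9009aa002c28022222226d5b000000900c042588a024061124d400006000004200000180420103512f0e40))) (.leaf (spread 10 9 0x915b1429680180d8004950910f70004400241880a160442090118002208e2c2001201011808c013030ea0000a810080384002))) (.node (.leaf (spread 10 9 0x302302112400820049401032089c020a0000d78048e0a30020000c003c0413b0049514000543401080381c12a430016802168400)) (.leaf (spread 10 9 0x5088e213b89231000201021000346204150028590158006400d00804b0688c222208210628831008000b0840a0044004608500a8))))))) (.node (.node (.node (.node (.node (.node (.leaf (spread 10 9 0x444021901080818024a424201416034102095420818101269142a4014118810502042a1912022405220009200711013004a02608)) (.leaf (spread 10 9 0x800095c0022000c200000859424528ae381124020620210000402c4810d1110200521001012689e770400a138089800520020cc))) (.leaf (spread 10 9 0x2420081f840620208180a80280d100820315441a01280182411a60141902da081000822080340ca0015101420011281585090004)))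 (.node (.node (.leaf (spread 10 9 0x2120204e22809034010882602d25c010d2100060851334503000c4020800010548015044268c0090888224481885018504020140)) (.leaf (spread 10 9 0x420000009c401000421408045c0011008147006128218c25000401200023440048013608de14540040200c4c80292334cb101e13))) (.leaf (spread 10 9 0x1402208385e001602c0c88400421588400490409b0842481820a0081d24600101061902020852009418108f0288100500310209)))) (.node (.node (.node (.leaf (spread 10 9 0x1a06000a0c000100094c52b02c1630c4ac844005218023400280400803828000992021290900ca04c00423822224600310824081)) (.leaf (spread 10 9 0xe084d64a08c020201822056311123344413280005240004841a020381b08000004011028942450302802402420120000c080d055))) (.leaf (spread 10 9 0x2038304240a010cc010200108838c164a0a42a20d50222042004960600014864200b108859112884a202088000082121460209))) (.node (.leaf (spread 10 9 0x262e80100108030a028a80800304405400a102001432c22470c16411a040024458090800095149006242008c4a98208810011206)) (.leaf (spread 10 9 0x1044062141c00188c4c3654640622ec84001100080243240a1000800000746004d016084a30500c14845001004440900004c18a4))))) (.node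 (.node (.node (.node (.leaf (spread 10 9 0x48540c40830014eba8018029e410044021201040c0a004084400680068810230222c810088201800a8129e008e40d01d86100000)) (.leaf (spread 10 9 0x60015421040ec780e00114280c01741053410908928008010a144810c10030000002e3100300426002e84818120028801101c160))) (.leaf (spread 10 9 0xc0d4020c781440050000d08404a401814840e0c0391a00000033290804046014011c09a0820801a01258080e0281100c00ed0011))) (.node (.leaf (spread 10 9 0xaa0008201c0280480a04314180608040116838e50444001a07004093182001808883ec0000201c62120100a21690014c20414090)) (.leaf (spread 10 9 0x4a2832c054c42012380202200005c8d242b200068c00414a2200b4280c30101000080c120281614082901c400c4826094800080)))) (.node (.node (.node (.leaf (spread 10 9 0xa820009001831405092101820048102005528404a0501c0054c3a24004000b8a43a221417601e200804108180020e0400005281c)) (.leaf (spread 10 9 0x711110800107119360602104000180e58314260a218304071026a40151821008890100080020020072080c00431c008891a8028))) (.leaf (spread 10 9 0x8a001021a081300a00716a133100489014822140800028010044b046e12942632200850280804c8b00048074802802a24c800))) (.node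 (.leaf (spread 10 9 0x40280084304228888080607008365a018000841c01020d1488ac0840020640c043644401441ac18401008401111922a08832210)) (.leaf (spread 10 9 0xae1000147a12d41120a0200412c48820180281000883248400c0000c3989100044e500340322004908c400011304a001b8003003)))))) (.node (.node (.node (.node (.node (.leaf (spread 10 9 0xae00200041022e002018d2e11030201000447342800008023c110bc4800b042ea1872c48000009a802010810a0410009840284c)) (.leaf (spread 10 9 0x40015000b114c01081040da202468026300322012244010a0420455028094ab1140560400305001e04001098020030948e90240))) (.leaf (spread 10 9 0x28005018000a4108131021a11840292088060d88052230e080011821c40900d3404604038c580800a00828044450d80126480040))) (.node (.node (.leaf (spread 10 9 0x847d00400e200149501020009c421210120000040a1c11022108acd480600800030310f14040640800922180c18279c502841000)) (.leaf (spread 10 9 0xfb610820120000000206004e0040c000000000ac05c0101e0000000068e0638000006c3180007c62940dc4aa0510c18823814ad0))) (.leaf (spread 10 9 0x43b8044ac1800850029043880cd0420200a10032100080860200008085800099c416b3225301040e094ca03004a0001244020210))))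 (.node (.node (.node (.leaf (spread 10 9 0x841982028080020ec04100300000e884c24065101e15100d000102624010100540c0912000252f0dd80104063201541001506400)) (.leaf (spread 10 9 0x8848c0000001b0405400019814201880205aa08848e80051004811420a9001016a0414793800460a1200048201214da0c4400e1))) (.leaf (spread 10 9 0x413094000508014106c0400828824002343012120040280664900088c5281008c11e1b031a0d0802089424321000021244402911))) (.node (.leaf (spread 10 9 0x101402e4101200050002020804804020a8099b19048090248782eb18161280020c03c0140010c0a6811280061142002301111c40)) (.leaf (spread 10 9 0x8801300090c8c4800a4a0104e181920a230028b10d20202153a004002441046400900190000ac61000da812100234c1210080024))))) (.node (.node (.node (.node (.leaf (spread 10 9 0x14264024010868010018500000000e8247480600eda212238014964a10284e180022000028408906440c006a58008c169002802)) (.leaf (spread 10 9 0x6005848ba0405401a40402920023082800a0410508300228092c910105120080905880592095014ab01240011080015432002a40))) (.leaf (spread 10 9 0x4807c2044000800d00a834104110800032e5850205648402084a204948a4c40202001008001d02a224ac2210808380220a430028)))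 (.node (.leaf (spread 10 9 0x188940908c803004809b900016204004280008119148004c20108881926ab4201a480525228218080c02182080600c60a0070008)) (.leaf (spread 10 9 0xa0685000001750c020000a8403222a24a40300004009430d120220846a210a348222c0c0008e0020c40c061600900b3840028480)))) (.node (.node (.node (.leaf (spread 10 9 0x2400042000116003a85052482c200a810380121212001430014044100089844b32c01c1414802080e4c8010aa088934880a80011)) (.leaf (spread 10 9 0x54295d548618de4100c080100005c72890020800404124402e8080448422000020822001203048090f0300274080640030a0015))) (.leaf (spread 10 9 0x4008204029490080228093800c201024400011120154000421cca82090502c12920000d484012c03ac425228070044871a00542))) (.node (.leaf (spread 10 9 0x4442821ac3d40441421a32218b4d83200c0080004d4408151310000020800002284040a8a149407410830800302810800060902)) (.leaf (spread 10 9 0x20021b0900420811420602149160141424054048381230080020a31644328045201a8124202000ca280006081b0103a44822210)))))))))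

/-- Part of a table. -/
noncomputable def lineOrbMasksLRR : BTree := (.node (.node (.node (.node (.node (.node (.node (.node (.leaf (spread 10 9 0x80422510820530c0054a200c1c00201496080080083041400c848c481c0800da1484c40800102b941a68a0600002008480401e88)) (.leaf (spread 10 9 0x91c0c50c240a028230106c10e0093010400300d20e82014a205204000006008c211970000ad30089801a084084d0230821020))) (.leaf (spread 10 9 0x1a4184e00260308c0240006b2044209214102010c6392580c1402c826088400002420005000c08c36002111b914980440084008))) (.node (.node (.leaf (spread 10 9 0x8500008300e90101050200ae11b8040c305204f030028009910c40258080000020205d023066008012808201870460e3002b0c00)) (.leaf (spread 10 9 0x6806101e45010188025121a00001292380022a280b4012a090019525dda000020c04840008c820000200004080409403262ccc40))) (.leaf (spread 10 9 0x4280440200109480c4000200000000a8006449412c1009207920091109820d8a900000c010dc094dbc505021258001c172002803)))) (.node (.node (.node (.leaf (spread 10 9 0x21000a4202724b10c1804004c20d4049211000014a619135481002f80a00a0020028a409008006252a02201146309004004c0110)) (.leaf (spread 10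 9 0x260404490404a00c1192908b48a012419c602c3a3348604000022000021002208000a083a26484240200444a029210093200a10))) (.leaf (spread 10 9 0x2807c20032c24040841247643ed0221006204a00220802142c44030150502284202200408200289301010241c009064540020005))) (.node (.leaf (spread 10 9 0x12030864800101c0d09344242100080000b0685120460370083081000753001a0ca00108960a004124614d101804094c2008041)) (.leaf (spread 10 9 0x18200004503802719508a000046680e3c0411024d4001c0d000063000050a444c810a101212201509000426091d41200105c40))))) (.node (.node (.node (.node (.leaf (spread 10 9 0x846042008800d1c54484d0a0062038814110008a426800a80100504040342008e4541d4a381044528000040221a0058014c00a0)) (.leaf (spread 10 9 0xec0304a809182342402a02a080cc0045802912001402600c40096654206024014809008018110900003160000898001190050726))) (.leaf (spread 10 9 0x3043040704400042006e522000061400c89648214180028210d14608029140088120210105a0082c50222ba04122710148c00080))) (.node (.node (.leaf (spread 10 9 0x19000221c1c084bc904a600c40022160548110082020904a2190056404440000444040c0a080044546450812225e0b1900040800)) (.leaf (spread 10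 9 0x6a4a38000101008a6000224000120002854220002b0012a010000159814050000c140c44000314a80042964010649403262ccd6f))) (.leaf (spread 10 9 0x50d6211120918a100a0831420011801030a480914056002801020c801260310a4108c815520488180808a402a48089038008010)))) (.node (.node (.node (.leaf (spread 10 9 0x80260d0220264140011004452104000510b4013d008006434812b823004405180e801e9409000058405110063268c40040000608)) (.leaf (spread 10 9 0x884091908808420800001184a440408c880040806814024400a860ab0a0016a021242202804028a5800c4d04e82162400888c31))) (.leaf (spread 10 9 0x2412002c2d092291012204a83008040da46d10088c4200068028425260730401205000c0000011000839203020a0820494840286))) (.node (.leaf (spread 10 9 0xe8220222b82a60b01031801903019188600021840048a73300730008400409608000017402000039a1066320001080088002191)) (.leaf (spread 10 9 0x880080040100b6084102219814244040060e000580ea43110088132300900020410490987c0c00085e4336820030510040120cc)))))) (.node (.node (.node (.node (.node (.leaf (spread 10 9 0x8052c0300000861010411006804641f8473aa0668c8804080041406001108431801804200a80888201400304c5e008a0e0002d00)) (.leaf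 (spread 10 9 0x4800690480004010810401050243810010c02a08024429a801001417200913b900b51480004d2480050a04d0015420940e84342))) (.leaf (spread 10 9 0x16104d0008040822c14005351225091320197054031824ac4480180084004081201120002108226084400210601228260a830902))) (.node (.node (.leaf (spread 10 9 0xc020c00c822080c7ca9f018118640048401c40091041610008820012881000302e440851108280c101a14484002602000c394002)) (.leaf (spread 10 9 0x420044400a02041d044005820802c0018430001a2a23808880000000021148400a08469446e32215001091c022986058414f80a8))) (.leaf (spread 10 9 0x85560480a0001095058000808728388903000108a270482021005848e020a08024946d041426511081001c04182604001058008)))) (.node (.node (.node (.leaf (spread 10 9 0x100534020441042020823a010806c88821000400e34218040084a22620240499a0a9cac8c4408004094104244a0110002a231020)) (.leaf (spread 10 9 0x2100d08e248e49320246a094000201100010040a1c800300088820901d8904010208e008094c20e0c041004806598382241032))) (.leaf (spread 10 9 0x70063225030250089800424404800200c098409d00c1404384935582184a8100204052840a024850a00a802c41001221008111))) (.node (.leaf (spread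 10 9 0xc08801a020420ec88284032ac8218090005204d00090a6408040244c11400029106008890a4060283114801008c02600805610c2)) (.leaf (spread 10 9 0x900041571802002000900802008840200e01035800200384dd02711010129849200188248010cca4d9b201520042000f05010824))))) (.node (.node (.node (.node (.leaf (spread 10 9 0x8c24304006c000123451213411140050008201070f02100a4042143920500414104e2640029844008290180018883e190080011)) (.leaf (spread 10 9 0x144e3880083833220a52020840401060c0055810004052e910080024010948081044610170a2000211280284a110b2014840a09))) (.leaf (spread 10 9 0x609a2041043684060012641202400502328400e090052921046042e8042804c010008260a8030021801710e0084c284800a04440))) (.node (.leaf (spread 10 9 0x62050821c0044080801812200008601015030440420008098a256c12818e0084040a53560b02228004a0299902300a8411007040)) (.leaf (spread 10 9 0x9110010db18410310aa0051004e82a0104201400aa3049002201106da0882085061261041020021085406411182200098040409)))) (.node (.node (.node (.leaf (spread 10 9 0x1811600100408201485800204990820a01180e90d82620204a14040c2d00072400910690014a4412d018090200a6c46000048204)) (.leaf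 (spread 10 9 0x908040111440841c022081805802a4050030000a0a122810000820000281cc8028084216502122054332930f1018004e26428588))) (.leaf (spread 10 9 0x8590004000220101083019020c4630502208204f0a180106180c2c07a0a06000c39010c0c0600408060e0480f0420901001c1a40))) (.node (.leaf (spread 10 9 0x105042b601021021009006020c884008260098c00400d3a04380bf3a021898010c0148108000060ad8a003040140000e01100474)) (.leaf (spread 10 9 0xc32008903c8007443020008170740000d00685002464800085028315523c1a001809098c50081b0640010100000200820182781))))))) (.node (.node (.node (.node (.node (.node (.leaf (spread 10 9 0x300841122192108123010600006000e04512a4070050800051d40200f8408c82038021427923c50000012848080a400400d50058)) (.leaf (spread 10 9 0x11188810c4594107820a1c6184469220400201400a8280f0860320011000074890510200d08402a1080922000100008a52140209))) (.leaf (spread 10 9 0x48078202d24084c130192021058c802c8e00812810041905820902820120000208110080a442025a149ac01030e0b1810040800))) (.node (.node (.leaf (spread 10 9 0x81878941005002201800046291b07180da3a00001302c820010000084bc80821658080d04c0550600802482420100000a022481c))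 (.leaf (spread 10 9 0x90000000108001a402208048d830a60110b8820a46120300003112008001a0800080c22530090a00c352130501398a422a1092c3))) (.leaf (spread 10 9 0x8088a8281018044000414489d880101711868425c15711442200900101903008002804404111a0902c00025206c2010d09100024)))) (.node (.node (.node (.leaf (spread 10 9 0x400f8b04340680045454149100500c09480a008080010221022428206009790622102200c48412814aa1a910000005181621200)) (.leaf (spread 10 9 0xae8444c0248c246410b004634002220e0002c00b1278104840a2412801000018844120080022703020824468000488a001400613))) (.leaf (spread 10 9 0x10a0080029100013e402204465490b20b2c808080010a810c281846019004011830c23610506388422021002c040024201024224))) (.node (.leaf (spread 10 9 0x61820000542204a70146263010400082202001c0a065294d0262148006c844e20084822044000040c38200c4404c209000a42504)) (.leaf (spread 10 9 0x361084147a900c0020c4208412008004013081048104ae800801c4dc2189081460e00004810282400809508093000a2114181811))))) (.node (.node (.node (.node (.leaf (spread 10 9 0x40881020242002052340c2460458094248e00b3182034198188a0002e40489202021000804212a0820602c00030a0ec001081884))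 (.leaf (spread 10 9 0x204280004183400098c0ae4301670c0ad81c0c8208401082d08802880002820da4020210101a201400c2102208164032434c000))) (.leaf (spread 10 9 0x46082208a0121e06004d19214810101214aa00a028000d0012850c2083128490e500933181042501200000201010a0a5480061))) (.node (.leaf (spread 10 9 0x3684404000026d5c10e08a63400422042008210300485400208345284102000c201002502013d05214802408840038d600600681)) (.leaf (spread 10 9 0x11488985400c80050843280984208a00410283720a8201e8060240a910d002049000024194440a09000160086028801c120403a0)))) (.node (.node (.node (.leaf (spread 10 9 0x85124c10000000000840d50608474154235820460e98252e1c001904a01640c1801020004806001005400202e062082188002942)) (.leaf (spread 10 9 0x14022d88014600b10fe00512858830800f22050028508101030158450028000622044c001006900085400145400604019018449))) (.leaf (spread 10 9 0x83280814410080b00a0071509b000448981252204200442484001490c3536000200004c400c222606b0600d824100802a831020))) (.node (.leaf (spread 10 9 0xc221040103608000e08082000100420624ca8800210024a609012cb509040386079c21c379021000000818a0404090282043032)) (.leaf (spread 10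 9 0x828808a0200804600294442be88202b600028459115732488000400d0150080a01680008000062342228145008c00d0009502003)))))) (.node (.node (.node (.node (.node (.leaf (spread 10 9 0x7429002820c38801000008116418450914016003078401000601000000096e48086f944008c0c0784200f022630400008860084c)) (.leaf (spread 10 9 0x4100282c80810044920241050240100002b028180244212921000204004300bb00a205080c1aa1801c284df09004429c000d055))) (.leaf (spread 10 9 0x540210d3180a000020040143a64020d404c64010c2905014020504e00c002c4007501085049c004201f008010a84402a07000188))) (.node (.node (.leaf (spread 10 9 0x40a0181604860304a064000130304228ca0010442c21f0080c10004e83011510100001805010a012470402b8991c100453080004)) (.leaf (spread 10 9 0x80a09c0000302e4cc00305000100000a2f20000230242203100400881581220051004c640011660084a080413105004ad2a4f1e))) (.leaf (spread 10 9 0x5490d0968106b1003110430011884608020010c42600f10a00d1110a0a41110014004811d00032124004020083c0110419300024)))) (.node (.node (.node (.leaf (spread 10 9 0x8040024145002389caa1450642c24a00c0045604008c0040330010800803048268087a8ca50280c8000810000805108438401c84))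 (.leaf (spread 10 9 0x10001cc510024290480500001398400e01400821840350448018256460010804b0420e105009c000110c06880237a9130a89))) (.leaf (spread 10 9 0xa48024046a10050310630001b8068314334c041d601c420c82d1800144016090200200a2000480804148082001000520c6400e1))) (.node (.leaf (spread 10 9 0xa02025444318010600c420c1180001c44100807d60004219c2918014008100903c182828021689801044c0308502014088442a0)) (.leaf (spread 10 9 0x280092002480ae080906309a0aa8224004284c11156a60010002c401211002200500a090ac0420a0334144020092d00810160c0))))) (.node (.node (.node (.node (.leaf (spread 10 9 0x82028708220028c8880132c20481042810002049802308d6413008ae202060441082010d8441e40041000a00119002a20aa02608)) (.leaf (spread 10 9 0xc5900048405a411782021800444610084c007040aa1a40c0181328011520612081901880c00003a08628108002010009001c0259))) (.leaf (spread 10 9 0x84094300101b108200008b06052208848023002a000960200011a0c04662139482228489012a4080c8a002102d140b100a04c010))) (.node (.leaf (spread 10 9 0xd194414920130082800d30400414600039800c41694f94e90121108000601008410c8015c00111000003241a24008201c408006)) (.leaf (spread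 10 9 0x821802001c33828a8118002b0500888000a3800a8100604005909150822243878128003a801a001840a00221ec0001500008c118)))) (.node (.node (.node (.leaf (spread 10 9 0xc248404000120c3a87082482c0000c019009440500804b9014440000483c048220cb090a8800200ab128e028408d10890184002)) (.leaf (spread 10 9 0x7d89d580830200003111d04411c08008018d104024140841904b100a0c0201201518c0114c40020440040001a100112405408027))) (.leaf (spread 10 9 0xa05029440448280258a02099020118020124840dc01b408908209092810009028a40000a0440c588417528001480824c188a))) (.node (.leaf (spread 10 9 0x83010b28c5000d04209010c0111141a484040a0002514400805e448828104a44c0050d40a030005080529110a501040002d04120)) (.leaf (spread 10 9 0x14ca38240aa98005083200184a1a0066800471c00000da8140000280090c2008106465014000300006000a8e8b0820c94040286)))))))) (.node (.node (.node (.node (.node (.node (.node (.leaf (spread 10 9 0x112ce04169482001c0008b06040890000000010611840000356ce2185011640680a68085070402031c434001070060421840082)) (.leaf (spread 10 9 0x2208149810566a40a00100403788000a90100728064b084c32182a440200090299000e920009101811910400028709230a00)))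 (.leaf (spread 10 9 0x209b02ca0020050a8028e802008107000b1420a80094210104a4023964281cd028000643220202218c4e008008080128c1004480))) (.node (.node (.leaf (spread 10 9 0x5480e01a80523d0010000a00400c6214106033514148710200d1410a0061010a200440162007129200040800c4007094082442a0)) (.leaf (spread 10 9 0x24400600200040211079882488a0784200c0084100404021203002400809018092420a22c814851503001090130285a2841749aa))) (.leaf (spread 10 9 0x2100c95408360020061200600780d000ba80208c006b8f03381068c80080008008480618c2204108500c0884082488ea04440)))) (.node (.node (.node (.leaf (spread 10 9 0x18bc8021d0109761004108405a0b20900010708025004483d02002d09012208110241c2805300094000844001018c820422000cc)) (.leaf (spread 10 9 0x10a01a404709000882210c0a00162000004110e31110407408100000f0b00b400013084a040250a0024a0450f420c490421a329))) (.leaf (spread 10 9 0x4430c085c00282468134430130284748c000000c080161002c8110068940041014c0495990189000010082b000bc10000b390020))) (.node (.leaf (spread 10 9 0xd8d81c0007a00c05001745299a0a02068a94100210008213000000808900a214510c5564c00420010400020b1101004a5080206)) (.leaf (spread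 10 9 0x500c22044a0180098208002083189c8062a5850a2144000a0c60145082204142c1200018889b003805e002409400802000420638))))) (.node (.node (.node (.node (.leaf (spread 10 9 0x23800002186900231002a6304801408020002600a8050b08026a98801c5104320ec400a010102840410a2a88945020904140a900)) (.leaf (spread 10 9 0x63280c4811040c90008501100484170408288410100150921200103184c10099c40181aa10410483c10c681080230064c0020028))) (.leaf (spread 10 9 0x180660040809802080a03010c2540e2050a0040c26008009002a0458c0a44542db2010100804029a3d8088500483022002410430))) (.node (.node (.leaf (spread 10 9 0x1b0344100081008800c002a9244000c10414a280c210e100b131308125844200224280658618000a641a1042800992400225001)) (.leaf (spread 10 9 0x21c000fd001408803c5e40018418d8000000688c0004005408f0200440020001420000000000008008503016dc0866f03b4b845f))) (.leaf (spread 10 9 0x44a04001205600021402340166488906b28488e00004ac01c00142608c202040940023e00003a189a0021503085000400c804a20)))) (.node (.node (.node (.leaf (spread 10 9 0x408310222204402488652810302242280c1e1c34100994000d20844e800333020008012240310030424002884c10000a56001206))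 (.leaf (spread 10 9 0x4000282b00a14044a40880405004040806700202009ac20000c002012b204d8c20104880a0074004aa002001037ab140ad4c055))) (.leaf (spread 10 9 0x105002a0010252c8b68008902a5080140848006c404608a0043000404fc420580f8900003404003050020509202108b300a82024))) (.node (.leaf (spread 10 9 0x83220052440104041100420010c42000198491000c602004a1028633504d5b4048016920541005050101012a4b6c50800100601)) (.leaf (spread 10 9 0xa004404708040140270002600680d0204884690018421d46100088c0806800041a288a001a18800158cc3085028480ca04661)))))) (.node (.node (.node (.node (.node (.leaf (spread 10 9 0x805443c31910100400820e0808080028a0099bd100a0d2009a001422040a184b2802003080008e28018283561100002904011054)) (.leaf (spread 10 9 0x2044440a08410000092610200812b44464922804600120c202d10408031080001c021028a5204828b236402022221103d8804085))) (.leaf (spread 10 9 0x801013042180b0204804111014ae62024420461591a061042280972120c0022404002110500800283541668010a211484084008))) (.node (.node (.leaf (spread 10 9 0xa0041011720412850020e0088914010140c0604431400110c4020b2804c2201c59090910822a01c00218000440841c184d862010))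 (.leaf (spread 10 9 0x42101000008510824000420054140098814e0541280018215000019901464400480404409014540d8060546004a8234366011cab))) (.leaf (spread 10 9 0xb1a01a080256081841a4020062084149000102010626032944a400410008a642002c94014280c4a81a006000e324180084408108)))) (.node (.node (.node (.leaf (spread 10 9 0x290002401140c03191484014c0006040848211695060d121281022fc08448004107a0202a0802445034010104212812000860902)) (.leaf (spread 10 9 0x10000204800180420120408212192810c24200a10ac418878810e02414c204a0020c0224442408730110a001034212436105d30))) (.leaf (spread 10 9 0xe010121c7a1052012020300c8aa4810008808089381a0100c400282c00c25080440500b0022e01401040290806043408c8622005))) (.node (.leaf (spread 10 9 0x9184c882003601400390022006009004b200298e182d83450800804888c8048302010d008818c109004038850aac040904220)) (.leaf (spread 10 9 0x9441004e84050c42530001126122b060108299000402083e08060c10010a307309200e00800301440001a288000914644c043000))))) (.node (.node (.node (.node (.leaf (spread 10 9 0xc008403018001d5c4d8202612100002a40045103401088a02730231008a01080100040805848280c2c585880648500a140086802))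 (.leaf (spread 10 9 0x102002878200863cb24240ac04048063140d101020088c4210280021301c2888444004e02800540242c0020000161b910a04c010))) (.leaf (spread 10 9 0x80425ac9110011029081448400408010a0005605008080003a0814030403000f282212a8bc22922803080962310480c828401104))) (.node (.leaf (spread 10 9 0x601a61001200147e6c018021650c25282002101640240448040023102880020033008100ca00080a287899801415848708200800)) (.leaf (spread 10 9 0xa084904008c100000a0435410008814525a02844144120ca036030b0190810041a0340002524183212700020023211414010d090)))) (.node (.node (.node (.leaf (spread 10 9 0xc40a0c240509080028872539d0120276829060881000c09340001240000ca700402353058200102100010907020120c31040082)) (.leaf (spread 10 9 0x10a01a58451210088092409024408200010803100020118864320881000015500510140c0440a21088843086028919652148ba9))) (.leaf (spread 10 9 0x22042e008439520504088be79016f072008000c0008400a2650106001001050092408222c2049291400820100100048a0415400a))) (.node (.leaf (spread 10 9 0x809443c8a01344004089900022040204888041092e4a15c3010d009100ea4040810190150081548002214258050a86000064004)) (.leaf (spread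 10 9 0x4115d82034008644360010993050080140168d44300803800a048010521c18162050060250881a9440012100000200001a29b02))))))) (.node (.node (.node (.node (.node (.node (.leaf (spread 10 9 0x40509124040080204643805022861024301212ca00440804600c010980420c08c0961b0b04822830889421114210101040181910)) (.leaf (spread 10 9 0x101000e440050241140c4089849405c00a00400300888006828051300603423056400030a40482290b22020950488831662209))) (.leaf (spread 10 9 0xc020a446480068381c024500055121144142810000400305a5a42008270104020019142104201291640143241d12040080058041))) (.node (.node (.leaf (spread 10 9 0x85200a200166d018e0028a0021081000949018242050064603010c248d041580d49010234804190012085882108090320023020)) (.leaf (spread 10 9 0x10002ee810180246602a024000c013018809d61004802c4c000d6ad8224000820c0b801008b580000010000100420103512f0e40))) (.leaf (spread 10 9 0x13683a0720a088050880090940202a822a02c26c4a800c40141800a1009a00041106441004400b00002160008898001190050726)))) (.node (.node (.node (.leaf (spread 10 9 0x40501433240a02002000a0420441205650c40b10b28141100a8c0051c400280000606110c488524800f008100e0b08a281208180))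 (.leaf (spread 10 9 0x201882aa48a813227120200180a585000c000289003401029500802840805480a00606d0020a2300054280888a20052ac8004085))) (.leaf (spread 10 9 0x80201001052088000a0901089345c01040d105c0182080880a124500412e24440084102600882e288000c99138522a00826311))) (.node (.leaf (spread 10 9 0x28120a21025000b10022920498540c15300c409c2034780aa2a1840344306201600280220000808000400a89010421244402911)) (.leaf (spread 10 9 0xa104880c8174804481810116004020600c0800008e815000005c090274800410481d2460aa0f000d240c210070a4600025081c))))) (.node (.node (.node (.node (.leaf (spread 10 9 0x821202088c0289a4310804380c8108c004884002010232510082115812a206049120213a02509100400407022e20404110085888)) (.leaf (spread 10 9 0x59a0c0328010178018000a006a0833f500507200116040839208c09a003041900104003e200000b1080000015008e4380a201080))) (.leaf (spread 10 9 0x83e1008208ab2080240000741099040860000800008a8562000042350584000000495d0a606f88800ba402014008e66800710800))) (.node (.leaf (spread 10 9 0x144210113400e006444090b0a09c0020400096ab08e0888d2048090080400a1104945049044200b08c1400100b3001404010d090)) (.leaf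 (spread 10 9 0x13018185256205468231600400a00d30020822c242402a004a40402000000600028179320149d288a804000a2402f2024420008)))) (.node (.node (.node (.leaf (spread 10 9 0xc0402044cc000a00e30101166282102490961aca03050824220423000003042248003e08a4024d40000020088009103458101c12)) (.leaf (spread 10 9 0xec09502405205c20880044180403a5b1c04040a08080884028144810a25010002282a210011540001b88000cc200184014018329))) (.leaf (spread 10 9 0x51112800b09018060306112100980410584244a0081244600a050c200288c0d094920b0182382103a0889400109000c1380020))) (.node (.leaf (spread 10 9 0xc804130e80a0a680209efc406100000016600d0208260000804202c000a48001068a300801591222840822802102280e0a030902)) (.leaf (spread 10 9 0x4c0824611144443200040100228002852818854480294112009d002190900002cd01c102004a3480c1086010312104c88240500a)))))) (.node (.node (.node (.node (.node (.leaf (spread 10 9 0x5400208c4a810c00b20000242322908400b4834a1104099a2a010e50210920524120040884034444040102829000042414101c30)) (.leaf (spread 10 9 0x60118108049014384641a401270418a0204a100e640c0240000c15092244800030029900448208110934a9910014840001210a10)))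 (.leaf (spread 10 9 0x212b80201c122710080f00d00a89224004114450010488008162440429100620011286502d8400100265042441c7c4000004440))) (.node (.node (.leaf (spread 10 9 0x8c16088008261040a1060a2020401008c42058244041465cb101842c01108d081450402944818c02110800842102b0134420008)) (.leaf (spread 10 9 0x21104044c0a0224491080400801085488a40420041800346008c1624040140306440000a10100aa003230801884825294ee3cd))) (.leaf (spread 10 9 0x850028a4886c44008021800009108bb23008080034d0c28141006102c4887a000214000c85809803410070a00820410408ce0c00)))) (.node (.node (.node (.leaf (spread 10 9 0x2a043d809200128504008029c1162168028030568084000044000b106081001013288102c22010c8a03a00448934149a0c140000)) (.leaf (spread 10 9 0x48006902002000108748c040d007140014000410808242d000c010000b340c8ca003280c85404100b020e82902a8920881c5b42))) (.leaf (spread 10 9 0x131858e11162090060306c02a092542020041b201049400800202002f211410005e0211288804010005948041e340808000861))) (.node (.leaf (spread 10 9 0x891024a0001131238c402b04d2054260008b11001742a90009408201444bca2120000c000026102260240400d00c4069800802)) (.leaf (spread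 10 9 0x63a2280e2280c825010008010920291082000268c0108c5231410081000601240981601604829a04989066101881080180040504))))) (.node (.node (.node (.node (.leaf (spread 10 9 0x20108644040420a13800482003020181a08184419825920055800404bc0a058e78000006f54002008024505205106300020009c)) (.leaf (spread 10 9 0x900400040214420001844202f00d0300205102004407906408b000b12c0022400004b0085280860d14024101de248804c44cc118))) (.leaf (spread 10 9 0x858422444806010382c2c00444a6140904448080a10042880011890118000135809e1122400053201470180d0089000900e80240))) (.node (.leaf (spread 10 9 0x7016020000c002800022ee8418c50c02100e2082a064d08ac4890080c0400301a40202021902448410e28281c01620264008010)) (.leaf (spread 10 9 0x2280183180145101070480230528001c4a042c0885c382842840812008492250004a10500d401300005c8001843928208030210)))) (.node (.node (.node (.leaf (spread 10 9 0x4110800017242600a4c0440900aa608052100010044032616881008450284108891614401869880000322c001103222a7480a010)) (.leaf (spread 10 9 0xa101182a248200c080503a0080015c28021384476001000101040034001210b40230044581111400891a02142921520216a462))) (.leaf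 (spread 10 9 0x100402070201950006040622300080e57080100019288000505b180083120e01800021810601c8c0c5c48d840045021001be006))) (.node (.leaf (spread 10 9 0x610200c102da4752c101100846155008410008008a580c81081218b04121a0028000e8190100033462a8001002002009201c0154)) (.leaf (spread 10 9 0x410508681600d0041100988918c240c126222d5e300800800a04009086101423004480231260082400002028741618011260a00)))))))))

/-- A table. -/
noncomputable def lineOrbMasksLR : BTree := .node lineOrbMasksLRL lineOrbMasksLRR

/-- A table. -/
noncomputable def lineOrbMasksL : BTree := .node lineOrbMasksLL lineOrbMasksLR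

/-- Part of a table. -/
noncomputable def lineOrbMasksRLL : BTree := (.node (.node (.node (.node (.node (.node (.node (.node (.leaf (spread 10 9 0x3180a100900213810100001100d620e08208a85f0018800450640a04e0a8800003881146d1a01448200b0048a8060000005490e0)) (.leaf (spread 10 9 0x1040c8480a408309480802000382a782192c0e80c0002480480200848702040d0250444041403511d21809404904842001012a10))) (.leaf (spread 10 9 0x600aa085a04246428524035a4421d1084020040408102600888010840148a0109040c859281011283110811200802030221c1840))) (.node (.node (.leaf (spread 10 9 0xc411008c000102d3412a4680b04c0448805c02091840600044011016015204206a4c41409010100100a9443000b80201068104a2)) (.leaf (spread 10 9 0x460800101883009231854824023260090000008022200013a0858c08061442864b9420800021e0d00080001c5235843411474))) (.leaf (spread 10 9 0x1000744011820020604289140c174509004011008c00148281200202a2721842111110610dd20c18009050045c0831862032)))) (.node (.node (.node (.leaf (spread 10 9 0x12205601103008000a0c1c414030042a3206c02802484640541800d3469100150014401066102d000403a0020284340090043422)) (.leaf (spread 10 9 0x42904002009424008400400002144089914a05800400106169200c8048c24b988904044090e85b4021301400210a230374003028)))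 (.leaf (spread 10 9 0x56194a1910101600034e29004880101008ca443020120020480402200318440020169b30069f2803808816200088a026480040))) (.node (.leaf (spread 10 9 0xc20000010b010066a0080008050660002b88080071213ca831412284006000800f0ca253e900100021853d184000a020a809202)) (.leaf (spread 10 9 0x8810500180c80401489201249190080a225026b9d902000111a4440c08412544010085003142000250808203020740e2500c0240))))) (.node (.node (.node (.node (.leaf (spread 10 9 0x81130c14920170082042310c08040354a2880082581849488c00081c001249c10404e0091807011010403048020604008840284c)) (.leaf (spread 10 9 0x191200160180482040b486838e0909d0560490820009482003003b0a028800208818440800010408928910250100e28a41140024))) (.leaf (spread 10 9 0x2804109ad60080e0000941804200510ec001a02a02881a30c1039403b9a0000a000400a069440202100000d02a08964280888c00))) (.node (.node (.leaf (spread 10 9 0x1220902208449412770040509a0052480812568c000054268410111022407080ac008b4000012240090e0053a61480062000404)) (.leaf (spread 10 9 0x9d04ba2041041102014161202025400004448000800008a00000028210000d10025a002240024d3034a65b0504cb0051996a1640)))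 (.leaf (spread 10 9 0x10098000a3920138202c691b0050504b20008b80201300810014cb000844410f23001008084030c000a4432600b00c08f0000d00)))) (.node (.node (.node (.leaf (spread 10 9 0x88003d31e20032001400a0000000206940c02412b2c52310040000194483280c48202910c00811cc80b20024c81008a241960200)) (.leaf (spread 10 9 0x24408600488000211010020140001010008808bac882221d8900000266309b38500051492802c080024840410451300d5262612a))) (.leaf (spread 10 9 0x86060500231422e4011924c70402200c1800000908b000c748b6c82a0000045814864c0c0000681840500260100080a000420638))) (.node (.leaf (spread 10 9 0x7488424345344228710229405004c218288048142000b024442800280318640028319820001a008b0088028a40a1100608000a)) (.leaf (spread 10 9 0x8800150718a1470010984862202840004622234c08250000d046005000a4b0ad0004b00500505021c90011080042020f09030a00)))))) (.node (.node (.node (.node (.node (.leaf (spread 10 9 0x80024a01140492081a20018040c2880041201005001c0010330844830e210481686e6a0c582012e0130011221010044e30400580)) (.leaf (spread 10 9 0x800085882224449320885a194000e04e12050c00022000000080820c00d0312200e01448c184c24f00408004c40d821c6102061)))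 (.leaf (spread 10 9 0x5542c0d91c200040a60018282e012880a2215080a60c1212101402cc0a08083008205000402c31004007d51500400080058041))) (.node (.node (.leaf (spread 10 9 0x10890181410480110c70a8810d108209450002d0880e302c420400180190022680202285895c0c1010016802102a802008245300)) (.leaf (spread 10 9 0x21000014c1b8200203191d0000031d008c4102080001000741081c40006941286cf0420800401ac002300813848210894d684c))) (.leaf (spread 10 9 0x1248401e434210a9045006002c6000082422e4004450c001438812086000bc1101c12b1029240401042020080148080e0010445a)))) (.node (.node (.node (.leaf (spread 10 9 0xa0544050c010142096a02902c0480c448162820600103c2104042000183c00805023001a8808204b2364a024104510290424004)) (.leaf (spread 10 9 0x208820a5a404488a94ac0354cc00d108067a22d40080004008c0348410808001002048c004006100281400160c002630224a004a))) (.leaf (spread 10 9 0x18080366068406a0481638402040001482600c0320aa2230200210a4011d03001708106213191320041a000003004004082a0d12))) (.node (.leaf (spread 10 9 0x6180c303199022002000040100b662c4d31a84100140806041a0080458e808a021801040d8a1d14020022800200a000060809078)) (.leaf (spread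 10 9 0x49100099a04421153201a610000302278222000c402002200d248600001040a19039101121148548e08044019280054420614090))))) (.node (.node (.node (.node (.leaf (spread 10 9 0x80308800098100554004201444c81a201340040408905802e4aba450010008920303216566c0600000221006c100f84010064004)) (.leaf (spread 10 9 0x40200360620919024041c1301000a018aaca0447680a0008c29a4191130c44004080001100008402804054624c08230a64001028))) (.leaf (spread 10 9 0x594008000a0080490807200fa420c45001611960038000080600488f78c00280888088218060b8008403c4080600c05c03400290))) (.node (.leaf (spread 10 9 0x321000191701000098210c41310a040a3205000880430165901c405346550813801000a0020031021059a00020803200905610c2)) (.leaf (spread 10 9 0xb520094a9c00280200903000901348a00454070800080000981a410039105a4030018a00a838a4d0d87301100061081200080024)))) (.node (.node (.node (.leaf (spread 10 9 0x24080028240130210002110c6438070d05ed580a0e00100401404010500904492060145200c08060c00c302a7080828081ac2004)) (.leaf (spread 10 9 0x310009c442a52001810c4088810480009850020501088360820855148202041224002802b414802149074208184825112840cc))) (.leaf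 (spread 10 9 0x1148480428f08201080c9140000026821806520c40481e00480000b1470b00d512104500605027000024a0440b04041180013320))) (.node (.leaf (spread 10 9 0x12241300608e1804584101084481a8842b02054648820828121a4089104ac0040004045190040009006060a048a80209060104a2)) (.leaf (spread 10 9 0x840903629100040640400300010248848054050802194400005d80e050901244d0058500082ab480da21001035210c1002d04005))))))) (.node (.node (.node (.node (.node (.node (.leaf (spread 10 9 0x4400803130444022040a10a022f80004311284e000648809c00d492180920000c4025b4200422088848023110b3010c000085888)) (.leaf (spread 10 9 0x302024a624011030008816504c84c008275000c0950210c02084b62682008881082548c084080000888004842d05041422020360))) (.leaf (spread 10 9 0x22000a210c2c1260107023c180b68860004008c104540002350104401a010580a0c68e084a001782030010801200052a800141a0))) (.node (.node (.leaf (spread 10 9 0x21804a005402284c698e0600202000930021000ca22e0189c0a0040200c82462002493224484418292c040004164212024102500)) (.leaf (spread 10 9 0x20c0009000000800185f840087a85800000008010948444c20360200402a51885e400120804400040a0219129aa80ce2ac0f004a)))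 (.leaf (spread 10 9 0x410040046920141c0dc204620200102007884483420b80a004018210003130400808469c4868b004005450d024805090400ba080)))) (.node (.node (.node (.leaf (spread 10 9 0x21880c0ad08004d00001419958c4550648c184220001503402409001a1822018001602a04141008a4800c1500682016680000430)) (.leaf (spread 10 9 0x2040a00101a400886000624054320098000a31018b001a1040002201800654404c100024910510b18064820004c4ad00444d59a5))) (.leaf (spread 10 9 0x1802a0823c103100028852501c1460042d0100c991000048248880248302a8221a602521080108018c08108020254c04308600a0))) (.node (.leaf (spread 10 9 0x830110940000507101085402e55004d0800a8759104470210001009f01544400206e0000a0006405026814500090414062800803)) (.leaf (spread 10 9 0x820422044e27020b820440090718140002068502a140600c0190c520800203a580ac00326891002105700001300001a000488264))))) (.node (.node (.node (.node (.leaf (spread 10 9 0x48182081016422330000a0010080822744190c44c0284034081406080890042280312015835e4410c008600210ac44412060d000)) (.leaf (spread 10 9 0xaa60048410a1040490b00062004bc0058482c28c8478182850c2004000a4238840002101400070318005cd280004c08801010a10)))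 (.leaf (spread 10 9 0x8682000203088000b664114583004440004ec02082a45884820426800510a80035441007001e000240d20c426804000c600500a8))) (.node (.node (.leaf (spread 10 9 0x450a832401080900800d006880300ac622e20008242240e3c4159640004c0f0000a24204a0680026100c100602200c061000542)) (.leaf (spread 10 9 0x9d003a2001000146000001a0002c02000a21c20054802c40000c06a400a02c02000a8038002009500021680108da0113d12f0f6f))) (.leaf (spread 10 9 0x9046298530c610a40540049203400a090d02100880008821020008216088a007269628040424d30000407954482004099000440)))) (.node (.node (.node (.leaf (spread 10 9 0x2803421400409041014814124110c0000088d710d0e4a1202814206f1904c4140014120200094442002815108092c16002060005)) (.leaf (spread 10 9 0x211400588040031081828340000231100808c008820110090050024a70829851401500691200240c644443295334201024059d))) (.leaf (spread 10 9 0x2804c201c02994c498a02002100828248642802e0004180f8202a000182140a0000504048c42105b2594a014104012032006810))) (.node (.leaf (spread 10 9 0x1a0000080112a40120118446110209a0e0104882420206816842000058100c055006ca40c090608829201a54024004b5a82206)) (.leaf (spread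 10 9 0xac803061004002909151044002d40354848288070ba2002200f218006050040012c036092090120209900220380020400288c31)))))) (.node (.node (.node (.node (.node (.leaf (spread 10 9 0x300d202040022600501a80e19091600000047650400088802506444e218006e4c1920c402081181206450830204104202900058)) (.leaf (spread 10 9 0x1010008c41008200840a0508140298c101052120201c06404481a9242524010001864acc04000400605d2c820120412f1310b2))) (.leaf (spread 10 9 0xa068100600800314806800603031c004c200e1448c353028920008420020110d4000910440942111c90514281807528501020010))) (.node (.node (.leaf (spread 10 9 0x1c880000482002110c1d5130084432809804420400608f0040206001434291519828c908000cc6400044a2443204420300804380)) (.leaf (spread 10 9 0xccc31563934440344144020068824a00285c850c80090512050080c0c00c12468800010208e0000042000000040004881291520f))) (.leaf (spread 10 9 0x221b030a812104420c80002a40000b01c914a188210820010c250205002a88102e110a0146008a5306460001088043ac01001108)))) (.node (.node (.node (.leaf (spread 10 9 0x13909442cc8848000a40208005c00208b49152201010208064100080c0288089052898014305040a0198843014e8009004426801))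 (.leaf (spread 10 9 0x80e8600c0a4251840850668003220610a48225104400c805430a1204610108108165a800000c08000404800b00300b88a0128508))) (.leaf (spread 10 9 0x24c90b0800000005000100e240c852845b8c02e4c2850414044608059010421a040142202a98044810002c050c1088080a42504))) (.node (.leaf (spread 10 9 0x810b904100cc00001000d870304036610c02001200429880d2169422004580810315cc023000418050a144800141810cd04300)) (.leaf (spread 10 9 0x6a8080680040028942511448a044409214a238094aa10c02844a680068088800924004090084100209004122906221460084228))))) (.node (.node (.node (.node (.leaf (spread 10 9 0xa024201102e00280a54124140340020504828a00058000a340900d316010001606de20c52200d60000101a20680056690000430)) (.leaf (spread 10 9 0x4804440405094100016300910841098108062ba8060293c01000818509a90031448200038a980010a220084240105c8604444440))) (.leaf (spread 10 9 0x4be04002001002801401a500000810002404c9712e00280261014074aa00a06eb40022c012080199b8405007080001401ad02800))) (.node (.leaf (spread 10 9 0x10c041050000e61e13c200660244106007082003840884800001402901182208001887f02850d00201c0220484801f904002a480)) (.leaf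 (spread 10 9 0x82980202202900224c02c431ca0048a40c0124101c151a0a00004204cd50000600c0503010046a6440090d009040151009502108)))) (.node (.node (.node (.leaf (spread 10 9 0x10c1d935e8084f080080091188055028840200206885a04c349020908222172020042002101008810000580648a874080080011)) (.leaf (spread 10 9 0x420010009000008240042c420890844685020000130c868014120151220031110814505124010d802503a2135046948030a4242b))) (.leaf (spread 10 9 0x4a4d843809182c40022880008a8c401080a800001020a00d318942013004264508000881515821286263008c801c201100040504))) (.node (.leaf (spread 10 9 0x1a640c4400625838a12801490868819054482000121121a841c00406208800d008640204104d04c142038410095000840084802)) (.leaf (spread 10 9 0x1482255a4002889a8a0431560405a00069a4acc02850844103031800082000060004c800500498020003000880840b038418416)))))))) (.node (.node (.node (.node (.node (.node (.node (.leaf (spread 10 9 0x8050043081a250c8b2090890f2100a04a0004040400204081c8060006a850232062a8240040c1420d0160e00028088394080a060)) (.leaf (spread 10 9 0x1000029a00401042099042415013024882430004262b90205640c8000104a2482310801313000488140951181801408a0e14530)))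 (.leaf (spread 10 9 0x9800d238104c5908451021693010406080140108000018a20022420004089090507260a24c4a080824885c8444cb000100480240))) (.node (.node (.leaf (spread 10 9 0x1a60840a01098310000886225296900d21800088512a810010184830945002149802250040618840c124a584004010380424004)) (.leaf (spread 10 9 0x804888a300835000b401854040040408005c084b08422000f88402482820022c3000408080068054c04330002a5280624b6c0a1))) (.leaf (spread 10 9 0x83820452000284235148c80014820a06148410005c002048590288025008500400816a304612251528042480433160880000861)))) (.node (.node (.node (.leaf (spread 10 9 0x820403086114082c091914c4048161a40800284048b32802013e48882000605400340d4190010018015008200181120802e10430)) (.leaf (spread 10 9 0x10010208002010600040424140c80200830c082646039512264048445844e22a002882c01201048890000c140ca149080a52726))) (.leaf (spread 10 9 0x2011300101075100a0e4014c021142a32204030064820505360a04084110414049040108c1a441c0603a4000021640895080820))) (.node (.leaf (spread 10 9 0x4c400440314060308161081048a04a000cc6392d10029b00082080cc080d0305800a0022c8b0001102c08080401004a20495400a)) (.leaf (spread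 10 9 0x190042a401284401402584850a110990300408c20400d7904180a10201a81821041008188081010aca2111204030428641440440))))) (.node (.node (.node (.node (.leaf (spread 10 9 0x268401450003030a02c6800543041244060001028440c28420814d2188020204203a0530285151011540040c0089218a0060a204)) (.leaf (spread 10 9 0x32280a2a4d002102605023c08113092084400a08025100009841856859805000a0048f40080a3480024290009060040202084125))) (.leaf (spread 10 9 0x8500ac22401006901841450088454114454680268052012424401000a1164410001a0420408288926400c30605c2006189000440))) (.node (.node (.leaf (spread 10 9 0xe104100080a820a81100b25102009188083801c010960e024813800c44040970042061b8138000088022231641418400a090110)) (.leaf (spread 10 9 0xb46b16460458006b54100000000210005a824800000000020000dc1400000060012400014000104e0003ab9941ab7d654ec43080))) (.leaf (spread 10 9 0x1019400021bec0c101040040000004c14c96120500440208c9440520730148c6029041207843058408002468080000958a030140)))) (.node (.node (.node (.leaf (spread 10 9 0x40241800041090d001040ae402632808ad0380004005010920022988e0182a29f2004004100a8123420c0006808b652200408204))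 (.leaf (spread 10 9 0x90100000000501a4018919810291025810e01020c008280888081200004888044480078004b8d0af2820a0cad040450ca080a243))) (.leaf (spread 10 9 0x2402002b838c62008808021780c520818003080221046188400ae4140820f4080008028214110c000415c0421111185180112206))) (.node (.leaf (spread 10 9 0x8020812d80418044a481001402e1200219a20000804141064274010034814504a82a4000a265022c0408200610a53106a8200a)) (.leaf (spread 10 9 0x8801755568210760100808002220406048032010282503c4144050105087a88c001038019000948490b210024040024201024224)))))) (.node (.node (.node (.node (.node (.leaf (spread 10 9 0x20240010730c038e0000804801140c1401d1600050008904d0c0800206c88264d949180080534f12020000944080184879000802)) (.leaf (spread 10 9 0x2044040048380a1481001000401214140092389a4001280482c48006461087205c001868a4424d001300402080c1980f5800480a))) (.leaf (spread 10 9 0xa810801008829c510065208640c408201732800488810e0000c9c4500500191044a100249280820000491005c120a820b0016810))) (.node (.node (.leaf (spread 10 9 0x1e004440000e082804500e614024000a200ae00802584448648912084400403d2051221821b02460040220280604386612000412))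 (.leaf (spread 10 9 0x10a0022a82812042030040871413060392430200028010800011d000000020c80a10003354840871101150000941020b5cb5579))) (.leaf (spread 10 9 0x1328c1616c1c8249004289108000950820400824018484883410a0d400221602808600a1103440890d0340011828600810c0004)))) (.node (.node (.node (.leaf (spread 10 9 0x400f220300015200212001804503880848a090050030061481a8418504582090185c4a4848841060910041121002685430182200)) (.leaf (spread 10 9 0x404860040100a64811032010002458c00002808c8832815098c80262020041814b0494d9440cc00014002600091908a0a632028))) (.leaf (spread 10 9 0x50a0c420803000824a0c08834c20006c069444081364c080100a08922eb011140814005122008881018100015206a400a8201003))) (.node (.leaf (spread 10 9 0x1248004841425040a34008120a3880141a40182c19861b00006888400c040408a0096000d930001308824004203006b300a8200a)) (.leaf (spread 10 9 0x900480040210070002045101040888632401045010080f420a680230100c1020684400c32524111242588668011211f10008c118))))) (.node (.node (.node (.node (.leaf (spread 10 9 0x10c12c80802000004a10b0d222840100c42085264c001241c4d4690250212024a04004a21408044523808050508028011820009c))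 (.leaf (spread 10 9 0x2004860e2616a0041824480000700581b08800008003125125003e00a00b112632000240ccc00200a12a0910210845403600290))) (.leaf (spread 10 9 0x12dc008911810000c0014440210e2e4a02010842c06521e0a908c00042056010408300810a2001c210c5010c04404000824c188a))) (.node (.leaf (spread 10 9 0x2a4815810820421480c84800107b000502a2a1880449280082c608120000a3a04004100040c471004900dd201845d00f08000800)) (.leaf (spread 10 9 0xc00c48000405da0021220080014308080b038000000c1385320001852a39203172224144188c00708300001200126c5e00400681)))) (.node (.node (.node (.leaf (spread 10 9 0x6c11300808010c50245c2a040001080d1800ac656049304840440414014202a442d9240389104c08000241100b005000142422)) (.leaf (spread 10 9 0x420444402004001d048930100102211000248481040050921200004148ccc4a020018da9301102a2408d2010c8238021991aa028))) (.leaf (spread 10 9 0x418340050363140abd4006c604010280405400544c014a5300904080110c9010804216854a00c80002c2000801220135c00801))) (.node (.leaf (spread 10 9 0x60020412440b00801362203018412082800027800860a34000009c801c8900f20cc484000650281082282846c4500084026c8c00)) (.leaf (spread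 10 9 0x5421002b08c4c000a48000587c10208e0832820210035a0e0080410022084c822880890020156000098c0211073481002506005))))))) (.node (.node (.node (.node (.node (.node (.leaf (spread 10 9 0x445420443048411080c2188040e005810c447080121202c81822810909240135808a00a2c2085080826008830008100400d50058)) (.leaf (spread 10 9 0x1b018229213884801828a00d0a02011030c000060020908c218501020104112304408880b0e0012cc6630110801d421100040409))) (.leaf (spread 10 9 0x24240d8a9a401001049610208233286814902104880010000a180100231400c0101a800aa63120c8b03e40000828111238000404))) (.node (.node (.leaf (spread 10 9 0x852403000aa1c2100350286809049d85600904204090e1002808430013098218c19040080800302100913054170a08040400430)) (.leaf (spread 10 9 0x3194002000010310c00824a881404310008c1382404000a03050402409002093024a0788050901100400b430048317c6412d1d))) (.leaf (spread 10 9 0xc818000669004828091cc480042921b54048c080018908002134698826010000011806a1000100983389002c0301120802058821)))) (.node (.node (.node (.leaf (spread 10 9 0xc0000f0c108921801007fa424d2804005022224a00230000403102c00020b0840282800d014b4242c900130021100a030a00b202))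 (.leaf (spread 10 9 0x124dbe31002008801a10a01c068c0500b0b801061028108180844102390025250840008150b8a004a2000090000120010004259d))) (.leaf (spread 10 9 0x289171442801012172090008007301407000501108274685044144a002862a9a0000488a1104a4100431008040c100422100c00a))) (.node (.leaf (spread 10 9 0x6406480100c000440680d5c428c4001012102a002238003c0e20838472561286806020120000001101200220e861522180002861)) (.leaf (spread 10 9 0x88c2370082440412414402006b804005800c00400230410005c48041d00c02425504c40000a8a4801b296000212008d890411209))))) (.node (.node (.node (.node (.leaf (spread 10 9 0x880437006404071219400e00aa24c004400600200030098404401210f1064900055204003080848232a65a020140405091621200)) (.leaf (spread 10 9 0x600110240420143000422651048688a0205040c2e444184420061404a2448cc8a0868a08450010008b8000854204141080211320))) (.leaf (spread 10 9 0x130410801202098504408038c09420a0808d9a1f849a800504608b10800180100480d045100010a08113000409320442081090c1))) (.node (.leaf (spread 10 9 0xaa0048f46833a0102010000410c51008600108004082042200000205018d102009d5d102003368990bc400033808a0101a803080)) (.leaf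 (spread 10 9 0xaa7000014410042948a0c52413d0480188003730088244c111c0000c18013440c208004d2102004e04a0000102050084b8003240)))) (.node (.node (.node (.leaf (spread 10 9 0x4130141101880040088880c24047805410480b402ea105100b209304d25842810060211248020001047002022843182088200191)) (.leaf (spread 10 9 0x80e8a00910292020c10154b02000a04a8a4100434208a080a0c8c580530540884081811100000442144050050c08c0284d041108))) (.leaf (spread 10 9 0x100402280532b00880004044a0c40711830c0114060311192518198000041126100802c004616212814008144289494022403a0))) (.node (.leaf (spread 10 9 0x214216010c0c048000411008068810524447080100220d90560d0130920110c9283a40004051c4002600092804e100460519090)) (.leaf (spread 10 9 0x82780a22212184420c90002b40040a820823a0491d00284084140205883a08060128503804000a504221080188c001120108010b)))))) (.node (.node (.node (.node (.node (.leaf (spread 10 9 0x11922041001000200054062a92400582522600a0102148260b02130802c84426508c80404c010060828710a42800a8c800266004)) (.leaf (spread 10 9 0xd6a03140008083b0200000480000002a31004003c159180a04506285824314a76230c50ac0290920050300000200820182781)))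 (.leaf (spread 10 9 0x22000a2260106110c8024084c80b0028322840100241a014da4181680800d0102328a4210c0e14042206a000402804c003080330))) (.node (.node (.leaf (spread 10 9 0x84e9008008c22180024202aa01210410285204d000808461810a02568104000000612c0ad04d08c031148001c204268980528400)) (.leaf (spread 10 9 0xb47b92004080010200690020202168020048845182000021800002420000010002420826c0150d15b1041025320736958152e410))) (.leaf (spread 10 9 0x25816080184d0021100083d8000910417300440948074680a44008c8201606120c8408a211902c4800040a800841009221008111)))) (.node (.node (.node (.leaf (spread 10 9 0x33a3020922208000098000090a2203132a42c2044aa080002181000000061120148724040cc2130481b906109419005100940422)) (.leaf (spread 10 9 0x4550020820013a0812220810001320410a48108020112318440824852848009008500791300224085b04b4a134020109c0259))) (.leaf (spread 10 9 0x10c121041000069b41022044304d08608a48280b1038a0104205102403180308030c136291101200208b0022828002000002a4e2))) (.node (.leaf (spread 10 9 0x182800b4068144c4c41218010000000420840c1103aa20183010d488805e342012181424522817400d06080400100000a022481c)) (.leaf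 (spread 10 9 0xb030521856100840282d1400622a410a00018029a20a0321c404044300c08202000400b266141d0290402000220436008052a400))))) (.node (.node (.node (.node (.leaf (spread 10 9 0x594038082830a8401830201d84064410007001001008a009b0084303390012420c008801e1f8a000c463011c000142100000209c)) (.leaf (spread 10 9 0x25050028a24801a0408001690005231411a441008001022803302202600618484094001900107c40c1f0036b414400202006cc))) (.leaf (spread 10 9 0x6042c900202000efe8ce018010600081202801880049294182d20012000020a200251202408441c245c244c4016440120c340000))) (.node (.leaf (spread 10 9 0x44200102224090524011c0360000a118a80210064067014880032390b0882601f700000460008d2200c898221409250210008060)) (.leaf (spread 10 9 0x60420c00c00cc10218901e483300888102901115100036420000aa2000500d1a22811d15408004886441000a2208824280888c00)))) (.node (.node (.node (.leaf (spread 10 9 0x200801200d501120501618200c0001028340002524e00cb40c020026000942046548502113995280543080410009403448101c12)) (.leaf (spread 10 9 0xeda2008843824627010318001150100805001850a0540c4110433081040241a20190e01144008204e2800090000120010004259d)))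 (.leaf (spread 10 9 0x42804106020080a046700800008025240201034810100d147920011110020d0882a108a6049288249894611122c0500962040904))) (.node (.leaf (spread 10 9 0x8206d0c6290650801412431012800682020054222602a51000550102504063805022420182806813000b02008202860520300104)) (.leaf (spread 10 9 0x88200448840902d4a882444c02102894718095608041090040101518900145049a2202042041024411083408008c0926e80040)))))))))

/-- Part of a table. -/
noncomputable def lineOrbMasksRLR : BTree := (.node (.node (.node (.node (.node (.node (.node (.node (.leaf (spread 10 9 0x238006001000b14809940008002192134c45280472ae40012081200040461460002403600cc62106a09902015150000404101c30)) (.leaf (spread 10 9 0x1000120046018c0906060c0a2140a0d0200894011128402158120000a1306b2004292090041158a00340cc012002c290181e160))) (.leaf (spread 10 9 0x802660040822528010d46290c28206004188343866008091020f4000400a4102d12100000204291a0c83980820120200a2310500))) (.node (.node (.leaf (spread 10 9 0x2dc0000060000005831084030063640320101ca00540114390c805b80406800c29310a10020a000109c210060d07011221c1840)) (.leaf (spread 10 9 0x1a00022028580020020440506004e10d0434021094028858800700c944804680804022714ac08400010d20100811148bd70158)))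 (.leaf (spread 10 9 0x4000354802004451008050100045c8e8190108000020200226c08e440003200800d21141c0a24a2f625086174080c0106120885)))) (.node (.node (.node (.leaf (spread 10 9 0x60060090124103480059000046015828c00a0a220b480c88213210226120080a0c048020014c220602850010aa08044bacac0040)) (.leaf (spread 10 9 0x94d5008c10400c1a0028e284100104600a54202a0a5020504404003002481fa22808524211000201202e45121018002806028480))) (.leaf (spread 10 9 0x40831024d42011b50144026504ca080228708100c405011920020080e54ccaeaa000000c042000084202000402ca348000811206))) (.node (.leaf (spread 10 9 0x90100002118008217c048048003444210349c028a00480c84a024888531300831071907020c1002109024863804810540010409)) (.leaf (spread 10 9 0x91001021b304b0114884150000c6000250211695b214010600800748a04a02e1060a60100000021ab4010090022010418ce0c00))))) (.node (.node (.node (.node (.leaf (spread 10 9 0x800200300a0104263584824060ad2102200643144014806422302132282042000200c180db400a0e0428c1005404880440a86008)) (.leaf (spread 10 9 0x241050266d200c08011484981008a40dc0688094810088800820c0d82073020020d2208001060080290b202083010b0814040a09)))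 (.leaf (spread 10 9 0x30438004c000031a400000503011a8828248e1551031300c12010a204030010802821926c0b006086801002b2a0622008052a400))) (.node (.node (.leaf (spread 10 9 0x6aa0115014b0300284e8010020012100021024a9012002040c01da128001a0078320c302a011085640204ac4293800210413000)) (.leaf (spread 10 9 0x4604030480b0240081082501220509020018103000020008864208c00200080100b939002148222294084a44700a29862e170987))) (.leaf (spread 10 9 0x89540a51400880e00a823944d0080460a76202200400042484828000081d602000050444005a305223e421f0000102222420008)))) (.node (.node (.node (.leaf (spread 10 9 0xaa0008ac6902a80e000010019860300883001a706044063201060081800401b00991e00200a218077a8000a2188028000800209c)) (.leaf (spread 10 9 0x800094870032220c688101800000c4020820284471005001705000a35709210840000c44001101560880804110869c0c46b1512))) (.leaf (spread 10 9 0x820a25c0ae49086021b01600b67000240110063209170000820c01a481002112800004504c100c02a8025020025018044310142))) (.node (.leaf (spread 10 9 0x148912202396801901a42811041055494400029100060229420d010001014ace0a201005484004d01a0066228020080088200942)) (.leaf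 (spread 10 9 0x2384000c0d004281024d1048250400ba0403788908200c10164ce000a40510c8300844810c0184000a00212000e4006f4083200)))))) (.node (.node (.node (.node (.node (.leaf (spread 10 9 0x2a90b9400c83c0000a0024000060014034cc50e1140720910460e0a0002800881000c80021250432003100b094ec10492040d000)) (.leaf (spread 10 9 0xa80001805130400b9000646011068b0601030424a290a016010000010080c04900202057840cf8601a41088004409b5e80061))) (.leaf (spread 10 9 0x1a82411d004d01002000a118a21006208020000c0081002140228644201450a8d83250302c04828864804ca446830404004d0011))) (.node (.node (.leaf (spread 10 9 0xc0a0019aa0e092520090d00c0080208000200982522600c4810206c084800011ee023200418194360449a2200420301212020042)) (.leaf (spread 10 9 0x6a5ab80101a510020000600000240002044c1441820008b1000022c80000044000100864811744358026526014ec3e412068d440))) (.leaf (spread 10 9 0x65021200080a1013634060141001040404940248380b20491022e80651aa9005004920b0002200142c048400431104cc0222028)))) (.node (.node (.node (.leaf (spread 10 9 0x80024ed02022010000144404014510142050000f0680042b1c083c07008720090b9012c0883200180b4c0c023068800008047300))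 (.leaf (spread 10 9 0xa5011028822e00c0440108494184812812144000800020200a260a9060002c0040240b9a0420e85042e0914ac00689000284e2))) (.leaf (spread 10 9 0x70018100850200101739d00d2704009001493408641d02c013081468100021301002c010444700400806c1030908800005c10803))) (.node (.leaf (spread 10 9 0x148660338508a0402888d4800100ca8200492604ac8524018000062050a00c10306011002000e000407c0468398300100013206)) (.leaf (spread 10 9 0x4488f8a0030008003141d044104081428082120108020000582a900ac4028124282192280e60022c05290801210443d801401024))))) (.node (.node (.node (.node (.leaf (spread 10 9 0x1020a0200c101510503608f19a8d5a400c15560000040080a444005e2880208089008a5006011800082c0410604686602000412)) (.leaf (spread 10 9 0xc888c404050ddb0424010018880301810b0109a882808241220400102b102001628241000314046003200818600078c00c004661))) (.leaf (spread 10 9 0x6022031ab01228105430cc91002001c9e0800080c000167103642620e000492200000240000610a1a78a2300000800484521290))) (.node (.leaf (spread 10 9 0x3b0008491141502290810414240004802000260481010100121d10131451001b8c0001a8100b300361186880b10220c8c0421102)) (.leaf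 (spread 10 9 0x1201010b150585001820ab0339428008318000108042982c008408124114103381288aa080c001341041a0000809122008275001)))) (.node (.node (.node (.leaf (spread 10 9 0x2110502014000470100013881208b3124147080010820bd4420d0010121a100661520000401bb490640011028022a2403219100)) (.leaf (spread 10 9 0x900404420448200904837000022268c8000486048008100092000000280c47802009ea88a611a0c8485d041048611900382a1424))) (.leaf (spread 10 9 0x248001442d000007508120c2c0008284530c0074401c001504c1009d840148103c122022021c110051148c00840080e04e44440))) (.node (.leaf (spread 10 9 0x64910dc00011122842c0a1013b041080440009264480835080ac4d010021c004204a0524240805010505841000a4200001208a1c)) (.leaf (spread 10 9 0x880210628a0280243144968868973840280c410401080170820051500020060488a001431b404b064004050004040000108b5409))))))) (.node (.node (.node (.node (.node (.node (.leaf (spread 10 9 0x8008003411200444446246010100180e11841581439b00802235909000903060100804145828b4802c0408586481001100124884)) (.leaf (spread 10 9 0x828022109098f1520a4421180021b60a150028110768007100c02000a0540474400001880c92000c009b01012100400e05010824)))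 (.leaf (spread 10 9 0x4258c84104a38bca2004060282ca102124060100108050080840800622040d00666020550090c8120819403915940e08000800))) (.node (.node (.leaf (spread 10 9 0x2501a0400620419460100804c168cc4f0000248660808126411040e8120028830c20258800900a2120030c5500a0100600083101)) (.leaf (spread 10 9 0x20c0001d001400802000e08887b080800000608d0948011040332204000650885c100130802400a00250290646852c14cd4f0015))) (.leaf (spread 10 9 0x2e04110e8080028006969401c3050b401e1011128804480006000b4202840000023a050820713008940840460108218a2c140104)))) (.node (.node (.node (.leaf (spread 10 9 0x51853205426844026d4040d20400008080c8405900800a118142012295469102200241054801a850a20ac01000201141c08900)) (.leaf (spread 10 9 0x590680009e20a010441008c440609d01000060706002c52401945c6000015c00480225085014c02020280c540860071401003003))) (.leaf (spread 10 9 0x1054020011a002800000005614403110224c81241019413020059841844f12d900008000645649bd10004104aa0280060124a2))) (.node (.leaf (spread 10 9 0xc844083801a054238a000d1846000440c000408080a200005c884820a2880122260282440834480458149600ce80182404908021)) (.leaf (spread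 10 9 0x110c49900c809223a02a9082300144020842401231481a076a0100810a2b207112014504208020080000000004620c5980411209))))) (.node (.node (.node (.node (.leaf (spread 10 9 0x144290c04840a1820228020301016c32292806c180008441008a8004830260000662242050410dd1901810007005160c01822010)) (.leaf (spread 10 9 0x3442e0d01088600024d100222a410ec40021088082291105059403a96000081180205814541c00004002d0000cd002805ba000))) (.leaf (spread 10 9 0x298042845108624c60048c0520342c949111440088008182c1a0800210e8086431201a00c0814102820481004422004061000542))) (.node (.leaf (spread 10 9 0xc0140468028200a218098db932100a4441201080c0800408588820208a0c010004240304843c542428029000c0c0401cc280a041)) (.leaf (spread 10 9 0x4d40c1854808824c0004080520204e50c1038010090101e006a0580658c4088410801a41922190048002a0006428044003080330)))) (.node (.node (.node (.leaf (spread 10 9 0xc0730228200184001400100710040383c933a1c03d0800000033000200108016031848280b808c830256080c88e000ae00081101)) (.leaf (spread 10 9 0x1362ab888056041a00e480202848010c0084104102044328112080045024a402452454000328e0001918000c4200184014018329))) (.leaf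 (spread 10 9 0x10001ac44089014008010d069214250e5040000111104d1009456060a000984400518c4a22000308002a044ad0105c106002b20))) (.node (.leaf (spread 10 9 0x8a4229c200022c220548c4c210020a0114045005800008481c0808004e08040ea087280c0d10632820086810422180898000942)) (.leaf (spread 10 9 0x5902001208800108490c4283ae2831f506c45400038040000204488a2e880080891000ad00008890818100090204e03a03000083)))))) (.node (.node (.node (.node (.node (.leaf (spread 10 9 0x820041d86131881e001010848cc162820081087040a60202010602c0818001902854b1021081101e0d4400200080301052801054)) (.leaf (spread 10 9 0x212080876084000a021ec0a0814300000011270d11000b40810800148b002400a000a0000e444121e8817548025c03102800be))) (.leaf (spread 10 9 0x70210072608b82801800007010dd0408000160004088814000008000048d126009dd9c000057e81902203056600001681a700800))) (.node (.node (.leaf (spread 10 9 0xa118201a0aa00ac8842d0014a003120544124000011900e20010066074010036040d00010200d6dc0414902a241451004000608)) (.leaf (spread 10 9 0x25408110003d100b0218558040003b0004c1020000221007782054c2800005008448006808681c4c02380002a52008c50c7c22))) (.leaf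 (spread 10 9 0x5008a041aa9a41520c25231a0035d00e010008000658088180900804006c80166200200a2810100c41b801420380000862040904)))) (.node (.node (.node (.leaf (spread 10 9 0x682242029a29148530b1802b0180a82a004201240001010b804b00830801012400808504204002193106e00030a08383880a010)) (.leaf (spread 10 9 0x600115c08530022001488200221d0098c10208022310003b2004828068002888c10260082a04c1023008116183488e40545a))) (.leaf (spread 10 9 0x85060881007900449401602219b0d1a030db41003002c20111004000c2881a00209045860c041400100a402083004004082a0d12))) (.node (.leaf (spread 10 9 0x40203050008894c0888c00e01277004800094068608101000922a108c01802212a4428351043a00122212106200301200c704300)) (.leaf (spread 10 9 0x10a0442c820040c4c09b090114200024488c04019366a10410000c80923010240a50080132a20a48012414058020ac00a0214810))))) (.node (.node (.node (.node (.leaf (spread 10 9 0x441404e5101202220004a101320002c644000904c0814114288d04218820040005706115845c54000140801000ad408a8360a008)) (.leaf (spread 10 9 0x424000100c241010512308148032426500000010a30e4013800110880334c2446b0000002874d04000184884c2a0463519191))) (.leaf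 (spread 10 9 0x8409024600000043546a46000006140a90d40089418046800051981410900064c00ca104542010225421083941a90c0106c00080))) (.node (.leaf (spread 10 9 0x9d5020222cc08c90a428500400514c0c1e12b400400020494904043001520200205924440101540a08424b0c20201202020042)) (.leaf (spread 10 9 0x6280c00021662f400010586050600410034033c2920828000a6102a400400400a8a569400042818801111e02248642050420028)))) (.node (.node (.node (.leaf (spread 10 9 0x240040a20860000a00008dd8098c10015200a201e20008880e2280c83857020210c4288231800400410a22208c51628025402801)) (.leaf (spread 10 9 0x5478a920c43600920c24802a0821002c0284080042445088112908040224801648842400aa04c003419801404202804060020107))) (.leaf (spread 10 9 0x424040132660100048101300080e32c11844000a801222809062890200420c840a003870430904048e012218144cb2120e00a))) (.node (.leaf (spread 10 9 0x9c45403c04000c02028041104503a46300420020081208524c4c083002c811222800025601258104431c960c0018106404008108)) (.leaf (spread 10 9 0xa50409204031000d840009164281026205aa00008ec001000170400064094014a0276400822702a1200409145004514c840832)))))))) (.node (.node (.node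 (.node (.node (.node (.node (.leaf (spread 10 9 0x445000b08004a101329066201d021201020010040200b3220140aeb0005989051201181150002408e0c041008380114e80a00430)) (.leaf (spread 10 9 0x6540e4102408810330111100000a3080404200f62a12090010da4d12000e148c2800386802810202820068400cc872020c800))) (.leaf (spread 10 9 0x802264d00004218088c280049420bc10040880a0a1255000040d89403808901a109d504a410003641060a0400088420140c04b00))) (.node (.node (.leaf (spread 10 9 0x500030082a1048410835241ea026c00a0911182012188001a6000c4f00c292824400002260381800c0600508060002084a60a204)) (.leaf (spread 10 9 0xb46b12001000400200008a8600800220000000aa48c0231d000000006e601bb000005449210240a0ac6c44922d1001284706c490))) (.leaf (spread 10 9 0xc23804080cc0810008004a23ac00e600447081000099804611e10a3204100810304581491044002e002c28040c00494521290)))) (.node (.node (.node (.leaf (spread 10 9 0x21830004d00215930102205510ce88a20840c1420021301c02641004e388820800860a2441201048488200410286200080043422)) (.leaf (spread 10 9 0x10000e4001008801c424000841568040004990ea012802585e020088713041600039005000090820011a4861d52246109018449)))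 (.leaf (spread 10 9 0xa01c2442000c0015c2924080013011030c400c30524d6940843a00000ac08a2000089883025002244210030c0ad000393408008))) (.node (.leaf (spread 10 9 0x6c1026004021118e0800a0129085406305a9020095022a002010c21060414a6530831c00922110816004081404080121060032)) (.leaf (spread 10 9 0x610006401100a0008130c820c0a01a428c44296450224a012010a03c0044828102700a2028a4a1540080808051128080841208a8))))) (.node (.node (.node (.node (.leaf (spread 10 9 0x7ad00400822014850213942b804260020092183084810103804a4c82080080041100050c000c00816902500b15238d420980200)) (.leaf (spread 10 9 0x8111841284c0780cb245289000040a0da2804100581000080d010201401240a1046890490105050ad09204401280841001416840))) (.leaf (spread 10 9 0x40001a51080c144000120151849208c020554093c85010041107144408452d440540840027000102298042851204522a00004380))) (.node (.node (.leaf (spread 10 9 0x4130924602406405094140c30000c09001a0dc120010320183088321b55401202500212940c001142a10d110000050c0808a02)) (.leaf (spread 10 9 0x9d807b30054000fe90000000001a00005ba1480000000042000095240000004000800009200800550049ac1b1bfe2b1fd0350800))) (.leaf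 (spread 10 9 0x4d400002a0c5008810420101e6409002aa8088b12c002605e10000122620806c300021d0022bc090004a51010051000012506120)))) (.node (.node (.node (.leaf (spread 10 9 0x822a0004202000880020707289330400800490410080050c840534100712ea42436004012442e36489000498509020008875001)) (.leaf (spread 10 9 0x25208105c135000921010902402122001c800000020110064328480200094500e8394060086a028d0008081260a1504e0d283e))) (.leaf (spread 10 9 0x8a35080422cc1002060a56144080006124a8482a10a400001401286427840408148a202940004260034208122803a3081a010))) (.node (.leaf (spread 10 9 0x11f800211c001000000ca50147036020030a0800400822080179070805513914803800224d249e0102045803402880c194002)) (.leaf (spread 10 9 0x1100028407a801488221000480230506480340e203100c60095040607000120640018c0a0600d2886264000a2430f0904040a09)))))) (.node (.node (.node (.node (.node (.leaf (spread 10 9 0x3060091120b651a40501008601400a0c0880aa2895808892c28089200018a010404e00d10460130000500140a02054288900054)) (.leaf (spread 10 9 0x100006900840000241c0000940db0040004f0826022a0d105e0004745120c0682038005080010400848949ac14a149028418416)))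 (.leaf (spread 10 9 0x442009831800540020160012a2d2285004b140818a50122803149020040600440050804526b40142203c4a81188012020a000608))) (.node (.node (.leaf (spread 10 9 0x26048010f20400a2008a0080021040142131e02042348a20c801e413a3880084c048180489420202000008980b181ac011081884)) (.leaf (spread 10 9 0x90806010054001bc000001800a32061810a0c30044102800000a12040081ac0000888331202808050060a00b11780b0ea012c75b))) (.leaf (spread 10 9 0x80200328a03a40305409cc84232990008084310420481743034706608004414080001035001410a0028c5340040890400027001)))) (.node (.node (.node (.leaf (spread 10 9 0x1501621180820e0001033801488814025460001008104d4058800200819244d0d594000007bf0d022000962000182063700001)) (.leaf (spread 10 9 0x2040048000024821082708248308210201c0000009086064203a0140489851480c4239820800851509000f8089880d42201313e0))) (.leaf (spread 10 9 0x12809621802008804a0030c204808428b590c428102842c04410098268212105080010014611a4012180821050c0208098a42409))) (.node (.leaf (spread 10 9 0x3c183100c0240a120c06002a0800020198048a0200410000112d280502268811984089841604c253064606404600c22420900104)) (.leaf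 (spread 10 9 0xb820802010101120420000485850e0000a100088050210ca80251220c003a08310746ca18c190800848854840539c800228002c0))))) (.node (.node (.node (.node (.leaf (spread 10 9 0x3200010861d210285759140c240008e02102240644110000131c10093040b013000009505007001101306880090a480804e10412)) (.leaf (spread 10 9 0x8c094004020070000842660a00070710a0d020c24484dc6488121814a01408c08004a808540510001500000bc2240c0194408108))) (.leaf (spread 10 9 0x240805a80862c000804888100d1a09231200a00136c008820e02202220496a00404c100011c8d0004100f0210c45400428401c84))) (.node (.leaf (spread 10 9 0x14945220030240dc90a0085104100085488c00250046002182010524530010cc0a900801340300541008240b8c20289780210800)) (.leaf (spread 10 9 0x10c04c08f0a060444000d0b0208401404a4086a22800142502d0394080002814215400a0844800a04a1080581290014430614090)))) (.node (.node (.node (.leaf (spread 10 9 0x8200000c9500a9464a04a1111860b048110ab8110440063a088600128814007089028c8000820065108100800c00024c0c236004)) (.leaf (spread 10 9 0x10000ed001000801c0da48902100880000008850104451c68c72000002c118104500110806400240a421110c0ad4296d3448449)))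 (.leaf (spread 10 9 0xb4bc273027110840000024a104420511004839004306400a1218403448c42086002a062841000810410014b014c10540010409))) (.node (.leaf (spread 10 9 0x89d8128145a644100414440da88201000a8c8006101080730800201109022850a200c404710209031410242901c000543080004)) (.leaf (spread 10 9 0xa8024020082a926010743280c0d6086051283064040800180209445004200501c8a904041a000b821101110004900020b0414530))))))) (.node (.node (.node (.node (.node (.node (.leaf (spread 10 9 0x31802405a2000040804a092001011c10c8ad15014146100254640400823058008160608103b20828016013048120b00840e00430)) (.leaf (spread 10 9 0xa40403148201008052b2f141012428010200c5081000013004213400125c2402301850a0010410871080566822042b14c88a))) (.leaf (spread 10 9 0x12815010cc8838049845000005c818052a101100d800000820120281d06ac0a80448044d82040008560281301ae8048004030042))) (.node (.node (.leaf (spread 10 9 0x24a91400d1754040a1240120224054232405420160629100060a040040004881010420489324417800342108820260920e80040)) (.leaf (spread 10 9 0x4513800c452414988cc4842a0029212002800861424012a010098004502024060d2554000868a0004010004000429002740ba290)))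 (.leaf (spread 10 9 0x1238808901ac2060410000c001078c408c400a4106650100a94085205381418000c281984a0205820442100808400028ca090181)))) (.node (.node (.node (.leaf (spread 10 9 0x40230230220103002441081110424238ce1a0c663d0804080132406203000432000800200100a40203540238cd0c000ee4081200)) (.leaf (spread 10 9 0x31845020402b0408c400449600810200008c00854cc0001005d154208d081012a04247810203605020c0c03440021354c00911))) (.leaf (spread 10 9 0x1a0080441a001080a20010a92330408180250610200452401056020c0b08b42404204402602c32862060458741028002258821))) (.node (.leaf (spread 10 9 0xa030541141310040b20908007332412030034001200b47451400449042858a168010408204043400941b0002028002000002a4e2)) (.leaf (spread 10 9 0xe086244084380a146000019602121432108402c041053820244042061417850012009270a04a0801100020280148080e0010445a))))) (.node (.node (.node (.node (.leaf (spread 10 9 0x444440a10800125c068018d52940001140048001401008b1063007445ac410841085088130010034400a2000ec2120a185082820)) (.leaf (spread 10 9 0x70418844800843101c901a086310219380597000107102ca1208802800300db000820036c0080088084002030808a24010d12800)))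 (.leaf (spread 10 9 0x3b80bd80820208000140802041c00148808d12410416000154648004c02880001528d00143a004a80139000ca12410d804409021))) (.node (.leaf (spread 10 9 0x410c27925788a000c010008184a01002b850210404006a80100420280414e20202e04200200091b40004058ce49682c094002080)) (.leaf (spread 10 9 0x9004084810908004d82080680342c061030040caa02800981a8042880e125463124990201040082128080020547216141010440)))) (.node (.node (.node (.leaf (spread 10 9 0xc321051c43108090025025c01b002dc4400040324202c440a20802120301001030186028088222610005d0d00502481088000b2)) (.leaf (spread 10 9 0x3f17111a81044a704686020248000b005914838aa009200015002a40020c00008a50010000640000060000630400c3882990112c))) (.leaf (spread 10 9 0xc24200804201041d140a0008050138c02308030033a15c2031820140a421a080142d22100520589001001e080002a8503819100))) (.node (.leaf (spread 10 9 0xc800130870020611a2801a089a24a8001086008004982584c440202c3942500004e00084024000093084083811406440d0621102)) (.leaf (spread 10 9 0x6182000042045426082919803108042804121c14100414400480a34404120b0a2390a51142054008624108880411804300001d84)))))) (.node (.node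 (.node (.node (.node (.leaf (spread 10 9 0x820200881031880e901020220dc1c0c1148bc008c02252011182104092a20780301821020008101800244528c200441050181910)) (.leaf (spread 10 9 0x10a08128944ad36101804000028224800028a88260004484f0220ac4848200050a00144041a434143049434088048020132040c0))) (.leaf (spread 10 9 0x8c1940000c201008811880081422819c80208034810900c02110a9d086621200034a86b10112409808822020c1001b4002058108))) (.node (.node (.leaf (spread 10 9 0x4d4000002040a0111019c034080032028806300c40629b200820a2b000498385923808006034a54001c0901013000502808141a0)) (.leaf (spread 10 9 0x900084040210c04100850082504400240e1000008107a084088804903c8011142444001012a2824900855085d224aa00ac195813))) (.leaf (spread 10 9 0x24a10151162266004668610046191080025040079120002ca8010802000b91011420c142820148124002418e081801200105c40)))) (.node (.node (.node (.leaf (spread 10 9 0x8504e310120300b200a00c10841200850b294821000500228001a4034308118482102c09150a0005001088180f5c0b9010240800)) (.leaf (spread 10 9 0x42900412244800050100601001202950002402a18008409a920000416004a120200961189481fa4808d0241009038e2181289504)))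 (.leaf (spread 10 9 0x9ae5002620b8402106024436d0c862010008722a110230800401a1a02a801088800c100b000062a002c120421800200053111))) (.node (.leaf (spread 10 9 0x20000a04850b62040d8c8a07a014209381114408202c018a4108842890212d2010008222c50500800044c1020101204125112002)) (.leaf (spread 10 9 0x830510821a8600e0840004741890a68284201a03868a87040451031100002190400052412009088003030301400b864020300003))))) (.node (.node (.node (.node (.leaf (spread 10 9 0x1401200248b00502890a08000422010400c91509f21c440482c921016406201000021420c8a520954100092060810b2a9200081)) (.leaf (spread 10 9 0x9090000020980050840a00102101180191c8050400005072642a0420280248918104626503e27822232010048140b20251340024))) (.leaf (spread 10 9 0x950049180c04082281009002105b48020b514452010803865c0011042812404130010004280c607481c100120072281f80010800))) (.node (.leaf (spread 10 9 0x80080902233221b4000821432000204908900320291084870814f80140440508160e109809046040800113a60020a4a050400430)) (.leaf (spread 10 9 0x10220b00b044041c02208080184a14844100100d9a0c2020330060084ca0cc014466480a002132041510120f4008044514008108)))) (.node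 (.node (.node (.leaf (spread 10 9 0x1112210012247048240811001c0c21042403108258204058048080540d12090e1280a701080508002a6890880007048428401c84)) (.leaf (spread 10 9 0x14291584957144468525821001a84531800482c1404121000e8280028020000000822001012060089804016a80026b0224a004a))) (.leaf (spread 10 9 0x2040410e220000a97259100c086008c8603040010041400102d002018800289202410a525906c511053140c8014240020435400a))) (.node (.leaf (spread 10 9 0x64c2204164400024c1222340511ec8002b200119202854a4042a0190071040410060a420011250c821800001c4a10004880181)) (.leaf (spread 10 9 0x200a8030272041172e8054080090214c540c0b210020104001a0400806e4210389a4108c0088844e0000008054092618e004440)))))))))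

/-- A table. -/
noncomputable def lineOrbMasksRL : BTree := .node lineOrbMasksRLL lineOrbMasksRLR

/-- Part of a table. -/
noncomputable def lineOrbMasksRRL : BTree := (.node (.node (.node (.node (.node (.node (.node (.node (.leaf (spread 10 9 0x3868044441444220a08008491800018d4123a04130015208418004042088849278080914345504801004c2104d1003000124884)) (.leaf (spread 10 9 0x8478a0200e00a804000ca0694102312003001a40008c2102020aa311c6a0250c823802040d40041002205849602800f006480))) (.leaf (spread 10 9 0x454020891d2840062091000aac4032cca0001880e4251113119009200a0000218010081054342160411485050c981000060140))) (.node (.node (.leaf (spread 10 9 0xa7483410ea05084204210000b003023415182410091f0088821102604e0161b2810000000000c682080b30241010110042100cc)) (.leaf (spread 10 9 0x804080b9829c0003083a6226c20440000402e04080500005077009000000029068c0009001b10434d083288215220090102bb02))) (.leaf (spread 10 9 0x40483000080840880000338004a2010c00405181e154444401c82821081824100910120080e13895a0104920720543061a06405)))) (.node (.node (.node (.leaf (spread 10 9 0x640108144040810801a0240200100000328d541295a9092221de20455980c01c0204020802140ea02008170000114130042100cc))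 (.leaf (spread 10 9 0x4020c665900288068130f200122a06c28400290448024805250894252140001801702804000cc800000080e00031c088891a8028))) (.leaf (spread 10 9 0x432c400813200985048da11000843010010ed81914016012000000708805c078a4408cc1100000a19181480408220044181aa000))) (.node (.leaf (spread 10 9 0x600c103930069a8500004845040a0008c3380b1000a900c28490440a1843058108106a84120a10128100a0c0c100422100c00a)) (.leaf (spread 10 9 0xfc41080a2043841084645000805010250e1138672048104109400420014012b460a800020801180a81580b082201400216a400))))) (.node (.node (.node (.node (.leaf (spread 10 9 0x80960421820a24126092210401100132228002a0d9090b012420408e001385c101028000b8430021100530480a06404202900058)) (.leaf (spread 10 9 0x36282c21000558b29085051406841501203823549128108000841022948000810901408010082000a0140090210324244242412a))) (.leaf (spread 10 9 0x2a489082000530610080100c002c9227445d180442384005000620804a0104608020007082cf0024c00c326250d00a0000289400))) (.node (.node (.leaf (spread 10 9 0x120180908101098170402c84200280908030e0112042d2b6086784000183301a0981000820280201a0400c0c1af400283408008))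 (.leaf (spread 10 9 0x2154402a482b8a10012600200000a4046400149c003008868000800a40108600200200c00502010025320020a2a18f0edc844a8f))) (.leaf (spread 10 9 0x48000086c34182a8025860a0440121274009820801881c187130052574000808040004a06880000612850090224812092a04c800)))) (.node (.node (.node (.leaf (spread 10 9 0x5408000830c23820020108104038421415e43909098411040041480c10090f09200f60120880001a020ec0006004029008ad6008)) (.leaf (spread 10 9 0x20c000990080000018104001100c38000004098ac03620f58910004bc6110813c2031001080090c20059a00c44507211324a004a))) (.leaf (spread 10 9 0xa1085042220092640160a208b9151000500061640520017882084d400420010d4809054427080181410514000084100005821158))) (.node (.leaf (spread 10 9 0x3384410c0f1120e0200d3848451620200a001c0128682c683060600000001088650822252809030080922100400000256801206)) (.leaf (spread 10 9 0x8481009088e4101080919008000081dca8200a04154100cc810021d0948836001b0202042580983204c03820002015400216a400)))))) (.node (.node (.node (.node (.node (.leaf (spread 10 9 0x3020410486104a61324820040416002a02027c080448245026a8c000a584000064086a05240085080a8220a540c000443a82004))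 (.leaf (spread 10 9 0x42040050009824508108000022155888818a00a0000000092d2a08a060002a0988046835114a2322622d0004a00a25032c340104))) (.leaf (spread 10 9 0xe068180004160a90202600600021022c8a008000400550881200280d8221081dd000818418848153c70c0610801b426440020005))) (.node (.node (.leaf (spread 10 9 0x9002218296400b6130182000043c002d2310c42810842541c2084080810400130011005224c4050a088240b1aac010540310000)) (.leaf (spread 10 9 0x90000443064880090404848250020405841000522013a09d80082000108080902000441212f2021102809a8db2846052248b0c24))) (.leaf (spread 10 9 0xa810000300140d21c60528818311000208e81002780c60600009918260488000040339800480c0950924abc8a0000500200122c0)))) (.node (.node (.node (.leaf (spread 10 9 0x40b702a4541080050000138504a00002b973a10005048000000229084414e2020200400c001881a7021e400e82c390a200c11000)) (.leaf (spread 10 9 0x810885900401004088000559502008a620526088142000510057154004d095004002520130221027100c481300212ca504401c2))) (.leaf (spread 10 9 0x303062142400124108181412488cc00a019098809802832062042c6f0000d28004050092040a0442d0200d002404040802128605))) (.node (.leaf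 (spread 10 9 0x890e0c50c3118204036146496e0c8640011062002170200820c0004202a21008820085016101c2488001100404490282043032)) (.leaf (spread 10 9 0x48204084520d040d4449030811801600240802122e01ca60218200400402a0525445021005a8280c4108060084c000470519090))))) (.node (.node (.node (.node (.leaf (spread 10 9 0x1303000122e2040a4001400188a28826420120204e00266049100940500010840081fc3286d88000aa642080003262825400801)) (.leaf (spread 10 9 0x80086969622135200008b1002020204908cb04022a00a08c2050d011540d04884020111100008440900014274800a2a241940024))) (.leaf (spread 10 9 0x696212203c8a201a810130580a01000804380040104ea8010063c004410e0020040020f001800030a175442641518c0c0012080))) (.node (.leaf (spread 10 9 0xe0122110120109481807824045a904284006020300208ccc233002222020508033008100814822060800590030900ca308a8200a)) (.leaf (spread 10 9 0xc52028a648006e28000300008950291005001828a050822121443000840640160011800544a29a03601066a21880200188040409)))) (.node (.node (.node (.leaf (spread 10 9 0xca0a0180003228088000e04280071e01840d1415008209180c8c180007140886004c01020450632281008819428d02808045300)) (.leaf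 (spread 10 9 0x2185082a000401a08012b2a0c10078100121858260100001301021260000449002001f84a52180100e0a8010a803562a002e4c))) (.leaf (spread 10 9 0x11480802a0a0209c20204919704070422a908aa0280104050010b9012082000c31460090054940a200215100009000a0b0414530))) (.node (.leaf (spread 10 9 0x122012578420881da020421c102002c2041808046a040c45142898212018000c41420c8000094aa220005100081040918804c232)) (.leaf (spread 10 9 0x2012060068000b248110804306848454828248a60908222420821a4061c014814240300831913202483000081804004080aa1c1))))))) (.node (.node (.node (.node (.node (.node (.leaf (spread 10 9 0x4444013020c001c8c0c60182c06084812840109000102641a142001a0124002d10212482c20d48c04146609180440000005490e0)) (.leaf (spread 10 9 0x4102101976003014c18280804195c882350c001900085c9c802080940530081102080620401252a480340820a4910000300601))) (.leaf (spread 10 9 0x59240120042104014160c4c40250198108202b700202d5d01598200608011c304002000b0013010a20200d6002200e8401007040))) (.node (.node (.leaf (spread 10 9 0x290082462bc410a0101203602e40801282200c23a48a26142c000012401043147000504122894090020a01410209000540320102))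 (.leaf (spread 10 9 0x810880322083800300200420440007b80042d02b08422100e882050c0820006c0844c006088409c0006093402090806c1b68382))) (.leaf (spread 10 9 0x810581110010183100008c02a53118818a2a000b140c60200001848b474c00002422a8804402488548308a582014010032204810)))) (.node (.node (.node (.leaf (spread 10 9 0x1108901044514444e31218210806850520000c080b8238100088a04020060488b0194204d0204607090302060810008a22622008)) (.leaf (spread 10 9 0x82080c321c1284d88d88006101008282086038438c00c900c710031108220982800050400018084812010aa16481014020084013))) (.leaf (spread 10 9 0x4120022301810210201820804407a046508c921021a0845041a801455458288000404040c880504154c00a92224a189028008010))) (.node (.leaf (spread 10 9 0x3600000100058da5678071c08080001818900c20302840680e01838260600804400032000410901139248304f04040088085a041)) (.leaf (spread 10 9 0x29085040a22a00403114b48099c22820692c5140052000608009181004000709400805472c484a055004000004101020a5480061))))) (.node (.node (.node (.node (.leaf (spread 10 9 0x1924ac0202001010064d90205036104031820080490210104043503a03520c949802240007604080c4e0a804008812180186002))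 (.leaf (spread 10 9 0x400384444004c0185c8014184111a11002c18141006016861209a00840600ca222011d210038028064010220080e8002905ba000))) (.leaf (spread 10 9 0x50986100402420324c2888a14d00002c04110c9458245018000002142d900306009026118a044802401909001006844128601104))) (.node (.node (.leaf (spread 10 9 0x298815818e0000108009400912c4000c00c1a42804090a10834b160a1902217002164080484502004800c5006808912600808821)) (.leaf (spread 10 9 0xb46b96004080402310918804008010011088085280400001800050022c0001a01140400148108004a2040091210335254746e5bf))) (.leaf (spread 10 9 0xe800003a083028a04439401c20099049e0041100e048a07200142668e000006200001301021610998484506004101000c506300)))) (.node (.node (.node (.leaf (spread 10 9 0x13009595002028600108880241411c50882807410444140102608404c3584000046aa08042020d810078120a2005104842a80011)) (.leaf (spread 10 9 0x8008ac6c984ac48089698000010a8293220028110c00c8014702072164410800805410040008c800000480a904214900288a1424))) (.leaf (spread 10 9 0x150d321240014e60428202200800090101002808a1412001090c224400260011b4118b855460ca03004206624a80808828001028))) (.node (.leaf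 (spread 10 9 0x480060000101020845012088040058c02654a081c010c34198001101089040a12a0084615c08860a4c43128208095c802262005)) (.leaf (spread 10 9 0x826020164e02503d0c006500275004109002a710004060050182000c2181340180ed0031292004050464000111100184a0008243)))))) (.node (.node (.node (.node (.node (.leaf (spread 10 9 0x238003010e24020080c0400902be024d024285800540a20021810c00180203b0a096140048c1530001301c003009212b0080a060)) (.leaf (spread 10 9 0x400030002226008800805020e8e09024000120054c0004a160280c00953080250883b8221c88000000ad204088722842f405c85))) (.leaf (spread 10 9 0x8800b864c8028020a34381066087100920040880010048204200030100410c2488d6110300026f3008d60109840b0010188a1400))) (.node (.node (.leaf (spread 10 9 0x402018812256001172223440400902b6824080a8400404800280c60090204051911803810104994de2000401a05002640c034004)) (.leaf (spread 10 9 0x2100405805a820468251180080011c48820140006005031705840a65600800300830400410101160011304150cc812805fa141))) (.leaf (spread 10 9 0x86920014a90ad190310a001012880a82000040420202341800c4110a7a81120054222e3042001061401606000382800138003028)))) (.node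 (.node (.node (.leaf (spread 10 9 0xa01812063a780123540020018a0100000c800200381c11020108f884c0400420060710f0000462440103ab88842035a048402080)) (.leaf (spread 10 9 0x6089432325300a0012412020008000d803220910088b2801085114090200562c008902264440000107b74802042611900474))) (.leaf (spread 10 9 0x8512cc01040010080628000860828102052011146109001071528aa287241240414e0a01181042c00884242290000242406401c2))) (.node (.leaf (spread 10 9 0x180d01014018720001c04c00d00b041000b0b88244014c0480a20895841022801804186846843404110045029804c80550084008)) (.leaf (spread 10 9 0xb0201208005e1828571001c86000e9600a020d000422282a00265801000ab05300340c01c00300080000688041ab580106c00080))))) (.node (.node (.node (.node (.leaf (spread 10 9 0x182801602081040523208682004810e0414121258240b40015922200ec008d005026008b0423230010402a48002a06440000284c)) (.leaf (spread 10 9 0x211586111000c005030a42081a6531002483880045203108132209bb28300080ca000108800400d00416880803430221c1840))) (.leaf (spread 10 9 0x91510804802540c00148110000082250148310004008081888040c18150a48d716804700181323842820a0e802050484a8003240))) (.node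 (.leaf (spread 10 9 0x2898314088001813000f402b00c420001000ca0408210e0001494402034679500020488e120c86102641a404600088262080c800)) (.leaf (spread 10 9 0xb8240024002140c08070520000000a40118014504208009902254418848e4443128814141a0023802d82895824910200b0304010)))) (.node (.node (.node (.leaf (spread 10 9 0xc2080d00870008a00210d5809a402004c812123200038004a2480c8281502010100844ecc80020016d02520805124c025910002)) (.leaf (spread 10 9 0x599241c4204d210532018318801301050300001840a10201e404044022142089488640200114844804250a81408101c020084013))) (.leaf (spread 10 9 0x11041008a09750c021422a0900408d000000111c84910914500502002108021d90f2a9004200a103aa2684009580500024a2))) (.node (.leaf (spread 10 9 0x18c1c40200db4880210085004094940901dd09488502084090b06050845122241000410840009060d0043490324200200824081)) (.leaf (spread 10 9 0x84054101401c300009862e08700e0100a0a1bac00086dc00881010208c042840980020600081a6090102050b1c004401c404c010)))))))) (.node (.node (.node (.node (.node (.node (.node (.leaf (spread 10 9 0x400890b442d040007500100d0805850004808209082a10025008f088c04214a0e20116200228434415030a800804018a80626004))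 (.leaf (spread 10 9 0xa008094130b28a018241b094048411020c000402230111412811890004107211001288242910000a4432b6420051150108988))) (.leaf (spread 10 9 0x4580304910083020008002a8119a88822e20811020200c3c834aa154042048000268a64052020a682180082036210024300500))) (.node (.node (.leaf (spread 10 9 0x8202c4ca2000588a04211208028016230200100025230030d15008a691246a6050ca02018400600000212206960602a200204380)) (.leaf (spread 10 9 0xc000a0082024044020085a4142402000231428020600210226c02a441043202a00a20548000289a812108e168485421d002286d))) (.leaf (spread 10 9 0xca2001843070200080a090220101420004098449010004140c293c500104aa86032c4503605a20c608008880431c00200053111)))) (.node (.node (.node (.leaf (spread 10 9 0x82120408040008224800c5351a784845090934120c9006aa588001048c14004090000004610e626404810000c040001c8a832140)) (.leaf (spread 10 9 0x488141804160a222447828a04490002741090244100a701c4a1006142400050080a104840a12080290116100008840212844c304))) (.leaf (spread 10 9 0x2a485000c48800001896940093c048012a101111d900444000248a00124075084208054d20c2180c54008012020800e2ac0c0040))) (.node (.leaf (spread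 10 9 0x32c8190080a010a50205c0a300484204ca840a2294838316a24248008850a210400c50e008080080000000010431cd080910206)) (.leaf (spread 10 9 0x140700c2080837080202268850450140010e10008062538b008c1020c0010000808c500679c2000c18730681803430004801058))))) (.node (.node (.node (.node (.leaf (spread 10 9 0x2300004110d3620ac1591008240008a00182028283100400051810122121a20b8c00083c100e201660a80004a80a214884a80110)) (.leaf (spread 10 9 0x99000470180282020b003aa0e48885202262023100800060a08280280804616d094d4404201040c020e00b52000080341360200))) (.leaf (spread 10 9 0x802288068200802cb247118d08040849200c4180100849408a400211001028a02c6410431906451240d2044801060210080d4008))) (.node (.node (.leaf (spread 10 9 0xa014004c261220a4200408004112402030881441192790c131007204002010886a008266e9080200a116191224002204a408204)) (.leaf (spread 10 9 0x835488b120808103b4200038400400000016c840004001008f060344002002143840008608800994c0032340008200821baffa3))) (.leaf (spread 10 9 0x501c0084c0c04208504804a14093200030044e3400b828014400246601204460d0d009608083164004450920062909220018010)))) (.node (.node (.node (.leaf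 (spread 10 9 0x2020801201208012131b81002726401010210c01259b564434204418400043145801400004454040aa0a014b1aa8008004030042)) (.leaf (spread 10 9 0x90800080248a417004b08000002220000008a10212205440642a562004024035a400224001a3f432340060608604b0b213200083))) (.leaf (spread 10 9 0x1202203c9c0820919d610061010a00172a6010008c010101801202316c670882a0500044020040081201823020a0300004821256))) (.node (.leaf (spread 10 9 0x14012808024400400c9080102d9024800e320200109a810a00c1e18110280d0e2804480088173004830c0205045e10c0880a041)) (.leaf (spread 10 9 0x98541c00580a22620b920a646000006084240031048104f4a1088028001945090c5440402023808201242280000082121460209)))))) (.node (.node (.node (.node (.node (.leaf (spread 10 9 0x240c48901a45100100b0000402019868700a09004803248220d00008213400020c949022073168c9828480002a080013b9800081)) (.leaf (spread 10 9 0x11040288801005000040a24024006a0530004b410b05806e0029109000ca406000381414c00015000221624b201a8481c4ec086))) (.leaf (spread 10 9 0x10013052608346601088406002a800600021205c200101c00906214040b710612015b8251050c8011022115a400200480c004a20))) (.node (.node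 (.leaf (spread 10 9 0x1e0004007082585020610002428088041f22010409868a040849c0cc1c0909042005003091a0000908cc4084402402210c196002)) (.leaf (spread 10 9 0x901a00006080412000b88000a821384110c8840202004020203052022c0900a08100422500018c10b30010250305b2b2431588a7))) (.leaf (spread 10 9 0x446a30c010081d00a0c834c010600141020054004082000458228509c1008127280202a8b2429004022109233500011009d00108)))) (.node (.node (.node (.leaf (spread 10 9 0x1801640070a2414000104062228000404e22030428040244cd447140503128e42015002090401ca549900058400002450c034004)) (.leaf (spread 10 9 0x80a01c0134840060004288d180001c10023385c7481100003110010200104834000017d125309000040a0246c1211409164aa4))) (.leaf (spread 10 9 0x50400b44000921041325da0bc5102101011820087471030040001440903120800082c224014f0048084603010109824130102003))) (.node (.leaf (spread 10 9 0x14030080030e009103704112000804a087100600398a000b0084fcc710280c0c8808003818038004460c0140401c04c4920a008)) (.leaf (spread 10 9 0x420001541008809040c40902008885040c00001012100691bd2251110000111982a980a284014c80c126681380461004608500a8))))) (.node (.node (.node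 (.node (.leaf (spread 10 9 0x49301011d210014118238250400b02f500420280242004800b20c2029030409111211712211000250800440130d02c200820009c)) (.leaf (spread 10 9 0x4880011225100184000021202080af7100107220894040a79600f40141348100060c2018188061410e0001200101a43106289400))) (.leaf (spread 10 9 0x200084250106a80600205220d262142089044a625900020281100429204402990330220000a8090458a200e05122608009108888))) (.node (.leaf (spread 10 9 0x880072048a6c0403c20500810b110002000c004270d071000180e102c0080221060428740481a0c10b216180202003a048490240)) (.leaf (spread 10 9 0xc800d25888cc1445489201611112004a4015402b5050100001a2611808080010044020201442200029804486200702a040484342)))) (.node (.node (.node (.leaf (spread 10 9 0x3101204121001011c02c230c00148a428810210a41810000362ea00951104160c835050101040240103a4801470242009108888)) (.leaf (spread 10 9 0x800080022206808100204020426045a0900194011902009160807c049c29042c480082261d880000003c514020182544b60829c))) (.leaf (spread 10 9 0x2420e0804040c4008504435b14093241f020042a08154600b400028600008650048109309818112810001a920020103021251001))) (.node (.leaf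 (spread 10 9 0x20b0084241040c40021502995050440648e880121000c0b0104090b0204320808413318803400085894ca9608203011004000608)) (.leaf (spread 10 9 0x5412110430442024420980d0807a10047100140908a40085e045482800920e194486480a0080281804140201480001d00008c118))))))) (.node (.node (.node (.node (.node (.node (.leaf (spread 10 9 0x118c104020810600420046400608096301a12854804125c8090a2204480510307007008304300b0210600768032200c000085888)) (.leaf (spread 10 9 0xa0802f240a493200524014184100080211238b014018408880208416892408a0822008050821a568800120064d80104c18a4))) (.leaf (spread 10 9 0x809846848880420a3288002a08d9298030420a10020a00115a2022164000c4488060097000a2320084e8088802a051228000404))) (.node (.node (.leaf (spread 10 9 0x24b089480c81629002802400380058a0244e1128648e001080a84900207140003040880020280710083129b100e4806000048204)) (.leaf (spread 10 9 0x8b5085920002a000544005c034080886000040805c040040000a00020e001400200662392802662d000c4c904521689188009f3))) (.leaf (spread 10 9 0xc0302080006c2a28800280408000af3204080c20a468c02000445902088eb81a0235000dc12202004000608210a8401114c24801))))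 (.node (.node (.node (.leaf (spread 10 9 0x40c0d2020000202013002522190a1601240088442600208a43d134b80a1890041e0150009000101ab86440040200114298900054)) (.leaf (spread 10 9 0x62090920810000001010102450000102810700412c0008418c270006882a80042d3952394f8006804435080d802043bc01001003))) (.leaf (spread 10 9 0x2038664800000c1305968b4010280908080884110049304840505000712280a4d211000b46202408460541810f021010040409))) (.node (.leaf (spread 10 9 0xa02410110548110d0020400a080001020558000461400d1454c28a2a0608024ec14a190112194ac20c100010100040504c042832)) (.leaf (spread 10 9 0xa18890011471e008c13310a12000a0000031008a03906400008881402307c08c890900169000240e402092050c0a004c0420a108))))) (.node (.node (.node (.node (.leaf (spread 10 9 0x484088903160662285600d5844a040004005000430023200ca801084220841008102944c083208011451a500c08120a22494c000)) (.leaf (spread 10 9 0x3020642100044180e0c3052514213c10402931019324380445040800900052000911608033000260806482100180ac0040c14920))) (.leaf (spread 10 9 0xc5040088128202a204052c30101002c6052019818185050c1043240102081581011462110408040423028110404d029010a42409)))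 (.node (.leaf (spread 10 9 0xaa040ca16004200410204029c80220280200545233452210c0020129204008180b29a002002a110422aa006049a40ca009102210)) (.leaf (spread 10 9 0x46a1440841f1c29021000da212069405200d400042228140822841501009023091006008002110600034b194120250148c00080)))) (.node (.node (.node (.leaf (spread 10 9 0xa8b0004141100761c20108085353400048007010280e44c1104110b05003a082801078898500809484a8108002010000200026cc)) (.leaf (spread 10 9 0x10e84788820046263182404400d09001150d1012a4000c401009608b2000408214d8a0100850800042800001800215014706e490))) (.leaf (spread 10 9 0xc20208c0ac0108402120428032703000c902152008458004a180a52611500d00120840ac44110c0341400028034258834100500))) (.node (.leaf (spread 10 9 0x20060e1a8110070025108063042010140240480409058224200030502ccd42410878101001103b002870000bc03a0801c0aa080)) (.leaf (spread 10 9 0x164000912609cd9f44101080c088208000850c3505aa00082c408382804008100014b00c144411108d06000400120000c080d055)))))) (.node (.node (.node (.node (.node (.leaf (spread 10 9 0x80c2240488280010e3011092629000068004205242003000a4c4e102520502225600ae7004080441130060000188883958001058))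 (.leaf (spread 10 9 0x705100a88060260c40528461800260001020383948b82881450264022080480491420500008018426002113104692d020900028))) (.leaf (spread 10 9 0x4120c2208104000400002a2042c81ee00140622619224807a408b419010480900340202428806150582280205101e0080c0a8080))) (.node (.node (.leaf (spread 10 9 0x8371040140402004310809388c0008280410500205052a9160021129126004000325200600719100274909402e200a2411205040)) (.leaf (spread 10 9 0xd28040531a0a8010066401020000e40404000058023008958000200010108c50220800860493000441b20943a284400e678509ac))) (.leaf (spread 10 9 0x4adc010a19104805000dc440008c60100008c84079212802210940002205605400200ec1120801b833c1080e0000000402cc8c00)))) (.node (.node (.node (.leaf (spread 10 9 0x14805811c580b04690444000219801604a0010882a20900a20d011448040001004c040c980188210460480381bfc010450310000)) (.leaf (spread 10 9 0xa100885c05c4011400c38314000201f12040c0081e80000000080a40148216010c09a489980d2410444802086390a200251111))) (.leaf (spread 10 9 0x4cc001831990c0046004840020966e500219c400894101e28700d000402c004400a00a411aa0414622040900040004000288960a))) (.node (.leaf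 (spread 10 9 0x6086004444100004020111842080043290123a18030410248680e304561683020e00a418004841410300402881c1903300105c40)) (.leaf (spread 10 9 0x4c408446c34510a900500261ec40000228288408c4880419650000006400da7c2000319828a00000020210000648300d1210400a))))) (.node (.node (.node (.node (.leaf (spread 10 9 0x811a04248341202c21200000720010440c10721d21f4000c22c42002022232100001821121a432441000b0d40c100ab3001002)) (.leaf (spread 10 9 0x10885404b0835081418242004210e1244000009c8050090054030a20008e404c18a4e922022011000862291194c210001d84))) (.leaf (spread 10 9 0x4328859c010c08004980080200049c041c2804002ac11411ab20172080c1038104a8818a00000c83002a100a00471860c0810080))) (.node (.leaf (spread 10 9 0x44300806c044242880218040885004823108140894a800a1614468004c82da1c0224800880a01a00211016020808611594084008)) (.leaf (spread 10 9 0x62e000201204310011921802506204c18a4021521b0864440a0600940400150180c4a0809044840c04003c63268608010020210)))) (.node (.node (.node (.leaf (spread 10 9 0x190acc000002c235400c902248a0081048000859c042800550880005c08440ea086000d67000335080440900710e81008000b2)) (.leaf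 (spread 10 9 0x3100492082a4204504004409058481c8921040074100006002840230800146025240283a84048a8842244808d000ad180a81c1))) (.leaf (spread 10 9 0x404020000b80055910020010010558c009a10b0000202098b4c002462001a0808b059253c42058012084261840028870a230902))) (.node (.leaf (spread 10 9 0x298895861005b108091110440009c200001d108432946007008b01000e471020810800109c4021064004324103c0080404308021)) (.leaf (spread 10 9 0x412000c2d0810b40102042816290300058848420242120000480252703314440520169a404091604014101224a2c08034082280)))))))))

/-- Part of a table. -/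
noncomputable def lineOrbMasksRRR : BTree := (.node (.node (.node (.node (.node (.node (.node (.node (.leaf (spread 10 9 0x22900240010025c888a0c82a40910a01c8042124208e44012281003c500294c02a100a4124028056848800810800108480401e88)) (.leaf (spread 10 9 0x8020140190680060448109184185c21402b00100280022080a320a82400634c80094080e00006c108b1091290042cb01226224))) (.leaf (spread 10 9 0x8550641a60818a9a800d00160001401051002410091f10e8022304001a002106010c40019201911a080ba01aa40401024010404))) (.node (.node (.leaf (spread 10 9 0x2c80003006a00012340025601390014584008b0308a010a900e00538404000020696108d029884028b00000070886e380288c00)) (.leaf (spread 10 9 0x81a880100201008200000405426009a85043540a1000291500023d08146104044040c201112409c0006c42010089b42426581ce))) (.leaf (spread 10 9 0x2203c0618c002050284940940302a281a001044088058004c180052439100d0131205006650200004264046891c341010040504)))) (.node (.node (.node (.leaf (spread 10 9 0x5018110c00a42820488888c04142101494600d0128a41111a040122411990301048a201a0a000902041a0200280608480aa90110)) (.leaf (spread 10 9 0x70110112130781081801834011c98408039500001080994d90d80002064510209118880080403316000030402080192019700003)))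 (.leaf (spread 10 9 0x852666140802248202d04010c482a4090148022020051092840d88014a0811269011016a0104812c0410980c001c420000200942))) (.node (.leaf (spread 10 9 0x908009d50012012021820040010000247004408e184f1842301068808860048712618d18d028010158c4180002288ca100601)) (.leaf (spread 10 9 0xa068100104580029503654200000000a8a5000a94180448010c0ce0c1201404cc10881051180184e54208211000b40644c043000))))) (.node (.node (.node (.node (.leaf (spread 10 9 0x1e10000300118805e00d40400190025a00180c02f82428608e0990006028000440830e8000a840be3104090e0040440480848282)) (.leaf (spread 10 9 0xc003e4d020680bac0004000402201e320000808025251020144858161887a80812981241802200041060a0023468020200024311))) (.leaf (spread 10 9 0x408b229304120104801bc0500a000200390120d89010002004d808a121281c00382004232a8310018c0b10e000450860d0810080))) (.node (.node (.leaf (spread 10 9 0x4808a4412900407a2c0e498000790085210a818004490901809449000000810241011202004030c8458843641b31140882040800)) (.leaf (spread 10 9 0x420055400002001fa4003210000a0002843020002a0250c0310048410158402009300c84400302a2000891c00a31c019891ec27b)))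 (.leaf (spread 10 9 0x9441c11846180d0204041000444b6a0200410471410a03024c44034200c00102284400962405111681441024001230958000c010)))) (.node (.node (.node (.leaf (spread 10 9 0x40001b0270002430c2080090982a14023008000406882084d34520280c32d61406e0c0008001101c3404040c400865c094080110)) (.leaf (spread 10 9 0x1000060000408002453648901a8d08000006008084c454868c50204402c41091a500030006000a4001228041e256a6676008416))) (.leaf (spread 10 9 0x480104018b984142082b0293004d80c5000a0b80260301800000c3040868c01941013202281000040434424219911c0090040504))) (.node (.leaf (spread 10 9 0x111a84802001e40140198102c9200814632000c1018018200008080548c8c3f2004000143a81af4010400a8241e58000809202)) (.leaf (spread 10 9 0x91418900021001200004004a505070020a1000a0010380860804130068c24507354c00900c0d7062808550a60030a888a0014810)))))) (.node (.node (.node (.node (.node (.leaf (spread 10 9 0x23004240e2230010098204808a0240312b38c0114a218020c8018210020071004208240d0cca120500148090061810d0016c00a0)) (.leaf (spread 10 9 0x10041a714002a282019201e4b48085008304021004010090250a000800040564051804442069f01203c42ab2000100342340209)))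 (.leaf (spread 10 9 0x1a02800982602058420000c014018c00a540e0711023490401100d20402341001882110cce10c4206000081849402220ca102601))) (.node (.node (.leaf (spread 10 9 0x12118008e1d204381068f00d020010702041340e201100c001140560024411232000d84010c0084100264912001e4c0804000e01)) (.leaf (spread 10 9 0x9d003a208300400202048484000082200000008274c037110000000045a07a200000287c810039ca892160a0681041a2418f0e40))) (.leaf (spread 10 9 0x21204045900628028110b80090ca08a20d44434201200206851830142100820900000a24282ce85458a200400033200885080820)))) (.node (.node (.node (.leaf (spread 10 9 0x2027c001584810018829a02b140c88028800010e10050000024aa203110141a6089585840c001243141a400420802202a84c800)) (.leaf (spread 10 9 0xed223140943008401820001c041304b1444406810000a84828104203b010501032219210a1d820031800010c00400802000820be))) (.leaf (spread 10 9 0x289306c040081228f200e801202c94980d1002210090a10281a6821100a848542002060420082101850c80008a22001061004405))) (.node (.leaf (spread 10 9 0xc10800146900090849a0460322001824568c54820389082023343380088100a00808468c00008c8820081008000550b040118886)) (.leaf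 (spread 10 9 0x6201087400080210103025800030000020054853ac00184225070044ba40a04ca58402086f000780a80052055000473800211080))))) (.node (.node (.node (.node (.leaf (spread 10 9 0xc00080ba30e853230520100c02a004000000808030261000d50858a480824020e6021640002660041441a3008e2430a200224081)) (.leaf (spread 10 9 0x1020056862890024018896b020858258534400a080003401109032208a0089044824008484ac00a00802a0c89080055422002a40))) (.leaf (spread 10 9 0xa5002141462101090006800c45ba064d044604822400a08c2110c021900000912020151220d0022110001c0d308020a300a82024))) (.node (.leaf (spread 10 9 0x1422164100180028045c16200004040a524648a800004602109112181291402c402ca00455a008600403a1a800803d6402043000)) (.leaf (spread 10 9 0x3a43400d00410142000040902410a480a40060250181210012110600001340089c221128aca0c228621069a263062000c8420005)))) (.node (.node (.node (.leaf (spread 10 9 0x441808820001009031624810b242b042809002811840260041109812148280642844a144067000320429480141d1028002410430)) (.leaf (spread 10 9 0x4210000090840080029442015c1413004049042000019026104080b1254320014005b20a5200040dc040496086a10176c4020638)))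 (.leaf (spread 10 9 0x41900440010094c88884802ac03180500041096062a00e000211a00c504006a12a6409210862a000a41182000842900484521290))) (.node (.leaf (spread 10 9 0xa000d0114031a050a31389007006010120210c8001925c00000001000385cc0499114002002166090b13010b1c0a00800602a480)) (.leaf (spread 10 9 0x8a8a40458859b06041920464a0b0080201110a522906023002000101a122801208a0000057001c642002c100000c880c6300061))))))) (.node (.node (.node (.node (.node (.node (.leaf (spread 10 9 0x308c0041c1009041824008400b1980904a001098290e100ad064105080100002806060898939881004a050041738802040a02608)) (.leaf (spread 10 9 0x82f4208010ad206080001470000bae0a84000a038668816000c041a0018421984041018948220080008741090008c02805410803))) (.leaf (spread 10 9 0x8014064a00108025382400204372442100099040812482d054804a003c2315a21200806030c80000211a4842051846449008008))) (.node (.node (.leaf (spread 10 9 0x850026108090720a13d420900000a60941c0241076c510110401000140125024402001e80104290e889300047010400201111c40)) (.leaf (spread 10 9 0x90048404003060410000d000242008c10a0086521008142102610418840c4400204ca880a60021804a588e5a2091514830a84013)))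 (.leaf (spread 10 9 0xc808000007202830800220430080af3140906060e440c42488145c0000549c0882062018511440008e0800860024045114609021)))) (.node (.node (.node (.leaf (spread 10 9 0x120515810030781001085c00c07114110222811a0448640002608097c610040004040800e6026d044a009c020085500850084802)) (.leaf (spread 10 9 0x7d0330c018082104600803c080681145020054104082440440054ce822802c834c0200a8109488500031080108c001120108010b))) (.leaf (spread 10 9 0x10200c02074080024014aed282030910c40190064053004980412b0a508a2028a0004402100a440102c898259082640210080024))) (.node (.leaf (spread 10 9 0x1808026090c4441d0102220810024060c001112950409022279263180ca08000547240820402200405501806604e022100002942)) (.leaf (spread 10 9 0x12141260020209841840c23844952884a88c0107208a10218282411813028404088000511010d006800024820c20204300011c89))))) (.node (.node (.node (.node (.leaf (spread 10 9 0x3400258040e081080506042e141a0241b006043214110014b11ca0051080801100000910121602b112001e800700403024a12404)) (.leaf (spread 10 9 0x400300045420129020ccc22f008a050048900831c61002b1388b40804008410a8121000004212c1840222c000152320068890280)))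 (.leaf (spread 10 9 0x46493020e01023a82e0182900044801840131a41590e0322800030412020a510113480c0900302000420450164005004609021))) (.node (.leaf (spread 10 9 0x3729004058002d0460c033c09000010400100d00004844001807c5e86180080470000240a01290505a319100b540081200d80101)) (.leaf (spread 10 9 0x705109000035002948c881c013c0318184200d200880995194d8200610013020800a000e200001462582044024a4080019300210)))) (.node (.node (.node (.leaf (spread 10 9 0x10c124028640040200063a0000074a10c02115214142120244d5630a04a12008a0e044820406000401601924c8027001082000b2)) (.leaf (spread 10 9 0xcd43300020498c881008000522001202c903a0902d2013a412a800120041808c129828400223948000d290001060040202084125))) (.leaf (spread 10 9 0x20400004009568084048890810c2018614424101a034800284183206010122218c00001c2a008846388a0440a83a004813a80330))) (.node (.leaf (spread 10 9 0x8d2a9100000880101080dc22088028710845085c00428084d0288021200500a80014a356b12441828082c00041088198800191)) (.leaf (spread 10 9 0x839154404048700cb2042810044c180c9c11522088102080691302011078402001201c04c0010102870881400e20801001024043)))))) (.node (.node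 (.node (.node (.node (.leaf (spread 10 9 0x2008002401082215002015a472310504a10548428c00120281200042306a104d2530121840800100c83510285422428421240082)) (.leaf (spread 10 9 0x420001548008201510002500221105068102001000000201ad2600442200300988bd50312d000780e4254a25d402058420250083))) (.leaf (spread 10 9 0x20240c0033240d9c04009000050616140902589910012000120010404cc8c461c441086a2051060211814014c001804559008008))) (.node (.node (.leaf (spread 10 9 0x48c0090109b0d4060a1204120244044006884481860301a00400c228042800480010ca6428344006003452d09c801e0000889400)) (.leaf (spread 10 9 0xc048a004000114401403010010040000265c200d48dac20098c002610a0041a0210000a02004c6024a43300009381520e6700ed))) (.leaf (spread 10 9 0x5208b0c01de1038a403c6806229a000110031302008170004060a000d0055d1041010154800088008941082108910e00008821)))) (.node (.node (.node (.leaf (spread 10 9 0xc0d4218010410a48000a864080090c28800c0a230a68c04002041022010a198a6b440120810002000087411292b8002904832042)) (.leaf (spread 10 9 0x8100882ca0bc8000b40a4a0442003000059428100050010707460a440000009150800016081009a01a984bc214810092002f821)))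 (.leaf (spread 10 9 0x40cb320302004024010001004b020a81a840804c8230041205d900a1009c10041d05440208c29000992960101401085090910206))) (.node (.leaf (spread 10 9 0xa80204a42c1121104008460810c4000c245100099402000a84293606410320210a5541c0881108010888440028388014128403a0)) (.leaf (spread 10 9 0x421724680282081050184d88087042010021001aac00848a020001848e10004884040304e72367442800900041804018400b8080))))) (.node (.node (.node (.node (.leaf (spread 10 9 0x501030880076b80071104988c004661002620110a448e00a006051030a20104a04040805e1232200400008024181509010124884)) (.leaf (spread 10 9 0x218050a0408a0118000c60b499410118020003871cc01000018000048d082009a28ac0080748614420c074600401039260081c))) (.leaf (spread 10 9 0x98801328206008d8820112021001880091d04450800843d64420052c280240411080100d0a4060212180881819d02202d0340000))) (.node (.leaf (spread 10 9 0x896412022ca2403a81303249090091806c0821841090a13348404004050a08508020400c110000310053243401500c042080011)) (.leaf (spread 10 9 0x360810200402053101a8030081083182016300200850b38002291a01061a502673400840030a94011480818160028001101c160)))) (.node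 (.node (.node (.leaf (spread 10 9 0x9095081002205003030a47221040620024813a0001a43280100029a6ab041888d4021228000002c105a288422043821051001)) (.leaf (spread 10 9 0x333cea100488130b860adc821005c07240a20080180282366207240100010248160180020080800040000000040004881291520f))) (.leaf (spread 10 9 0x10508000a00710c40c402a99814208020010031c8010b0345154200000108aa0c0c389014b004424c0345444810450a12409))) (.node (.leaf (spread 10 9 0xc44003aa4050040508201026434942300c098240c104045414600900308006920200452822f8044410c3288205180000104b100)) (.leaf (spread 10 9 0x12590aac4142108a84c004022868200c02001860404453a0012888004204a4104d816000ab6400035880010c00400802000820be)))))))) (.node (.node (.node (.node (.node (.node (.node (.leaf (spread 10 9 0x409cd022020080a0186388503202336400121280104004005928805a9002610000251b2e043000340808400160d0601842001054)) (.leaf (spread 10 9 0x30202020000bd2e09084409002d604600028207c6008808000260048c4ae00410b89141410042818300311582003002012704120))) (.leaf (spread 10 9 0x494b822030188b02800d004a00292248002108110422600181218405480e06000412a6e0a50020a09214000601561c041010440)))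 (.node (.node (.leaf (spread 10 9 0x7049180c00a0482108800908430221938042402088b0885234d80020009811200c82201608008904199806008c98084010910320)) (.leaf (spread 10 9 0x1100022c8284a00002200400140a6a03500142810b8428060001902c80ca20e00218001450280032110162010a821149cce4c09))) (.leaf (spread 10 9 0x86203b8500d20120108000010000004e4124048dc716200814906a048862102072114008502900207c840a400328068092280)))) (.node (.node (.node (.leaf (spread 10 9 0x444024c08015122902d830d3394021014020840044801811543005055000d024200205a830000106028700107420200119108888)) (.leaf (spread 10 9 0xa00450450204014858480004404a0821008102116001cce80208034049194044004120060025102805218e0a5d31280105e61))) (.leaf (spread 10 9 0x102447800020450001064455005110113026013a060046505518a08700810411049008108a1a01184a011c020220540045047400))) (.node (.leaf (spread 10 9 0x4680912900400010d3410248a23042c608a2900e00234c228490500022480c2088e0020a20140212098c0202a22001061004405)) (.leaf (spread 10 9 0x500c2352400920004120cca1c50008080c1028a454314a10000040148450628200d05a200a843064000405009106825130102028))))) (.node (.node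 (.node (.node (.leaf (spread 10 9 0x1c18008080e4201c010200081602c040a8008a3114410004a110a91116a28020194281940712c0b20442180041400220a2112500)) (.leaf (spread 10 9 0x70410c8450e0008020a6002e000e01018086403085b8083630da0440489841080000291100002c3510080fa005104100208102c0))) (.leaf (spread 10 9 0x250120431082200c690c42402c2000b102821010831214104000440228882443ce52102c148c009280e0000808c4a12804080181))) (.node (.node (.leaf (spread 10 9 0xd09014180408810100014d00a4032110404004e00490884a32c9481200080290311ff4680240000b021868000c98510825001)) (.leaf (spread 10 9 0x472b23a48570140088200408204121200004102100000108000108001200001400a13000a14c60031988014c42429842740ba3bf))) (.leaf (spread 10 9 0x83010c2042610484b2b40040004d41048406c2b480500024605a0400287c420040004d30c00008568408c30a05048000038040c0)))) (.node (.node (.node (.leaf (spread 10 9 0x220a36068742248c0428112050001082160c12212860080112c42c81033720100800a2513104200554000011101004a5080206)) (.leaf (spread 10 9 0x420001000202040880002703288b80020010001810c39048904048410351082311380a8002c022361018904028892b00895750c3))) (.leaf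 (spread 10 9 0x1216216902e4f0002018110088653001004380022800e0880060d0174c30140a8000030504010c402a0094024105109040118886))) (.node (.leaf (spread 10 9 0x1013291200003142a41010106448011401509439b468022281874500022245001a41044028022aa04006911a8001004c24801)) (.leaf (spread 10 9 0x20402000010140886006880808d2c44604422004600ca0a204120049834028110c00141c2400082830031459302210a312a86125)))))) (.node (.node (.node (.node (.node (.leaf (spread 10 9 0xc040a512c60a38001402200004412016d0402710004063000c8420480481200a88e444102400139480640924cc12008480248282)) (.leaf (spread 10 9 0x9000c0520840000828010890018c12011e810320c00020884d0300809052800901408c4cc3000500d79a05700c48848005412803))) (.leaf (spread 10 9 0x2055200cc0e2600c00500080d09340003020546d082080812106602c00a00ac040c20560a0020e1066061911260028002018060))) (.node (.node (.leaf (spread 10 9 0x729000108012181274202d81080001c58120c603008056b110642620580000020083000a00280403b348200c50cc00a805b8000)) (.leaf (spread 10 9 0xc800b1000000028900001200a2e041849800b0054902442000e878000a18842008a0320200801010009c4120ba622146128ce3d)))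 (.leaf (spread 10 9 0x9851122820489888840814033000100581100350200853b6002a0000000080905190e06a0be218032280988c98c0200200080024)))) (.node (.node (.node (.leaf (spread 10 9 0xc080430180004582c0c592002610280191804e48464c91ac0104101100281028c03d940000814480000226532110048004c4082)) (.leaf (spread 10 9 0xa800b982900002081042a6640204c894420104208b0020465058000004a2806910a0104180043174030010994442915021158))) (.leaf (spread 10 9 0x340c58100580100382804c00030181f2400200800832801270d44010a05000020e80a0420931c9004284900c4e98002410910209))) (.node (.leaf (spread 10 9 0x2040440a200044886021982808c0744662d10a002001403102d008418100281010420230c508402802315058160201a2902141a0)) (.leaf (spread 10 9 0x950408881248380a04156020103140e014d4a108880010001002400012081f80301b62820c080418302e451040490010182a1400))))) (.node (.node (.node (.node (.leaf (spread 10 9 0xc46d00b008002f48428202a089400011000010000010a2212148265490640005100108815849682860526080ca84208980041422)) (.leaf (spread 10 9 0x14ac6c300b0200c02c00080140420120014a190c009c5807070bc836508000840402046821c084a000800511004921402b1400)))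 (.leaf (spread 10 9 0x4b700005c00000408130432000084a5001830010000800800a21680295844c9714825752131100040902a0b124b40c0009300210))) (.node (.leaf (spread 10 9 0x191088101741402690a00c51840a00805205000400430061820131075208014888102408110b00011059ac019182228ad0140000)) (.leaf (spread 10 9 0x81050002088609418660844448a4042394b5801dc0800701005199110000011044809224100012204051100549298c00222002c0)))) (.node (.node (.node (.leaf (spread 10 9 0x12681121a03241240705c084052848108284a60200410b024ac2c02080118240000250b101681280000c8140a408f9000020042)) (.leaf (spread 10 9 0x900a800018000020009108874080123110800078c042230c8900500000509808414005484110c0a4ae2804d20c42050d1560a027))) (.leaf (spread 10 9 0x3024e60040e041088402476714533250402201001a040254e50422011001064004110020920412b1480102100500040044855005))) (.node (.leaf (spread 10 9 0x21800a010a4c18a010b003c82208886902020d01140626022480284000120712a0949c0142814488020408c02209080381808180)) (.leaf (spread 10 9 0x224b8872026100150c22900c08102864300c43a420205c0021a4000104ac2009102420180440909004100a8a010821586010504))))))) (.node (.node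 (.node (.node (.node (.node (.leaf (spread 10 9 0x310025c246898000010084a045a00248b45400e0141320913014e024800080810020580022a400b00080848cb58400d124022820)) (.leaf (spread 10 9 0x106000054121300183188108a1478000c05325041008880802004500890224448800a102b8508120e080c340185c260090445a))) (.leaf (spread 10 9 0x120110820a0408658260043c902482a3141d181442188405042098018001a1804400006020091aa0c240130048120a020a209202))) (.node (.node (.leaf (spread 10 9 0x21a0a0081449c0219104409100002040822000eb4018c480b0400acc600680440989011691803c4c104052100803802001249100)) (.leaf (spread 10 9 0x12e04d6892484a64418a420020828300594c8682a000250410002ac0820010060a50000008e40000421000418000850033216ad0))) (.leaf (spread 10 9 0x12a8000a4d0041110c5063802d520208b4a042100050a8044280000841809011812cab21090c0c040044a0021068028200024311)))) (.node (.node (.node (.leaf (spread 10 9 0x80060a8300100114900340ad08088028300955d03000c2009a48002120081808282014a33c261500028a8260010408e10a090110)) (.leaf (spread 10 9 0x8141400089df024108409140000804535c95400d4044161081400999200a40120480022010522600280404840905049422020360)))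 (.leaf (spread 10 9 0x2210aa14208821c88802d88248890028502620008003841e6201086e0000d0c033028001040a8446c1004900200004800288960a))) (.node (.leaf (spread 10 9 0xca600084520420105453230015012cc2420001121f02d440220200102c211410104e22100088644c00081c4004c228110800191)) (.leaf (spread 10 9 0x480100501a32d202c20122006629010002c026a591001028a000c21280022125334048082210404440204b5f002000211111c40))))) (.node (.node (.node (.node (.leaf (spread 10 9 0x5080700c48a029309c200265054210140070810058040119a00002313d0902420418040986244000440303343802040004811054)) (.leaf (spread 10 9 0x2007801032830a10c03c6d080950420120244a402000109024060b089c50200c218001088a22a1c00000c20540800f1940028480))) (.leaf (spread 10 9 0x836100000e02004908013142a4400450100921cd024410160100089f20e06000808300318060e400160e0480119041d422800a40))) (.node (.leaf (spread 10 9 0x41082211a90023812301061100c24224d61a0c4e0108006411340200088004a220083004a102c54820082008880c400460519090)) (.leaf (spread 10 9 0xe8040f80002030a38040aa06d0804203052013000880820029608211044a8a5490a770001004020340200504940c114d060010)))) (.node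 (.node (.node (.leaf (spread 10 9 0x130201180c040000c94050330a3e01572a4054040f802300008008002c060080b01120044902421481810212a030203b02822042)) (.leaf (spread 10 9 0x2480942501279da46c0050208402d431990048a8100002400a10080068402001420022000211060019e04014f00060c019018449))) (.leaf (spread 10 9 0x28101828121208a04286820409105014300810c019a65002a20023574020c0006010c02660288268a8400810088522840404b00))) (.node (.leaf (spread 10 9 0x1202a8883818040002c448a4380210840184804d910423482b00c00c0180a802416005080101e2048c08128202800c0514308021)) (.leaf (spread 10 9 0x6406c8100040114d00e800024000c0003068131241492d0221d2002a4124000e00141202021d4ac204842410800040520c6400e1)))))) (.node (.node (.node (.node (.node (.leaf (spread 10 9 0x5404210800410cc14120e4c4a04408080a102a201238c0500601001602521eaa414052220010100120240520922002290281a060)) (.leaf (spread 10 9 0x1906000089008830c483284640602f2050900008a402a20881900c6000454400cb442150010400842e0008520446035901401024))) (.leaf (spread 10 9 0x20036220414950027140061000810080c05440c84c414a42854315a28c460112800015004003a00082c8403c41220274008010)))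 (.node (.node (.leaf (spread 10 9 0x62a8000830c002c020200c803044c402140e22016264904a840a411078080a01940100489124512604208184900220868090280)) (.leaf (spread 10 9 0x8a108585a278a00060a412200000c04600010c4023000030000800a50108a10200a00c405910104608009020425c982c6353173))) (.leaf (spread 10 9 0x21a0600c220441c460500c0501202c3480812500d00089065160008012200a248b61688000920a208004871500a01808e0000d00)))) (.node (.node (.node (.leaf (spread 10 9 0x8894b92014434048000004418008000511ac4825004700430200b0231108118c8a802c00250100501051001296fe010d40110000)) (.leaf (spread 10 9 0x1a0000e0004204003000487021b6413020042a00144300388112028948a2408081c0213008800031101b2000bc30302b1d1861))) (.leaf (spread 10 9 0x2008462a0a42a00200488dda0312192040009200d2c000481820a06a190e600000041b0210085400000ad02580d2600402007005))) (.node (.leaf (spread 10 9 0x122441088b0168a13044280c600220900c0360812c48083820ec8000a185104811000ea0200883088810008500e4002a3201002)) (.leaf (spread 10 9 0x643a600520428446041040136408e509b000002600052500940102808808264094418168a8008128201099a2001c200008200861))))) (.node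 (.node (.node (.node (.leaf (spread 10 9 0x800841e2211314840a008302002000c0005305222210ac000055a04054400788522601890b22e400900102100822a60400d40054)) (.leaf (spread 10 9 0x42100000100015800134480280909853c4010040120c0e0002908030100692612854014124e40152241982815952908000420638))) (.leaf (spread 10 9 0x509a61204504a04e39028200004cc8d210024006ac11015090002620002008104a881c900200e07080304464291900200413000))) (.node (.leaf (spread 10 9 0x802008430104020144142a90d20304064088f0126002a4d100490102504aa0828003400182c040110cc89aa8a202041024010404)) (.leaf (spread 10 9 0x511000c120034182c0cc224002144a05a900070865030507002c000100825068c1350401c080418002224401051a0281c0a8080)))) (.node (.node (.node (.leaf (spread 10 9 0x160008010219b8469005400205d01161201c2108f820920000821040d0aa0080008b4684000c0018300601380349440450320102)) (.leaf (spread 10 9 0x314089c22380100b830681a820470000584205080100006883001400020020568c0009009a10c101a986b4001a100101b844a2))) (.leaf (spread 10 9 0x110442200538a04880400204810805000120c92603028408255840c45000720780208a801624428b514000000e2960484840286))) (.node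 (.leaf (spread 10 9 0x6286284a8010581500088a63000ce0101008024041013c02214144020147010400005256220e9a9014802c184000088604444440)) (.leaf (spread 10 9 0x26085408e0a582d08024000230025025140a60000006104a82220440780140b0850540009201515e0414b01c9000500202102c0)))))))))

/-- A table. -/
noncomputable def lineOrbMasksRR : BTree := .node lineOrbMasksRRL lineOrbMasksRRR

/-- A table. -/
noncomputable def lineOrbMasksR : BTree := .node lineOrbMasksRL lineOrbMasksRR

/-- A table. -/
noncomputable def lineOrbMasks : BTree := .node lineOrbMasksL lineOrbMasksR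

/-- Part of a table. -/
noncomputable def lineOrbParL : BTree := (.node (.node (.node (.node (.node (.node (.node (.node (.node (.node (.leaf 0) (.leaf 5771)) (.leaf 2235)) (.node (.node (.leaf 1035) (.leaf 9540)) (.leaf 3717))) (.node (.node (.node (.leaf 459) (.leaf 7507)) (.leaf 2953)) (.node (.leaf 1605) (.leaf 4608)))) (.node (.node (.node (.node (.leaf 197) (.leaf 6315)) (.leaf 2577)) (.node (.node (.leaf 1339) (.leaf 10522)) (.leaf 4114))) (.node (.node (.node (.leaf 731) (.leaf 8489)) (.leaf 3330)) (.node (.leaf 1909) (.leaf 5194))))) (.node (.node (.node (.node (.node (.leaf 77) (.leaf 6069)) (.leaf 2357)) (.node (.node (.leaf 1186) (.leaf 9949)) (.leaf 3882))) (.node (.node (.node (.leaf 608) (.leaf 8056)) (.leaf 3148)) (.node (.leaf 1747) (.leaf 4957)))) (.node (.node (.node (.node (.leaf 322) (.leaf 6969)) (.leaf 2762)) (.node (.leaf 1449) (.leaf 4298))) (.node (.node (.node (.leaf 874) (.leaf 9138)) (.leaf 3498)) (.node (.leaf 2050) (.leaf 5549)))))) (.node (.node (.node (.node (.node (.node (.leaf 29) (.leaf 5889)) (.leaf 2312)) (.node (.node (.leaf 1109)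 (.leaf 9737)) (.leaf 3797))) (.node (.node (.node (.leaf 533) (.leaf 7801)) (.leaf 3044)) (.node (.leaf 1669) (.leaf 4756)))) (.node (.node (.node (.node (.leaf 264) (.leaf 6557)) (.leaf 2682)) (.node (.node (.leaf 1393) (.leaf 10789)) (.leaf 4211))) (.node (.node (.node (.leaf 804) (.leaf 8608)) (.leaf 3418)) (.node (.leaf 1985) (.leaf 5364))))) (.node (.node (.node (.node (.node (.leaf 137) (.leaf 6153)) (.leaf 2475)) (.node (.node (.leaf 1261) (.leaf 10138)) (.leaf 4013))) (.node (.node (.node (.leaf 669) (.leaf 8274)) (.leaf 3248)) (.node (.leaf 1819) (.leaf 5073)))) (.node (.node (.node (.node (.leaf 384) (.leaf 7180)) (.leaf 2866)) (.node (.leaf 1529) (.leaf 4429))) (.node (.node (.node (.leaf 962) (.leaf 9348)) (.leaf 3617)) (.node (.leaf 2138) (.leaf 5674))))))) (.node (.node (.node (.node (.node (.node (.node (.leaf 11) (.leaf 5820)) (.leaf 2272)) (.node (.node (.leaf 1072) (.leaf 9645)) (.leaf 3756))) (.node (.node (.node (.leaf 498) (.leaf 7731)) (.leaf 3013)) (.node (.leaf 1642) (.leaf 4657)))) (.node (.node (.node (.node (.leaf 227) (.leaf 6385)) (.leaf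 2609)) (.node (.node (.leaf 1368) (.leaf 10697)) (.leaf 4178))) (.node (.node (.node (.leaf 779) (.leaf 8541)) (.leaf 3362)) (.node (.leaf 1949) (.leaf 5291))))) (.node (.node (.node (.node (.node (.leaf 105) (.leaf 6123)) (.leaf 2410)) (.node (.node (.leaf 1218) (.leaf 10083)) (.leaf 3946))) (.node (.node (.node (.leaf 641) (.leaf 8227)) (.leaf 3193)) (.node (.leaf 1785) (.leaf 4988)))) (.node (.node (.node (.node (.leaf 353) (.leaf 7019)) (.leaf 2824)) (.node (.leaf 1492) (.leaf 4377))) (.node (.node (.node (.leaf 915) (.leaf 9218)) (.leaf 3565)) (.node (.leaf 2099) (.leaf 5610)))))) (.node (.node (.node (.node (.node (.node (.leaf 57) (.leaf 6016)) (.leaf 2338)) (.node (.node (.leaf 1149) (.leaf 9835)) (.leaf 3827))) (.node (.node (.node (.leaf 571) (.leaf 7874)) (.leaf 3093)) (.node (.leaf 1716) (.leaf 4834)))) (.node (.node (.node (.node (.leaf 289) (.leaf 6723)) (.leaf 2713)) (.node (.leaf 1424) (.leaf 4251))) (.node (.node (.node (.leaf 836) (.leaf 8773)) (.leaf 3452)) (.node (.leaf 2019) (.leaf 5440))))) (.node (.node (.node (.node (.node (.leaf 171) (.leaf 6211))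 (.leaf 2530)) (.node (.node (.leaf 1299) (.leaf 10312)) (.leaf 4057))) (.node (.node (.node (.leaf 704) (.leaf 8442)) (.leaf 3285)) (.node (.leaf 1869) (.leaf 5146)))) (.node (.node (.node (.node (.leaf 425) (.leaf 7402)) (.leaf 2891)) (.node (.leaf 1577) (.leaf 4561))) (.node (.node (.node (.leaf 994) (.leaf 9417)) (.leaf 3669)) (.node (.leaf 2184) (.leaf 5724)))))))) (.node (.node (.node (.node (.node (.node (.node (.node (.leaf 3) (.leaf 5801)) (.leaf 2250)) (.node (.node (.leaf 1051) (.leaf 9578)) (.leaf 3731))) (.node (.node (.node (.leaf 475) (.leaf 7564)) (.leaf 2986)) (.node (.leaf 1620) (.leaf 4620)))) (.node (.node (.node (.node (.leaf 211) (.leaf 6341)) (.leaf 2595)) (.node (.node (.leaf 1353) (.leaf 10587)) (.leaf 4145))) (.node (.node (.node (.leaf 761) (.leaf 8529)) (.leaf 3345)) (.node (.leaf 1925) (.leaf 5244))))) (.node (.node (.node (.node (.node (.leaf 93) (.leaf 6100)) (.leaf 2379)) (.node (.node (.leaf 1209) (.leaf 10026)) (.leaf 3899))) (.node (.node (.node (.leaf 621) (.leaf 8100)) (.leaf 3165)) (.node (.leaf 1768) (.leaf 4976)))) (.node (.node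 (.node (.node (.leaf 338) (.leaf 7002)) (.leaf 2802)) (.node (.leaf 1473) (.leaf 4333))) (.node (.node (.node (.leaf 899) (.leaf 9188)) (.leaf 3530)) (.node (.leaf 2061) (.leaf 5593)))))) (.node (.node (.node (.node (.node (.node (.leaf 41) (.leaf 5984)) (.leaf 2323)) (.node (.node (.leaf 1132) (.leaf 9773)) (.leaf 3811))) (.node (.node (.node (.leaf 553) (.leaf 7834)) (.leaf 3061)) (.node (.leaf 1690) (.leaf 4785)))) (.node (.node (.node (.node (.leaf 277) (.leaf 6650)) (.leaf 2693)) (.node (.node (.leaf 1405) (.leaf 10905)) (.leaf 4233))) (.node (.node (.node (.leaf 824) (.leaf 8729)) (.leaf 3437)) (.node (.leaf 1997) (.leaf 5409))))) (.node (.node (.node (.node (.node (.leaf 153) (.leaf 6169)) (.leaf 2501)) (.node (.node (.leaf 1281) (.leaf 10210)) (.leaf 4042))) (.node (.node (.node (.leaf 684) (.leaf 8417)) (.leaf 3261)) (.node (.leaf 1828) (.leaf 5091)))) (.node (.node (.node (.node (.leaf 396) (.leaf 7249)) (.leaf 2874)) (.node (.leaf 1552) (.leaf 4496))) (.node (.node (.node (.leaf 979) (.leaf 9362)) (.leaf 3657)) (.node (.leaf 2162) (.leaf 5699))))))) (.node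 (.node (.node (.node (.node (.node (.node (.leaf 19) (.leaf 5841)) (.leaf 2290)) (.node (.node (.leaf 1089) (.leaf 9699)) (.leaf 3778))) (.node (.node (.node (.leaf 513) (.leaf 7769)) (.leaf 3028)) (.node (.leaf 1653) (.leaf 4739)))) (.node (.node (.node (.node (.leaf 241) (.leaf 6465)) (.leaf 2629)) (.node (.node (.leaf 1378) (.leaf 10755)) (.leaf 4200))) (.node (.node (.node (.leaf 789) (.leaf 8580)) (.leaf 3392)) (.node (.leaf 1970) (.leaf 5329))))) (.node (.node (.node (.node (.node (.leaf 122) (.leaf 6133)) (.leaf 2442)) (.node (.node (.leaf 1229) (.leaf 10109)) (.leaf 3981))) (.node (.node (.node (.leaf 659) (.leaf 8253)) (.leaf 3218)) (.node (.leaf 1802) (.leaf 5002)))) (.node (.node (.node (.node (.leaf 365) (.leaf 7140)) (.leaf 2850)) (.node (.leaf 1513) (.leaf 4405))) (.node (.node (.node (.leaf 938) (.leaf 9292)) (.leaf 3593)) (.node (.leaf 2116) (.leaf 5653)))))) (.node (.node (.node (.node (.node (.node (.leaf 66) (.leaf 6053)) (.leaf 2346)) (.node (.node (.leaf 1169) (.leaf 9873)) (.leaf 3851))) (.node (.node (.node (.leaf 587) (.leaf 8003)) (.leaf 3113))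 (.node (.leaf 1725) (.leaf 4929)))) (.node (.node (.node (.node (.leaf 301) (.leaf 6843)) (.leaf 2737)) (.node (.leaf 1436) (.leaf 4267))) (.node (.node (.node (.leaf 853) (.leaf 8981)) (.leaf 3461)) (.node (.leaf 2041) (.leaf 5492))))) (.node (.node (.node (.node (.node (.leaf 187) (.leaf 6293)) (.leaf 2555)) (.node (.node (.leaf 1320) (.leaf 10355)) (.leaf 4093))) (.node (.node (.node (.leaf 716) (.leaf 8468)) (.leaf 3309)) (.node (.leaf 1891) (.leaf 5165)))) (.node (.node (.node (.node (.leaf 443) (.leaf 7475)) (.leaf 2916)) (.node (.leaf 1595) (.leaf 4587))) (.node (.node (.node (.leaf 1012) (.leaf 9465)) (.leaf 3685)) (.node (.leaf 2211) (.leaf 5744))))))))) (.node (.node (.node (.node (.node (.node (.node (.node (.node (.leaf 1) (.leaf 5778)) (.leaf 2241)) (.node (.node (.leaf 1037) (.leaf 9565)) (.leaf 3724))) (.node (.node (.node (.leaf 467) (.leaf 7513)) (.leaf 2968)) (.node (.leaf 1617) (.leaf 4613)))) (.node (.node (.node (.node (.leaf 204) (.leaf 6329)) (.leaf 2581)) (.node (.node (.leaf 1346) (.leaf 10539)) (.leaf 4136))) (.node (.node (.node (.leaf 737)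 (.leaf 8516)) (.leaf 3339)) (.node (.leaf 1917) (.leaf 5241))))) (.node (.node (.node (.node (.node (.leaf 89) (.leaf 6091)) (.leaf 2371)) (.node (.node (.leaf 1194) (.leaf 10004)) (.leaf 3891))) (.node (.node (.node (.leaf 617) (.leaf 8076)) (.leaf 3156)) (.node (.leaf 1757) (.leaf 4963)))) (.node (.node (.node (.node (.leaf 331) (.leaf 6995)) (.leaf 2777)) (.node (.leaf 1464) (.leaf 4323))) (.node (.node (.node (.leaf 882) (.leaf 9162)) (.leaf 3513)) (.node (.leaf 2053) (.leaf 5569)))))) (.node (.node (.node (.node (.node (.node (.leaf 36) (.leaf 5899)) (.leaf 2317)) (.node (.node (.leaf 1120) (.leaf 9764)) (.leaf 3808))) (.node (.node (.node (.leaf 546) (.leaf 7825)) (.leaf 3049)) (.node (.leaf 1681) (.leaf 4765)))) (.node (.node (.node (.node (.leaf 272) (.leaf 6613)) (.leaf 2691)) (.node (.node (.leaf 1396) (.leaf 10819)) (.leaf 4226))) (.node (.node (.node (.leaf 813) (.leaf 8706)) (.leaf 3427)) (.node (.leaf 1988) (.leaf 5397))))) (.node (.node (.node (.node (.node (.leaf 140) (.leaf 6163)) (.leaf 2489)) (.node (.node (.leaf 1272) (.leaf 10179)) (.leaf 4026)))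 (.node (.node (.node (.leaf 681) (.leaf 8376)) (.leaf 3258)) (.node (.leaf 1821) (.leaf 5084)))) (.node (.node (.node (.node (.leaf 388) (.leaf 7185)) (.leaf 2868)) (.node (.leaf 1541) (.leaf 4442))) (.node (.node (.node (.leaf 969) (.leaf 9355)) (.leaf 3629)) (.node (.leaf 2148) (.leaf 5688))))))) (.node (.node (.node (.node (.node (.node (.node (.leaf 13) (.leaf 5827)) (.leaf 2281)) (.node (.node (.leaf 1076) (.leaf 9656)) (.leaf 3763))) (.node (.node (.node (.leaf 507) (.leaf 7748)) (.leaf 3021)) (.node (.leaf 1651) (.leaf 4714)))) (.node (.node (.node (.node (.leaf 235) (.leaf 6413)) (.leaf 2612)) (.node (.node (.leaf 1371) (.leaf 10715)) (.leaf 4186))) (.node (.node (.node (.leaf 786) (.leaf 8557)) (.leaf 3378)) (.node (.leaf 1956) (.leaf 5301))))) (.node (.node (.node (.node (.node (.leaf 115) (.leaf 6130)) (.leaf 2433)) (.node (.node (.leaf 1221) (.leaf 10105)) (.leaf 3962))) (.node (.node (.node (.leaf 651) (.leaf 8236)) (.leaf 3208)) (.node (.leaf 1795) (.leaf 4996)))) (.node (.node (.node (.node (.leaf 356) (.leaf 7037)) (.leaf 2833)) (.node (.leaf 1500) (.leaf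 4401))) (.node (.node (.node (.leaf 924) (.leaf 9242)) (.leaf 3579)) (.node (.leaf 2106) (.leaf 5643)))))) (.node (.node (.node (.node (.node (.node (.leaf 60) (.leaf 6041)) (.leaf 2340)) (.node (.node (.leaf 1160) (.leaf 9841)) (.leaf 3833))) (.node (.node (.node (.leaf 573) (.leaf 7900)) (.leaf 3101)) (.node (.leaf 1722) (.leaf 4901)))) (.node (.node (.node (.node (.leaf 299) (.leaf 6803)) (.leaf 2728)) (.node (.leaf 1428) (.leaf 4258))) (.node (.node (.node (.leaf 844) (.leaf 8971)) (.leaf 3458)) (.node (.leaf 2033) (.leaf 5467))))) (.node (.node (.node (.node (.node (.leaf 178) (.leaf 6261)) (.leaf 2546)) (.node (.node (.leaf 1309) (.leaf 10345)) (.leaf 4088))) (.node (.node (.node (.leaf 712) (.leaf 8449)) (.leaf 3293)) (.node (.leaf 1882) (.leaf 5153)))) (.node (.node (.node (.node (.leaf 440) (.leaf 7432)) (.leaf 2906)) (.node (.leaf 1587) (.leaf 4573))) (.node (.node (.node (.leaf 997) (.leaf 9444)) (.leaf 3683)) (.node (.leaf 2204) (.leaf 5737)))))))) (.node (.node (.node (.node (.node (.node (.node (.node (.leaf 9) (.leaf 5812)) (.leaf 2258)) (.node (.node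 (.leaf 1065) (.leaf 9610)) (.leaf 3737))) (.node (.node (.node (.leaf 489) (.leaf 7597)) (.leaf 2997)) (.node (.leaf 1629) (.leaf 4625)))) (.node (.node (.node (.node (.leaf 217) (.leaf 6370)) (.leaf 2602)) (.node (.node (.leaf 1362) (.leaf 10602)) (.leaf 4154))) (.node (.node (.node (.leaf 776) (.leaf 8533)) (.leaf 3354)) (.node (.leaf 1941) (.leaf 5266))))) (.node (.node (.node (.node (.node (.leaf 100) (.leaf 6107)) (.leaf 2394)) (.node (.node (.leaf 1212) (.leaf 10037)) (.leaf 3931))) (.node (.node (.node (.leaf 632) (.leaf 8108)) (.leaf 3181)) (.node (.leaf 1776) (.leaf 4986)))) (.node (.node (.node (.node (.leaf 341) (.leaf 7009)) (.leaf 2816)) (.node (.leaf 1489) (.leaf 4362))) (.node (.node (.node (.leaf 906) (.leaf 9203)) (.leaf 3539)) (.node (.leaf 2082) (.leaf 5601)))))) (.node (.node (.node (.node (.node (.node (.leaf 51) (.leaf 6005)) (.leaf 2332)) (.node (.node (.leaf 1139) (.leaf 9793)) (.leaf 3813))) (.node (.node (.node (.leaf 562) (.leaf 7864)) (.leaf 3091)) (.node (.leaf 1713) (.leaf 4808)))) (.node (.node (.node (.node (.leaf 284) (.leaf 6666)) (.leaf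 2701)) (.node (.leaf 1416) (.leaf 4237))) (.node (.node (.node (.leaf 832) (.leaf 8737)) (.leaf 3443)) (.node (.leaf 2012) (.leaf 5418))))) (.node (.node (.node (.node (.node (.leaf 162) (.leaf 6181)) (.leaf 2522)) (.node (.node (.leaf 1291) (.leaf 10299)) (.leaf 4045))) (.node (.node (.node (.leaf 693) (.leaf 8429)) (.leaf 3269)) (.node (.leaf 1851) (.leaf 5125)))) (.node (.node (.node (.node (.leaf 409) (.leaf 7355)) (.leaf 2883)) (.node (.leaf 1570) (.leaf 4531))) (.node (.node (.node (.leaf 987) (.leaf 9394)) (.leaf 3660)) (.node (.leaf 2173) (.leaf 5708))))))) (.node (.node (.node (.node (.node (.node (.node (.leaf 25) (.leaf 5845)) (.leaf 2298)) (.node (.node (.leaf 1099) (.leaf 9714)) (.leaf 3792))) (.node (.node (.node (.leaf 524) (.leaf 7794)) (.leaf 3033)) (.node (.leaf 1660) (.leaf 4747)))) (.node (.node (.node (.node (.leaf 253) (.leaf 6517)) (.leaf 2637)) (.node (.node (.leaf 1381) (.leaf 10779)) (.leaf 4205))) (.node (.node (.node (.leaf 801) (.leaf 8597)) (.leaf 3401)) (.node (.leaf 1973) (.leaf 5355))))) (.node (.node (.node (.node (.node (.leaf 125)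 (.leaf 6141)) (.leaf 2469)) (.node (.node (.leaf 1250) (.leaf 10117)) (.leaf 4001))) (.node (.node (.node (.leaf 666) (.leaf 8261)) (.leaf 3235)) (.node (.leaf 1816) (.leaf 5048)))) (.node (.node (.node (.node (.leaf 376) (.leaf 7157)) (.leaf 2857)) (.node (.leaf 1517) (.leaf 4419))) (.node (.node (.node (.leaf 953) (.leaf 9332)) (.leaf 3608)) (.node (.leaf 2124) (.leaf 5664)))))) (.node (.node (.node (.node (.node (.node (.leaf 69) (.leaf 6061)) (.leaf 2349)) (.node (.node (.leaf 1177) (.leaf 9938)) (.leaf 3866))) (.node (.node (.node (.leaf 597) (.leaf 8012)) (.leaf 3139)) (.node (.leaf 1733) (.leaf 4946)))) (.node (.node (.node (.node (.leaf 313) (.leaf 6852)) (.leaf 2755)) (.node (.leaf 1443) (.leaf 4283))) (.node (.node (.node (.leaf 865) (.leaf 8997)) (.leaf 3481)) (.node (.leaf 2044) (.leaf 5523))))) (.node (.node (.node (.node (.node (.leaf 195) (.leaf 6301)) (.leaf 2564)) (.node (.node (.leaf 1329) (.leaf 10437)) (.leaf 4105))) (.node (.node (.node (.leaf 724) (.leaf 8483)) (.leaf 3320)) (.node (.leaf 1904) (.leaf 5177)))) (.node (.node (.node (.node (.leaf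 450) (.leaf 7500)) (.leaf 2923)) (.node (.leaf 1602) (.leaf 4601))) (.node (.node (.node (.leaf 1026) (.leaf 9516)) (.leaf 3715)) (.node (.leaf 2226) (.leaf 5763))))))))))

/-- Part of a table. -/
noncomputable def lineOrbParR : BTree := (.node (.node (.node (.node (.node (.node (.node (.node (.node (.node (.leaf 0) (.leaf 5773)) (.leaf 2237)) (.node (.node (.leaf 1036) (.leaf 9563)) (.leaf 3722))) (.node (.node (.node (.leaf 465) (.leaf 7509)) (.leaf 2961)) (.node (.leaf 1609) (.leaf 4611)))) (.node (.node (.node (.node (.leaf 202) (.leaf 6317)) (.leaf 2579)) (.node (.node (.leaf 1344) (.leaf 10537)) (.leaf 4121))) (.node (.node (.node (.leaf 733) (.leaf 8498)) (.leaf 3337)) (.node (.leaf 1914) (.leaf 5234))))) (.node (.node (.node (.node (.node (.leaf 81) (.leaf 6073)) (.leaf 2361)) (.node (.node (.leaf 1193) (.leaf 9996)) (.leaf 3889))) (.node (.node (.node (.leaf 610) (.leaf 8067)) (.leaf 3154)) (.node (.leaf 1754) (.leaf 4961)))) (.node (.node (.node (.node (.leaf 329) (.leaf 6992)) (.leaf 2771)) (.node (.leaf 1457) (.leaf 4321))) (.node (.node (.node (.leaf 881)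 (.leaf 9147)) (.leaf 3506)) (.node (.leaf 2052) (.leaf 5565)))))) (.node (.node (.node (.node (.node (.node (.leaf 34) (.leaf 5891)) (.leaf 2314)) (.node (.node (.leaf 1113) (.leaf 9747)) (.leaf 3804))) (.node (.node (.node (.leaf 537) (.leaf 7804)) (.leaf 3045)) (.node (.leaf 1673) (.leaf 4757)))) (.node (.node (.node (.node (.leaf 266) (.leaf 6565)) (.leaf 2688)) (.node (.node (.leaf 1395) (.leaf 10801)) (.leaf 4220))) (.node (.node (.node (.leaf 805) (.leaf 8621)) (.leaf 3425)) (.node (.leaf 1987) (.leaf 5389))))) (.node (.node (.node (.node (.node (.leaf 139) (.leaf 6156)) (.leaf 2482)) (.node (.node (.leaf 1265) (.leaf 10161)) (.leaf 4017))) (.node (.node (.node (.leaf 673) (.leaf 8323)) (.leaf 3251)) (.node (.leaf 1820) (.leaf 5075)))) (.node (.node (.node (.node (.leaf 387) (.leaf 7181)) (.leaf 2867)) (.node (.leaf 1538) (.leaf 4434))) (.node (.node (.node (.leaf 965) (.leaf 9349)) (.leaf 3625)) (.node (.leaf 2144) (.leaf 5683))))))) (.node (.node (.node (.node (.node (.node (.node (.leaf 12) (.leaf 5821)) (.leaf 2277)) (.node (.node (.leaf 1074) (.leaf 9649))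 (.leaf 3757))) (.node (.node (.node (.leaf 500) (.leaf 7746)) (.leaf 3019)) (.node (.leaf 1648) (.leaf 4684)))) (.node (.node (.node (.node (.leaf 228) (.leaf 6389)) (.leaf 2611)) (.node (.node (.leaf 1370) (.leaf 10699)) (.leaf 4185))) (.node (.node (.node (.leaf 781) (.leaf 8545)) (.leaf 3371)) (.node (.leaf 1954) (.leaf 5300))))) (.node (.node (.node (.node (.node (.leaf 112) (.leaf 6124)) (.leaf 2417)) (.node (.node (.leaf 1220) (.leaf 10099)) (.leaf 3948))) (.node (.node (.node (.leaf 642) (.leaf 8229)) (.leaf 3201)) (.node (.leaf 1786) (.leaf 4995)))) (.node (.node (.node (.node (.leaf 355) (.leaf 7021)) (.leaf 2826)) (.node (.leaf 1498) (.leaf 4389))) (.node (.node (.node (.leaf 921) (.leaf 9221)) (.leaf 3573)) (.node (.leaf 2101) (.leaf 5627)))))) (.node (.node (.node (.node (.node (.node (.leaf 59) (.leaf 6033)) (.leaf 2339)) (.node (.node (.leaf 1153) (.leaf 9837)) (.leaf 3829))) (.node (.node (.node (.leaf 572) (.leaf 7898)) (.leaf 3100)) (.node (.leaf 1717) (.leaf 4841)))) (.node (.node (.node (.node (.leaf 297) (.leaf 6754)) (.leaf 2721)) (.node (.leaf 1427)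 (.leaf 4253))) (.node (.node (.node (.leaf 837) (.leaf 8921)) (.leaf 3453)) (.node (.leaf 2026) (.leaf 5442))))) (.node (.node (.node (.node (.node (.leaf 172) (.leaf 6229)) (.leaf 2539)) (.node (.node (.leaf 1301) (.leaf 10338)) (.leaf 4069))) (.node (.node (.node (.leaf 706) (.leaf 8445)) (.leaf 3291)) (.node (.leaf 1875) (.leaf 5149)))) (.node (.node (.node (.node (.leaf 426) (.leaf 7411)) (.leaf 2892)) (.node (.leaf 1586) (.leaf 4568))) (.node (.node (.node (.leaf 996) (.leaf 9419)) (.leaf 3681)) (.node (.leaf 2201) (.leaf 5730)))))))) (.node (.node (.node (.node (.node (.node (.node (.node (.leaf 5) (.leaf 5803)) (.leaf 2257)) (.node (.node (.leaf 1058) (.leaf 9585)) (.leaf 3733))) (.node (.node (.node (.leaf 482) (.leaf 7586)) (.leaf 2993)) (.node (.leaf 1621) (.leaf 4621)))) (.node (.node (.node (.node (.leaf 213) (.leaf 6345)) (.leaf 2597)) (.node (.node (.leaf 1355) (.leaf 10589)) (.leaf 4147))) (.node (.node (.node (.leaf 762) (.leaf 8532)) (.leaf 3352)) (.node (.leaf 1936) (.leaf 5245))))) (.node (.node (.node (.node (.node (.leaf 98) (.leaf 6101)) (.leaf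 2381)) (.node (.node (.leaf 1211) (.leaf 10034)) (.leaf 3906))) (.node (.node (.node (.leaf 625) (.leaf 8107)) (.leaf 3169)) (.node (.leaf 1770) (.leaf 4981)))) (.node (.node (.node (.node (.leaf 340) (.leaf 7005)) (.leaf 2805)) (.node (.leaf 1474) (.leaf 4349))) (.node (.node (.node (.leaf 900) (.leaf 9195)) (.leaf 3537)) (.node (.leaf 2075) (.leaf 5597)))))) (.node (.node (.node (.node (.node (.node (.leaf 48) (.leaf 6001)) (.leaf 2330)) (.node (.node (.leaf 1133) (.leaf 9789)) (.leaf 3812))) (.node (.node (.node (.leaf 560) (.leaf 7859)) (.leaf 3082)) (.node (.leaf 1698) (.leaf 4793)))) (.node (.node (.node (.node (.leaf 282) (.leaf 6659)) (.leaf 2700)) (.node (.leaf 1409) (.leaf 4235))) (.node (.node (.node (.leaf 826) (.leaf 8733)) (.leaf 3442)) (.node (.leaf 2008) (.leaf 5416))))) (.node (.node (.node (.node (.node (.leaf 160) (.leaf 6178)) (.leaf 2513)) (.node (.node (.leaf 1282) (.leaf 10227)) (.leaf 4044))) (.node (.node (.node (.leaf 685) (.leaf 8427)) (.leaf 3267)) (.node (.leaf 1835) (.leaf 5120)))) (.node (.node (.node (.node (.leaf 403) (.leaf 7268)) (.leaf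 2876)) (.node (.leaf 1568) (.leaf 4498))) (.node (.node (.node (.leaf 981) (.leaf 9370)) (.leaf 3659)) (.node (.leaf 2169) (.leaf 5706))))))) (.node (.node (.node (.node (.node (.node (.node (.leaf 21) (.leaf 5844)) (.leaf 2297)) (.node (.node (.leaf 1092) (.leaf 9706)) (.leaf 3785))) (.node (.node (.node (.leaf 521) (.leaf 7787)) (.leaf 3029)) (.node (.leaf 1658) (.leaf 4745)))) (.node (.node (.node (.node (.leaf 250) (.leaf 6481)) (.leaf 2635)) (.node (.node (.leaf 1380) (.leaf 10763)) (.leaf 4202))) (.node (.node (.node (.leaf 793) (.leaf 8594)) (.leaf 3394)) (.node (.leaf 1972) (.leaf 5346))))) (.node (.node (.node (.node (.node (.leaf 124) (.leaf 6139)) (.leaf 2450)) (.node (.node (.leaf 1243) (.leaf 10115)) (.leaf 3989))) (.node (.node (.node (.leaf 661) (.leaf 8259)) (.leaf 3226)) (.node (.leaf 1809) (.leaf 5013)))) (.node (.node (.node (.node (.leaf 369) (.leaf 7147)) (.leaf 2853)) (.node (.leaf 1516) (.leaf 4417))) (.node (.node (.node (.leaf 944) (.leaf 9324)) (.leaf 3597)) (.node (.leaf 2123) (.leaf 5657)))))) (.node (.node (.node (.node (.node (.node (.leaf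 68) (.leaf 6060)) (.leaf 2348)) (.node (.node (.leaf 1173) (.leaf 9877)) (.leaf 3853))) (.node (.node (.node (.leaf 594) (.leaf 8010)) (.leaf 3130)) (.node (.leaf 1731) (.leaf 4939)))) (.node (.node (.node (.node (.leaf 309) (.leaf 6850)) (.leaf 2738)) (.node (.leaf 1437) (.leaf 4282))) (.node (.node (.node (.leaf 857) (.leaf 8993)) (.leaf 3467)) (.node (.leaf 2043) (.leaf 5516))))) (.node (.node (.node (.node (.node (.leaf 192) (.leaf 6299)) (.leaf 2562)) (.node (.node (.leaf 1322) (.leaf 10409)) (.leaf 4101))) (.node (.node (.node (.leaf 722) (.leaf 8475)) (.leaf 3313)) (.node (.leaf 1897) (.leaf 5169)))) (.node (.node (.node (.node (.leaf 445) (.leaf 7476)) (.leaf 2917)) (.node (.leaf 1597) (.leaf 4588))) (.node (.node (.node (.leaf 1019) (.leaf 9484)) (.leaf 3712)) (.node (.leaf 2213) (.leaf 5761))))))))) (.node (.node (.node (.node (.node (.node (.node (.node (.node (.leaf 2) (.leaf 5780)) (.leaf 2248)) (.node (.node (.leaf 1044) (.leaf 9569)) (.leaf 3725))) (.node (.node (.node (.leaf 468) (.leaf 7555)) (.leaf 2977)) (.node (.leaf 1619) (.leaf 4618)))) (.node (.node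 (.node (.node (.leaf 205) (.leaf 6338)) (.leaf 2592)) (.node (.node (.leaf 1349) (.leaf 10580)) (.leaf 4138))) (.node (.node (.node (.leaf 745) (.leaf 8523)) (.leaf 3341)) (.node (.leaf 1921) (.leaf 5243))))) (.node (.node (.node (.node (.node (.leaf 91) (.leaf 6092)) (.leaf 2373)) (.node (.node (.leaf 1203) (.leaf 10019)) (.leaf 3897))) (.node (.node (.node (.leaf 619) (.leaf 8098)) (.leaf 3157)) (.node (.leaf 1761) (.leaf 4965)))) (.node (.node (.node (.node (.leaf 333) (.leaf 6997)) (.leaf 2789)) (.node (.leaf 1466) (.leaf 4325))) (.node (.node (.node (.leaf 897) (.leaf 9164)) (.leaf 3515)) (.node (.leaf 2059) (.leaf 5581)))))) (.node (.node (.node (.node (.node (.node (.leaf 37) (.leaf 5973)) (.leaf 2321)) (.node (.node (.leaf 1128) (.leaf 9771)) (.leaf 3810))) (.node (.node (.node (.leaf 549) (.leaf 7832)) (.leaf 3060)) (.node (.leaf 1688) (.leaf 4781)))) (.node (.node (.node (.node (.leaf 275) (.leaf 6642)) (.leaf 2692)) (.node (.node (.leaf 1397) (.leaf 10877)) (.leaf 4229))) (.node (.node (.node (.leaf 817) (.leaf 8709)) (.leaf 3432)) (.node (.leaf 1989) (.leaf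 5401))))) (.node (.node (.node (.node (.node (.leaf 149) (.leaf 6165)) (.leaf 2493)) (.node (.node (.leaf 1274) (.leaf 10204)) (.leaf 4040))) (.node (.node (.node (.leaf 683) (.leaf 8411)) (.leaf 3260)) (.node (.leaf 1826) (.leaf 5085)))) (.node (.node (.node (.node (.leaf 394) (.leaf 7209)) (.leaf 2869)) (.node (.leaf 1545) (.leaf 4489))) (.node (.node (.node (.leaf 978) (.leaf 9360)) (.leaf 3642)) (.node (.leaf 2149) (.leaf 5690))))))) (.node (.node (.node (.node (.node (.node (.node (.leaf 18) (.leaf 5833)) (.leaf 2288)) (.node (.node (.leaf 1083) (.leaf 9669)) (.leaf 3765))) (.node (.node (.node (.leaf 509) (.leaf 7757)) (.leaf 3026)) (.node (.leaf 1652) (.leaf 4721)))) (.node (.node (.node (.node (.leaf 237) (.leaf 6458)) (.leaf 2627)) (.node (.node (.leaf 1373) (.leaf 10737)) (.leaf 4195))) (.node (.node (.node (.leaf 788) (.leaf 8561)) (.leaf 3387)) (.node (.leaf 1957) (.leaf 5325))))) (.node (.node (.node (.node (.node (.leaf 117) (.leaf 6132)) (.leaf 2440)) (.node (.node (.leaf 1227) (.leaf 10108)) (.leaf 3969))) (.node (.node (.node (.leaf 657) (.leaf 8252))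 (.leaf 3210)) (.node (.leaf 1800) (.leaf 4997)))) (.node (.node (.node (.node (.leaf 357) (.leaf 7109)) (.leaf 2848)) (.node (.leaf 1507) (.leaf 4403))) (.node (.node (.node (.leaf 931) (.leaf 9284)) (.leaf 3581)) (.node (.leaf 2114) (.leaf 5645)))))) (.node (.node (.node (.node (.node (.node (.leaf 61) (.leaf 6052)) (.leaf 2341)) (.node (.node (.leaf 1162) (.leaf 9865)) (.leaf 3845))) (.node (.node (.node (.leaf 580) (.leaf 7945)) (.leaf 3109)) (.node (.leaf 1724) (.leaf 4914)))) (.node (.node (.node (.node (.leaf 300) (.leaf 6805)) (.leaf 2730)) (.node (.leaf 1429) (.leaf 4260))) (.node (.node (.node (.leaf 851) (.leaf 8978)) (.leaf 3460)) (.node (.leaf 2035) (.leaf 5475))))) (.node (.node (.node (.node (.node (.leaf 180) (.leaf 6291)) (.leaf 2553)) (.node (.node (.leaf 1313) (.leaf 10353)) (.leaf 4091))) (.node (.node (.node (.leaf 715) (.leaf 8456)) (.leaf 3306)) (.node (.leaf 1889) (.leaf 5160)))) (.node (.node (.node (.node (.leaf 442) (.leaf 7442)) (.leaf 2912)) (.node (.leaf 1589) (.leaf 4580))) (.node (.node (.node (.leaf 1009) (.leaf 9451)) (.leaf 3684)) (.node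 (.leaf 2205) (.leaf 5739)))))))) (.node (.node (.node (.node (.node (.node (.node (.node (.leaf 10) (.leaf 5818)) (.leaf 2267)) (.node (.node (.leaf 1067) (.leaf 9642)) (.leaf 3753))) (.node (.node (.node (.leaf 492) (.leaf 7649)) (.leaf 3008)) (.node (.leaf 1633) (.leaf 4645)))) (.node (.node (.node (.node (.leaf 225) (.leaf 6373)) (.leaf 2604)) (.node (.node (.leaf 1364) (.leaf 10605)) (.leaf 4165))) (.node (.node (.node (.leaf 778) (.leaf 8539)) (.leaf 3361)) (.node (.leaf 1947) (.leaf 5281))))) (.node (.node (.node (.node (.node (.leaf 101) (.leaf 6113)) (.leaf 2397)) (.node (.node (.leaf 1213) (.leaf 10049)) (.leaf 3939))) (.node (.node (.node (.leaf 634) (.leaf 8123)) (.leaf 3189)) (.node (.leaf 1778) (.leaf 4987)))) (.node (.node (.node (.node (.leaf 345) (.leaf 7016)) (.leaf 2818)) (.node (.leaf 1491) (.leaf 4373))) (.node (.node (.node (.leaf 908) (.leaf 9205)) (.leaf 3544)) (.node (.leaf 2096) (.leaf 5608)))))) (.node (.node (.node (.node (.node (.node (.leaf 52) (.leaf 6009)) (.leaf 2336)) (.node (.node (.leaf 1146) (.leaf 9800)) (.leaf 3821))) (.node (.node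 (.node (.leaf 568) (.leaf 7866)) (.leaf 3092)) (.node (.leaf 1715) (.leaf 4810)))) (.node (.node (.node (.node (.leaf 285) (.leaf 6674)) (.leaf 2709)) (.node (.leaf 1418) (.leaf 4248))) (.node (.node (.node (.leaf 835) (.leaf 8757)) (.leaf 3451)) (.node (.leaf 2013) (.leaf 5433))))) (.node (.node (.node (.node (.node (.leaf 169) (.leaf 6185)) (.leaf 2529)) (.node (.node (.leaf 1296) (.leaf 10301)) (.leaf 4053))) (.node (.node (.node (.leaf 697) (.leaf 8433)) (.leaf 3283)) (.node (.leaf 1858) (.leaf 5137)))) (.node (.node (.node (.node (.leaf 416) (.leaf 7394)) (.leaf 2889)) (.node (.leaf 1573) (.leaf 4547))) (.node (.node (.node (.leaf 989) (.leaf 9409)) (.leaf 3661)) (.node (.leaf 2177) (.leaf 5722))))))) (.node (.node (.node (.node (.node (.node (.node (.leaf 27) (.leaf 5882)) (.leaf 2307)) (.node (.node (.leaf 1106) (.leaf 9721)) (.leaf 3795))) (.node (.node (.node (.leaf 531) (.leaf 7796)) (.leaf 3042)) (.node (.leaf 1661) (.leaf 4748)))) (.node (.node (.node (.node (.leaf 257) (.leaf 6554)) (.leaf 2661)) (.node (.node (.leaf 1385) (.leaf 10786)) (.leaf 4209))) (.node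 (.node (.node (.leaf 803) (.leaf 8601)) (.leaf 3412)) (.node (.leaf 1977) (.leaf 5362))))) (.node (.node (.node (.node (.node (.leaf 129) (.leaf 6145)) (.leaf 2473)) (.node (.node (.leaf 1257) (.leaf 10130)) (.leaf 4008))) (.node (.node (.node (.leaf 668) (.leaf 8265)) (.leaf 3241)) (.node (.leaf 1818) (.leaf 5051)))) (.node (.node (.node (.node (.leaf 378) (.leaf 7162)) (.leaf 2864)) (.node (.leaf 1525) (.leaf 4424))) (.node (.node (.node (.leaf 960) (.leaf 9344)) (.leaf 3613)) (.node (.leaf 2131) (.leaf 5673)))))) (.node (.node (.node (.node (.node (.node (.leaf 75) (.leaf 6067)) (.leaf 2355)) (.node (.node (.leaf 1184) (.leaf 9945)) (.leaf 3869))) (.node (.node (.node (.leaf 601) (.leaf 8040)) (.leaf 3147)) (.node (.leaf 1737) (.leaf 4954)))) (.node (.node (.node (.node (.leaf 320) (.leaf 6907)) (.leaf 2756)) (.node (.leaf 1445) (.leaf 4292))) (.node (.node (.node (.leaf 872) (.leaf 9001)) (.leaf 3491)) (.node (.leaf 2045) (.leaf 5533))))) (.node (.node (.node (.node (.node (.leaf 196) (.leaf 6309)) (.leaf 2570)) (.node (.node (.leaf 1330) (.leaf 10441)) (.leaf 4112)))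 (.node (.node (.node (.leaf 725) (.leaf 8485)) (.leaf 3322)) (.node (.leaf 1906) (.leaf 5181)))) (.node (.node (.node (.node (.leaf 452) (.leaf 7501)) (.leaf 2944)) (.node (.leaf 1604) (.leaf 4603))) (.node (.node (.node (.leaf 1032) (.leaf 9523)) (.leaf 3716)) (.node (.leaf 2233) (.leaf 5768))))))))))

/-- A table. -/
noncomputable def lineOrbPar : BTree := .node lineOrbParL lineOrbParR

/-- Part of a table. -/
noncomputable def lineOrbNext0L : BTree := (.node (.node (.node (.node (.node (.node (.node (.node (.node (.node (.leaf 1) (.leaf 1086)) (.leaf 350)) (.node (.node (.leaf 477) (.leaf 1195)) (.leaf 1063))) (.node (.node (.node (.leaf 60) (.leaf 1253)) (.leaf 949)) (.node (.leaf 653) (.leaf 576)))) (.node (.node (.node (.node (.leaf 62) (.leaf 1155)) (.leaf 896)) (.node (.node (.leaf 572) (.leaf 1317)) (.leaf 1108))) (.node (.node (.node (.leaf 303) (.leaf 1068)) (.leaf 740)) (.node (.leaf 745) (.leaf 655))))) (.node (.node (.node (.node (.node (.leaf 13) (.leaf 773)) (.leaf 300)) (.node (.node (.leaf 526) (.leaf 1332)) (.leaf 707))) (.node (.node (.node (.leaf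 76) (.leaf 1007)) (.leaf 395)) (.node (.leaf 441) (.leaf 621)))) (.node (.node (.node (.node (.leaf 197) (.leaf 872)) (.leaf 565)) (.node (.leaf 614) (.leaf 641))) (.node (.node (.node (.leaf 425) (.leaf 1273)) (.leaf 439)) (.node (.leaf 548) (.leaf 700)))))) (.node (.node (.node (.node (.node (.node (.leaf 27) (.leaf 1089)) (.leaf 289)) (.node (.node (.leaf 270) (.leaf 1296)) (.leaf 1082))) (.node (.node (.node (.leaf 108) (.leaf 1263)) (.leaf 654)) (.node (.leaf 667) (.leaf 705)))) (.node (.node (.node (.node (.leaf 33) (.leaf 822)) (.leaf 764)) (.node (.node (.leaf 593) (.leaf 1351)) (.leaf 527))) (.node (.node (.node (.leaf 388) (.leaf 1076)) (.leaf 428)) (.node (.leaf 765) (.leaf 1167))))) (.node (.node (.node (.node (.node (.leaf 112) (.leaf 1145)) (.leaf 310)) (.node (.node (.leaf 193) (.leaf 1268)) (.leaf 753))) (.node (.node (.node (.leaf 334) (.leaf 1196)) (.leaf 406)) (.node (.leaf 726) (.leaf 789)))) (.node (.node (.node (.node (.leaf 48) (.leaf 1134)) (.leaf 934)) (.node (.leaf 639) (.leaf 1130))) (.node (.node (.node (.leaf 449) (.leaf 1323)) (.leaf 1048))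 (.node (.leaf 271) (.leaf 710))))))) (.node (.node (.node (.node (.node (.node (.node (.leaf 4) (.leaf 1194)) (.leaf 284)) (.node (.node (.leaf 134) (.leaf 1230)) (.leaf 470))) (.node (.node (.node (.leaf 94) (.leaf 1249)) (.leaf 959)) (.node (.leaf 669) (.leaf 940)))) (.node (.node (.node (.node (.leaf 49) (.leaf 1015)) (.leaf 611)) (.node (.node (.leaf 171) (.leaf 1352)) (.leaf 898))) (.node (.node (.node (.leaf 378) (.leaf 1295)) (.leaf 421)) (.node (.leaf 247) (.leaf 1062))))) (.node (.node (.node (.node (.node (.leaf 95) (.leaf 766)) (.leaf 442)) (.node (.node (.leaf 540) (.leaf 1340)) (.leaf 849))) (.node (.node (.node (.leaf 321) (.leaf 1031)) (.leaf 984)) (.node (.leaf 716) (.leaf 626)))) (.node (.node (.node (.node (.leaf 214) (.leaf 1101)) (.leaf 353)) (.node (.leaf 188) (.leaf 1120))) (.node (.node (.node (.leaf 437) (.leaf 1316)) (.leaf 747)) (.node (.leaf 804) (.leaf 1093)))))) (.node (.node (.node (.node (.node (.node (.leaf 61) (.leaf 752)) (.leaf 861)) (.node (.node (.leaf 182) (.leaf 1334)) (.leaf 483))) (.node (.node (.node (.leaf 293) (.leaf 985))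 (.leaf 634)) (.node (.leaf 216) (.leaf 684)))) (.node (.node (.node (.node (.leaf 184) (.leaf 1137)) (.leaf 396)) (.node (.leaf 178) (.leaf 1116))) (.node (.node (.node (.leaf 408) (.leaf 1177)) (.leaf 729)) (.node (.leaf 260) (.leaf 680))))) (.node (.node (.node (.node (.node (.leaf 22) (.leaf 778)) (.leaf 317)) (.node (.node (.leaf 190) (.leaf 1289)) (.leaf 956))) (.node (.node (.node (.leaf 88) (.leaf 1077)) (.leaf 687)) (.node (.leaf 599) (.leaf 1157)))) (.node (.node (.node (.node (.leaf 239) (.leaf 1191)) (.leaf 659)) (.node (.leaf 647) (.leaf 963))) (.node (.node (.node (.leaf 457) (.leaf 1272)) (.leaf 468)) (.node (.leaf 273) (.leaf 925)))))))) (.node (.node (.node (.node (.node (.node (.node (.node (.leaf 8) (.leaf 756)) (.leaf 558)) (.node (.node (.leaf 472) (.leaf 1282)) (.leaf 1055))) (.node (.node (.node (.leaf 253) (.leaf 1163)) (.leaf 374)) (.node (.leaf 208) (.leaf 1109)))) (.node (.node (.node (.node (.leaf 35) (.leaf 799)) (.leaf 633)) (.node (.node (.leaf 579) (.leaf 1325)) (.leaf 1026))) (.node (.node (.node (.leaf 373) (.leaf 1250)) (.leaf 1006))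 (.node (.leaf 749) (.leaf 961))))) (.node (.node (.node (.node (.node (.leaf 69) (.leaf 1073)) (.leaf 480)) (.node (.node (.leaf 535) (.leaf 1256)) (.leaf 488))) (.node (.node (.node (.leaf 92) (.leaf 1014)) (.leaf 917)) (.node (.leaf 221) (.leaf 622)))) (.node (.node (.node (.node (.leaf 202) (.leaf 1094)) (.leaf 706)) (.node (.leaf 619) (.leaf 549))) (.node (.node (.node (.leaf 113) (.leaf 1150)) (.leaf 704)) (.node (.leaf 793) (.leaf 1003)))))) (.node (.node (.node (.node (.node (.node (.leaf 53) (.leaf 748)) (.leaf 291)) (.node (.node (.leaf 506) (.leaf 1331)) (.leaf 1083))) (.node (.node (.node (.leaf 287) (.leaf 1269)) (.leaf 905)) (.node (.leaf 685) (.leaf 675)))) (.node (.node (.node (.node (.leaf 173) (.leaf 832)) (.leaf 566)) (.node (.node (.leaf 463) (.leaf 1364)) (.leaf 1045))) (.node (.node (.node (.leaf 103) (.leaf 1236)) (.leaf 817)) (.node (.leaf 760) (.leaf 982))))) (.node (.node (.node (.node (.node (.leaf 119) (.leaf 1232)) (.leaf 367)) (.node (.node (.leaf 494) (.leaf 1312)) (.leaf 1103))) (.node (.node (.node (.leaf 279) (.leaf 1190)) (.leaf 412))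 (.node (.leaf 231) (.leaf 643)))) (.node (.node (.node (.node (.leaf 155) (.leaf 1087)) (.leaf 361)) (.node (.leaf 194) (.leaf 562))) (.node (.node (.node (.leaf 124) (.leaf 1328)) (.leaf 1028)) (.node (.leaf 502) (.leaf 713))))))) (.node (.node (.node (.node (.node (.node (.node (.leaf 31) (.leaf 818)) (.leaf 842)) (.node (.node (.leaf 497) (.leaf 1318)) (.leaf 486))) (.node (.node (.node (.leaf 274) (.leaf 998)) (.leaf 383)) (.node (.leaf 600) (.leaf 1061)))) (.node (.node (.node (.node (.leaf 160) (.leaf 857)) (.leaf 331)) (.node (.node (.leaf 174) (.leaf 1346)) (.leaf 525))) (.node (.node (.node (.leaf 102) (.leaf 1251)) (.leaf 424)) (.node (.leaf 755) (.leaf 1081))))) (.node (.node (.node (.node (.node (.leaf 65) (.leaf 1216)) (.leaf 882)) (.node (.node (.leaf 544) (.leaf 1265)) (.leaf 499))) (.node (.node (.node (.leaf 83) (.leaf 1200)) (.leaf 920)) (.node (.leaf 720) (.leaf 904)))) (.node (.node (.node (.node (.leaf 144) (.leaf 969)) (.leaf 927)) (.node (.leaf 635) (.leaf 797))) (.node (.node (.node (.leaf 302) (.leaf 1294)) (.leaf 1044)) (.node (.leaf 266) (.leaf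 922)))))) (.node (.node (.node (.node (.node (.node (.leaf 17) (.leaf 1193)) (.leaf 296)) (.node (.node (.leaf 520) (.leaf 1308)) (.leaf 875))) (.node (.node (.node (.leaf 117) (.leaf 1238)) (.leaf 779)) (.node (.leaf 692) (.leaf 658)))) (.node (.node (.node (.node (.leaf 164) (.leaf 856)) (.leaf 402)) (.node (.leaf 365) (.leaf 838))) (.node (.node (.node (.leaf 259) (.leaf 1276)) (.leaf 733)) (.node (.leaf 786) (.leaf 919))))) (.node (.node (.node (.node (.node (.leaf 128) (.leaf 790)) (.leaf 320)) (.node (.node (.leaf 165) (.leaf 1320)) (.leaf 1106))) (.node (.node (.node (.leaf 360) (.leaf 1255)) (.leaf 992)) (.node (.leaf 369) (.leaf 824)))) (.node (.node (.node (.node (.leaf 244) (.leaf 937)) (.leaf 946)) (.node (.leaf 649) (.leaf 662))) (.node (.node (.node (.leaf 131) (.leaf 1244)) (.leaf 592)) (.node (.leaf 597) (.leaf 718))))))))) (.node (.node (.node (.node (.node (.node (.node (.node (.node (.leaf 9) (.leaf 836)) (.leaf 831)) (.node (.node (.leaf 479) (.leaf 1284)) (.leaf 1053))) (.node (.node (.node (.leaf 107) (.leaf 1147)) (.leaf 371)) (.node (.leaf 573)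 (.leaf 840)))) (.node (.node (.node (.node (.leaf 45) (.leaf 1001)) (.leaf 863)) (.node (.node (.leaf 575) (.leaf 1356)) (.leaf 517))) (.node (.node (.node (.leaf 372) (.leaf 1067)) (.leaf 612)) (.node (.leaf 241) (.leaf 1129))))) (.node (.node (.node (.node (.node (.leaf 82) (.leaf 1151)) (.leaf 866)) (.node (.node (.leaf 150) (.leaf 1298)) (.leaf 738))) (.node (.node (.node (.leaf 311) (.leaf 1277)) (.leaf 699)) (.node (.leaf 485) (.leaf 1138)))) (.node (.node (.node (.node (.leaf 42) (.leaf 1242)) (.leaf 638)) (.node (.leaf 183) (.leaf 546))) (.node (.node (.node (.leaf 111) (.leaf 1220)) (.leaf 802)) (.node (.leaf 791) (.leaf 1179)))))) (.node (.node (.node (.node (.node (.node (.leaf 29) (.leaf 906)) (.leaf 851)) (.node (.node (.leaf 140) (.leaf 1314)) (.leaf 476))) (.node (.node (.node (.leaf 85) (.leaf 1267)) (.leaf 924)) (.node (.leaf 604) (.leaf 881)))) (.node (.node (.node (.node (.leaf 34) (.leaf 828)) (.leaf 910)) (.node (.node (.leaf 233) (.leaf 1362)) (.leaf 529))) (.node (.node (.node (.leaf 390) (.leaf 1258)) (.leaf 1022)) (.node (.leaf 758) (.leaf 997)))))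 (.node (.node (.node (.node (.node (.leaf 73) (.leaf 1205)) (.leaf 884)) (.node (.node (.leaf 159) (.leaf 1330)) (.leaf 1036))) (.node (.node (.node (.leaf 344) (.leaf 1047)) (.leaf 410)) (.node (.leaf 433) (.leaf 636)))) (.node (.node (.node (.node (.leaf 229) (.leaf 930)) (.leaf 936)) (.node (.leaf 490) (.leaf 556))) (.node (.node (.node (.leaf 453) (.leaf 1321)) (.leaf 454)) (.node (.leaf 746) (.leaf 711))))))) (.node (.node (.node (.node (.node (.node (.node (.leaf 5) (.leaf 1033)) (.leaf 581)) (.node (.node (.leaf 492) (.leaf 1207)) (.leaf 1080))) (.node (.node (.node (.leaf 267) (.leaf 1214)) (.leaf 381)) (.node (.leaf 671) (.leaf 1042)))) (.node (.node (.node (.node (.leaf 38) (.leaf 987)) (.leaf 903)) (.node (.node (.leaf 587) (.leaf 1354)) (.leaf 524))) (.node (.node (.node (.leaf 100) (.leaf 1165)) (.leaf 423)) (.node (.leaf 249) (.leaf 945))))) (.node (.node (.node (.node (.node (.leaf 98) (.leaf 1189)) (.leaf 609)) (.node (.node (.leaf 542) (.leaf 1322)) (.leaf 1099))) (.node (.node (.node (.leaf 325) (.leaf 1032)) (.leaf 401)) (.node (.leaf 355) (.leaf 1149))))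 (.node (.node (.node (.node (.leaf 142) (.leaf 880)) (.leaf 907)) (.node (.leaf 629) (.leaf 1121))) (.node (.node (.node (.leaf 218) (.leaf 1234)) (.leaf 498)) (.node (.leaf 370) (.leaf 821)))))) (.node (.node (.node (.node (.node (.node (.leaf 11) (.leaf 926)) (.leaf 323)) (.node (.node (.leaf 145) (.leaf 1231)) (.leaf 703))) (.node (.node (.node (.leaf 295) (.leaf 1142)) (.leaf 399)) (.node (.leaf 690) (.leaf 1004)))) (.node (.node (.node (.node (.leaf 163) (.leaf 853)) (.leaf 341)) (.node (.leaf 607) (.leaf 533))) (.node (.node (.node (.leaf 234) (.leaf 1122)) (.leaf 783)) (.node (.leaf 782) (.leaf 957))))) (.node (.node (.node (.node (.node (.leaf 126) (.leaf 784)) (.leaf 843)) (.node (.node (.leaf 191) (.leaf 1338)) (.leaf 511))) (.node (.node (.node (.leaf 89) (.leaf 1181)) (.leaf 991)) (.node (.leaf 552) (.leaf 1133)))) (.node (.node (.node (.node (.leaf 55) (.leaf 929)) (.leaf 664)) (.node (.leaf 200) (.leaf 830))) (.node (.node (.node (.leaf 459) (.leaf 1247)) (.leaf 769)) (.node (.leaf 276) (.leaf 741)))))))) (.node (.node (.node (.node (.node (.node (.node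 (.node (.leaf 21) (.leaf 731)) (.leaf 283)) (.node (.node (.leaf 487) (.leaf 1309)) (.leaf 1079))) (.node (.node (.node (.leaf 264) (.leaf 950)) (.leaf 870)) (.node (.leaf 210) (.leaf 781)))) (.node (.node (.node (.node (.leaf 149) (.leaf 1124)) (.leaf 326)) (.node (.node (.leaf 582) (.leaf 1359)) (.leaf 860))) (.node (.node (.node (.leaf 97) (.leaf 1275)) (.leaf 1008)) (.node (.leaf 754) (.leaf 1143))))) (.node (.node (.node (.node (.node (.leaf 74) (.leaf 968)) (.leaf 481)) (.node (.node (.leaf 153) (.leaf 1292)) (.leaf 493))) (.node (.node (.node (.leaf 79) (.leaf 1204)) (.leaf 598)) (.node (.leaf 222) (.leaf 624)))) (.node (.node (.node (.node (.leaf 204) (.leaf 1182)) (.leaf 352)) (.node (.leaf 623) (.leaf 646))) (.node (.node (.node (.leaf 435) (.leaf 1315)) (.leaf 878)) (.node (.leaf 780) (.leaf 1164)))))) (.node (.node (.node (.node (.node (.node (.leaf 56) (.leaf 751)) (.leaf 859)) (.node (.node (.leaf 219) (.leaf 1341)) (.leaf 1084))) (.node (.node (.node (.leaf 290) (.leaf 983)) (.leaf 892)) (.node (.leaf 688) (.leaf 601)))) (.node (.node (.node (.node (.leaf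 143) (.leaf 965)) (.leaf 678)) (.node (.leaf 177) (.leaf 1115))) (.node (.node (.node (.leaf 104) (.leaf 1180)) (.leaf 432)) (.node (.leaf 776) (.leaf 980))))) (.node (.node (.node (.node (.node (.leaf 121) (.leaf 1209)) (.leaf 596)) (.node (.node (.leaf 560) (.leaf 1304)) (.leaf 1104))) (.node (.node (.node (.leaf 280) (.leaf 1075)) (.leaf 414)) (.node (.leaf 735) (.leaf 1158)))) (.node (.node (.node (.node (.leaf 237) (.leaf 1178)) (.leaf 363)) (.node (.leaf 644) (.leaf 913))) (.node (.node (.node (.leaf 455) (.leaf 1175)) (.leaf 466)) (.node (.leaf 500) (.leaf 1188))))))) (.node (.node (.node (.node (.node (.node (.node (.leaf 41) (.leaf 1027)) (.leaf 288)) (.node (.node (.leaf 272) (.leaf 1260)) (.leaf 474))) (.node (.node (.node (.leaf 106) (.leaf 975)) (.leaf 656)) (.node (.leaf 665) (.leaf 594)))) (.node (.node (.node (.node (.leaf 39) (.leaf 958)) (.leaf 841)) (.node (.node (.leaf 176) (.leaf 1358)) (.leaf 589))) (.node (.node (.node (.leaf 393) (.leaf 1288)) (.leaf 1020)) (.node (.leaf 335) (.leaf 670))))) (.node (.node (.node (.node (.node (.leaf 67) (.leaf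 973)) (.leaf 516)) (.node (.node (.leaf 236) (.leaf 1349)) (.leaf 865))) (.node (.node (.node (.leaf 332) (.leaf 1197)) (.leaf 603)) (.node (.leaf 227) (.leaf 631)))) (.node (.node (.node (.node (.leaf 47) (.leaf 1136)) (.leaf 932)) (.node (.leaf 349) (.leaf 742))) (.node (.node (.node (.leaf 446) (.leaf 1169)) (.leaf 451)) (.node (.leaf 308) (.leaf 708)))))) (.node (.node (.node (.node (.node (.node (.leaf 19) (.leaf 771)) (.leaf 298)) (.node (.node (.leaf 523) (.leaf 1243)) (.leaf 1091))) (.node (.node (.node (.leaf 93) (.leaf 1126)) (.leaf 974)) (.node (.leaf 694) (.leaf 1050)))) (.node (.node (.node (.node (.leaf 136) (.leaf 1117)) (.leaf 345)) (.node (.leaf 512) (.leaf 537))) (.node (.node (.node (.leaf 422) (.leaf 1239)) (.leaf 503)) (.node (.leaf 257) (.leaf 695))))) (.node (.node (.node (.node (.node (.leaf 64) (.leaf 1024)) (.leaf 891)) (.node (.node (.leaf 539) (.leaf 1327)) (.leaf 890))) (.node (.node (.node (.leaf 312) (.leaf 1162)) (.leaf 415)) (.node (.leaf 238) (.leaf 1102)))) (.node (.node (.node (.node (.leaf 58) (.leaf 1252)) (.leaf 610)) (.node (.leaf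 651) (.leaf 1021))) (.node (.node (.node (.leaf 133) (.leaf 1221)) (.leaf 1064)) (.node (.leaf 417) (.leaf 722))))))))))

/-- Part of a table. -/
noncomputable def lineOrbNext0R : BTree := (.node (.node (.node (.node (.node (.node (.node (.node (.node (.node (.leaf 0) (.leaf 1085)) (.leaf 351)) (.node (.node (.leaf 478) (.leaf 1285)) (.leaf 762))) (.node (.node (.node (.leaf 255) (.leaf 1059)) (.leaf 864)) (.node (.leaf 461) (.leaf 1011)))) (.node (.node (.node (.node (.leaf 44) (.leaf 1040)) (.leaf 895)) (.node (.node (.leaf 168) (.leaf 1337)) (.leaf 657))) (.node (.node (.node (.leaf 304) (.leaf 1161)) (.leaf 912)) (.node (.leaf 240) (.leaf 964))))) (.node (.node (.node (.node (.node (.leaf 80) (.leaf 1211)) (.leaf 375)) (.node (.node (.leaf 528) (.leaf 1259)) (.leaf 715))) (.node (.node (.node (.leaf 309) (.leaf 1009)) (.leaf 697)) (.node (.leaf 510) (.leaf 1146)))) (.node (.node (.node (.node (.leaf 198) (.leaf 874)) (.leaf 554)) (.node (.leaf 616) (.leaf 814))) (.node (.node (.node (.leaf 427) (.leaf 1160)) (.leaf 1039)) (.node (.leaf 550) (.leaf 921)))))) (.node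 (.node (.node (.node (.node (.node (.leaf 28) (.leaf 739)) (.leaf 850)) (.node (.node (.leaf 504) (.leaf 1223)) (.leaf 489))) (.node (.node (.node (.leaf 282) (.leaf 1262)) (.leaf 833)) (.node (.leaf 682) (.leaf 886)))) (.node (.node (.node (.node (.leaf 169) (.leaf 847)) (.leaf 336)) (.node (.node (.leaf 397) (.leaf 1363)) (.leaf 808))) (.node (.node (.node (.leaf 389) (.leaf 1291)) (.leaf 1023)) (.node (.leaf 757) (.leaf 995))))) (.node (.node (.node (.node (.node (.leaf 72) (.leaf 1060)) (.leaf 585)) (.node (.node (.leaf 555) (.leaf 1329)) (.leaf 724))) (.node (.node (.node (.leaf 342) (.leaf 1235)) (.leaf 805)) (.node (.leaf 434) (.leaf 970)))) (.node (.node (.node (.node (.leaf 228) (.leaf 1112)) (.leaf 935)) (.node (.leaf 444) (.leaf 914))) (.node (.node (.node (.leaf 450) (.leaf 1324)) (.leaf 816)) (.node (.leaf 268) (.leaf 1185))))))) (.node (.node (.node (.node (.node (.node (.node (.leaf 2) (.leaf 1034)) (.leaf 839)) (.node (.node (.leaf 491) (.leaf 1336)) (.leaf 471))) (.node (.node (.node (.leaf 139) (.leaf 1217)) (.leaf 380)) (.node (.leaf 206) (.leaf 660))))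 (.node (.node (.node (.node (.leaf 50) (.leaf 1237)) (.leaf 561)) (.node (.node (.leaf 559) (.leaf 1357)) (.leaf 590))) (.node (.node (.node (.leaf 379) (.leaf 1303)) (.leaf 1012)) (.node (.leaf 248) (.leaf 1132))))) (.node (.node (.node (.node (.node (.leaf 14) (.leaf 767)) (.leaf 879)) (.node (.node (.leaf 541) (.leaf 1266)) (.leaf 567))) (.node (.node (.node (.leaf 81) (.leaf 1052)) (.leaf 683)) (.node (.leaf 224) (.leaf 1148)))) (.node (.node (.node (.node (.leaf 115) (.leaf 962)) (.leaf 719)) (.node (.leaf 628) (.leaf 795))) (.node (.node (.node (.leaf 338) (.leaf 1213)) (.leaf 448)) (.node (.leaf 785) (.leaf 1090)))))) (.node (.node (.node (.node (.node (.node (.leaf 15) (.leaf 871)) (.leaf 862)) (.node (.node (.leaf 515) (.leaf 1335)) (.leaf 484))) (.node (.node (.node (.leaf 294) (.leaf 1240)) (.leaf 398)) (.node (.leaf 217) (.leaf 993)))) (.node (.node (.node (.node (.leaf 186) (.leaf 845)) (.leaf 918)) (.node (.leaf 606) (.leaf 1100))) (.node (.node (.node (.leaf 409) (.leaf 1123)) (.leaf 728)) (.node (.leaf 261) (.leaf 1176))))) (.node (.node (.node (.node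 (.node (.leaf 23) (.leaf 972)) (.leaf 887)) (.node (.node (.leaf 563) (.leaf 1345)) (.leaf 915))) (.node (.node (.node (.leaf 357) (.leaf 1078)) (.leaf 673)) (.node (.leaf 416) (.leaf 943)))) (.node (.node (.node (.node (.leaf 54) (.leaf 1072)) (.leaf 580)) (.node (.leaf 199) (.leaf 571))) (.node (.node (.node (.leaf 458) (.leaf 1248)) (.leaf 939)) (.node (.leaf 819) (.leaf 717)))))))) (.node (.node (.node (.node (.node (.node (.node (.node (.leaf 10) (.leaf 727)) (.leaf 834)) (.node (.node (.leaf 473) (.leaf 1281)) (.leaf 1056))) (.node (.node (.node (.leaf 254) (.leaf 952)) (.leaf 955)) (.node (.leaf 209) (.leaf 1119)))) (.node (.node (.node (.node (.leaf 36) (.leaf 1000)) (.leaf 522)) (.node (.node (.leaf 170) (.leaf 1326)) (.leaf 519))) (.node (.node (.node (.leaf 96) (.leaf 1278)) (.leaf 419)) (.node (.leaf 242) (.leaf 1110))))) (.node (.node (.node (.node (.node (.leaf 77) (.leaf 908)) (.leaf 868)) (.node (.node (.leaf 152) (.leaf 1344)) (.leaf 689))) (.node (.node (.node (.leaf 316) (.leaf 1066)) (.leaf 981)) (.node (.leaf 712) (.leaf 811)))) (.node (.node (.node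 (.node (.leaf 203) (.leaf 1095)) (.leaf 829)) (.node (.leaf 185) (.leaf 551))) (.node (.node (.node (.leaf 114) (.leaf 1152)) (.leaf 1018)) (.node (.leaf 418) (.leaf 978)))))) (.node (.node (.node (.node (.node (.node (.leaf 6) (.leaf 852)) (.leaf 858)) (.node (.node (.leaf 507) (.leaf 1261)) (.leaf 944))) (.node (.node (.node (.leaf 70) (.leaf 1159)) (.leaf 763)) (.node (.leaf 213) (.leaf 676)))) (.node (.node (.node (.node (.leaf 146) (.leaf 900)) (.leaf 508)) (.node (.leaf 602) (.leaf 1114))) (.node (.node (.node (.leaf 405) (.leaf 1097)) (.leaf 431)) (.node (.leaf 251) (.leaf 677))))) (.node (.node (.node (.node (.node (.leaf 20) (.leaf 1208)) (.leaf 608)) (.node (.node (.leaf 161) (.leaf 1299)) (.leaf 1002))) (.node (.node (.node (.leaf 285) (.leaf 1074)) (.leaf 413)) (.node (.leaf 232) (.leaf 640)))) (.node (.node (.node (.node (.leaf 156) (.leaf 1215)) (.leaf 362)) (.node (.leaf 196) (.leaf 775))) (.node (.node (.node (.leaf 125) (.leaf 1172)) (.leaf 465)) (.node (.leaf 815) (.leaf 1187))))))) (.node (.node (.node (.node (.node (.node (.node (.leaf 32) (.leaf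 1019)) (.leaf 844)) (.node (.node (.leaf 195) (.leaf 1319)) (.leaf 902))) (.node (.node (.node (.leaf 275) (.leaf 1226)) (.leaf 384)) (.node (.leaf 337) (.leaf 989)))) (.node (.node (.node (.node (.leaf 37) (.leaf 1128)) (.leaf 846)) (.node (.node (.leaf 175) (.leaf 1353)) (.leaf 1113))) (.node (.node (.node (.leaf 391) (.leaf 1287)) (.leaf 1017)) (.node (.leaf 385) (.leaf 1070))))) (.node (.node (.node (.node (.node (.leaf 66) (.leaf 1219)) (.leaf 307)) (.node (.node (.leaf 235) (.leaf 1348)) (.leaf 1043))) (.node (.node (.node (.leaf 84) (.leaf 1198)) (.leaf 404)) (.node (.leaf 723) (.leaf 967)))) (.node (.node (.node (.node (.leaf 223) (.leaf 954)) (.leaf 928)) (.node (.leaf 348) (.leaf 1127))) (.node (.node (.node (.leaf 118) (.leaf 1301)) (.leaf 452)) (.node (.leaf 806) (.leaf 1183)))))) (.node (.node (.node (.node (.node (.node (.leaf 18) (.leaf 770)) (.leaf 297)) (.node (.node (.leaf 181) (.leaf 1286)) (.leaf 876))) (.node (.node (.node (.leaf 91) (.leaf 1210)) (.leaf 392)) (.node (.leaf 693) (.leaf 1016)))) (.node (.node (.node (.node (.leaf 158) (.leaf 1118))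 (.leaf 343)) (.node (.leaf 366) (.leaf 536))) (.node (.node (.node (.leaf 420) (.leaf 1245)) (.leaf 732)) (.node (.leaf 256) (.leaf 909))))) (.node (.node (.node (.node (.node (.leaf 24) (.leaf 1025)) (.leaf 386)) (.node (.node (.leaf 568) (.leaf 1302)) (.leaf 613))) (.node (.node (.node (.leaf 179) (.leaf 1257)) (.leaf 999)) (.node (.leaf 447) (.leaf 986)))) (.node (.node (.node (.node (.leaf 245) (.leaf 938)) (.leaf 947)) (.node (.leaf 650) (.leaf 663))) (.node (.node (.node (.leaf 132) (.leaf 1186)) (.leaf 464)) (.node (.leaf 823) (.leaf 894))))))))) (.node (.node (.node (.node (.node (.node (.node (.node (.node (.leaf 7) (.leaf 1038)) (.leaf 281)) (.node (.node (.leaf 220) (.leaf 1279)) (.leaf 1054))) (.node (.node (.node (.leaf 252) (.leaf 1088)) (.leaf 948)) (.node (.leaf 207) (.leaf 1135)))) (.node (.node (.node (.node (.leaf 46) (.leaf 798)) (.leaf 324)) (.node (.node (.leaf 538) (.leaf 1347)) (.leaf 1111))) (.node (.node (.node (.leaf 269) (.leaf 1069)) (.leaf 800)) (.node (.leaf 750) (.leaf 888))))) (.node (.node (.node (.node (.node (.leaf 68) (.leaf 1153))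 (.leaf 867)) (.node (.node (.leaf 532) (.leaf 1254)) (.leaf 787))) (.node (.node (.node (.leaf 90) (.leaf 1013)) (.leaf 916)) (.node (.leaf 709) (.leaf 1139)))) (.node (.node (.node (.node (.leaf 43) (.leaf 1241)) (.leaf 584)) (.node (.leaf 426) (.leaf 547))) (.node (.node (.node (.leaf 430) (.leaf 1228)) (.leaf 1041)) (.node (.leaf 792) (.leaf 977)))))) (.node (.node (.node (.node (.node (.node (.leaf 30) (.leaf 813)) (.leaf 855)) (.node (.node (.leaf 141) (.leaf 1333)) (.leaf 803))) (.node (.node (.node (.leaf 87) (.leaf 979)) (.leaf 632)) (.node (.leaf 211) (.leaf 825)))) (.node (.node (.node (.node (.leaf 172) (.leaf 1131)) (.leaf 911)) (.node (.node (.leaf 591) (.leaf 1361)) (.leaf 530))) (.node (.node (.node (.leaf 403) (.leaf 1201)) (.leaf 429)) (.node (.leaf 759) (.leaf 1171))))) (.node (.node (.node (.node (.node (.leaf 75) (.leaf 1206)) (.leaf 313)) (.node (.node (.leaf 557) (.leaf 1300)) (.leaf 505))) (.node (.node (.node (.leaf 189) (.leaf 1199)) (.leaf 411)) (.node (.leaf 230) (.leaf 637)))) (.node (.node (.node (.node (.leaf 105) (.leaf 931)) (.leaf 883))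 (.node (.leaf 642) (.leaf 627))) (.node (.node (.node (.leaf 123) (.leaf 1170)) (.leaf 460)) (.node (.leaf 812) (.leaf 897))))))) (.node (.node (.node (.node (.node (.node (.node (.leaf 26) (.leaf 1051)) (.leaf 286)) (.node (.node (.leaf 138) (.leaf 1233)) (.leaf 668))) (.node (.node (.node (.leaf 137) (.leaf 1156)) (.leaf 382)) (.node (.leaf 672) (.leaf 618)))) (.node (.node (.node (.node (.leaf 51) (.leaf 810)) (.leaf 330)) (.node (.node (.leaf 588) (.leaf 1355)) (.leaf 570))) (.node (.node (.node (.leaf 101) (.leaf 1071)) (.leaf 801)) (.node (.leaf 250) (.leaf 679))))) (.node (.node (.node (.node (.node (.leaf 99) (.leaf 1218)) (.leaf 305)) (.node (.node (.leaf 543) (.leaf 1264)) (.leaf 933))) (.node (.node (.node (.leaf 328) (.leaf 1280)) (.leaf 681)) (.node (.leaf 225) (.leaf 761)))) (.node (.node (.node (.node (.leaf 130) (.leaf 1107)) (.leaf 356)) (.node (.leaf 630) (.leaf 796))) (.node (.node (.node (.leaf 301) (.leaf 1313)) (.leaf 744)) (.node (.leaf 265) (.leaf 996)))))) (.node (.node (.node (.node (.node (.node (.leaf 16) (.leaf 1035)) (.leaf 318)) (.node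 (.node (.leaf 518) (.leaf 1307)) (.leaf 873))) (.node (.node (.node (.leaf 116) (.leaf 994)) (.leaf 400)) (.node (.leaf 691) (.leaf 615)))) (.node (.node (.node (.node (.leaf 157) (.leaf 854)) (.leaf 686)) (.node (.leaf 315) (.leaf 534))) (.node (.node (.node (.leaf 278) (.leaf 1310)) (.leaf 1030)) (.node (.leaf 263) (.leaf 1098))))) (.node (.node (.node (.node (.node (.leaf 127) (.leaf 788)) (.leaf 889)) (.node (.node (.leaf 347) (.leaf 1339)) (.leaf 951))) (.node (.node (.node (.leaf 359) (.leaf 1057)) (.leaf 674)) (.node (.leaf 743) (.leaf 645)))) (.node (.node (.node (.node (.leaf 243) (.leaf 1154)) (.leaf 364)) (.node (.leaf 201) (.leaf 574))) (.node (.node (.node (.leaf 469) (.leaf 1222)) (.leaf 661)) (.node (.leaf 277) (.leaf 1037)))))))) (.node (.node (.node (.node (.node (.node (.node (.node (.leaf 3) (.leaf 1192)) (.leaf 837)) (.node (.node (.leaf 475) (.leaf 1229)) (.leaf 885))) (.node (.node (.node (.leaf 63) (.leaf 1173)) (.leaf 376)) (.node (.leaf 205) (.leaf 586)))) (.node (.node (.node (.node (.leaf 151) (.leaf 1125)) (.leaf 327)) (.node (.node (.leaf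 583) (.leaf 1360)) (.leaf 521))) (.node (.node (.node (.leaf 377) (.leaf 1297)) (.leaf 1010)) (.node (.leaf 246) (.leaf 941))))) (.node (.node (.node (.node (.node (.leaf 78) (.leaf 768)) (.leaf 869)) (.node (.node (.leaf 154) (.leaf 1293)) (.leaf 495))) (.node (.node (.node (.leaf 319) (.leaf 1144)) (.leaf 971)) (.node (.leaf 714) (.leaf 625)))) (.node (.node (.node (.node (.leaf 212) (.leaf 877)) (.leaf 923)) (.node (.leaf 187) (.leaf 1049))) (.node (.node (.node (.leaf 436) (.leaf 1212)) (.leaf 443)) (.node (.leaf 262) (.leaf 701)))))) (.node (.node (.node (.node (.node (.node (.leaf 57) (.leaf 1202)) (.leaf 292)) (.node (.node (.leaf 180) (.leaf 1225)) (.leaf 482))) (.node (.node (.node (.leaf 71) (.leaf 1270)) (.leaf 893)) (.node (.leaf 215) (.leaf 988)))) (.node (.node (.node (.node (.leaf 147) (.leaf 835)) (.leaf 440)) (.node (.leaf 605) (.leaf 531))) (.node (.node (.node (.leaf 407) (.leaf 1246)) (.leaf 1029)) (.node (.leaf 777) (.leaf 1174))))) (.node (.node (.node (.node (.node (.leaf 122) (.leaf 774)) (.leaf 809)) (.node (.node (.leaf 162) (.leaf 1305)) (.leaf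 509))) (.node (.node (.node (.leaf 354) (.leaf 1290)) (.leaf 990)) (.node (.leaf 736) (.leaf 827)))) (.node (.node (.node (.node (.leaf 52) (.leaf 966)) (.leaf 942)) (.node (.leaf 545) (.leaf 569))) (.node (.node (.node (.leaf 456) (.leaf 1271)) (.leaf 467)) (.node (.leaf 734) (.leaf 1096))))))) (.node (.node (.node (.node (.node (.node (.node (.leaf 25) (.leaf 737)) (.leaf 848)) (.node (.node (.leaf 496) (.leaf 1224)) (.leaf 730))) (.node (.node (.node (.leaf 86) (.leaf 976)) (.leaf 960)) (.node (.leaf 666) (.leaf 595)))) (.node (.node (.node (.node (.leaf 166) (.leaf 820)) (.leaf 339)) (.node (.node (.leaf 462) (.leaf 1350)) (.leaf 1105))) (.node (.node (.node (.leaf 387) (.leaf 1306)) (.leaf 617)) (.node (.leaf 340) (.leaf 1166))))) (.node (.node (.node (.node (.node (.leaf 110) (.leaf 1227)) (.leaf 329)) (.node (.node (.leaf 192) (.leaf 1342)) (.leaf 501))) (.node (.node (.node (.leaf 333) (.leaf 1203)) (.leaf 696)) (.node (.leaf 725) (.leaf 953)))) (.node (.node (.node (.node (.leaf 226) (.leaf 899)) (.leaf 358)) (.node (.leaf 564) (.leaf 553))) (.node (.node (.node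 (.leaf 120) (.leaf 1168)) (.leaf 1046)) (.node (.leaf 807) (.leaf 1184)))))) (.node (.node (.node (.node (.node (.node (.leaf 12) (.leaf 772)) (.leaf 299)) (.node (.node (.leaf 148) (.leaf 1311)) (.leaf 1092))) (.node (.node (.node (.leaf 306) (.leaf 1005)) (.leaf 394)) (.node (.leaf 702) (.leaf 620)))) (.node (.node (.node (.node (.leaf 40) (.leaf 901)) (.leaf 346)) (.node (.leaf 513) (.leaf 578))) (.node (.node (.node (.leaf 109) (.leaf 1274)) (.leaf 438)) (.node (.leaf 258) (.leaf 698))))) (.node (.node (.node (.node (.node (.leaf 135) (.leaf 1140)) (.leaf 322)) (.node (.node (.leaf 167) (.leaf 1343)) (.leaf 514))) (.node (.node (.node (.leaf 314) (.leaf 1141)) (.leaf 794)) (.node (.leaf 445) (.leaf 648)))) (.node (.node (.node (.node (.leaf 59) (.leaf 1058)) (.leaf 368)) (.node (.leaf 652) (.leaf 577))) (.node (.node (.node (.leaf 129) (.leaf 1283)) (.leaf 1065)) (.node (.leaf 826) (.leaf 721))))))))))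

/-- A table. -/
noncomputable def lineOrbNext0 : BTree := .node lineOrbNext0L lineOrbNext0R

/-- Part of a table. -/
noncomputable def lineOrbNext1L : BTree := (.node (.node (.node (.node (.node (.node (.node (.node (.node (.node (.leaf 2) (.leaf 722)) (.leaf 827)) (.node (.node (.leaf 130) (.leaf 1194)) (.leaf 1071))) (.node (.node (.node (.leaf 244) (.leaf 1034)) (.leaf 369)) (.node (.leaf 461) (.leaf 1023)))) (.node (.node (.node (.node (.leaf 140) (.leaf 792)) (.leaf 322)) (.node (.node (.leaf 527) (.leaf 1344)) (.leaf 1107))) (.node (.node (.node (.leaf 363) (.leaf 1061)) (.leaf 910)) (.node (.leaf 499) (.leaf 842))))) (.node (.node (.node (.node (.node (.leaf 79) (.leaf 1210)) (.leaf 450)) (.node (.node (.leaf 167) (.leaf 1312)) (.leaf 925))) (.node (.node (.node (.leaf 308) (.leaf 1121)) (.leaf 914)) (.node (.leaf 697) (.leaf 657)))) (.node (.node (.node (.node (.leaf 185) (.leaf 871)) (.leaf 348)) (.node (.leaf 181) (.leaf 826))) (.node (.node (.node (.leaf 421) (.leaf 1268)) (.leaf 1040)) (.node (.leaf 283) (.leaf 1142)))))) (.node (.node (.node (.node (.node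 (.node (.leaf 47) (.leaf 736)) (.leaf 427)) (.node (.node (.leaf 503) (.leaf 1217)) (.leaf 880))) (.node (.node (.node (.leaf 281) (.leaf 975)) (.leaf 851)) (.node (.leaf 681) (.leaf 597)))) (.node (.node (.node (.node (.leaf 168) (.leaf 845)) (.leaf 392)) (.node (.node (.leaf 174) (.leaf 1360)) (.leaf 820))) (.node (.node (.node (.leaf 395) (.leaf 1078)) (.leaf 1021)) (.node (.leaf 248) (.leaf 1141))))) (.node (.node (.node (.node (.node (.leaf 17) (.leaf 769)) (.leaf 846)) (.node (.node (.leaf 554) (.leaf 1328)) (.leaf 723))) (.node (.node (.node (.leaf 341) (.leaf 1257)) (.leaf 819)) (.node (.leaf 228) (.leaf 634)))) (.node (.node (.node (.node (.leaf 227) (.leaf 900)) (.leaf 431)) (.node (.leaf 191) (.leaf 784))) (.node (.node (.node (.leaf 451) (.leaf 1169)) (.leaf 452)) (.node (.leaf 811) (.leaf 1089))))))) (.node (.node (.node (.node (.node (.node (.node (.leaf 22) (.leaf 1150)) (.leaf 838)) (.node (.node (.leaf 198) (.leaf 1300)) (.leaf 664))) (.node (.node (.node (.leaf 268) (.leaf 968)) (.leaf 454)) (.node (.leaf 592) (.leaf 582)))) (.node (.node (.node (.node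 (.leaf 152) (.leaf 798)) (.leaf 326)) (.node (.node (.leaf 492) (.leaf 1337)) (.leaf 524))) (.node (.node (.node (.leaf 98) (.leaf 1302)) (.leaf 790)) (.node (.leaf 334) (.leaf 1160))))) (.node (.node (.node (.node (.node (.leaf 13) (.leaf 1148)) (.leaf 877)) (.node (.node (.leaf 410) (.leaf 1334)) (.leaf 1100))) (.node (.node (.node (.leaf 80) (.leaf 1029)) (.leaf 399)) (.node (.leaf 223) (.leaf 630)))) (.node (.node (.node (.node (.leaf 44) (.leaf 878)) (.leaf 924)) (.node (.leaf 626) (.leaf 547))) (.node (.node (.node (.leaf 117) (.leaf 1319)) (.leaf 813)) (.node (.leaf 263) (.leaf 981)))))) (.node (.node (.node (.node (.node (.node (.leaf 7) (.leaf 988)) (.leaf 787)) (.node (.node (.leaf 514) (.leaf 1304)) (.leaf 1088))) (.node (.node (.node (.leaf 72) (.leaf 1271)) (.leaf 776)) (.node (.leaf 612) (.leaf 991)))) (.node (.node (.node (.node (.leaf 36) (.leaf 843)) (.leaf 339)) (.node (.leaf 313) (.leaf 532))) (.node (.node (.node (.leaf 106) (.leaf 1172)) (.leaf 938)) (.node (.leaf 778) (.leaf 987))))) (.node (.node (.node (.node (.node (.leaf 124) (.leaf 970)) (.leaf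 573)) (.node (.node (.leaf 163) (.leaf 1331)) (.leaf 507))) (.node (.node (.node (.leaf 356) (.leaf 1161)) (.leaf 994)) (.node (.leaf 258) (.leaf 651)))) (.node (.node (.node (.node (.leaf 53) (.leaf 1094)) (.leaf 943)) (.node (.leaf 197) (.leaf 570))) (.node (.node (.node (.leaf 464) (.leaf 1177)) (.leaf 873)) (.node (.leaf 652) (.leaf 1186)))))))) (.node (.node (.node (.node (.node (.node (.node (.node (.leaf 12) (.leaf 725)) (.leaf 543)) (.node (.node (.leaf 483) (.leaf 1318)) (.leaf 1069))) (.node (.node (.node (.leaf 74) (.leaf 1242)) (.leaf 954)) (.node (.leaf 663) (.leaf 1136)))) (.node (.node (.node (.node (.leaf 138) (.leaf 1238)) (.leaf 325)) (.node (.node (.leaf 169) (.leaf 1358)) (.leaf 518))) (.node (.node (.node (.leaf 95) (.leaf 1066)) (.leaf 418)) (.node (.leaf 752) (.leaf 1130))))) (.node (.node (.node (.node (.node (.leaf 88) (.leaf 1212)) (.leaf 301)) (.node (.node (.leaf 151) (.leaf 1316)) (.leaf 1025))) (.node (.node (.node (.leaf 315) (.leaf 1123)) (.leaf 980)) (.node (.leaf 711) (.leaf 1102)))) (.node (.node (.node (.node (.leaf 206) (.leaf 1245))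 (.leaf 408)) (.node (.leaf 184) (.leaf 1043))) (.node (.node (.node (.leaf 432) (.leaf 1218)) (.leaf 673)) (.node (.leaf 591) (.leaf 699)))))) (.node (.node (.node (.node (.node (.node (.leaf 5) (.leaf 850)) (.leaf 856)) (.node (.node (.leaf 142) (.leaf 1288)) (.leaf 477))) (.node (.node (.node (.leaf 69) (.leaf 1240)) (.leaf 967)) (.node (.leaf 683) (.leaf 598)))) (.node (.node (.node (.node (.leaf 177) (.leaf 961)) (.leaf 393)) (.node (.node (.leaf 601) (.leaf 1363)) (.leaf 529))) (.node (.node (.node (.leaf 403) (.leaf 1091)) (.leaf 690)) (.node (.leaf 549) (.leaf 676))))) (.node (.node (.node (.node (.node (.leaf 19) (.leaf 771)) (.leaf 606)) (.node (.node (.leaf 160) (.leaf 1310)) (.leaf 848))) (.node (.node (.node (.leaf 346) (.leaf 1052)) (.leaf 685)) (.node (.leaf 731) (.leaf 638)))) (.node (.node (.node (.node (.leaf 231) (.leaf 906)) (.leaf 583)) (.node (.leaf 643) (.leaf 623))) (.node (.node (.node (.leaf 128) (.leaf 1248)) (.leaf 457)) (.node (.leaf 814) (.leaf 1087))))))) (.node (.node (.node (.node (.node (.node (.node (.leaf 4) (.leaf 730)) (.leaf 840))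 (.node (.node (.leaf 136) (.leaf 1214)) (.leaf 739))) (.node (.node (.node (.leaf 64) (.leaf 971)) (.leaf 504)) (.node (.leaf 677) (.leaf 670)))) (.node (.node (.node (.node (.leaf 30) (.leaf 808)) (.leaf 649)) (.node (.node (.leaf 234) (.leaf 1356)) (.leaf 619))) (.node (.node (.node (.leaf 391) (.leaf 1073)) (.leaf 834)) (.node (.leaf 761) (.leaf 666))))) (.node (.node (.node (.node (.node (.leaf 104) (.leaf 1225)) (.leaf 881)) (.node (.node (.leaf 245) (.leaf 1324)) (.leaf 542))) (.node (.node (.node (.leaf 330) (.leaf 1283)) (.leaf 682)) (.node (.leaf 721) (.leaf 903)))) (.node (.node (.node (.node (.leaf 222) (.leaf 1114)) (.leaf 929)) (.node (.leaf 189) (.leaf 1126))) (.node (.node (.node (.leaf 443) (.leaf 1287)) (.leaf 449)) (.node (.leaf 328) (.leaf 854)))))) (.node (.node (.node (.node (.node (.node (.leaf 71) (.leaf 1204)) (.leaf 865)) (.node (.node (.leaf 146) (.leaf 1234)) (.leaf 485))) (.node (.node (.node (.leaf 299) (.leaf 1171)) (.leaf 389)) (.node (.leaf 471) (.leaf 616)))) (.node (.node (.node (.node (.leaf 194) (.leaf 947)) (.leaf 342)) (.node (.leaf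 608) (.leaf 563))) (.node (.node (.node (.leaf 419) (.leaf 1277)) (.leaf 558)) (.node (.leaf 255) (.leaf 1048))))) (.node (.node (.node (.node (.node (.leaf 31) (.leaf 1039)) (.leaf 382)) (.node (.node (.leaf 567) (.leaf 1354)) (.leaf 889))) (.node (.node (.node (.leaf 91) (.leaf 1060)) (.leaf 998)) (.node (.leaf 261) (.leaf 1159)))) (.node (.node (.node (.node (.leaf 56) (.leaf 1064)) (.leaf 365)) (.node (.leaf 589) (.leaf 887))) (.node (.node (.node (.leaf 470) (.leaf 1183)) (.leaf 1063)) (.node (.leaf 278) (.leaf 737))))))))) (.node (.node (.node (.node (.node (.node (.node (.node (.node (.leaf 0) (.leaf 735)) (.leaf 280)) (.node (.node (.leaf 440) (.leaf 1299)) (.leaf 1067))) (.node (.node (.node (.leaf 256) (.leaf 939)) (.leaf 951)) (.node (.leaf 202) (.leaf 1138)))) (.node (.node (.node (.node (.leaf 137) (.leaf 791)) (.leaf 902)) (.node (.node (.leaf 576) (.leaf 1357)) (.leaf 716))) (.node (.node (.node (.leaf 92) (.leaf 1252)) (.leaf 1002)) (.node (.leaf 544) (.leaf 655))))) (.node (.node (.node (.node (.node (.leaf 11) (.leaf 762)) (.leaf 695)) (.node (.node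 (.leaf 531) (.leaf 1255)) (.leaf 714))) (.node (.node (.node (.leaf 77) (.leaf 1016)) (.leaf 398)) (.node (.leaf 708) (.leaf 1129)))) (.node (.node (.node (.node (.leaf 200) (.leaf 875)) (.leaf 347)) (.node (.leaf 618) (.leaf 815))) (.node (.node (.node (.leaf 429) (.leaf 1151)) (.leaf 439)) (.node (.leaf 277) (.leaf 696)))))) (.node (.node (.node (.node (.node (.node (.leaf 38) (.leaf 923)) (.leaf 653)) (.node (.node (.leaf 378) (.leaf 1221)) (.leaf 885))) (.node (.node (.node (.leaf 284) (.leaf 978)) (.leaf 381)) (.node (.leaf 210) (.leaf 672)))) (.node (.node (.node (.node (.leaf 171) (.leaf 1105)) (.leaf 337)) (.node (.node (.leaf 595) (.leaf 1353)) (.leaf 1044))) (.node (.node (.node (.leaf 402) (.leaf 1308)) (.leaf 1024)) (.node (.leaf 767) (.leaf 1170))))) (.node (.node (.node (.node (.node (.leaf 114) (.leaf 1223)) (.leaf 311)) (.node (.node (.leaf 491) (.leaf 1273)) (.leaf 1085))) (.node (.node (.node (.leaf 85) (.leaf 1182)) (.leaf 724)) (.node (.leaf 323) (.leaf 639)))) (.node (.node (.node (.node (.leaf 50) (.leaf 898)) (.leaf 360)) (.node (.leaf 641) (.leaf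 893))) (.node (.node (.node (.leaf 121) (.leaf 1325)) (.leaf 1049)) (.node (.leaf 269) (.leaf 1083))))))) (.node (.node (.node (.node (.node (.node (.node (.leaf 33) (.leaf 1152)) (.leaf 285)) (.node (.node (.leaf 135) (.leaf 1275)) (.leaf 472))) (.node (.node (.node (.leaf 68) (.leaf 1259)) (.leaf 831)) (.node (.leaf 207) (.leaf 1140)))) (.node (.node (.node (.node (.leaf 132) (.leaf 977)) (.leaf 366)) (.node (.node (.leaf 172) (.leaf 1340)) (.leaf 960))) (.node (.node (.node (.leaf 386) (.leaf 1303)) (.leaf 802)) (.node (.leaf 253) (.leaf 1080))))) (.node (.node (.node (.node (.node (.leaf 15) (.leaf 1220)) (.leaf 304)) (.node (.node (.leaf 250) (.leaf 1263)) (.leaf 1101))) (.node (.node (.node (.leaf 291) (.leaf 1280)) (.leaf 684)) (.node (.leaf 713) (.leaf 728)))) (.node (.node (.node (.node (.leaf 216) (.leaf 964)) (.leaf 354)) (.node (.leaf 190) (.leaf 550))) (.node (.node (.node (.leaf 332) (.leaf 1286)) (.leaf 493)) (.node (.leaf 607) (.leaf 706)))))) (.node (.node (.node (.node (.node (.node (.leaf 63) (.leaf 755)) (.leaf 294)) (.node (.node (.leaf 517) (.leaf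 1230)) (.leaf 479))) (.node (.node (.node (.leaf 125) (.leaf 1174)) (.leaf 972)) (.node (.leaf 296) (.leaf 617)))) (.node (.node (.node (.node (.leaf 187) (.leaf 1132)) (.leaf 918)) (.node (.leaf 180) (.leaf 635))) (.node (.node (.node (.leaf 411) (.leaf 1156)) (.leaf 1036)) (.node (.leaf 254) (.leaf 686))))) (.node (.node (.node (.node (.node (.leaf 129) (.leaf 1131)) (.leaf 888)) (.node (.node (.leaf 565) (.leaf 1293)) (.leaf 864))) (.node (.node (.node (.leaf 358) (.leaf 1056)) (.leaf 779)) (.node (.leaf 741) (.leaf 644)))) (.node (.node (.node (.node (.leaf 57) (.leaf 963)) (.leaf 944)) (.node (.leaf 274) (.leaf 941))) (.node (.node (.node (.leaf 298) (.leaf 1267)) (.leaf 1058)) (.node (.leaf 821) (.leaf 717)))))))) (.node (.node (.node (.node (.node (.node (.node (.node (.leaf 1) (.leaf 837)) (.leaf 836)) (.node (.node (.leaf 133) (.leaf 1258)) (.leaf 467))) (.node (.node (.node (.leaf 61) (.leaf 1134)) (.leaf 957)) (.node (.leaf 462) (.leaf 578)))) (.node (.node (.node (.node (.leaf 27) (.leaf 1144)) (.leaf 904)) (.node (.node (.leaf 584) (.leaf 1361)) (.leaf 520)))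 (.node (.node (.node (.leaf 264) (.leaf 1209)) (.leaf 423)) (.node (.leaf 648) (.leaf 661))))) (.node (.node (.node (.node (.node (.leaf 18) (.leaf 1213)) (.leaf 874)) (.node (.node (.leaf 538) (.leaf 1284)) (.leaf 555))) (.node (.node (.node (.leaf 318) (.leaf 1143)) (.leaf 799)) (.node (.leaf 621) (.leaf 765)))) (.node (.node (.node (.node (.leaf 211) (.leaf 876)) (.leaf 585)) (.node (.leaf 186) (.leaf 702))) (.node (.node (.node (.leaf 333) (.leaf 1197)) (.leaf 489)) (.node (.leaf 801) (.leaf 700)))))) (.node (.node (.node (.node (.node (.node (.leaf 8) (.leaf 823)) (.leaf 327)) (.node (.node (.leaf 508) (.leaf 1224)) (.leaf 712))) (.node (.node (.node (.leaf 81) (.leaf 1178)) (.leaf 387)) (.node (.leaf 214) (.leaf 602)))) (.node (.node (.node (.node (.leaf 175) (.leaf 1038)) (.leaf 916)) (.node (.leaf 604) (.leaf 1004))) (.node (.node (.node (.leaf 406) (.leaf 1092)) (.leaf 862)) (.node (.leaf 252) (.leaf 703))))) (.node (.node (.node (.node (.node (.leaf 111) (.leaf 1232)) (.leaf 317)) (.node (.node (.leaf 246) (.leaf 1320)) (.leaf 955))) (.node (.node (.node (.leaf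 353) (.leaf 1289)) (.leaf 919)) (.node (.leaf 235) (.leaf 1027)))) (.node (.node (.node (.node (.leaf 51) (.leaf 992)) (.leaf 936)) (.node (.leaf 645) (.leaf 569))) (.node (.node (.node (.leaf 310) (.leaf 1329)) (.leaf 1051)) (.node (.leaf 817) (.leaf 719))))))) (.node (.node (.node (.node (.node (.node (.node (.leaf 3) (.leaf 1110)) (.leaf 847)) (.node (.node (.leaf 143) (.leaf 1339)) (.leaf 861))) (.node (.node (.node (.leaf 276) (.leaf 1166)) (.leaf 379)) (.node (.leaf 674) (.leaf 704)))) (.node (.node (.node (.node (.leaf 165) (.leaf 932)) (.leaf 907)) (.node (.node (.leaf 456) (.leaf 1348)) (.leaf 560))) (.node (.node (.node (.leaf 100) (.leaf 1306)) (.leaf 425)) (.node (.leaf 390) (.leaf 1165))))) (.node (.node (.node (.node (.node (.leaf 109) (.leaf 1227)) (.leaf 732)) (.node (.node (.leaf 553) (.leaf 1335)) (.leaf 500))) (.node (.node (.node (.leaf 336) (.leaf 1285)) (.leaf 986)) (.node (.leaf 535) (.leaf 1117)))) (.node (.node (.node (.node (.leaf 225) (.leaf 1158)) (.leaf 357)) (.node (.leaf 586) (.leaf 1128))) (.node (.node (.node (.leaf 119) (.leaf 1262))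 (.leaf 1045)) (.node (.leaf 446) (.leaf 1163)))))) (.node (.node (.node (.node (.node (.node (.leaf 76) (.leaf 1207)) (.leaf 812)) (.node (.node (.leaf 147) (.leaf 1332)) (.leaf 1096))) (.node (.node (.node (.leaf 305) (.leaf 1202)) (.leaf 908)) (.node (.leaf 701) (.leaf 1013)))) (.node (.node (.node (.node (.leaf 39) (.leaf 859)) (.leaf 564)) (.node (.leaf 609) (.leaf 726))) (.node (.node (.node (.leaf 108) (.leaf 1246)) (.leaf 435)) (.node (.leaf 789) (.leaf 933))))) (.node (.node (.node (.node (.node (.leaf 25) (.leaf 1011)) (.leaf 849)) (.node (.node (.leaf 166) (.leaf 1355)) (.leaf 513))) (.node (.node (.node (.leaf 362) (.leaf 1292)) (.leaf 870)) (.node (.leaf 494) (.leaf 647)))) (.node (.node (.node (.node (.leaf 251) (.leaf 1032)) (.leaf 948)) (.node (.leaf 572) (.leaf 575))) (.node (.node (.node (.leaf 474) (.leaf 1251)) (.leaf 465)) (.node (.leaf 693) (.leaf 835))))))))))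

/-- Part of a table. -/
noncomputable def lineOrbNext1R : BTree := (.node (.node (.node (.node (.node (.node (.node (.node (.node (.node (.leaf 6) (.leaf 804)) (.leaf 830)) (.node (.node (.leaf 131) (.leaf 1205)) (.leaf 1072))) (.node (.node (.node (.leaf 58) (.leaf 1193)) (.leaf 370)) (.node (.leaf 201) (.leaf 577)))) (.node (.node (.node (.node (.leaf 141) (.leaf 1008)) (.leaf 897)) (.node (.node (.leaf 239) (.leaf 1317)) (.leaf 515))) (.node (.node (.node (.leaf 371) (.leaf 1296)) (.leaf 417)) (.node (.leaf 748) (.leaf 1108))))) (.node (.node (.node (.node (.node (.leaf 10) (.leaf 759)) (.leaf 295)) (.node (.node (.leaf 149) (.leaf 1333)) (.leaf 486))) (.node (.node (.node (.leaf 123) (.leaf 1235)) (.leaf 740)) (.node (.leaf 705) (.leaf 620)))) (.node (.node (.node (.node (.leaf 41) (.leaf 1184)) (.leaf 350)) (.node (.leaf 182) (.leaf 540))) (.node (.node (.node (.leaf 110) (.leaf 1279)) (.leaf 1020)) (.node (.leaf 259) (.leaf 1179)))))) (.node (.node (.node (.node (.node (.node (.leaf 48) (.leaf 1201)) (.leaf 852)) (.node (.node (.leaf 139) (.leaf 1315)) (.leaf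 1019))) (.node (.node (.node (.leaf 67) (.leaf 1264)) (.leaf 928)) (.node (.leaf 209) (.leaf 671)))) (.node (.node (.node (.node (.leaf 150) (.leaf 1106)) (.leaf 909)) (.node (.node (.leaf 594) (.leaf 1350)) (.leaf 574))) (.node (.node (.node (.leaf 401) (.leaf 1307)) (.leaf 428)) (.node (.leaf 766) (.leaf 1098))))) (.node (.node (.node (.node (.node (.leaf 113) (.leaf 1228)) (.leaf 883)) (.node (.node (.leaf 158) (.leaf 1270)) (.leaf 502))) (.node (.node (.node (.leaf 84) (.leaf 1041)) (.leaf 407)) (.node (.leaf 229) (.leaf 1155)))) (.node (.node (.node (.node (.leaf 49) (.leaf 927)) (.leaf 359)) (.node (.leaf 640) (.leaf 556))) (.node (.node (.node (.leaf 375) (.leaf 1291)) (.leaf 453)) (.node (.leaf 809) (.leaf 715))))))) (.node (.node (.node (.node (.node (.node (.node (.leaf 23) (.leaf 1199)) (.leaf 579)) (.node (.node (.leaf 447) (.leaf 1206)) (.leaf 667))) (.node (.node (.node (.leaf 66) (.leaf 1208)) (.leaf 588)) (.node (.leaf 596) (.leaf 829)))) (.node (.node (.node (.node (.leaf 153) (.leaf 985)) (.leaf 614)) (.node (.node (.leaf 199) (.leaf 1362)) (.leaf 523)))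 (.node (.node (.node (.leaf 385) (.leaf 1068)) (.leaf 426)) (.node (.leaf 756) (.leaf 665))))) (.node (.node (.node (.node (.node (.leaf 97) (.leaf 1149)) (.leaf 302)) (.node (.node (.leaf 155) (.leaf 1321)) (.leaf 497))) (.node (.node (.node (.leaf 324) (.leaf 1153)) (.leaf 400)) (.node (.leaf 718) (.leaf 727)))) (.node (.node (.node (.node (.leaf 215) (.leaf 930)) (.leaf 922)) (.node (.leaf 631) (.leaf 760))) (.node (.node (.node (.leaf 115) (.leaf 1200)) (.leaf 869)) (.node (.leaf 742) (.leaf 1173)))))) (.node (.node (.node (.node (.node (.node (.leaf 62) (.leaf 754)) (.leaf 293)) (.node (.node (.leaf 144) (.leaf 1343)) (.leaf 1093))) (.node (.node (.node (.leaf 73) (.leaf 1272)) (.leaf 969)) (.node (.leaf 603) (.leaf 605)))) (.node (.node (.node (.node (.leaf 37) (.leaf 1133)) (.leaf 340)) (.node (.leaf 179) (.leaf 953))) (.node (.node (.node (.leaf 415) (.leaf 1115)) (.leaf 1035)) (.node (.leaf 781) (.leaf 1097))))) (.node (.node (.node (.node (.node (.leaf 122) (.leaf 995)) (.leaf 886)) (.node (.node (.leaf 344) (.leaf 1352)) (.leaf 1095))) (.node (.node (.node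 (.leaf 96) (.leaf 1222)) (.leaf 416)) (.node (.leaf 397) (.leaf 857)))) (.node (.node (.node (.node (.leaf 242) (.leaf 1189)) (.leaf 637)) (.node (.leaf 557) (.leaf 828))) (.node (.node (.node (.leaf 127) (.leaf 1330)) (.leaf 460)) (.node (.leaf 275) (.leaf 1135)))))))) (.node (.node (.node (.node (.node (.node (.node (.node (.leaf 20) (.leaf 1192)) (.leaf 282)) (.node (.node (.leaf 444) (.leaf 1198)) (.leaf 1079))) (.node (.node (.node (.leaf 262) (.leaf 1103)) (.leaf 374)) (.node (.leaf 668) (.leaf 1139)))) (.node (.node (.node (.node (.leaf 148) (.leaf 793)) (.leaf 627)) (.node (.node (.leaf 580) (.leaf 1349)) (.leaf 1030))) (.node (.node (.node (.leaf 376) (.leaf 1298)) (.leaf 1007)) (.node (.leaf 753) (.leaf 1109))))) (.node (.node (.node (.node (.node (.leaf 89) (.leaf 1216)) (.leaf 468)) (.node (.node (.leaf 537) (.leaf 1345)) (.leaf 911))) (.node (.node (.node (.leaf 78) (.leaf 1145)) (.leaf 396)) (.node (.leaf 224) (.leaf 990)))) (.node (.node (.node (.node (.leaf 45) (.leaf 1247)) (.leaf 351)) (.node (.leaf 622) (.leaf 745))) (.node (.node (.node (.leaf 433)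 (.leaf 1219)) (.leaf 442)) (.node (.leaf 796) (.leaf 915)))))) (.node (.node (.node (.node (.node (.node (.leaf 55) (.leaf 750)) (.leaf 367)) (.node (.node (.leaf 482) (.leaf 1341)) (.leaf 478))) (.node (.node (.node (.leaf 289) (.leaf 1001)) (.leaf 966)) (.node (.leaf 687) (.leaf 599)))) (.node (.node (.node (.node (.leaf 178) (.leaf 965)) (.leaf 912)) (.node (.leaf 176) (.leaf 1003))) (.node (.node (.node (.leaf 343) (.leaf 1237)) (.leaf 1028)) (.node (.leaf 775) (.leaf 1000))))) (.node (.node (.node (.node (.node (.leaf 120) (.leaf 1077)) (.leaf 314)) (.node (.node (.leaf 559) (.leaf 1313)) (.leaf 506))) (.node (.node (.node (.leaf 352) (.leaf 1281)) (.leaf 510)) (.node (.leaf 733) (.leaf 863)))) (.node (.node (.node (.node (.leaf 232) (.leaf 976)) (.leaf 935)) (.node (.leaf 539) (.leaf 786))) (.node (.node (.node (.leaf 300) (.leaf 1269)) (.leaf 1031)) (.node (.leaf 271) (.leaf 926))))))) (.node (.node (.node (.node (.node (.node (.node (.leaf 40) (.leaf 1099)) (.leaf 287)) (.node (.node (.leaf 498) (.leaf 1338)) (.leaf 473))) (.node (.node (.node (.leaf 65) (.leaf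 974)) (.leaf 530)) (.node (.leaf 441) (.leaf 593)))) (.node (.node (.node (.node (.leaf 162) (.leaf 810)) (.leaf 380)) (.node (.node (.leaf 230) (.leaf 1346)) (.leaf 1104))) (.node (.node (.node (.leaf 99) (.leaf 1229)) (.leaf 1018)) (.node (.leaf 384) (.leaf 669))))) (.node (.node (.node (.node (.node (.leaf 101) (.leaf 772)) (.leaf 377)) (.node (.node (.leaf 548) (.leaf 1266)) (.leaf 744))) (.node (.node (.node (.leaf 335) (.leaf 1254)) (.leaf 692)) (.node (.leaf 226) (.leaf 890)))) (.node (.node (.node (.node (.leaf 46) (.leaf 1113)) (.leaf 422)) (.node (.leaf 636) (.leaf 552))) (.node (.node (.node (.leaf 445) (.leaf 1167)) (.leaf 999)) (.node (.leaf 746) (.leaf 707)))))) (.node (.node (.node (.node (.node (.node (.leaf 59) (.leaf 1195)) (.leaf 519)) (.node (.node (.leaf 522) (.leaf 1309)) (.leaf 509))) (.node (.node (.node (.leaf 303) (.leaf 1211)) (.leaf 973)) (.node (.leaf 219) (.leaf 800)))) (.node (.node (.node (.node (.leaf 195) (.leaf 942)) (.leaf 921)) (.node (.leaf 611) (.leaf 782))) (.node (.node (.node (.leaf 107) (.leaf 1124)) (.leaf 437)) (.node (.leaf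 788) (.leaf 691))))) (.node (.node (.node (.node (.node (.leaf 134) (.leaf 818)) (.leaf 568)) (.node (.node (.leaf 566) (.leaf 1301)) (.leaf 905))) (.node (.node (.node (.leaf 364) (.leaf 1062)) (.leaf 414)) (.node (.leaf 237) (.leaf 646)))) (.node (.node (.node (.node (.leaf 154) (.leaf 1065)) (.leaf 633)) (.node (.leaf 658) (.leaf 882))) (.node (.node (.node (.leaf 458) (.leaf 1244)) (.leaf 934)) (.node (.leaf 797) (.leaf 720))))))))) (.node (.node (.node (.node (.node (.node (.node (.node (.node (.leaf 14) (.leaf 950)) (.leaf 833)) (.node (.node (.leaf 481) (.leaf 1196)) (.leaf 1076))) (.node (.node (.node (.leaf 257) (.leaf 945)) (.leaf 372)) (.node (.leaf 662) (.leaf 1127)))) (.node (.node (.node (.node (.leaf 145) (.leaf 1236)) (.leaf 521)) (.node (.node (.leaf 434) (.leaf 1323)) (.leaf 1022))) (.node (.node (.node (.leaf 93) (.leaf 1253)) (.leaf 1005)) (.node (.leaf 240) (.leaf 1146))))) (.node (.node (.node (.node (.node (.leaf 83) (.leaf 763)) (.leaf 872)) (.node (.node (.leaf 170) (.leaf 1297)) (.leaf 487))) (.node (.node (.node (.leaf 312) (.leaf 1147)) (.leaf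 979)) (.node (.leaf 220) (.leaf 743)))) (.node (.node (.node (.node (.leaf 205) (.leaf 1188)) (.leaf 349)) (.node (.leaf 615) (.leaf 959))) (.node (.node (.node (.leaf 112) (.leaf 1278)) (.leaf 780)) (.node (.leaf 260) (.leaf 1081)))))) (.node (.node (.node (.node (.node (.node (.leaf 52) (.leaf 868)) (.leaf 290)) (.node (.node (.leaf 505) (.leaf 1282)) (.leaf 536))) (.node (.node (.node (.leaf 286) (.leaf 1180)) (.leaf 891)) (.node (.leaf 212) (.leaf 997)))) (.node (.node (.node (.node (.leaf 35) (.leaf 832)) (.leaf 338)) (.node (.node (.leaf 600) (.leaf 1364)) (.leaf 656))) (.node (.node (.node (.leaf 102) (.leaf 1185)) (.leaf 816)) (.node (.leaf 774) (.leaf 675))))) (.node (.node (.node (.node (.node (.leaf 118) (.leaf 1231)) (.leaf 860)) (.node (.node (.leaf 243) (.leaf 1336)) (.leaf 688))) (.node (.node (.node (.leaf 345) (.leaf 1055)) (.leaf 989)) (.node (.leaf 734) (.leaf 1116)))) (.node (.node (.node (.node (.leaf 233) (.leaf 901)) (.leaf 581)) (.node (.leaf 193) (.leaf 561))) (.node (.node (.node (.leaf 307) (.leaf 1274)) (.leaf 1050)) (.node (.leaf 448) (.leaf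 1086))))))) (.node (.node (.node (.node (.node (.node (.node (.leaf 34) (.leaf 729)) (.leaf 841)) (.node (.node (.leaf 495) (.leaf 1265)) (.leaf 698))) (.node (.node (.node (.leaf 273) (.leaf 1006)) (.leaf 952)) (.node (.leaf 208) (.leaf 590)))) (.node (.node (.node (.node (.leaf 159) (.leaf 1037)) (.leaf 807)) (.node (.node (.leaf 455) (.leaf 1342)) (.leaf 1112))) (.node (.node (.node (.leaf 383) (.leaf 1070)) (.leaf 1009)) (.node (.leaf 551) (.leaf 1164))))) (.node (.node (.node (.node (.node (.leaf 103) (.leaf 770)) (.leaf 806)) (.node (.node (.leaf 156) (.leaf 1347)) (.leaf 496))) (.node (.node (.node (.leaf 82) (.leaf 1053)) (.leaf 404)) (.node (.leaf 528) (.leaf 1154)))) (.node (.node (.node (.node (.leaf 221) (.leaf 1082)) (.leaf 844)) (.node (.leaf 192) (.leaf 1122))) (.node (.node (.node (.leaf 438) (.leaf 1162)) (.leaf 795)) (.node (.leaf 306) (.leaf 853)))))) (.node (.node (.node (.node (.node (.node (.leaf 70) (.leaf 758)) (.leaf 373)) (.node (.node (.leaf 480) (.leaf 1233)) (.leaf 747))) (.node (.node (.node (.leaf 297) (.leaf 993)) (.leaf 777)) (.node (.leaf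 218) (.leaf 1042)))) (.node (.node (.node (.node (.leaf 188) (.leaf 1241)) (.leaf 409)) (.node (.leaf 610) (.leaf 1118))) (.node (.node (.node (.leaf 413) (.leaf 1311)) (.leaf 436)) (.node (.leaf 783) (.leaf 984))))) (.node (.node (.node (.node (.node (.leaf 29) (.leaf 1010)) (.leaf 319)) (.node (.node (.leaf 164) (.leaf 1294)) (.leaf 512))) (.node (.node (.node (.leaf 90) (.leaf 1181)) (.leaf 996)) (.node (.leaf 236) (.leaf 822)))) (.node (.node (.node (.node (.leaf 161) (.leaf 1187)) (.leaf 858)) (.node (.leaf 654) (.leaf 659))) (.node (.node (.node (.leaf 126) (.leaf 1290)) (.leaf 1059)) (.node (.leaf 824) (.leaf 785)))))))) (.node (.node (.node (.node (.node (.node (.node (.node (.leaf 24) (.leaf 757)) (.leaf 541)) (.node (.node (.leaf 488) (.leaf 1260)) (.leaf 469))) (.node (.node (.node (.leaf 266) (.leaf 956)) (.leaf 958)) (.node (.leaf 204) (.leaf 940)))) (.node (.node (.node (.node (.leaf 28) (.leaf 825)) (.leaf 628)) (.node (.node (.leaf 534) (.leaf 1327)) (.leaf 855))) (.node (.node (.node (.leaf 329) (.leaf 1074)) (.leaf 420)) (.node (.leaf 331) (.leaf 660)))))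 (.node (.node (.node (.node (.node (.leaf 94) (.leaf 764)) (.leaf 459)) (.node (.node (.leaf 545) (.leaf 1256)) (.leaf 587))) (.node (.node (.node (.leaf 288) (.leaf 1191)) (.leaf 983)) (.node (.leaf 710) (.leaf 629)))) (.node (.node (.node (.node (.leaf 43) (.leaf 899)) (.leaf 355)) (.node (.leaf 625) (.leaf 1120))) (.node (.node (.node (.leaf 116) (.leaf 1314)) (.leaf 931)) (.node (.leaf 803) (.leaf 749)))))) (.node (.node (.node (.node (.node (.node (.leaf 9) (.leaf 751)) (.leaf 430)) (.node (.node (.leaf 511) (.leaf 1226)) (.leaf 1090))) (.node (.node (.node (.leaf 292) (.leaf 1239)) (.leaf 388)) (.node (.leaf 689) (.leaf 694)))) (.node (.node (.node (.node (.leaf 183) (.leaf 895)) (.leaf 917)) (.node (.leaf 213) (.leaf 839))) (.node (.node (.node (.leaf 105) (.leaf 1175)) (.leaf 937)) (.node (.leaf 412) (.leaf 679))))) (.node (.node (.node (.node (.node (.leaf 21) (.leaf 773)) (.leaf 316)) (.node (.node (.leaf 562) (.leaf 1326)) (.leaf 1046))) (.node (.node (.node (.leaf 87) (.leaf 1054)) (.leaf 546)) (.node (.leaf 738) (.leaf 642)))) (.node (.node (.node (.node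 (.leaf 238) (.leaf 1190)) (.leaf 361)) (.node (.leaf 241) (.leaf 892))) (.node (.node (.node (.leaf 463) (.leaf 1176)) (.leaf 1057)) (.node (.leaf 272) (.leaf 1015))))))) (.node (.node (.node (.node (.node (.node (.node (.leaf 42) (.leaf 1084)) (.leaf 320)) (.node (.node (.leaf 501) (.leaf 1215)) (.leaf 475))) (.node (.node (.node (.leaf 270) (.leaf 1261)) (.leaf 962)) (.node (.leaf 680) (.leaf 805)))) (.node (.node (.node (.node (.leaf 32) (.leaf 1157)) (.leaf 484)) (.node (.node (.leaf 173) (.leaf 1359)) (.leaf 526))) (.node (.node (.node (.leaf 394) (.leaf 1075)) (.leaf 1014)) (.node (.leaf 247) (.leaf 1168))))) (.node (.node (.node (.node (.node (.leaf 16) (.leaf 768)) (.leaf 309)) (.node (.node (.leaf 157) (.leaf 1351)) (.leaf 866))) (.node (.node (.node (.leaf 86) (.leaf 1033)) (.leaf 405)) (.node (.leaf 624) (.leaf 632)))) (.node (.node (.node (.node (.leaf 54) (.leaf 1017)) (.leaf 884)) (.node (.leaf 533) (.leaf 1119))) (.node (.node (.node (.leaf 321) (.leaf 1322)) (.leaf 1047)) (.node (.leaf 267) (.leaf 709)))))) (.node (.node (.node (.node (.node (.node (.leaf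 60) (.leaf 1203)) (.leaf 516)) (.node (.node (.leaf 525) (.leaf 1243)) (.leaf 678))) (.node (.node (.node (.leaf 75) (.leaf 1276)) (.leaf 913)) (.node (.leaf 217) (.leaf 1137)))) (.node (.node (.node (.node (.leaf 196) (.leaf 879)) (.leaf 490)) (.node (.leaf 613) (.leaf 949))) (.node (.node (.node (.leaf 424) (.leaf 1125)) (.leaf 1026)) (.node (.leaf 794) (.leaf 920))))) (.node (.node (.node (.node (.node (.leaf 26) (.leaf 1012)) (.leaf 894)) (.node (.node (.leaf 571) (.leaf 1305)) (.leaf 650))) (.node (.node (.node (.leaf 368) (.leaf 1295)) (.leaf 982)) (.node (.leaf 265) (.leaf 867)))) (.node (.node (.node (.node (.leaf 249) (.leaf 1250)) (.leaf 946)) (.node (.leaf 203) (.leaf 1111))) (.node (.node (.node (.leaf 476) (.leaf 1249)) (.leaf 466)) (.node (.leaf 279) (.leaf 896))))))))))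

/-- A table. -/
noncomputable def lineOrbNext1 : BTree := .node lineOrbNext1L lineOrbNext1R

/-- Part of a table. -/
noncomputable def lineOrbNext2L : BTree := (.node (.node (.node (.node (.node (.node (.node (.node (.node (.node (.leaf 3) (.leaf 1084)) (.leaf 706)) (.node (.node (.leaf 480) (.leaf 1194)) (.leaf 471))) (.node (.node (.node (.leaf 254) (.leaf 1256)) (.leaf 944)) (.node (.leaf 660) (.leaf 579)))) (.node (.node (.node (.node (.leaf 94) (.leaf 1234)) (.leaf 324)) (.node (.node (.leaf 573) (.leaf 1315)) (.leaf 514))) (.node (.node (.node (.leaf 369) (.leaf 1275)) (.leaf 416)) (.node (.leaf 747) (.leaf 649))))) (.node (.node (.node (.node (.node (.leaf 69) (.leaf 760)) (.leaf 793)) (.node (.node (.leaf 148) (.leaf 1244)) (.leaf 485))) (.node (.node (.node (.leaf 309) (.leaf 1136)) (.leaf 408)) (.node (.leaf 704) (.leaf 1139)))) (.node (.node (.node (.node (.leaf 40) (.leaf 1079)) (.leaf 345)) (.node (.leaf 615) (.leaf 537))) (.node (.node (.node (.leaf 109) (.leaf 1142)) (.leaf 437)) (.node (.leaf 256) (.leaf 978)))))) (.node (.node (.node (.node (.node (.node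 (.leaf 5) (.leaf 950)) (.leaf 850)) (.node (.node (.leaf 502) (.leaf 1338)) (.leaf 1052))) (.node (.node (.node (.leaf 259) (.leaf 1076)) (.leaf 964)) (.node (.leaf 210) (.leaf 1003)))) (.node (.node (.node (.node (.leaf 169) (.leaf 847)) (.leaf 335)) (.node (.node (.leaf 178) (.leaf 1363)) (.leaf 809))) (.node (.node (.node (.leaf 101) (.leaf 1263)) (.leaf 427)) (.node (.leaf 251) (.leaf 1169))))) (.node (.node (.node (.node (.node (.leaf 89) (.leaf 1220)) (.leaf 585)) (.node (.node (.leaf 158) (.leaf 1267)) (.leaf 521))) (.node (.node (.node (.leaf 339) (.leaf 1034)) (.leaf 638)) (.node (.leaf 730) (.leaf 640)))) (.node (.node (.node (.node (.leaf 186) (.leaf 1184)) (.leaf 358)) (.node (.leaf 534) (.leaf 1123))) (.node (.node (.node (.leaf 120) (.leaf 1231)) (.leaf 957)) (.node (.leaf 267) (.leaf 709))))))) (.node (.node (.node (.node (.node (.node (.node (.leaf 28) (.leaf 1195)) (.leaf 815)) (.node (.node (.leaf 491) (.leaf 1335)) (.leaf 1065))) (.node (.node (.node (.leaf 62) (.leaf 1203)) (.leaf 956)) (.node (.leaf 205) (.leaf 935)))) (.node (.node (.node (.node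 (.leaf 105) (.leaf 801)) (.leaf 367)) (.node (.node (.leaf 559) (.leaf 1339)) (.leaf 522))) (.node (.node (.node (.leaf 382) (.leaf 1300)) (.leaf 420)) (.node (.leaf 245) (.leaf 1161))))) (.node (.node (.node (.node (.node (.leaf 96) (.leaf 1189)) (.leaf 301)) (.node (.node (.leaf 152) (.leaf 1334)) (.leaf 493))) (.node (.node (.node (.leaf 322) (.leaf 1029)) (.leaf 985)) (.node (.leaf 717) (.leaf 1149)))) (.node (.node (.node (.node (.leaf 206) (.leaf 933)) (.leaf 719)) (.node (.leaf 229) (.leaf 774))) (.node (.node (.node (.leaf 439) (.leaf 1152)) (.leaf 745)) (.node (.leaf 805) (.leaf 701)))))) (.node (.node (.node (.node (.node (.node (.leaf 52) (.leaf 986)) (.leaf 292)) (.node (.node (.leaf 513) (.leaf 1340)) (.leaf 1091))) (.node (.node (.node (.leaf 296) (.leaf 984)) (.leaf 630)) (.node (.leaf 672) (.leaf 604)))) (.node (.node (.node (.node (.leaf 185) (.leaf 954)) (.leaf 409)) (.node (.leaf 593) (.leaf 1117))) (.node (.node (.node (.leaf 395) (.leaf 1098)) (.leaf 433)) (.node (.leaf 780) (.leaf 1176))))) (.node (.node (.node (.node (.node (.leaf 126) (.leaf 778))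 (.leaf 316)) (.node (.node (.leaf 348) (.leaf 1289)) (.leaf 959))) (.node (.node (.node (.leaf 357) (.leaf 1055)) (.leaf 412)) (.node (.leaf 463) (.leaf 643)))) (.node (.node (.node (.node (.leaf 240) (.leaf 925)) (.leaf 652)) (.node (.leaf 645) (.leaf 571))) (.node (.node (.node (.leaf 124) (.leaf 1271)) (.leaf 1056)) (.node (.leaf 642) (.leaf 1191)))))))) (.node (.node (.node (.node (.node (.node (.node (.node (.leaf 17) (.leaf 782)) (.leaf 281)) (.node (.node (.leaf 486) (.leaf 1197)) (.leaf 1077))) (.node (.node (.node (.leaf 261) (.leaf 1183)) (.leaf 373)) (.node (.leaf 203) (.leaf 1119)))) (.node (.node (.node (.node (.leaf 146) (.leaf 1237)) (.leaf 629)) (.node (.node (.leaf 576) (.leaf 1359)) (.leaf 1022))) (.node (.node (.node (.leaf 374) (.leaf 1072)) (.leaf 1006)) (.node (.leaf 241) (.leaf 656))))) (.node (.node (.node (.node (.node (.leaf 13) (.leaf 1053)) (.leaf 477)) (.node (.node (.leaf 536) (.leaf 1253)) (.leaf 689))) (.node (.node (.node (.leaf 78) (.leaf 1204)) (.leaf 414)) (.node (.leaf 712) (.leaf 1146)))) (.node (.node (.node (.node (.leaf 42) (.leaf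 875)) (.leaf 350)) (.node (.leaf 620) (.leaf 1049))) (.node (.node (.node (.leaf 435) (.leaf 1255)) (.leaf 441)) (.node (.leaf 300) (.leaf 705)))))) (.node (.node (.node (.node (.node (.node (.leaf 54) (.leaf 1021)) (.leaf 858)) (.node (.node (.leaf 498) (.leaf 1224)) (.leaf 877))) (.node (.node (.node (.leaf 288) (.leaf 979)) (.leaf 384)) (.node (.leaf 211) (.leaf 995)))) (.node (.node (.node (.node (.leaf 43) (.leaf 831)) (.leaf 347)) (.node (.node (.leaf 599) (.leaf 1364)) (.leaf 531))) (.node (.node (.node (.leaf 405) (.leaf 1308)) (.leaf 1025)) (.node (.leaf 773) (.leaf 981))))) (.node (.node (.node (.node (.node (.leaf 24) (.leaf 1168)) (.leaf 611)) (.node (.node (.leaf 492) (.leaf 1276)) (.leaf 505))) (.node (.node (.node (.leaf 86) (.leaf 1188)) (.leaf 687)) (.node (.leaf 587) (.leaf 1157)))) (.node (.node (.node (.node (.leaf 234) (.leaf 962)) (.leaf 359)) (.node (.leaf 274) (.leaf 775))) (.node (.node (.node (.leaf 457) (.leaf 1170)) (.leaf 474)) (.node (.leaf 270) (.leaf 1187))))))) (.node (.node (.node (.node (.node (.node (.node (.leaf 37) (.leaf 734)) (.leaf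 286)) (.node (.node (.leaf 141) (.leaf 1337)) (.leaf 472))) (.node (.node (.node (.leaf 194) (.leaf 998)) (.leaf 632)) (.node (.leaf 217) (.leaf 771)))) (.node (.node (.node (.node (.leaf 161) (.leaf 821)) (.leaf 841)) (.node (.node (.leaf 172) (.leaf 1353)) (.leaf 1113))) (.node (.node (.node (.leaf 389) (.leaf 1298)) (.leaf 1017)) (.node (.leaf 246) (.leaf 1081))))) (.node (.node (.node (.node (.node (.leaf 15) (.leaf 1222)) (.leaf 305)) (.node (.node (.leaf 484) (.leaf 1303)) (.leaf 507))) (.node (.node (.node (.leaf 332) (.leaf 1033)) (.leaf 402)) (.node (.leaf 225) (.leaf 625)))) (.node (.node (.node (.node (.leaf 220) (.leaf 1114)) (.leaf 356)) (.node (.leaf 631) (.leaf 551))) (.node (.node (.node (.leaf 117) (.leaf 1162)) (.leaf 894)) (.node (.leaf 308) (.leaf 829)))))) (.node (.node (.node (.node (.node (.node (.leaf 8) (.leaf 784)) (.leaf 293)) (.node (.node (.leaf 501) (.leaf 1236)) (.leaf 1094))) (.node (.node (.node (.leaf 302) (.leaf 1180)) (.leaf 973)) (.node (.leaf 696) (.leaf 1143)))) (.node (.node (.node (.node (.leaf 39) (.leaf 1118)) (.leaf 920)) (.node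 (.leaf 312) (.leaf 837))) (.node (.node (.node (.leaf 108) (.leaf 1312)) (.leaf 1038)) (.node (.leaf 787) (.leaf 918))))) (.node (.node (.node (.node (.node (.leaf 133) (.leaf 1024)) (.leaf 386)) (.node (.node (.leaf 568) (.leaf 1304)) (.leaf 1102))) (.node (.node (.node (.leaf 114) (.leaf 1150)) (.leaf 997)) (.node (.leaf 303) (.leaf 648)))) (.node (.node (.node (.node (.leaf 248) (.leaf 1151)) (.leaf 637)) (.node (.leaf 655) (.leaf 887))) (.node (.node (.node (.leaf 127) (.leaf 1332)) (.leaf 462)) (.node (.leaf 398) (.leaf 741))))))))) (.node (.node (.node (.node (.node (.node (.node (.node (.node (.leaf 11) (.leaf 722)) (.leaf 832)) (.node (.node (.leaf 154) (.leaf 1198)) (.leaf 1073))) (.node (.node (.node (.leaf 67) (.leaf 1138)) (.leaf 504)) (.node (.leaf 572) (.leaf 581)))) (.node (.node (.node (.node (.leaf 142) (.leaf 1210)) (.leaf 323)) (.node (.node (.leaf 168) (.leaf 1357)) (.leaf 1111))) (.node (.node (.node (.leaf 140) (.leaf 1278)) (.leaf 512)) (.node (.leaf 749) (.leaf 1140))))) (.node (.node (.node (.node (.node (.leaf 14) (.leaf 937)) (.leaf 297)) (.node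 (.node (.leaf 149) (.leaf 1251)) (.leaf 743))) (.node (.node (.node (.leaf 262) (.leaf 1186)) (.leaf 693)) (.node (.leaf 707) (.leaf 1147)))) (.node (.node (.node (.node (.leaf 202) (.leaf 1243)) (.leaf 406)) (.node (.leaf 426) (.leaf 541))) (.node (.node (.node (.leaf 110) (.leaf 1145)) (.leaf 443)) (.node (.leaf 795) (.leaf 1071)))))) (.node (.node (.node (.node (.node (.node (.leaf 50) (.leaf 846)) (.leaf 854)) (.node (.node (.leaf 372) (.leaf 1228)) (.leaf 803))) (.node (.node (.node (.leaf 68) (.leaf 1268)) (.leaf 966)) (.node (.leaf 684) (.leaf 609)))) (.node (.node (.node (.node (.leaf 41) (.leaf 958)) (.leaf 886)) (.node (.node (.leaf 175) (.leaf 1362)) (.leaf 528))) (.node (.node (.node (.leaf 400) (.leaf 1088)) (.leaf 1026)) (.node (.leaf 249) (.leaf 992))))) (.node (.node (.node (.node (.node (.leaf 18) (.leaf 1229)) (.leaf 885)) (.node (.node (.leaf 557) (.leaf 1329)) (.leaf 503))) (.node (.node (.node (.leaf 336) (.leaf 1173)) (.leaf 407)) (.node (.leaf 729) (.leaf 947)))) (.node (.node (.node (.node (.leaf 188) (.leaf 1154)) (.leaf 938)) (.node (.leaf 475)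 (.leaf 555))) (.node (.node (.node (.leaf 451) (.leaf 1327)) (.leaf 1046)) (.node (.leaf 276) (.leaf 897))))))) (.node (.node (.node (.node (.node (.node (.node (.leaf 27) (.leaf 1200)) (.leaf 840)) (.node (.node (.leaf 494) (.leaf 1207)) (.leaf 1080))) (.node (.node (.node (.leaf 271) (.leaf 1260)) (.leaf 379)) (.node (.leaf 673) (.leaf 589)))) (.node (.node (.node (.node (.leaf 157) (.leaf 1240)) (.leaf 327)) (.node (.node (.leaf 231) (.leaf 1354)) (.leaf 523))) (.node (.node (.node (.leaf 98) (.leaf 1226)) (.leaf 422)) (.node (.leaf 758) (.leaf 739))))) (.node (.node (.node (.node (.node (.leaf 100) (.leaf 766)) (.leaf 881)) (.node (.node (.leaf 547) (.leaf 1307)) (.leaf 495))) (.node (.node (.node (.leaf 326) (.leaf 1280)) (.leaf 681)) (.node (.leaf 354) (.leaf 626)))) (.node (.node (.node (.node (.leaf 45) (.leaf 1241)) (.leaf 926)) (.node (.leaf 633) (.leaf 553))) (.node (.node (.node (.leaf 116) (.leaf 1155)) (.leaf 506)) (.node (.leaf 263) (.leaf 857)))))) (.node (.node (.node (.node (.node (.node (.leaf 9) (.leaf 907)) (.leaf 863)) (.node (.node (.leaf 518)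 (.leaf 1323)) (.leaf 702))) (.node (.node (.node (.leaf 258) (.leaf 1273)) (.leaf 598)) (.node (.leaf 215) (.leaf 613)))) (.node (.node (.node (.node (.leaf 189) (.leaf 1132)) (.leaf 686)) (.node (.leaf 595) (.leaf 532))) (.node (.node (.node (.leaf 155) (.leaf 1310)) (.leaf 432)) (.node (.leaf 756) (.leaf 1048))))) (.node (.node (.node (.node (.node (.leaf 22) (.leaf 1193)) (.leaf 318)) (.node (.node (.leaf 349) (.leaf 1296)) (.leaf 865))) (.node (.node (.node (.leaf 112) (.leaf 1090)) (.leaf 993)) (.node (.leaf 235) (.leaf 1112)))) (.node (.node (.node (.node (.leaf 243) (.leaf 932)) (.leaf 363)) (.node (.leaf 651) (.leaf 1131))) (.node (.node (.node (.leaf 467) (.leaf 1274)) (.leaf 757)) (.node (.leaf 746) (.leaf 718)))))))) (.node (.node (.node (.node (.node (.node (.node (.node (.leaf 19) (.leaf 1019)) (.leaf 282)) (.node (.node (.leaf 162) (.leaf 1201)) (.leaf 872))) (.node (.node (.node (.leaf 265) (.leaf 1089)) (.leaf 375)) (.node (.leaf 667) (.leaf 1035)))) (.node (.node (.node (.node (.leaf 150) (.leaf 796)) (.leaf 325)) (.node (.node (.leaf 170) (.leaf 1325))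 (.leaf 519))) (.node (.node (.node (.leaf 377) (.leaf 1068)) (.leaf 419)) (.node (.leaf 751) (.leaf 658))))) (.node (.node (.node (.node (.node (.leaf 91) (.leaf 1217)) (.leaf 299)) (.node (.node (.leaf 478) (.leaf 1345)) (.leaf 849))) (.node (.node (.node (.leaf 319) (.leaf 1014)) (.leaf 399)) (.node (.leaf 714) (.leaf 623)))) (.node (.node (.node (.node (.leaf 209) (.leaf 1057)) (.leaf 923)) (.node (.leaf 624) (.leaf 545))) (.node (.node (.node (.leaf 113) (.leaf 1317)) (.leaf 909)) (.node (.leaf 260) (.leaf 1164)))))) (.node (.node (.node (.node (.node (.node (.leaf 58) (.leaf 754)) (.leaf 368)) (.node (.node (.leaf 510) (.leaf 1326)) (.leaf 1086))) (.node (.node (.node (.leaf 70) (.leaf 1270)) (.leaf 569)) (.node (.leaf 610) (.leaf 988)))) (.node (.node (.node (.node (.leaf 180) (.leaf 833)) (.leaf 666)) (.node (.leaf 605) (.leaf 530))) (.node (.node (.node (.leaf 393) (.leaf 1238)) (.leaf 783)) (.node (.leaf 767) (.leaf 677))))) (.node (.node (.node (.node (.node (.leaf 20) (.leaf 1233)) (.leaf 315)) (.node (.node (.leaf 561) (.leaf 1320)) (.leaf 1105))) (.node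 (.node (.node (.leaf 351) (.leaf 1215)) (.leaf 917)) (.node (.leaf 737) (.leaf 1040)))) (.node (.node (.node (.node (.leaf 63) (.leaf 1248)) (.leaf 664)) (.node (.leaf 196) (.leaf 594))) (.node (.node (.node (.leaf 460) (.leaf 1174)) (.leaf 458)) (.node (.leaf 272) (.leaf 1190))))))) (.node (.node (.node (.node (.node (.node (.node (.leaf 34) (.leaf 732)) (.leaf 287)) (.node (.node (.leaf 500) (.leaf 1214)) (.leaf 1028))) (.node (.node (.node (.leaf 66) (.leaf 974)) (.leaf 961)) (.node (.leaf 508) (.leaf 913)))) (.node (.node (.node (.node (.leaf 164) (.leaf 828)) (.leaf 331)) (.node (.node (.leaf 591) (.leaf 1358)) (.leaf 1042))) (.node (.node (.node (.leaf 104) (.leaf 1305)) (.leaf 1018)) (.node (.leaf 764) (.leaf 1166))))) (.node (.node (.node (.node (.node (.leaf 107) (.leaf 779)) (.leaf 515)) (.node (.node (.leaf 156) (.leaf 1302)) (.leaf 511))) (.node (.node (.node (.leaf 83) (.leaf 1282)) (.leaf 602)) (.node (.leaf 725) (.leaf 635)))) (.node (.node (.node (.node (.leaf 226) (.leaf 1007)) (.leaf 929)) (.node (.leaf 191) (.leaf 989))) (.node (.node (.node (.leaf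 447) (.leaf 1167)) (.leaf 453)) (.node (.leaf 266) (.leaf 708)))))) (.node (.node (.node (.node (.node (.node (.leaf 21) (.leaf 1061)) (.leaf 867)) (.node (.node (.leaf 524) (.leaf 1242)) (.leaf 483))) (.node (.node (.node (.leaf 304) (.leaf 1211)) (.leaf 975)) (.node (.leaf 676) (.leaf 618)))) (.node (.node (.node (.node (.leaf 64) (.leaf 1116)) (.leaf 565)) (.node (.leaf 612) (.leaf 641))) (.node (.node (.node (.leaf 423) (.leaf 1125)) (.leaf 1036)) (.node (.leaf 294) (.leaf 691))))) (.node (.node (.node (.node (.node (.leaf 136) (.leaf 790)) (.leaf 893)) (.node (.node (.leaf 570) (.leaf 1321)) (.leaf 1107))) (.node (.node (.node (.leaf 365) (.leaf 1294)) (.leaf 794)) (.node (.leaf 445) (.leaf 1106)))) (.node (.node (.node (.node (.leaf 56) (.leaf 1212)) (.leaf 688)) (.node (.leaf 200) (.leaf 748))) (.node (.node (.node (.leaf 128) (.leaf 1218)) (.leaf 1066)) (.node (.leaf 278) (.leaf 836))))))))))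

/-- Part of a table. -/
noncomputable def lineOrbNext2R : BTree := (.node (.node (.node (.node (.node (.node (.node (.node (.node (.node (.leaf 7) (.leaf 724)) (.leaf 280)) (.node (.node (.leaf 153) (.leaf 1259)) (.leaf 465))) (.node (.node (.node (.leaf 71) (.leaf 941)) (.leaf 862)) (.node (.leaf 661) (.leaf 1010)))) (.node (.node (.node (.node (.leaf 25) (.leaf 1158)) (.leaf 899)) (.node (.node (.leaf 575) (.leaf 1318)) (.leaf 1110))) (.node (.node (.node (.leaf 93) (.leaf 1062)) (.leaf 996)) (.node (.leaf 239) (.leaf 654))))) (.node (.node (.node (.node (.node (.leaf 81) (.leaf 1126)) (.leaf 870)) (.node (.node (.leaf 529) (.leaf 1285)) (.leaf 1096))) (.node (.node (.node (.leaf 76) (.leaf 1185)) (.leaf 394)) (.node (.leaf 219) (.leaf 622)))) (.node (.node (.node (.node (.leaf 199) (.leaf 879)) (.leaf 914)) (.node (.leaf 617) (.leaf 826))) (.node (.node (.node (.leaf 428) (.leaf 1199)) (.leaf 438)) (.node (.leaf 543) (.leaf 698)))))) (.node (.node (.node (.node (.node (.node (.leaf 4) (.leaf 945)) (.leaf 289)) (.node (.node (.leaf 371) (.leaf 1297)) (.leaf 563)))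 (.node (.node (.node (.leaf 283) (.leaf 976)) (.leaf 965)) (.node (.leaf 683) (.leaf 910)))) (.node (.node (.node (.node (.leaf 33) (.leaf 822)) (.leaf 344)) (.node (.node (.leaf 387) (.leaf 1351)) (.leaf 806))) (.node (.node (.node (.leaf 102) (.leaf 1078)) (.leaf 429)) (.node (.leaf 769) (.leaf 675))))) (.node (.node (.node (.node (.node (.leaf 115) (.leaf 770)) (.leaf 310)) (.node (.node (.leaf 556) (.leaf 1330)) (.leaf 1085))) (.node (.node (.node (.leaf 343) (.leaf 1286)) (.leaf 804)) (.node (.leaf 728) (.leaf 1041)))) (.node (.node (.node (.node (.leaf 230) (.leaf 1133)) (.leaf 940)) (.node (.leaf 192) (.leaf 554))) (.node (.node (.node (.leaf 452) (.leaf 1225)) (.leaf 839)) (.node (.leaf 275) (.leaf 1009))))))) (.node (.node (.node (.node (.node (.node (.node (.leaf 26) (.leaf 1196)) (.leaf 816)) (.node (.node (.leaf 134) (.leaf 1336)) (.leaf 1063))) (.node (.node (.node (.leaf 269) (.leaf 968)) (.leaf 960)) (.node (.leaf 214) (.leaf 653)))) (.node (.node (.node (.node (.leaf 29) (.leaf 799)) (.leaf 560)) (.node (.node (.leaf 171) (.leaf 1356)) (.leaf 588))) (.node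 (.node (.node (.leaf 381) (.leaf 1265)) (.leaf 1013)) (.node (.leaf 244) (.leaf 853))))) (.node (.node (.node (.node (.node (.leaf 82) (.leaf 776)) (.leaf 874)) (.node (.node (.leaf 546) (.leaf 1342)) (.leaf 848))) (.node (.node (.node (.leaf 80) (.leaf 1082)) (.leaf 682)) (.node (.leaf 223) (.leaf 1058)))) (.node (.node (.node (.node (.leaf 72) (.leaf 1087)) (.leaf 353)) (.node (.leaf 187) (.leaf 791))) (.node (.node (.node (.leaf 333) (.leaf 1319)) (.leaf 744)) (.node (.leaf 313) (.leaf 1181)))))) (.node (.node (.node (.node (.node (.node (.leaf 65) (.leaf 868)) (.leaf 864)) (.node (.node (.leaf 516) (.leaf 1230)) (.leaf 544))) (.node (.node (.node (.leaf 257) (.leaf 987)) (.leaf 597)) (.node (.leaf 600) (.leaf 991)))) (.node (.node (.node (.node (.leaf 48) (.leaf 844)) (.leaf 919)) (.node (.leaf 608) (.leaf 1002))) (.node (.node (.node (.leaf 396) (.leaf 1130)) (.leaf 434)) (.node (.leaf 253) (.leaf 680))))) (.node (.node (.node (.node (.node (.leaf 75) (.leaf 972)) (.leaf 662)) (.node (.node (.leaf 489) (.leaf 1292)) (.leaf 679))) (.node (.node (.node (.leaf 88)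 (.leaf 1291)) (.leaf 671)) (.node (.leaf 740) (.leaf 827)))) (.node (.node (.node (.node (.leaf 53) (.leaf 1250)) (.leaf 362)) (.node (.leaf 198) (.leaf 963))) (.node (.node (.node (.leaf 466) (.leaf 1178)) (.leaf 883)) (.node (.leaf 820) (.leaf 716)))))))) (.node (.node (.node (.node (.node (.node (.node (.node (.leaf 16) (.leaf 1192)) (.leaf 835)) (.node (.node (.leaf 132) (.leaf 1313)) (.leaf 468))) (.node (.node (.node (.leaf 60) (.leaf 948)) (.leaf 376)) (.node (.leaf 204) (.leaf 1109)))) (.node (.node (.node (.node (.leaf 32) (.leaf 999)) (.leaf 898)) (.node (.node (.leaf 582) (.leaf 1341)) (.leaf 860))) (.node (.node (.node (.leaf 95) (.leaf 1067)) (.leaf 1008)) (.node (.leaf 750) (.leaf 657))))) (.node (.node (.node (.node (.node (.leaf 12) (.leaf 1054)) (.leaf 871)) (.node (.node (.leaf 540) (.leaf 1254)) (.leaf 488))) (.node (.node (.node (.leaf 317) (.leaf 1064)) (.leaf 982)) (.node (.leaf 221) (.leaf 1128)))) (.node (.node (.node (.node (.leaf 208) (.leaf 1246)) (.leaf 922)) (.node (.leaf 184) (.leaf 797))) (.node (.node (.node (.leaf 360) (.leaf 1316)) (.leaf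 1020)) (.node (.leaf 800) (.leaf 700)))))) (.node (.node (.node (.node (.node (.node (.leaf 30) (.leaf 855)) (.leaf 291)) (.node (.node (.leaf 499) (.leaf 1301)) (.leaf 949))) (.node (.node (.node (.leaf 290) (.leaf 1202)) (.leaf 385)) (.node (.leaf 212) (.leaf 694)))) (.node (.node (.node (.node (.leaf 35) (.leaf 901)) (.leaf 665)) (.node (.leaf 603) (.leaf 969))) (.node (.node (.node (.leaf 103) (.leaf 1092)) (.leaf 430)) (.node (.leaf 765) (.leaf 980))))) (.node (.node (.node (.node (.node (.leaf 121) (.leaf 772)) (.leaf 606)) (.node (.node (.leaf 160) (.leaf 1299)) (.leaf 1100))) (.node (.node (.node (.leaf 87) (.leaf 1287)) (.leaf 674)) (.node (.leaf 736) (.leaf 789)))) (.node (.node (.node (.node (.leaf 236) (.leaf 1075)) (.leaf 580)) (.node (.leaf 644) (.leaf 562))) (.node (.node (.node (.leaf 456) (.leaf 1171)) (.leaf 762)) (.node (.leaf 284) (.leaf 713))))))) (.node (.node (.node (.node (.node (.node (.node (.leaf 36) (.leaf 731)) (.leaf 845)) (.node (.node (.leaf 137) (.leaf 1213)) (.leaf 1051))) (.node (.node (.node (.leaf 268) (.leaf 1165)) (.leaf 905)) (.node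 (.leaf 207) (.leaf 742)))) (.node (.node (.node (.node (.leaf 31) (.leaf 811)) (.leaf 906)) (.node (.node (.leaf 233) (.leaf 1346)) (.leaf 525))) (.node (.node (.node (.leaf 392) (.leaf 1074)) (.leaf 424)) (.node (.leaf 763) (.leaf 668))))) (.node (.node (.node (.node (.node (.leaf 106) (.leaf 1069)) (.leaf 306)) (.node (.node (.leaf 552) (.leaf 1350)) (.leaf 509))) (.node (.node (.node (.leaf 99) (.leaf 1284)) (.leaf 403)) (.node (.leaf 721) (.leaf 1153)))) (.node (.node (.node (.node (.leaf 224) (.leaf 1137)) (.leaf 931)) (.node (.leaf 190) (.leaf 788))) (.node (.node (.node (.leaf 135) (.leaf 1261)) (.leaf 450)) (.node (.leaf 808) (.leaf 1163)))))) (.node (.node (.node (.node (.node (.node (.leaf 73) (.leaf 1060)) (.leaf 866)) (.node (.node (.leaf 147) (.leaf 1235)) (.leaf 869))) (.node (.node (.node (.leaf 74) (.leaf 1001)) (.leaf 391)) (.node (.leaf 699) (.leaf 1144)))) (.node (.node (.node (.node (.leaf 193) (.leaf 856)) (.leaf 342)) (.node (.leaf 314) (.leaf 535))) (.node (.node (.node (.leaf 421) (.leaf 1311)) (.leaf 1027)) (.node (.leaf 548) (.leaf 878)))))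 (.node (.node (.node (.node (.node (.leaf 119) (.leaf 817)) (.leaf 320)) (.node (.node (.leaf 165) (.leaf 1349)) (.leaf 1004))) (.node (.node (.node (.leaf 90) (.leaf 1293)) (.leaf 1000)) (.node (.leaf 446) (.leaf 752)))) (.node (.node (.node (.node (.leaf 247) (.leaf 936)) (.leaf 636)) (.node (.leaf 201) (.leaf 574))) (.node (.node (.node (.leaf 473) (.leaf 1277)) (.leaf 469)) (.node (.leaf 813) (.leaf 1044))))))))) (.node (.node (.node (.node (.node (.node (.node (.node (.node (.leaf 0) (.leaf 733)) (.leaf 558)) (.node (.node (.leaf 144) (.leaf 1279)) (.leaf 908))) (.node (.node (.node (.leaf 59) (.leaf 1258)) (.leaf 952)) (.node (.leaf 337) (.leaf 577)))) (.node (.node (.node (.node (.leaf 130) (.leaf 792)) (.leaf 896)) (.node (.node (.leaf 578) (.leaf 1343)) (.leaf 517))) (.node (.node (.node (.leaf 139) (.leaf 1219)) (.leaf 418)) (.node (.leaf 242) (.leaf 889))))) (.node (.node (.node (.node (.node (.leaf 85) (.leaf 967)) (.leaf 298)) (.node (.node (.leaf 533) (.leaf 1344)) (.leaf 786))) (.node (.node (.node (.leaf 179) (.leaf 1012)) (.leaf 977)) (.node (.leaf 710)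 (.leaf 621)))) (.node (.node (.node (.node (.leaf 173) (.leaf 880)) (.leaf 564)) (.node (.leaf 183) (.leaf 542))) (.node (.node (.node (.leaf 431) (.leaf 1314)) (.leaf 970)) (.node (.leaf 798) (.leaf 916)))))) (.node (.node (.node (.node (.node (.node (.leaf 6) (.leaf 823)) (.leaf 852)) (.node (.node (.leaf 497) (.leaf 1333)) (.leaf 476))) (.node (.node (.node (.leaf 285) (.leaf 1269)) (.leaf 383)) (.node (.leaf 685) (.leaf 971)))) (.node (.node (.node (.node (.leaf 174) (.leaf 830)) (.leaf 346)) (.node (.node (.leaf 176) (.leaf 1360)) (.leaf 1115))) (.node (.node (.node (.leaf 404) (.leaf 1309)) (.leaf 1023)) (.node (.leaf 250) (.leaf 1172))))) (.node (.node (.node (.node (.node (.leaf 23) (.leaf 1141)) (.leaf 785)) (.node (.node (.leaf 159) (.leaf 1295)) (.leaf 1103))) (.node (.node (.node (.leaf 163) (.leaf 1160)) (.leaf 990)) (.node (.leaf 228) (.leaf 946)))) (.node (.node (.node (.node (.leaf 49) (.leaf 928)) (.leaf 939)) (.node (.leaf 273) (.leaf 761))) (.node (.node (.node (.leaf 122) (.leaf 1328)) (.leaf 455)) (.node (.leaf 277) (.leaf 711))))))) (.node (.node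 (.node (.node (.node (.node (.node (.leaf 2) (.leaf 902)) (.leaf 842)) (.node (.node (.leaf 496) (.leaf 1209)) (.leaf 1070))) (.node (.node (.node (.leaf 195) (.leaf 1005)) (.leaf 378)) (.node (.leaf 216) (.leaf 1050)))) (.node (.node (.node (.node (.leaf 57) (.leaf 807)) (.leaf 436)) (.node (.node (.leaf 590) (.leaf 1355)) (.leaf 539))) (.node (.node (.node (.leaf 388) (.leaf 1179)) (.leaf 1015)) (.node (.leaf 759) (.leaf 915))))) (.node (.node (.node (.node (.node (.leaf 84) (.leaf 1221)) (.leaf 882)) (.node (.node (.leaf 550) (.leaf 1306)) (.leaf 1101))) (.node (.node (.node (.leaf 329) (.leaf 1032)) (.leaf 401)) (.node (.leaf 720) (.leaf 627)))) (.node (.node (.node (.node (.leaf 46) (.leaf 890)) (.leaf 927)) (.node (.leaf 634) (.leaf 1124))) (.node (.node (.node (.leaf 442) (.leaf 1281)) (.leaf 448)) (.node (.leaf 264) (.leaf 912)))))) (.node (.node (.node (.node (.node (.node (.leaf 10) (.leaf 781)) (.leaf 843)) (.node (.node (.leaf 145) (.leaf 1322)) (.leaf 482))) (.node (.node (.node (.leaf 218) (.leaf 1227)) (.leaf 390)) (.node (.leaf 695) (.leaf 614)))) (.node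 (.node (.node (.node (.leaf 38) (.leaf 851)) (.leaf 341)) (.node (.leaf 596) (.leaf 639))) (.node (.node (.node (.leaf 417) (.leaf 1122)) (.leaf 1037)) (.node (.leaf 370) (.leaf 1177))))) (.node (.node (.node (.node (.node (.leaf 131) (.leaf 1127)) (.leaf 888)) (.node (.node (.leaf 566) (.leaf 1352)) (.leaf 953))) (.node (.node (.node (.leaf 361) (.leaf 1182)) (.leaf 413)) (.node (.leaf 738) (.leaf 647)))) (.node (.node (.node (.node (.leaf 55) (.leaf 930)) (.leaf 942)) (.node (.leaf 650) (.leaf 663))) (.node (.node (.node (.leaf 464) (.leaf 1216)) (.leaf 461)) (.node (.leaf 812) (.leaf 1030)))))))) (.node (.node (.node (.node (.node (.node (.node (.node (.leaf 1) (.leaf 727)) (.leaf 838)) (.node (.node (.leaf 490) (.leaf 1205)) (.leaf 884))) (.node (.node (.node (.leaf 237) (.leaf 1047)) (.leaf 955)) (.node (.leaf 669) (.leaf 583)))) (.node (.node (.node (.node (.leaf 129) (.leaf 1239)) (.leaf 903)) (.node (.node (.leaf 586) (.leaf 1361)) (.leaf 753))) (.node (.node (.node (.leaf 97) (.leaf 1223)) (.leaf 1011)) (.node (.leaf 755) (.leaf 1059))))) (.node (.node (.node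 (.node (.node (.leaf 92) (.leaf 777)) (.leaf 876)) (.node (.node (.leaf 479) (.leaf 1257)) (.leaf 1099))) (.node (.node (.node (.leaf 79) (.leaf 1016)) (.leaf 825)) (.node (.leaf 222) (.leaf 904)))) (.node (.node (.node (.node (.leaf 213) (.leaf 1083)) (.leaf 352)) (.node (.leaf 628) (.leaf 549))) (.node (.node (.node (.leaf 330) (.leaf 1252)) (.leaf 802)) (.node (.leaf 311) (.leaf 1093)))))) (.node (.node (.node (.node (.node (.node (.leaf 51) (.leaf 1159)) (.leaf 861)) (.node (.node (.leaf 143) (.leaf 1324)) (.leaf 873))) (.node (.node (.node (.leaf 255) (.leaf 983)) (.leaf 891)) (.node (.leaf 690) (.leaf 601)))) (.node (.node (.node (.node (.leaf 181) (.leaf 834)) (.leaf 340)) (.node (.leaf 177) (.leaf 1045))) (.node (.node (.node (.leaf 410) (.leaf 1095)) (.leaf 1031)) (.node (.leaf 768) (.leaf 1175))))) (.node (.node (.node (.node (.node (.leaf 123) (.leaf 1120)) (.leaf 527)) (.node (.node (.leaf 487) (.leaf 1288)) (.leaf 1043))) (.node (.node (.node (.leaf 355) (.leaf 1290)) (.leaf 411)) (.node (.leaf 232) (.leaf 943)))) (.node (.node (.node (.node (.leaf 61) (.leaf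 924)) (.leaf 364)) (.node (.leaf 646) (.leaf 892))) (.node (.node (.node (.leaf 125) (.leaf 1272)) (.leaf 459)) (.node (.leaf 818) (.leaf 715))))))) (.node (.node (.node (.node (.node (.node (.node (.leaf 44) (.leaf 735)) (.leaf 567)) (.node (.node (.leaf 138) (.leaf 1331)) (.leaf 726))) (.node (.node (.node (.leaf 279) (.leaf 1262)) (.leaf 380)) (.node (.leaf 678) (.leaf 607)))) (.node (.node (.node (.node (.leaf 167) (.leaf 819)) (.leaf 334)) (.node (.node (.leaf 592) (.leaf 1348)) (.leaf 1104))) (.node (.node (.node (.leaf 397) (.leaf 1264)) (.leaf 616)) (.node (.leaf 440) (.leaf 670))))) (.node (.node (.node (.node (.node (.leaf 111) (.leaf 994)) (.leaf 328)) (.node (.node (.leaf 444) (.leaf 1266)) (.leaf 520))) (.node (.node (.node (.leaf 338) (.leaf 1249)) (.leaf 692)) (.node (.leaf 227) (.leaf 951)))) (.node (.node (.node (.node (.leaf 47) (.leaf 895)) (.leaf 934)) (.node (.leaf 584) (.leaf 1121))) (.node (.node (.node (.leaf 449) (.leaf 1232)) (.leaf 454)) (.node (.leaf 810) (.leaf 1134)))))) (.node (.node (.node (.node (.node (.node (.leaf 77) (.leaf 1208))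 (.leaf 481)) (.node (.node (.leaf 526) (.leaf 1245)) (.leaf 1097))) (.node (.node (.node (.leaf 307) (.leaf 1156)) (.leaf 697)) (.node (.leaf 703) (.leaf 619)))) (.node (.node (.node (.node (.leaf 197) (.leaf 900)) (.leaf 911)) (.node (.leaf 182) (.leaf 538))) (.node (.node (.node (.leaf 425) (.leaf 1247)) (.leaf 1039)) (.node (.leaf 295) (.leaf 921))))) (.node (.node (.node (.node (.node (.leaf 118) (.leaf 1129)) (.leaf 321)) (.node (.node (.leaf 166) (.leaf 1347)) (.leaf 1108))) (.node (.node (.node (.leaf 366) (.leaf 1206)) (.leaf 415)) (.node (.leaf 238) (.leaf 824)))) (.node (.node (.node (.node (.leaf 252) (.leaf 1148)) (.leaf 859)) (.node (.leaf 659) (.leaf 1135))) (.node (.node (.node (.leaf 151) (.leaf 1283)) (.leaf 470)) (.node (.leaf 814) (.leaf 723))))))))))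

/-- A table. -/
noncomputable def lineOrbNext2 : BTree := .node lineOrbNext2L lineOrbNext2R

/-- Part of a table. -/
noncomputable def lineOrbNext3L : BTree := (.node (.node (.node (.node (.node (.node (.node (.node (.node (.node (.leaf 4) (.leaf 721)) (.leaf 279)) (.node (.node (.leaf 129) (.leaf 1285)) (.leaf 1068))) (.node (.node (.node (.leaf 57) (.leaf 938)) (.leaf 553)) (.node (.leaf 201) (.leaf 1011)))) (.node (.node (.node (.node (.leaf 61) (.leaf 789)) (.leaf 897)) (.node (.node (.leaf 167) (.leaf 1356)) (.leaf 1109))) (.node (.node (.node (.leaf 91) (.leaf 1063)) (.leaf 909)) (.node (.leaf 241) (.leaf 888))))) (.node (.node (.node (.node (.node (.leaf 78) (.leaf 1209)) (.leaf 869)) (.node (.node (.leaf 527) (.leaf 1309)) (.leaf 922))) (.node (.node (.node (.leaf 80) (.leaf 1156)) (.leaf 955)) (.node (.leaf 218) (.leaf 658)))) (.node (.node (.node (.node (.leaf 54) (.leaf 872)) (.leaf 347)) (.node (.leaf 611) (.leaf 642))) (.node (.node (.node (.leaf 426) (.leaf 1240)) (.leaf 1041)) (.node (.leaf 541) (.leaf 694)))))) (.node (.node (.node (.node (.node (.node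 (.leaf 46) (.leaf 1201)) (.leaf 834)) (.node (.node (.leaf 139) (.leaf 1296)) (.leaf 1027))) (.node (.node (.node (.leaf 280) (.leaf 1168)) (.leaf 851)) (.node (.leaf 646) (.leaf 821)))) (.node (.node (.node (.node (.leaf 160) (.leaf 881)) (.leaf 908)) (.node (.node (.leaf 594) (.leaf 1349)) (.leaf 526))) (.node (.node (.node (.leaf 374) (.leaf 1079)) (.leaf 1022)) (.node (.leaf 766) (.leaf 1141))))) (.node (.node (.node (.node (.node (.leaf 113) (.leaf 1050)) (.leaf 309)) (.node (.node (.leaf 490) (.leaf 1269)) (.leaf 1102))) (.node (.node (.node (.leaf 84) (.leaf 1193)) (.leaf 805)) (.node (.leaf 227) (.leaf 1155)))) (.node (.node (.node (.node (.leaf 228) (.leaf 961)) (.leaf 937)) (.node (.leaf 194) (.leaf 950))) (.node (.node (.node (.leaf 398) (.leaf 1325)) (.leaf 983)) (.node (.leaf 502) (.leaf 1185))))))) (.node (.node (.node (.node (.node (.node (.node (.leaf 1) (.leaf 1197)) (.leaf 635)) (.node (.node (.leaf 274) (.leaf 1206)) (.leaf 1080))) (.node (.node (.node (.leaf 95) (.leaf 966)) (.leaf 454)) (.node (.leaf 670) (.leaf 883)))) (.node (.node (.node (.node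 (.leaf 28) (.leaf 1144)) (.leaf 614)) (.node (.node (.leaf 587) (.leaf 1362)) (.leaf 1112))) (.node (.node (.node (.leaf 97) (.leaf 1301)) (.leaf 1012)) (.node (.leaf 335) (.leaf 661))))) (.node (.node (.node (.node (.node (.leaf 94) (.leaf 765)) (.leaf 878)) (.node (.node (.leaf 546) (.leaf 1260)) (.leaf 859))) (.node (.node (.node (.leaf 308) (.leaf 1028)) (.leaf 401)) (.node (.leaf 225) (.leaf 626)))) (.node (.node (.node (.node (.leaf 215) (.leaf 877)) (.leaf 422)) (.node (.leaf 630) (.leaf 1120))) (.node (.node (.node (.leaf 114) (.leaf 1256)) (.leaf 813)) (.node (.leaf 262) (.leaf 1180)))))) (.node (.node (.node (.node (.node (.node (.leaf 62) (.leaf 1174)) (.leaf 818)) (.node (.node (.leaf 144) (.leaf 1229)) (.leaf 478))) (.node (.node (.node (.leaf 71) (.leaf 1270)) (.leaf 970)) (.node (.leaf 693) (.leaf 1098)))) (.node (.node (.node (.node (.leaf 183) (.leaf 840)) (.leaf 916)) (.node (.leaf 606) (.leaf 531))) (.node (.node (.node (.leaf 413) (.leaf 1248)) (.leaf 1034)) (.node (.leaf 252) (.leaf 682))))) (.node (.node (.node (.node (.node (.leaf 21) (.leaf 776))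 (.leaf 887)) (.node (.node (.leaf 162) (.leaf 1331)) (.leaf 917))) (.node (.node (.node (.leaf 354) (.leaf 1208)) (.leaf 993)) (.node (.leaf 277) (.leaf 828)))) (.node (.node (.node (.node (.leaf 238) (.leaf 1096)) (.leaf 361)) (.node (.leaf 242) (.leaf 960))) (.node (.node (.node (.leaf 465) (.leaf 1330)) (.leaf 468)) (.node (.leaf 734) (.leaf 719)))))))) (.node (.node (.node (.node (.node (.node (.node (.node (.leaf 0) (.leaf 1192)) (.leaf 538)) (.node (.node (.leaf 131) (.leaf 1314)) (.leaf 466))) (.node (.node (.node (.leaf 59) (.leaf 1184)) (.leaf 388)) (.node (.leaf 644) (.leaf 1108)))) (.node (.node (.node (.node (.leaf 26) (.leaf 793)) (.leaf 324)) (.node (.node (.leaf 580) (.leaf 1323)) (.leaf 1030))) (.node (.node (.node (.leaf 268) (.leaf 1147)) (.leaf 419)) (.node (.leaf 679) (.leaf 1134))))) (.node (.node (.node (.node (.node (.leaf 87) (.leaf 1214)) (.leaf 297)) (.node (.node (.leaf 537) (.leaf 1316)) (.leaf 487))) (.node (.node (.node (.leaf 314) (.leaf 1277)) (.leaf 956)) (.node (.leaf 469) (.leaf 723)))) (.node (.node (.node (.node (.leaf 207) (.leaf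 1091)) (.leaf 510)) (.node (.leaf 618) (.leaf 795))) (.node (.node (.node (.leaf 112) (.leaf 1315)) (.leaf 989)) (.node (.leaf 799) (.leaf 1045)))))) (.node (.node (.node (.node (.node (.node (.leaf 52) (.leaf 1132)) (.leaf 290)) (.node (.node (.leaf 508) (.leaf 1289)) (.leaf 476))) (.node (.node (.node (.leaf 286) (.leaf 1268)) (.leaf 890)) (.node (.leaf 686) (.leaf 600)))) (.node (.node (.node (.node (.leaf 176) (.leaf 900)) (.leaf 913)) (.node (.node (.leaf 210) (.leaf 1364)) (.leaf 1003))) (.node (.node (.node (.leaf 403) (.leaf 1245)) (.leaf 933)) (.node (.leaf 760) (.leaf 1159))))) (.node (.node (.node (.node (.node (.leaf 20) (.leaf 774)) (.leaf 313)) (.node (.node (.leaf 168) (.leaf 1286)) (.leaf 847))) (.node (.node (.node (.leaf 350) (.leaf 1283)) (.leaf 409)) (.node (.leaf 735) (.leaf 636)))) (.node (.node (.node (.node (.leaf 235) (.leaf 1084)) (.leaf 659)) (.node (.leaf 639) (.leaf 629))) (.node (.node (.node (.leaf 122) (.leaf 1172)) (.leaf 1031)) (.node (.leaf 271) (.leaf 712))))))) (.node (.node (.node (.node (.node (.node (.node (.leaf 2) (.leaf 861))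 (.leaf 843)) (.node (.node (.leaf 196) (.leaf 1212)) (.leaf 738))) (.node (.node (.node (.leaf 134) (.leaf 999)) (.leaf 435)) (.node (.leaf 675) (.leaf 592)))) (.node (.node (.node (.node (.leaf 33) (.leaf 1118)) (.leaf 557)) (.node (.node (.leaf 397) (.leaf 1344)) (.leaf 590))) (.node (.node (.node (.leaf 99) (.leaf 1259)) (.leaf 427)) (.node (.leaf 762) (.leaf 668))))) (.node (.node (.node (.node (.node (.leaf 105) (.leaf 768)) (.leaf 845)) (.node (.node (.leaf 551) (.leaf 1324)) (.leaf 545))) (.node (.node (.node (.leaf 82) (.leaf 1052)) (.leaf 987)) (.node (.leaf 722) (.leaf 627)))) (.node (.node (.node (.node (.leaf 182) (.leaf 1044)) (.leaf 930)) (.node (.leaf 284) (.leaf 1125))) (.node (.node (.node (.leaf 444) (.leaf 1320)) (.leaf 969)) (.node (.leaf 807) (.leaf 707)))))) (.node (.node (.node (.node (.node (.node (.leaf 72) (.leaf 1196)) (.leaf 866)) (.node (.node (.leaf 364) (.leaf 1311)) (.leaf 481))) (.node (.node (.node (.leaf 73) (.leaf 1000)) (.leaf 972)) (.node (.leaf 217) (.leaf 621)))) (.node (.node (.node (.node (.leaf 191) (.leaf 855)) (.leaf 918))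 (.node (.leaf 610) (.leaf 533))) (.node (.node (.node (.leaf 418) (.leaf 1123)) (.leaf 434)) (.node (.leaf 788) (.leaf 1178))))) (.node (.node (.node (.node (.node (.leaf 23) (.leaf 1140)) (.leaf 319)) (.node (.node (.leaf 166) (.leaf 1294)) (.leaf 952))) (.node (.node (.node (.leaf 363) (.leaf 1292)) (.leaf 414)) (.node (.leaf 236) (.leaf 676)))) (.node (.node (.node (.node (.leaf 55) (.leaf 934)) (.leaf 948)) (.node (.leaf 199) (.leaf 573))) (.node (.node (.node (.leaf 472) (.leaf 1241)) (.leaf 1061)) (.node (.leaf 276) (.leaf 923))))))))) (.node (.node (.node (.node (.node (.node (.node (.node (.node (.leaf 12) (.leaf 731)) (.leaf 281)) (.node (.node (.leaf 482) (.leaf 1298)) (.leaf 1074))) (.node (.node (.node (.leaf 58) (.leaf 1250)) (.leaf 864)) (.node (.leaf 662) (.leaf 1137)))) (.node (.node (.node (.node (.leaf 143) (.leaf 794)) (.leaf 901)) (.node (.node (.leaf 577) (.leaf 1317)) (.leaf 528))) (.node (.node (.node (.leaf 368) (.leaf 1297)) (.leaf 417)) (.node (.leaf 745) (.leaf 1146))))) (.node (.node (.node (.node (.node (.leaf 83) (.leaf 761)) (.leaf 296))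 (.node (.node (.leaf 532) (.leaf 1284)) (.leaf 486))) (.node (.node (.node (.leaf 312) (.leaf 1014)) (.leaf 451)) (.node (.leaf 220) (.leaf 620)))) (.node (.node (.node (.node (.leaf 41) (.leaf 874)) (.leaf 348)) (.node (.leaf 184) (.leaf 540))) (.node (.node (.node (.leaf 357) (.leaf 1154)) (.leaf 780)) (.node (.leaf 258) (.leaf 1179)))))) (.node (.node (.node (.node (.node (.node (.leaf 38) (.leaf 737)) (.leaf 654)) (.node (.node (.leaf 264) (.leaf 1282)) (.leaf 1083))) (.node (.node (.node (.leaf 189) (.leaf 1047)) (.leaf 928)) (.node (.leaf 601) (.leaf 822)))) (.node (.node (.node (.node (.leaf 172) (.leaf 1157)) (.leaf 336)) (.node (.node (.leaf 275) (.leaf 1352)) (.leaf 1114))) (.node (.node (.node (.leaf 340) (.leaf 1243)) (.leaf 428)) (.node (.leaf 772) (.leaf 751))))) (.node (.node (.node (.node (.node (.leaf 117) (.leaf 770)) (.leaf 362)) (.node (.node (.leaf 555) (.leaf 1272)) (.leaf 536))) (.node (.node (.node (.leaf 345) (.leaf 1267)) (.leaf 990)) (.node (.leaf 732) (.leaf 643)))) (.node (.node (.node (.node (.leaf 232) (.leaf 927)) (.leaf 936)) (.node (.leaf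 193) (.leaf 1113))) (.node (.node (.node (.leaf 376) (.leaf 1169)) (.leaf 959)) (.node (.leaf 445) (.leaf 885))))))) (.node (.node (.node (.node (.node (.node (.node (.leaf 30) (.leaf 728)) (.leaf 586)) (.node (.node (.leaf 495) (.leaf 1211)) (.leaf 470))) (.node (.node (.node (.leaf 63) (.leaf 1073)) (.leaf 833)) (.node (.leaf 206) (.leaf 1039)))) (.node (.node (.node (.node (.leaf 29) (.leaf 920)) (.leaf 522)) (.node (.node (.leaf 171) (.leaf 1339)) (.leaf 570))) (.node (.node (.node (.leaf 387) (.leaf 1070)) (.leaf 801)) (.node (.leaf 249) (.leaf 664))))) (.node (.node (.node (.node (.node (.leaf 14) (.leaf 1187)) (.leaf 607)) (.node (.node (.leaf 154) (.leaf 1322)) (.leaf 899))) (.node (.node (.node (.leaf 81) (.leaf 1198)) (.leaf 984)) (.node (.leaf 224) (.leaf 1152)))) (.node (.node (.node (.node (.leaf 219) (.leaf 1158)) (.leaf 356)) (.node (.leaf 562) (.leaf 1122))) (.node (.node (.node (.leaf 441) (.leaf 1310)) (.leaf 447)) (.node (.leaf 304) (.leaf 705)))))) (.node (.node (.node (.node (.node (.node (.leaf 68) (.leaf 1072)) (.leaf 516)) (.node (.node (.leaf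 149) (.leaf 1231)) (.leaf 1090))) (.node (.node (.node (.leaf 298) (.leaf 988)) (.leaf 389)) (.node (.leaf 695) (.leaf 800)))) (.node (.node (.node (.node (.leaf 37) (.leaf 850)) (.leaf 342)) (.node (.leaf 609) (.leaf 838))) (.node (.node (.node (.leaf 416) (.leaf 1121)) (.leaf 782)) (.node (.leaf 783) (.leaf 683))))) (.node (.node (.node (.node (.node (.leaf 130) (.leaf 1038)) (.leaf 842)) (.node (.node (.leaf 164) (.leaf 1338)) (.leaf 951))) (.node (.node (.node (.leaf 359) (.leaf 1222)) (.leaf 995)) (.node (.leaf 742) (.leaf 663)))) (.node (.node (.node (.node (.leaf 244) (.leaf 962)) (.leaf 945)) (.node (.leaf 198) (.leaf 660))) (.node (.node (.node (.leaf 125) (.leaf 1182)) (.leaf 460)) (.node (.leaf 597) (.leaf 785)))))))) (.node (.node (.node (.node (.node (.node (.node (.node (.leaf 22) (.leaf 836)) (.leaf 837)) (.node (.node (.leaf 488) (.leaf 1332)) (.leaf 1076))) (.node (.node (.node (.leaf 140) (.leaf 1130)) (.leaf 400)) (.node (.leaf 463) (.leaf 1139)))) (.node (.node (.node (.node (.leaf 145) (.leaf 798)) (.leaf 561)) (.node (.node (.leaf 585) (.leaf 1350))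 (.leaf 858))) (.node (.node (.node (.leaf 378) (.leaf 1210)) (.leaf 1009)) (.node (.leaf 648) (.leaf 1160))))) (.node (.node (.node (.node (.node (.leaf 18) (.leaf 763)) (.leaf 875)) (.node (.node (.leaf 543) (.leaf 1255)) (.leaf 491))) (.node (.node (.node (.leaf 316) (.leaf 1279)) (.leaf 591)) (.node (.leaf 616) (.leaf 1148)))) (.node (.node (.node (.node (.leaf 43) (.leaf 1247)) (.leaf 584)) (.node (.leaf 625) (.leaf 667))) (.node (.node (.node (.leaf 383) (.leaf 1150)) (.leaf 442)) (.node (.leaf 802) (.leaf 701)))))) (.node (.node (.node (.node (.node (.node (.leaf 6) (.leaf 997)) (.leaf 849)) (.node (.node (.leaf 142) (.leaf 1341)) (.leaf 1087))) (.node (.node (.node (.leaf 291) (.leaf 1048)) (.leaf 386)) (.node (.leaf 689) (.leaf 604)))) (.node (.node (.node (.node (.leaf 45) (.leaf 1131)) (.leaf 339)) (.node (.leaf 602) (.leaf 1005))) (.node (.node (.node (.leaf 407) (.leaf 1093)) (.leaf 430)) (.node (.leaf 778) (.leaf 1173))))) (.node (.node (.node (.node (.node (.leaf 96) (.leaf 773)) (.leaf 886)) (.node (.node (.leaf 161) (.leaf 1287)) (.leaf 914))) (.node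 (.node (.node (.leaf 108) (.leaf 1288)) (.leaf 992)) (.node (.leaf 231) (.leaf 880)))) (.node (.node (.node (.node (.leaf 195) (.leaf 919)) (.leaf 360)) (.node (.leaf 208) (.leaf 566))) (.node (.node (.node (.leaf 123) (.leaf 1176)) (.leaf 1055)) (.node (.leaf 496) (.leaf 1186))))))) (.node (.node (.node (.node (.node (.node (.node (.leaf 42) (.leaf 1082)) (.leaf 848)) (.node (.node (.leaf 137) (.leaf 1340)) (.leaf 730))) (.node (.node (.node (.leaf 278) (.leaf 1166)) (.leaf 530)) (.node (.leaf 240) (.leaf 593)))) (.node (.node (.node (.node (.leaf 32) (.leaf 816)) (.leaf 844)) (.node (.node (.leaf 173) (.leaf 1347)) (.leaf 559))) (.node (.node (.node (.leaf 394) (.leaf 1075)) (.leaf 615)) (.node (.leaf 247) (.leaf 669))))) (.node (.node (.node (.node (.node (.leaf 16) (.leaf 1226)) (.leaf 323)) (.node (.node (.leaf 369) (.leaf 1351)) (.leaf 501))) (.node (.node (.node (.leaf 337) (.leaf 1194)) (.leaf 404)) (.node (.leaf 726) (.leaf 953)))) (.node (.node (.node (.node (.leaf 223) (.leaf 964)) (.leaf 429)) (.node (.leaf 285) (.leaf 552))) (.node (.node (.node (.leaf 120)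 (.leaf 1321)) (.leaf 699)) (.node (.leaf 321) (.leaf 709)))))) (.node (.node (.node (.node (.node (.node (.leaf 10) (.leaf 759)) (.leaf 295)) (.node (.node (.leaf 148) (.leaf 1258)) (.leaf 1094))) (.node (.node (.node (.leaf 75) (.leaf 1274)) (.leaf 392)) (.node (.leaf 700) (.leaf 1145)))) (.node (.node (.node (.node (.leaf 40) (.leaf 1100)) (.leaf 344)) (.node (.leaf 180) (.leaf 535))) (.node (.node (.node (.leaf 353) (.leaf 1237)) (.leaf 504)) (.node (.leaf 792) (.leaf 690))))) (.node (.node (.node (.node (.node (.leaf 24) (.leaf 1023)) (.leaf 327)) (.node (.node (.leaf 567) (.leaf 1305)) (.leaf 905))) (.node (.node (.node (.leaf 311) (.leaf 1060)) (.leaf 777)) (.node (.leaf 239) (.leaf 753)))) (.node (.node (.node (.node (.leaf 107) (.leaf 1254)) (.leaf 365)) (.node (.leaf 571) (.leaf 1111))) (.node (.node (.node (.leaf 475) (.leaf 1333)) (.leaf 464)) (.node (.leaf 612) (.leaf 720))))))))))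

/-- Part of a table. -/
noncomputable def lineOrbNext3R : BTree := (.node (.node (.node (.node (.node (.node (.node (.node (.node (.node (.leaf 8) (.leaf 803)) (.leaf 829)) (.node (.node (.leaf 483) (.leaf 1195)) (.leaf 755))) (.node (.node (.node (.leaf 256) (.leaf 1257)) (.leaf 371)) (.node (.leaf 461) (.leaf 576)))) (.node (.node (.node (.node (.leaf 115) (.leaf 1235)) (.leaf 322)) (.node (.node (.leaf 494) (.leaf 1357)) (.leaf 650))) (.node (.node (.node (.leaf 370) (.leaf 1217)) (.leaf 1002)) (.node (.leaf 665) (.leaf 1136))))) (.node (.node (.node (.node (.node (.leaf 76) (.leaf 1207)) (.leaf 812)) (.node (.node (.leaf 517) (.leaf 1251)) (.leaf 714))) (.node (.node (.node (.leaf 310) (.leaf 1008)) (.leaf 691)) (.node (.leaf 706) (.leaf 1129)))) (.node (.node (.node (.node (.leaf 200) (.leaf 1242)) (.leaf 346)) (.node (.leaf 222) (.leaf 815))) (.node (.node (.node (.leaf 424) (.leaf 1143)) (.leaf 1042)) (.node (.leaf 796) (.leaf 696)))))) (.node (.node (.node (.node (.node (.node (.leaf 49) (.leaf 736)) (.leaf 853)) (.node (.node (.leaf 503) (.leaf 1218)) (.leaf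 1018))) (.node (.node (.node (.leaf 70) (.leaf 1266)) (.leaf 381)) (.node (.leaf 680) (.leaf 596)))) (.node (.node (.node (.node (.leaf 170) (.leaf 1103)) (.leaf 910)) (.node (.node (.leaf 174) (.leaf 1361)) (.leaf 534))) (.node (.node (.node (.leaf 399) (.leaf 1233)) (.leaf 1024)) (.node (.leaf 248) (.leaf 991))))) (.node (.node (.node (.node (.node (.leaf 17) (.leaf 1162)) (.leaf 582)) (.node (.node (.leaf 159) (.leaf 1271)) (.leaf 811))) (.node (.node (.node (.leaf 341) (.leaf 1040)) (.leaf 406)) (.node (.leaf 733) (.leaf 634)))) (.node (.node (.node (.node (.leaf 48) (.leaf 898)) (.leaf 358)) (.node (.leaf 302) (.leaf 1104))) (.node (.node (.node (.leaf 448) (.leaf 1265)) (.leaf 958)) (.node (.leaf 373) (.leaf 710))))))) (.node (.node (.node (.node (.node (.node (.node (.leaf 31) (.leaf 729)) (.leaf 637)) (.node (.node (.leaf 493) (.leaf 1300)) (.leaf 702))) (.node (.node (.node (.leaf 270) (.leaf 1161)) (.leaf 377)) (.node (.leaf 671) (.leaf 830)))) (.node (.node (.node (.node (.leaf 156) (.leaf 1239)) (.leaf 326)) (.node (.node (.leaf 589) (.leaf 1337)) (.leaf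 525))) (.node (.node (.node (.leaf 384) (.leaf 1071)) (.leaf 421)) (.node (.leaf 757) (.leaf 748))))) (.node (.node (.node (.node (.node (.leaf 98) (.leaf 1219)) (.leaf 640)) (.node (.node (.leaf 548) (.leaf 1262)) (.leaf 539))) (.node (.node (.node (.leaf 325) (.leaf 1200)) (.leaf 957)) (.node (.leaf 355) (.leaf 624)))) (.node (.node (.node (.node (.leaf 44) (.leaf 929)) (.leaf 925)) (.node (.leaf 632) (.leaf 549))) (.node (.node (.node (.leaf 141) (.leaf 1153)) (.leaf 450)) (.node (.leaf 741) (.leaf 703)))))) (.node (.node (.node (.node (.node (.node (.leaf 7) (.leaf 867)) (.leaf 292)) (.node (.node (.leaf 514) (.leaf 1342)) (.leaf 1092))) (.node (.node (.node (.leaf 299) (.leaf 1273)) (.leaf 449)) (.node (.leaf 692) (.leaf 687)))) (.node (.node (.node (.node (.leaf 187) (.leaf 882)) (.leaf 402)) (.node (.leaf 178) (.leaf 1117))) (.node (.node (.node (.leaf 412) (.leaf 1276)) (.leaf 1033)) (.node (.leaf 743) (.leaf 1175))))) (.node (.node (.node (.node (.node (.leaf 128) (.leaf 779)) (.leaf 317)) (.node (.node (.leaf 564) (.leaf 1353)) (.leaf 509))) (.node (.node (.node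 (.leaf 111) (.leaf 1056)) (.leaf 411)) (.node (.leaf 234) (.leaf 942)))) (.node (.node (.node (.node (.leaf 197) (.leaf 926)) (.leaf 579)) (.node (.leaf 649) (.leaf 651))) (.node (.node (.node (.leaf 458) (.leaf 1177)) (.leaf 1058)) (.node (.leaf 595) (.leaf 1037)))))))) (.node (.node (.node (.node (.node (.node (.node (.node (.leaf 19) (.leaf 725)) (.leaf 289)) (.node (.node (.leaf 443) (.leaf 1280)) (.leaf 1078))) (.node (.node (.node (.leaf 263) (.leaf 1106)) (.leaf 395)) (.node (.leaf 666) (.leaf 578)))) (.node (.node (.node (.node (.leaf 147) (.leaf 1238)) (.leaf 903)) (.node (.node (.leaf 169) (.leaf 1360)) (.leaf 518))) (.node (.node (.node (.leaf 121) (.leaf 1299)) (.leaf 1006)) (.node (.leaf 647) (.leaf 1107))))) (.node (.node (.node (.node (.node (.leaf 90) (.leaf 764)) (.leaf 873)) (.node (.node (.leaf 151) (.leaf 1346)) (.leaf 688))) (.node (.node (.node (.leaf 79) (.leaf 1013)) (.leaf 979)) (.node (.leaf 713) (.leaf 724)))) (.node (.node (.node (.node (.leaf 175) (.leaf 876)) (.leaf 351)) (.node (.leaf 226) (.leaf 544))) (.node (.node (.node (.leaf 437)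 (.leaf 1149)) (.leaf 489)) (.node (.leaf 259) (.leaf 1046)))))) (.node (.node (.node (.node (.node (.node (.leaf 56) (.leaf 996)) (.leaf 860)) (.node (.node (.leaf 440) (.leaf 1224)) (.leaf 1088))) (.node (.node (.node (.leaf 282) (.leaf 982)) (.leaf 968)) (.node (.leaf 605) (.leaf 824)))) (.node (.node (.node (.node (.leaf 179) (.leaf 832)) (.leaf 506)) (.node (.leaf 177) (.leaf 529))) (.node (.node (.node (.leaf 343) (.leaf 1246)) (.leaf 1029)) (.node (.leaf 420) (.leaf 1171))))) (.node (.node (.node (.node (.node (.leaf 119) (.leaf 1077)) (.leaf 315)) (.node (.node (.leaf 560) (.leaf 1278)) (.leaf 912))) (.node (.node (.node (.leaf 349) (.leaf 1053)) (.leaf 408)) (.node (.leaf 229) (.leaf 879)))) (.node (.node (.node (.node (.leaf 50) (.leaf 976)) (.leaf 884)) (.node (.leaf 497) (.leaf 1010))) (.node (.node (.node (.leaf 459) (.leaf 1328)) (.leaf 457)) (.node (.leaf 814) (.leaf 1189))))))) (.node (.node (.node (.node (.node (.node (.node (.leaf 39) (.leaf 1017)) (.leaf 841)) (.node (.node (.leaf 237) (.leaf 1293)) (.leaf 931))) (.node (.node (.node (.leaf 233) (.leaf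 973)) (.leaf 379)) (.node (.leaf 332) (.leaf 704)))) (.node (.node (.node (.node (.leaf 163) (.leaf 1127)) (.leaf 329)) (.node (.node (.leaf 203) (.leaf 1345)) (.leaf 556))) (.node (.node (.node (.leaf 391) (.leaf 1304)) (.leaf 1019)) (.node (.leaf 385) (.leaf 1165))))) (.node (.node (.node (.node (.node (.leaf 86) (.leaf 767)) (.leaf 588)) (.node (.node (.leaf 155) (.leaf 1264)) (.leaf 744))) (.node (.node (.node (.leaf 334) (.leaf 1032)) (.leaf 603)) (.node (.leaf 622) (.leaf 967)))) (.node (.node (.node (.node (.leaf 47) (.leaf 893)) (.leaf 924)) (.node (.leaf 638) (.leaf 1128))) (.node (.node (.node (.leaf 269) (.leaf 1295)) (.leaf 971)) (.node (.leaf 265) (.leaf 854)))))) (.node (.node (.node (.node (.node (.node (.leaf 74) (.leaf 1205)) (.leaf 480)) (.node (.node (.leaf 366) (.leaf 1312)) (.leaf 1095))) (.node (.node (.node (.leaf 303) (.leaf 1275)) (.leaf 974)) (.node (.leaf 216) (.leaf 617)))) (.node (.node (.node (.node (.leaf 51) (.leaf 857)) (.leaf 405)) (.node (.leaf 181) (.leaf 1036))) (.node (.node (.node (.leaf 251) (.leaf 1236)) (.leaf 433)) (.node (.leaf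 255) (.leaf 740))))) (.node (.node (.node (.node (.node (.leaf 64) (.leaf 787)) (.leaf 892)) (.node (.node (.leaf 569) (.leaf 1302)) (.leaf 513))) (.node (.node (.node (.leaf 146) (.leaf 1059)) (.leaf 998)) (.node (.leaf 498) (.leaf 681)))) (.node (.node (.node (.node (.leaf 250) (.leaf 1253)) (.leaf 521)) (.node (.leaf 657) (.leaf 1133))) (.node (.node (.node (.leaf 127) (.leaf 1188)) (.leaf 1064)) (.node (.leaf 825) (.leaf 835))))))))) (.node (.node (.node (.node (.node (.node (.node (.node (.node (.leaf 15) (.leaf 784)) (.leaf 831)) (.node (.node (.leaf 485) (.leaf 1204)) (.leaf 467))) (.node (.node (.node (.leaf 260) (.leaf 944)) (.leaf 946)) (.node (.leaf 202) (.leaf 810)))) (.node (.node (.node (.node (.leaf 27) (.leaf 1124)) (.leaf 633)) (.node (.node (.leaf 558) (.leaf 1358)) (.leaf 1021))) (.node (.node (.node (.leaf 118) (.leaf 1065)) (.leaf 1004)) (.node (.leaf 674) (.leaf 655))))) (.node (.node (.node (.node (.node (.leaf 11) (.leaf 1213)) (.leaf 871)) (.node (.node (.leaf 150) (.leaf 1252)) (.leaf 1025))) (.node (.node (.node (.leaf 77) (.leaf 1066)) (.leaf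 396)) (.node (.leaf 708) (.leaf 781)))) (.node (.node (.node (.node (.leaf 204) (.leaf 1244)) (.leaf 352)) (.node (.leaf 425) (.leaf 1049))) (.node (.node (.node (.leaf 432) (.leaf 1313)) (.leaf 439)) (.node (.leaf 257) (.leaf 698)))))) (.node (.node (.node (.node (.node (.node (.leaf 5) (.leaf 747)) (.leaf 856)) (.node (.node (.leaf 338) (.leaf 1221)) (.leaf 1085))) (.node (.node (.node (.leaf 69) (.leaf 981)) (.leaf 628)) (.node (.leaf 212) (.leaf 823)))) (.node (.node (.node (.node (.leaf 34) (.leaf 965)) (.leaf 505)) (.node (.node (.leaf 598) (.leaf 1363)) (.leaf 656))) (.node (.node (.node (.leaf 103) (.leaf 1089)) (.leaf 932)) (.node (.leaf 771) (.leaf 677))))) (.node (.node (.node (.node (.node (.leaf 93) (.leaf 1230)) (.leaf 367)) (.node (.node (.leaf 331) (.leaf 1336)) (.leaf 911))) (.node (.node (.node (.leaf 85) (.leaf 1051)) (.leaf 673)) (.node (.leaf 652) (.leaf 839)))) (.node (.node (.node (.node (.leaf 65) (.leaf 902)) (.leaf 940)) (.node (.leaf 641) (.leaf 904))) (.node (.node (.node (.leaf 455) (.leaf 1202)) (.leaf 769)) (.node (.leaf 375) (.leaf 896)))))))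 (.node (.node (.node (.node (.node (.node (.node (.leaf 35) (.leaf 1199)) (.leaf 287)) (.node (.node (.leaf 135) (.leaf 1291)) (.leaf 1081))) (.node (.node (.node (.leaf 272) (.leaf 1007)) (.leaf 889)) (.node (.leaf 645) (.leaf 619)))) (.node (.node (.node (.node (.leaf 158) (.leaf 1135)) (.leaf 328)) (.node (.node (.leaf 307) (.leaf 1343)) (.leaf 524))) (.node (.node (.node (.leaf 333) (.leaf 1303)) (.leaf 423)) (.node (.leaf 245) (.leaf 749))))) (.node (.node (.node (.node (.node (.leaf 102) (.leaf 1223)) (.leaf 306)) (.node (.node (.leaf 153) (.leaf 1348)) (.leaf 817))) (.node (.node (.node (.leaf 330) (.leaf 1281)) (.leaf 986)) (.node (.leaf 716) (.leaf 1151)))) (.node (.node (.node (.node (.leaf 126) (.leaf 1110)) (.leaf 907)) (.node (.leaf 188) (.leaf 550))) (.node (.node (.node (.leaf 116) (.leaf 1228)) (.leaf 1043)) (.node (.leaf 806) (.leaf 852)))))) (.node (.node (.node (.node (.node (.node (.leaf 67) (.leaf 1203)) (.leaf 809)) (.node (.node (.leaf 519) (.leaf 1307)) (.leaf 868))) (.node (.node (.node (.leaf 301) (.leaf 994)) (.leaf 870)) (.node (.leaf 697)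 (.leaf 1020)))) (.node (.node (.node (.node (.leaf 192) (.leaf 1183)) (.leaf 685)) (.node (.leaf 608) (.leaf 808))) (.node (.node (.node (.leaf 106) (.leaf 1234)) (.leaf 1026)) (.node (.leaf 254) (.leaf 684))))) (.node (.node (.node (.node (.node (.leaf 132) (.leaf 786)) (.leaf 382)) (.node (.node (.leaf 565) (.leaf 1354)) (.leaf 511))) (.node (.node (.node (.leaf 89) (.leaf 1290)) (.leaf 750)) (.node (.leaf 261) (.leaf 672)))) (.node (.node (.node (.node (.leaf 246) (.leaf 1220)) (.leaf 520)) (.node (.leaf 653) (.leaf 583))) (.node (.node (.node (.leaf 221) (.leaf 1181)) (.leaf 1062)) (.node (.leaf 599) (.leaf 717)))))))) (.node (.node (.node (.node (.node (.node (.node (.node (.leaf 25) (.leaf 756)) (.leaf 283)) (.node (.node (.leaf 133) (.leaf 1334)) (.leaf 711))) (.node (.node (.node (.leaf 267) (.leaf 980)) (.leaf 453)) (.node (.leaf 205) (.leaf 581)))) (.node (.node (.node (.node (.leaf 152) (.leaf 797)) (.leaf 891)) (.node (.node (.leaf 574) (.leaf 1326)) (.leaf 947))) (.node (.node (.node (.leaf 380) (.leaf 1067)) (.leaf 775)) (.node (.leaf 243) (.leaf 941)))))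 (.node (.node (.node (.node (.node (.leaf 13) (.leaf 1216)) (.leaf 300)) (.node (.node (.leaf 542) (.leaf 1319)) (.leaf 492))) (.node (.node (.node (.leaf 320) (.leaf 1015)) (.leaf 452)) (.node (.leaf 715) (.leaf 623)))) (.node (.node (.node (.node (.leaf 211) (.leaf 1101)) (.leaf 718)) (.node (.leaf 186) (.leaf 547))) (.node (.node (.node (.leaf 438) (.leaf 1318)) (.leaf 473)) (.node (.leaf 804) (.leaf 1164)))))) (.node (.node (.node (.node (.node (.node (.leaf 60) (.leaf 1170)) (.leaf 862)) (.node (.node (.leaf 512) (.leaf 1227)) (.leaf 479))) (.node (.node (.node (.leaf 293) (.leaf 985)) (.leaf 954)) (.node (.leaf 214) (.leaf 1142)))) (.node (.node (.node (.node (.leaf 36) (.leaf 894)) (.leaf 507)) (.node (.leaf 213) (.leaf 1116))) (.node (.node (.node (.leaf 104) (.leaf 1097)) (.leaf 431)) (.node (.leaf 415) (.leaf 752))))) (.node (.node (.node (.node (.node (.leaf 124) (.leaf 1232)) (.leaf 318)) (.node (.node (.leaf 190) (.leaf 1327)) (.leaf 915))) (.node (.node (.node (.leaf 88) (.leaf 1057)) (.leaf 410)) (.node (.leaf 739) (.leaf 826)))) (.node (.node (.node (.node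 (.leaf 53) (.leaf 1249)) (.leaf 943)) (.node (.leaf 499) (.leaf 568))) (.node (.node (.node (.leaf 462) (.leaf 1329)) (.leaf 1054)) (.node (.leaf 273) (.leaf 1191))))))) (.node (.node (.node (.node (.node (.node (.node (.leaf 3) (.leaf 906)) (.leaf 288)) (.node (.node (.leaf 500) (.leaf 1261)) (.leaf 474))) (.node (.node (.node (.leaf 66) (.leaf 1215)) (.leaf 963)) (.node (.leaf 209) (.leaf 819)))) (.node (.node (.node (.node (.leaf 165) (.leaf 1105)) (.leaf 678)) (.node (.node (.leaf 456) (.leaf 1359)) (.leaf 820))) (.node (.node (.node (.leaf 100) (.leaf 1306)) (.leaf 1016)) (.node (.leaf 390) (.leaf 975))))) (.node (.node (.node (.node (.node (.leaf 109) (.leaf 1225)) (.leaf 846)) (.node (.node (.leaf 157) (.leaf 1335)) (.leaf 865))) (.node (.node (.node (.leaf 101) (.leaf 1035)) (.leaf 921)) (.node (.leaf 727) (.leaf 631)))) (.node (.node (.node (.node (.leaf 185) (.leaf 1099)) (.leaf 935)) (.node (.leaf 563) (.leaf 949))) (.node (.node (.node (.leaf 446) (.leaf 1263)) (.leaf 978)) (.node (.leaf 266) (.leaf 1163)))))) (.node (.node (.node (.node (.node (.node (.leaf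 9) (.leaf 758)) (.leaf 294)) (.node (.node (.leaf 523) (.leaf 1308)) (.leaf 484))) (.node (.node (.node (.leaf 305) (.leaf 1115)) (.leaf 393)) (.node (.leaf 471) (.leaf 1138)))) (.node (.node (.node (.node (.leaf 136) (.leaf 863)) (.leaf 554)) (.node (.leaf 613) (.leaf 1119))) (.node (.node (.node (.leaf 110) (.leaf 1126)) (.leaf 436)) (.node (.leaf 791) (.leaf 977))))) (.node (.node (.node (.node (.node (.leaf 138) (.leaf 790)) (.leaf 895)) (.node (.node (.leaf 572) (.leaf 1355)) (.leaf 515))) (.node (.node (.node (.leaf 92) (.leaf 1167)) (.leaf 1001)) (.node (.leaf 746) (.leaf 754)))) (.node (.node (.node (.node (.leaf 253) (.leaf 939)) (.leaf 372)) (.node (.leaf 230) (.leaf 575))) (.node (.node (.node (.leaf 477) (.leaf 1190)) (.leaf 1069)) (.node (.leaf 827) (.leaf 1086))))))))))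

/-- A table. -/
noncomputable def lineOrbNext3 : BTree := .node lineOrbNext3L lineOrbNext3R

/-- Part of a table. -/
noncomputable def lineOrbNext4L : BTree := (.node (.node (.node (.node (.node (.node (.node (.node (.node (.node (.leaf 2) (.leaf 950)) (.leaf 638)) (.node (.node (.leaf 481) (.leaf 1192)) (.leaf 1070))) (.node (.node (.node (.leaf 253) (.leaf 1254)) (.leaf 803)) (.node (.leaf 310) (.leaf 963)))) (.node (.node (.node (.node (.leaf 139) (.leaf 1122)) (.leaf 888)) (.node (.node (.leaf 574) (.leaf 1316)) (.leaf 524))) (.node (.node (.node (.leaf 311) (.leaf 1295)) (.leaf 417)) (.node (.leaf 744) (.leaf 961))))) (.node (.node (.node (.node (.node (.leaf 10) (.leaf 759)) (.leaf 295)) (.node (.node (.leaf 150) (.leaf 1309)) (.leaf 486))) (.node (.node (.node (.leaf 306) (.leaf 1010)) (.leaf 393)) (.node (.leaf 219) (.leaf 716)))) (.node (.node (.node (.node (.leaf 54) (.leaf 872)) (.leaf 345)) (.node (.leaf 613) (.leaf 838))) (.node (.node (.node (.leaf 423) (.leaf 1240)) (.leaf 1039)) (.node (.leaf 543) (.leaf 977)))))) (.node (.node (.node (.node (.node (.node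 (.leaf 36) (.leaf 1084)) (.leaf 844)) (.node (.node (.leaf 267) (.leaf 1339)) (.leaf 930))) (.node (.node (.node (.leaf 67) (.leaf 1264)) (.leaf 380)) (.node (.leaf 209) (.leaf 594)))) (.node (.node (.node (.node (.leaf 166) (.leaf 852)) (.leaf 392)) (.node (.node (.leaf 595) (.leaf 1360)) (.leaf 808))) (.node (.node (.node (.leaf 100) (.leaf 1306)) (.leaf 927)) (.node (.leaf 767) (.leaf 670))))) (.node (.node (.node (.node (.node (.leaf 114) (.leaf 1228)) (.leaf 653)) (.node (.node (.leaf 164) (.leaf 1269)) (.leaf 1102))) (.node (.node (.node (.leaf 340) (.leaf 1284)) (.leaf 706)) (.node (.leaf 731) (.leaf 786)))) (.node (.node (.node (.node (.leaf 229) (.leaf 897)) (.leaf 938)) (.node (.leaf 533) (.leaf 1129))) (.node (.node (.node (.leaf 374) (.leaf 1168)) (.leaf 957)) (.node (.leaf 502) (.leaf 712))))))) (.node (.node (.node (.node (.node (.node (.node (.leaf 29) (.leaf 727)) (.leaf 826)) (.node (.node (.leaf 492) (.leaf 1209)) (.leaf 469))) (.node (.node (.node (.leaf 269) (.leaf 1259)) (.leaf 454)) (.node (.leaf 592) (.leaf 940)))) (.node (.node (.node (.node (.leaf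 155) (.leaf 1144)) (.leaf 366)) (.node (.node (.leaf 198) (.leaf 1338)) (.leaf 1107))) (.node (.node (.node (.leaf 383) (.leaf 1068)) (.leaf 1008)) (.node (.leaf 247) (.leaf 1162))))) (.node (.node (.node (.node (.node (.leaf 20) (.leaf 1218)) (.leaf 302)) (.node (.node (.leaf 546) (.leaf 1320)) (.leaf 848))) (.node (.node (.node (.leaf 318) (.leaf 1280)) (.leaf 983)) (.node (.leaf 621) (.leaf 623)))) (.node (.node (.node (.node (.leaf 216) (.leaf 1025)) (.leaf 354)) (.node (.leaf 186) (.leaf 1120))) (.node (.node (.node (.leaf 438) (.leaf 1317)) (.leaf 448)) (.node (.leaf 742) (.leaf 703)))))) (.node (.node (.node (.node (.node (.node (.leaf 63) (.leaf 986)) (.leaf 863)) (.node (.node (.leaf 147) (.leaf 1304)) (.leaf 875))) (.node (.node (.node (.leaf 297) (.leaf 1270)) (.leaf 775)) (.node (.leaf 214) (.leaf 685)))) (.node (.node (.node (.node (.leaf 47) (.leaf 894)) (.leaf 917)) (.node (.leaf 607) (.leaf 1118))) (.node (.node (.node (.leaf 104) (.leaf 1248)) (.leaf 431)) (.node (.leaf 418) (.leaf 1174))))) (.node (.node (.node (.node (.node (.leaf 127) (.leaf 1006))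 (.leaf 882)) (.node (.node (.leaf 163) (.leaf 1290)) (.leaf 1046))) (.node (.node (.node (.leaf 110) (.leaf 1287)) (.leaf 993)) (.node (.leaf 591) (.leaf 943)))) (.node (.node (.node (.node (.leaf 196) (.leaf 1096)) (.leaf 651)) (.node (.leaf 242) (.leaf 576))) (.node (.node (.node (.leaf 466) (.leaf 1330)) (.leaf 459)) (.node (.leaf 274) (.leaf 715)))))))) (.node (.node (.node (.node (.node (.node (.node (.node (.leaf 18) (.leaf 1035)) (.leaf 283)) (.node (.node (.leaf 485) (.leaf 1200)) (.leaf 1074))) (.node (.node (.node (.leaf 60) (.leaf 945)) (.leaf 449)) (.node (.leaf 202) (.leaf 577)))) (.node (.node (.node (.node (.leaf 143) (.leaf 1125)) (.leaf 628)) (.node (.node (.leaf 571) (.leaf 1348)) (.leaf 732))) (.node (.node (.node (.leaf 120) (.leaf 1298)) (.leaf 778)) (.node (.leaf 646) (.leaf 655))))) (.node (.node (.node (.node (.node (.leaf 16) (.leaf 762)) (.leaf 299)) (.node (.node (.leaf 538) (.leaf 1344)) (.leaf 878))) (.node (.node (.node (.leaf 304) (.leaf 1012)) (.leaf 396)) (.node (.leaf 709) (.leaf 723)))) (.node (.node (.node (.node (.leaf 208) (.leaf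 1091)) (.leaf 406)) (.node (.leaf 225) (.leaf 542))) (.node (.node (.node (.leaf 436) (.leaf 1148)) (.leaf 510)) (.node (.leaf 258) (.leaf 913)))))) (.node (.node (.node (.node (.node (.node (.leaf 40) (.leaf 1133)) (.leaf 859)) (.node (.node (.leaf 141) (.leaf 1222)) (.leaf 874))) (.node (.node (.node (.leaf 70) (.leaf 1268)) (.leaf 561)) (.node (.leaf 684) (.leaf 997)))) (.node (.node (.node (.node (.leaf 43) (.leaf 842)) (.leaf 914)) (.node (.node (.leaf 176) (.leaf 1364)) (.leaf 1104))) (.node (.node (.node (.leaf 342) (.leaf 1245)) (.leaf 933)) (.node (.leaf 250) (.leaf 677))))) (.node (.node (.node (.node (.node (.leaf 118) (.leaf 1231)) (.leaf 314)) (.node (.node (.leaf 491) (.leaf 1286)) (.leaf 1100))) (.node (.node (.node (.leaf 85) (.leaf 1187)) (.leaf 991)) (.node (.leaf 228) (.leaf 827)))) (.node (.node (.node (.node (.leaf 49) (.leaf 1241)) (.leaf 580)) (.node (.leaf 642) (.leaf 630))) (.node (.node (.node (.leaf 458) (.leaf 1172)) (.leaf 1051)) (.node (.leaf 271) (.leaf 1188))))))) (.node (.node (.node (.node (.node (.node (.node (.leaf 38) (.leaf 1099))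 (.leaf 832)) (.node (.node (.leaf 498) (.leaf 1213)) (.leaf 707))) (.node (.node (.node (.leaf 273) (.leaf 972)) (.leaf 378)) (.node (.leaf 676) (.leaf 1141)))) (.node (.node (.node (.node (.leaf 159) (.leaf 820)) (.leaf 379)) (.node (.node (.leaf 233) (.leaf 1356)) (.leaf 528))) (.node (.node (.node (.leaf 390) (.leaf 1072)) (.leaf 928)) (.node (.leaf 763) (.leaf 1164))))) (.node (.node (.node (.node (.node (.leaf 106) (.leaf 1224)) (.leaf 317)) (.node (.node (.leaf 154) (.leaf 1349)) (.leaf 1043))) (.node (.node (.node (.leaf 333) (.leaf 1282)) (.leaf 404)) (.node (.leaf 620) (.leaf 904)))) (.node (.node (.node (.node (.leaf 46) (.leaf 892)) (.leaf 428)) (.node (.leaf 636) (.leaf 791))) (.node (.node (.node (.leaf 442) (.leaf 1161)) (.leaf 954)) (.node (.leaf 264) (.leaf 923)))))) (.node (.node (.node (.node (.node (.node (.leaf 73) (.leaf 1147)) (.leaf 866)) (.node (.node (.leaf 511) (.leaf 1311)) (.leaf 483))) (.node (.node (.node (.leaf 301) (.leaf 1274)) (.leaf 777)) (.node (.leaf 698) (.leaf 618)))) (.node (.node (.node (.node (.leaf 193) (.leaf 1117)) (.leaf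 403)) (.node (.leaf 179) (.leaf 641))) (.node (.node (.node (.leaf 107) (.leaf 1235)) (.leaf 836)) (.node (.leaf 789) (.leaf 686))))) (.node (.node (.node (.node (.node (.leaf 132) (.leaf 1040)) (.leaf 891)) (.node (.node (.leaf 555) (.leaf 1340)) (.leaf 521))) (.node (.node (.node (.leaf 89) (.leaf 1058)) (.leaf 995)) (.node (.leaf 262) (.leaf 751)))) (.node (.node (.node (.node (.leaf 249) (.leaf 1252)) (.leaf 364)) (.node (.leaf 656) (.leaf 1132))) (.node (.node (.node (.leaf 126) (.leaf 1201)) (.leaf 669)) (.node (.leaf 397) (.leaf 738))))))))) (.node (.node (.node (.node (.node (.node (.node (.node (.node (.leaf 0) (.leaf 733)) (.leaf 286)) (.node (.node (.leaf 484) (.leaf 1196)) (.leaf 465))) (.node (.node (.node (.leaf 259) (.leaf 1193)) (.leaf 372)) (.node (.leaf 663) (.leaf 1131)))) (.node (.node (.node (.node (.leaf 25) (.leaf 1126)) (.leaf 861)) (.node (.node (.leaf 570) (.leaf 1346)) (.leaf 657))) (.node (.node (.node (.leaf 371) (.leaf 1064)) (.leaf 688)) (.node (.leaf 545) (.leaf 1130))))) (.node (.node (.node (.node (.node (.leaf 14) (.leaf 1212)) (.leaf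 296)) (.node (.node (.leaf 526) (.leaf 1250)) (.leaf 718))) (.node (.node (.node (.leaf 303) (.leaf 1009)) (.leaf 394)) (.node (.leaf 472) (.leaf 784)))) (.node (.node (.node (.node (.leaf 203) (.leaf 1088)) (.leaf 350)) (.node (.leaf 616) (.leaf 540))) (.node (.node (.node (.leaf 357) (.leaf 1314)) (.leaf 1020)) (.node (.leaf 797) (.leaf 1179)))))) (.node (.node (.node (.node (.node (.node (.leaf 4) (.leaf 854)) (.leaf 846)) (.node (.node (.leaf 504) (.leaf 1220)) (.leaf 944))) (.node (.node (.node (.leaf 279) (.leaf 979)) (.leaf 907)) (.node (.leaf 211) (.leaf 596)))) (.node (.node (.node (.node (.leaf 41) (.leaf 839)) (.leaf 912)) (.node (.node (.leaf 174) (.leaf 1362)) (.leaf 1113))) (.node (.node (.node (.leaf 102) (.leaf 1243)) (.leaf 1027)) (.node (.leaf 248) (.leaf 675))))) (.node (.node (.node (.node (.node (.leaf 17) (.leaf 772)) (.leaf 363)) (.node (.node (.leaf 160) (.leaf 1272)) (.leaf 810))) (.node (.node (.node (.leaf 346) (.leaf 1173)) (.leaf 990)) (.node (.leaf 430) (.leaf 635)))) (.node (.node (.node (.node (.leaf 48) (.leaf 1082)) (.leaf 358)) (.node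 (.leaf 563) (.leaf 568))) (.node (.node (.node (.leaf 376) (.leaf 1266)) (.leaf 959)) (.node (.leaf 268) (.leaf 1184))))))) (.node (.node (.node (.node (.node (.node (.node (.leaf 32) (.leaf 1197)) (.leaf 830)) (.node (.node (.leaf 134) (.leaf 1336)) (.leaf 708))) (.node (.node (.node (.leaf 270) (.leaf 968)) (.leaf 841)) (.node (.leaf 674) (.leaf 1115)))) (.node (.node (.node (.node (.leaf 31) (.leaf 1142)) (.leaf 326)) (.node (.node (.leaf 230) (.leaf 1354)) (.leaf 1108))) (.node (.node (.node (.leaf 388) (.leaf 1301)) (.leaf 425)) (.node (.leaf 244) (.leaf 1163))))) (.node (.node (.node (.node (.node (.leaf 101) (.leaf 1221)) (.leaf 315)) (.node (.node (.leaf 549) (.leaf 1347)) (.leaf 818))) (.node (.node (.node (.leaf 327) (.leaf 1029)) (.leaf 683)) (.node (.leaf 719) (.leaf 624)))) (.node (.node (.node (.node (.leaf 44) (.leaf 962)) (.leaf 924)) (.node (.leaf 187) (.leaf 788))) (.node (.node (.node (.leaf 115) (.leaf 1310)) (.leaf 497)) (.node (.leaf 313) (.leaf 819)))))) (.node (.node (.node (.node (.node (.node (.leaf 7) (.leaf 966)) (.leaf 292)) (.node (.node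 (.leaf 515) (.leaf 1232)) (.leaf 1093))) (.node (.node (.node (.leaf 300) (.leaf 987)) (.leaf 971)) (.node (.leaf 695) (.leaf 615)))) (.node (.node (.node (.node (.leaf 190) (.leaf 887)) (.leaf 918)) (.node (.leaf 178) (.leaf 639))) (.node (.node (.node (.leaf 105) (.leaf 1155)) (.leaf 1037)) (.node (.leaf 781) (.leaf 1048))))) (.node (.node (.node (.node (.node (.leaf 131) (.leaf 1138)) (.leaf 322)) (.node (.node (.leaf 564) (.leaf 1352)) (.leaf 520))) (.node (.node (.node (.leaf 360) (.leaf 1057)) (.leaf 412)) (.node (.leaf 236) (.leaf 748)))) (.node (.node (.node (.node (.leaf 55) (.leaf 1023)) (.leaf 885)) (.node (.leaf 652) (.leaf 581))) (.node (.node (.node (.leaf 468) (.leaf 1180)) (.leaf 1060)) (.node (.leaf 275) (.leaf 743)))))))) (.node (.node (.node (.node (.node (.node (.node (.node (.leaf 23) (.leaf 726)) (.leaf 558)) (.node (.node (.leaf 444) (.leaf 1332)) (.leaf 1079))) (.node (.node (.node (.leaf 266) (.leaf 1086)) (.leaf 452)) (.node (.leaf 204) (.leaf 782)))) (.node (.node (.node (.node (.leaf 148) (.leaf 798)) (.leaf 903)) (.node (.node (.leaf 586)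 (.leaf 1350)) (.leaf 864))) (.node (.node (.node (.leaf 328) (.leaf 1300)) (.leaf 421)) (.node (.leaf 648) (.leaf 1050))))) (.node (.node (.node (.node (.node (.leaf 12) (.leaf 1214)) (.leaf 477)) (.node (.node (.leaf 151) (.leaf 1257)) (.leaf 567))) (.node (.node (.node (.leaf 80) (.leaf 1013)) (.leaf 825)) (.node (.leaf 223) (.leaf 1149)))) (.node (.node (.node (.node (.leaf 210) (.leaf 1090)) (.leaf 829)) (.node (.leaf 626) (.leaf 749))) (.node (.node (.node (.leaf 330) (.leaf 1152)) (.leaf 488)) (.node (.leaf 800) (.leaf 1081)))))) (.node (.node (.node (.node (.node (.node (.leaf 59) (.leaf 824)) (.leaf 291)) (.node (.node (.leaf 441) (.leaf 1225)) (.leaf 1089))) (.node (.node (.node (.leaf 288) (.leaf 984)) (.leaf 969)) (.node (.leaf 612) (.leaf 602)))) (.node (.node (.node (.node (.leaf 35) (.leaf 835)) (.leaf 915)) (.node (.leaf 212) (.leaf 1042))) (.node (.node (.node (.leaf 408) (.leaf 1247)) (.leaf 1030)) (.node (.leaf 251) (.leaf 981))))) (.node (.node (.node (.node (.node (.leaf 96) (.leaf 1230)) (.leaf 881)) (.node (.node (.leaf 384) (.leaf 1334)) (.leaf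 1045))) (.node (.node (.node (.leaf 87) (.leaf 1054)) (.leaf 409)) (.node (.leaf 232) (.leaf 1024)))) (.node (.node (.node (.node (.leaf 52) (.leaf 1098)) (.leaf 884)) (.node (.leaf 240) (.leaf 1003))) (.node (.node (.node (.leaf 461) (.leaf 1176)) (.leaf 457)) (.node (.leaf 496) (.leaf 713))))))) (.node (.node (.node (.node (.node (.node (.node (.leaf 34) (.leaf 1022)) (.leaf 290)) (.node (.node (.leaf 138) (.leaf 1217)) (.leaf 902))) (.node (.node (.node (.leaf 65) (.leaf 1262)) (.leaf 649)) (.node (.leaf 207) (.leaf 705)))) (.node (.node (.node (.node (.leaf 158) (.leaf 816)) (.leaf 381)) (.node (.node (.leaf 463) (.leaf 1358)) (.leaf 530))) (.node (.node (.node (.leaf 395) (.leaf 1078)) (.leaf 802)) (.node (.leaf 391) (.leaf 1167))))) (.node (.node (.node (.node (.node (.leaf 108) (.leaf 768)) (.leaf 518)) (.node (.node (.leaf 552) (.leaf 1265)) (.leaf 501))) (.node (.node (.node (.leaf 338) (.leaf 1033)) (.leaf 988)) (.node (.leaf 434) (.leaf 947)))) (.node (.node (.node (.node (.leaf 184) (.leaf 1011)) (.leaf 429)) (.node (.leaf 584) (.leaf 804))) (.node (.node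 (.node (.leaf 445) (.leaf 1166)) (.leaf 955)) (.node (.leaf 265) (.leaf 1080)))))) (.node (.node (.node (.node (.node (.node (.leaf 75) (.leaf 1206)) (.leaf 868)) (.node (.node (.leaf 514) (.leaf 1258)) (.leaf 1094))) (.node (.node (.node (.leaf 78) (.leaf 1001)) (.leaf 976)) (.node (.leaf 217) (.leaf 1143)))) (.node (.node (.node (.node (.leaf 195) (.leaf 856)) (.leaf 565)) (.node (.leaf 610) (.leaf 837))) (.node (.node (.node (.leaf 109) (.leaf 1237)) (.leaf 807)) (.node (.leaf 255) (.leaf 690))))) (.node (.node (.node (.node (.node (.leaf 137) (.leaf 1158)) (.leaf 320)) (.node (.node (.leaf 168) (.leaf 1342)) (.leaf 522))) (.node (.node (.node (.leaf 90) (.leaf 1062)) (.leaf 999)) (.node (.leaf 447) (.leaf 753)))) (.node (.node (.node (.node (.leaf 252) (.leaf 937)) (.leaf 512)) (.node (.leaf 659) (.leaf 1112))) (.node (.node (.node (.leaf 473) (.leaf 1189)) (.leaf 1067)) (.node (.leaf 740) (.leaf 1038))))))))))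

/-- Part of a table. -/
noncomputable def lineOrbNext4R : BTree := (.node (.node (.node (.node (.node (.node (.node (.node (.node (.node (.leaf 9) (.leaf 1128)) (.leaf 285)) (.node (.node (.leaf 129) (.leaf 1203)) (.leaf 1073))) (.node (.node (.node (.leaf 257) (.leaf 939)) (.leaf 860)) (.node (.leaf 455) (.leaf 1136)))) (.node (.node (.node (.node (.leaf 142) (.leaf 790)) (.leaf 900)) (.node (.node (.leaf 539) (.leaf 1319)) (.leaf 517))) (.node (.node (.node (.leaf 92) (.leaf 1294)) (.leaf 910)) (.node (.leaf 644) (.leaf 960))))) (.node (.node (.node (.node (.node (.leaf 79) (.leaf 1210)) (.leaf 450)) (.node (.node (.leaf 525) (.leaf 1249)) (.leaf 925))) (.node (.node (.node (.leaf 307) (.leaf 1277)) (.leaf 693)) (.node (.leaf 704) (.leaf 721)))) (.node (.node (.node (.node (.leaf 171) (.leaf 1083)) (.leaf 347)) (.node (.leaf 183) (.leaf 815))) (.node (.node (.node (.leaf 356) (.leaf 1313)) (.leaf 439)) (.node (.leaf 256) (.leaf 696)))))) (.node (.node (.node (.node (.node (.node (.leaf 50) (.leaf 1183)) (.leaf 845)) (.node (.node (.leaf 140) (.leaf 1219)) (.leaf 475)))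 (.node (.node (.node (.leaf 281) (.leaf 975)) (.leaf 834)) (.node (.leaf 681) (.leaf 996)))) (.node (.node (.node (.node (.leaf 167) (.leaf 855)) (.leaf 911)) (.node (.node (.leaf 597) (.leaf 1361)) (.leaf 527))) (.node (.node (.node (.leaf 400) (.leaf 1305)) (.leaf 929)) (.node (.leaf 770) (.leaf 992))))) (.node (.node (.node (.node (.node (.leaf 116) (.leaf 769)) (.leaf 660)) (.node (.node (.leaf 165) (.leaf 1271)) (.leaf 811))) (.node (.node (.node (.leaf 103) (.leaf 1276)) (.leaf 989)) (.node (.leaf 227) (.leaf 1156)))) (.node (.node (.node (.node (.leaf 231) (.leaf 1021)) (.leaf 935)) (.node (.leaf 487) (.leaf 566))) (.node (.node (.node (.leaf 375) (.leaf 1326)) (.leaf 958)) (.node (.leaf 746) (.leaf 1186))))))) (.node (.node (.node (.node (.node (.node (.node (.leaf 1) (.leaf 1198)) (.leaf 828)) (.node (.node (.leaf 494) (.leaf 1207)) (.leaf 668))) (.node (.node (.node (.leaf 62) (.leaf 1260)) (.leaf 654)) (.node (.leaf 672) (.leaf 585)))) (.node (.node (.node (.node (.leaf 28) (.leaf 1239)) (.leaf 905)) (.node (.node (.leaf 199) (.leaf 1353)) (.leaf 650))) (.node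 (.node (.node (.leaf 331) (.leaf 1302)) (.leaf 1014)) (.node (.leaf 758) (.leaf 662))))) (.node (.node (.node (.node (.node (.leaf 82) (.leaf 765)) (.leaf 877)) (.node (.node (.leaf 152) (.leaf 1321)) (.leaf 493))) (.node (.node (.node (.leaf 319) (.leaf 1154)) (.leaf 401)) (.node (.leaf 714) (.leaf 1150)))) (.node (.node (.node (.node (.leaf 218) (.leaf 880)) (.leaf 355)) (.node (.leaf 633) (.leaf 551))) (.node (.node (.node (.leaf 332) (.leaf 1318)) (.leaf 747)) (.node (.leaf 263) (.leaf 1182)))))) (.node (.node (.node (.node (.node (.node (.leaf 66) (.leaf 867)) (.leaf 519)) (.node (.node (.leaf 145) (.leaf 1233)) (.leaf 479))) (.node (.node (.node (.leaf 71) (.leaf 1273)) (.leaf 387)) (.node (.leaf 694) (.leaf 687)))) (.node (.node (.node (.node (.leaf 188) (.leaf 850)) (.leaf 341)) (.node (.leaf 608) (.leaf 1103))) (.node (.node (.node (.leaf 414) (.leaf 1140)) (.leaf 725)) (.node (.leaf 254) (.leaf 1175))))) (.node (.node (.node (.node (.node (.leaf 21) (.leaf 998)) (.leaf 853)) (.node (.node (.leaf 490) (.leaf 1293)) (.leaf 678))) (.node (.node (.node (.leaf 111)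 (.leaf 1288)) (.leaf 413)) (.node (.leaf 278) (.leaf 1157)))) (.node (.node (.node (.node (.leaf 197) (.leaf 1251)) (.leaf 361)) (.node (.leaf 559) (.leaf 579))) (.node (.node (.node (.leaf 124) (.leaf 1177)) (.leaf 1059)) (.node (.leaf 821) (.leaf 1139)))))))) (.node (.node (.node (.node (.node (.node (.node (.node (.leaf 13) (.leaf 1194)) (.leaf 833)) (.node (.node (.leaf 133) (.leaf 1199)) (.leaf 467))) (.node (.node (.node (.leaf 261) (.leaf 953)) (.leaf 451)) (.node (.leaf 667) (.leaf 1135)))) (.node (.node (.node (.node (.leaf 27) (.leaf 794)) (.leaf 890)) (.node (.node (.leaf 583) (.leaf 1324)) (.leaf 862))) (.node (.node (.node (.leaf 121) (.leaf 1066)) (.leaf 420)) (.node (.leaf 647) (.leaf 1111))))) (.node (.node (.node (.node (.node (.leaf 91) (.leaf 1215)) (.leaf 298)) (.node (.node (.leaf 541) (.leaf 1256)) (.leaf 909))) (.node (.node (.node (.leaf 305) (.leaf 1278)) (.leaf 980)) (.node (.leaf 710) (.leaf 724)))) (.node (.node (.node (.node (.leaf 42) (.leaf 1092)) (.leaf 352)) (.node (.leaf 226) (.leaf 795))) (.node (.node (.node (.leaf 112) (.leaf 1315))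 (.leaf 443)) (.node (.leaf 260) (.leaf 916)))))) (.node (.node (.node (.node (.node (.node (.leaf 57) (.leaf 822)) (.leaf 368)) (.node (.node (.leaf 509) (.leaf 1226)) (.leaf 476))) (.node (.node (.node (.leaf 287) (.leaf 1202)) (.leaf 755)) (.node (.leaf 605) (.leaf 600)))) (.node (.node (.node (.node (.leaf 180) (.leaf 895)) (.leaf 337)) (.node (.leaf 601) (.leaf 569))) (.node (.node (.node (.leaf 343) (.leaf 1246)) (.leaf 729)) (.node (.leaf 776) (.leaf 982))))) (.node (.node (.node (.node (.node (.leaf 95) (.leaf 1229)) (.leaf 606)) (.node (.node (.leaf 557) (.leaf 1279)) (.leaf 505))) (.node (.node (.node (.leaf 351) (.leaf 1055)) (.leaf 673)) (.node (.leaf 735) (.leaf 787)))) (.node (.node (.node (.node (.leaf 235) (.leaf 908)) (.leaf 359)) (.node (.leaf 239) (.leaf 634))) (.node (.node (.node (.leaf 125) (.leaf 1328)) (.leaf 1053)) (.node (.leaf 814) (.leaf 1190))))))) (.node (.node (.node (.node (.node (.node (.node (.leaf 5) (.leaf 730)) (.leaf 289)) (.node (.node (.leaf 136) (.leaf 1337)) (.leaf 474))) (.node (.node (.node (.leaf 276) (.leaf 1261)) (.leaf 560))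 (.node (.leaf 508) (.leaf 805)))) (.node (.node (.node (.node (.leaf 157) (.leaf 1085)) (.leaf 851)) (.node (.node (.leaf 172) (.leaf 1357)) (.leaf 529))) (.node (.node (.node (.leaf 335) (.leaf 1077)) (.leaf 931)) (.node (.leaf 246) (.leaf 1063))))) (.node (.node (.node (.node (.node (.leaf 15) (.leaf 1223)) (.leaf 309)) (.node (.node (.leaf 156) (.leaf 1325)) (.leaf 499))) (.node (.node (.node (.leaf 99) (.leaf 1034)) (.leaf 920)) (.node (.leaf 622) (.leaf 627)))) (.node (.node (.node (.node (.leaf 222) (.leaf 1044)) (.leaf 424)) (.node (.leaf 189) (.leaf 553))) (.node (.node (.node (.leaf 119) (.leaf 1165)) (.leaf 870)) (.node (.leaf 809) (.leaf 739)))))) (.node (.node (.node (.node (.node (.node (.leaf 8) (.leaf 757)) (.leaf 293)) (.node (.node (.leaf 513) (.leaf 1312)) (.leaf 482))) (.node (.node (.node (.leaf 77) (.leaf 1211)) (.leaf 764)) (.node (.leaf 697) (.leaf 801)))) (.node (.node (.node (.node (.leaf 39) (.leaf 1116)) (.leaf 405)) (.node (.leaf 611) (.leaf 578))) (.node (.node (.node (.leaf 419) (.leaf 1236)) (.leaf 1026)) (.node (.leaf 550) (.leaf 689)))))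 (.node (.node (.node (.node (.node (.leaf 135) (.leaf 1101)) (.leaf 893)) (.node (.node (.leaf 556) (.leaf 1303)) (.leaf 614))) (.node (.node (.node (.leaf 365) (.leaf 1292)) (.leaf 415)) (.node (.leaf 238) (.leaf 752)))) (.node (.node (.node (.node (.leaf 245) (.leaf 934)) (.leaf 631)) (.node (.leaf 590) (.leaf 573))) (.node (.node (.node (.leaf 128) (.leaf 1185)) (.leaf 1065)) (.node (.leaf 277) (.leaf 1137))))))))) (.node (.node (.node (.node (.node (.node (.node (.node (.node (.leaf 11) (.leaf 722)) (.leaf 282)) (.node (.node (.leaf 130) (.leaf 1299)) (.leaf 1075))) (.node (.node (.node (.leaf 58) (.leaf 1242)) (.leaf 951)) (.node (.leaf 665) (.leaf 1119)))) (.node (.node (.node (.node (.leaf 144) (.leaf 1124)) (.leaf 889)) (.node (.node (.leaf 535) (.leaf 1322)) (.leaf 1110))) (.node (.node (.node (.leaf 94) (.leaf 1297)) (.leaf 780)) (.node (.leaf 645) (.leaf 896))))) (.node (.node (.node (.node (.node (.leaf 86) (.leaf 761)) (.leaf 871)) (.node (.node (.leaf 534) (.leaf 1253)) (.leaf 640))) (.node (.node (.node (.leaf 312) (.leaf 1204)) (.leaf 978)) (.node (.leaf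 221) (.leaf 717)))) (.node (.node (.node (.node (.leaf 173) (.leaf 1087)) (.leaf 349)) (.node (.leaf 617) (.leaf 1049))) (.node (.node (.node (.leaf 433) (.leaf 1145)) (.leaf 1005)) (.node (.leaf 796) (.leaf 700)))))) (.node (.node (.node (.node (.node (.node (.leaf 51) (.leaf 812)) (.leaf 847)) (.node (.node (.leaf 506) (.leaf 1283)) (.leaf 949))) (.node (.node (.node (.leaf 280) (.leaf 1267)) (.leaf 382)) (.node (.leaf 604) (.leaf 598)))) (.node (.node (.node (.node (.leaf 175) (.leaf 840)) (.leaf 336)) (.node (.node (.leaf 599) (.leaf 1363)) (.leaf 589))) (.node (.node (.node (.leaf 402) (.leaf 1244)) (.leaf 932)) (.node (.leaf 773) (.leaf 1170))))) (.node (.node (.node (.node (.node (.leaf 19) (.leaf 771)) (.leaf 370)) (.node (.node (.leaf 161) (.leaf 1275)) (.leaf 1002))) (.node (.node (.node (.leaf 348) (.leaf 1281)) (.leaf 407)) (.node (.leaf 587) (.leaf 942)))) (.node (.node (.node (.node (.leaf 234) (.leaf 1017)) (.leaf 941)) (.node (.leaf 194) (.leaf 967))) (.node (.node (.node (.leaf 123) (.leaf 1171)) (.leaf 661)) (.node (.leaf 813) (.leaf 1134))))))) (.node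 (.node (.node (.node (.node (.node (.node (.leaf 3) (.leaf 1028)) (.leaf 831)) (.node (.node (.leaf 272) (.leaf 1335)) (.leaf 471))) (.node (.node (.node (.leaf 64) (.leaf 970)) (.leaf 632)) (.node (.leaf 206) (.leaf 658)))) (.node (.node (.node (.node (.leaf 30) (.leaf 1036)) (.leaf 435)) (.node (.node (.leaf 201) (.leaf 1355)) (.leaf 575))) (.node (.node (.node (.leaf 98) (.leaf 1071)) (.leaf 1016)) (.node (.leaf 760) (.leaf 666))))) (.node (.node (.node (.node (.node (.leaf 84) (.leaf 766)) (.leaf 316)) (.node (.node (.leaf 548) (.leaf 1263)) (.leaf 817))) (.node (.node (.node (.leaf 97) (.leaf 1031)) (.leaf 682)) (.node (.leaf 619) (.leaf 1153)))) (.node (.node (.node (.node (.leaf 220) (.leaf 898)) (.leaf 427)) (.node (.leaf 562) (.leaf 792))) (.node (.node (.node (.leaf 117) (.leaf 1160)) (.leaf 745)) (.node (.leaf 308) (.leaf 886)))))) (.node (.node (.node (.node (.node (.node (.leaf 69) (.leaf 756)) (.leaf 321)) (.node (.node (.leaf 516) (.leaf 1343)) (.leaf 869))) (.node (.node (.node (.leaf 72) (.leaf 994)) (.leaf 389)) (.node (.leaf 215) (.leaf 1004)))) (.node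 (.node (.node (.node (.leaf 37) (.leaf 906)) (.leaf 919)) (.node (.leaf 609) (.leaf 532))) (.node (.node (.node (.leaf 416) (.leaf 1234)) (.leaf 432)) (.node (.leaf 785) (.leaf 1178))))) (.node (.node (.node (.node (.node (.leaf 22) (.leaf 1121)) (.leaf 324)) (.node (.node (.leaf 554) (.leaf 1296)) (.leaf 948))) (.node (.node (.node (.leaf 362) (.leaf 1181)) (.leaf 671)) (.node (.leaf 741) (.leaf 750)))) (.node (.node (.node (.node (.leaf 243) (.leaf 1052)) (.leaf 946)) (.node (.leaf 588) (.leaf 572))) (.node (.node (.node (.leaf 470) (.leaf 1331)) (.leaf 460)) (.node (.leaf 823) (.leaf 783)))))))) (.node (.node (.node (.node (.node (.node (.node (.node (.leaf 26) (.leaf 1195)) (.leaf 537)) (.node (.node (.leaf 489) (.leaf 1208)) (.leaf 664))) (.node (.node (.node (.leaf 61) (.leaf 1047)) (.leaf 453)) (.node (.leaf 462) (.leaf 582)))) (.node (.node (.node (.node (.leaf 153) (.leaf 799)) (.leaf 325)) (.node (.node (.leaf 170) (.leaf 1351)) (.leaf 1106))) (.node (.node (.node (.leaf 329) (.leaf 1069)) (.leaf 1007)) (.node (.leaf 385) (.leaf 883))))) (.node (.node (.node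 (.node (.node (.leaf 93) (.leaf 973)) (.leaf 873)) (.node (.node (.leaf 544) (.leaf 1345)) (.leaf 734))) (.node (.node (.node (.leaf 81) (.leaf 1015)) (.leaf 399)) (.node (.leaf 224) (.leaf 625)))) (.node (.node (.node (.node (.leaf 177) (.leaf 879)) (.leaf 922)) (.node (.leaf 629) (.leaf 547))) (.node (.node (.node (.leaf 113) (.leaf 1151)) (.leaf 1018)) (.node (.leaf 369) (.leaf 702)))))) (.node (.node (.node (.node (.node (.node (.leaf 6) (.leaf 1159)) (.leaf 323)) (.node (.node (.leaf 146) (.leaf 1341)) (.leaf 876))) (.node (.node (.node (.leaf 294) (.leaf 985)) (.leaf 386)) (.node (.leaf 691) (.leaf 603)))) (.node (.node (.node (.node (.leaf 182) (.leaf 965)) (.leaf 339)) (.node (.leaf 213) (.leaf 1105))) (.node (.node (.node (.leaf 411) (.leaf 1097)) (.leaf 1032)) (.node (.leaf 779) (.leaf 680))))) (.node (.node (.node (.node (.node (.leaf 122) (.leaf 774)) (.leaf 806)) (.node (.node (.leaf 192) (.leaf 1291)) (.leaf 507))) (.node (.node (.node (.leaf 353) (.leaf 1289)) (.leaf 410)) (.node (.leaf 737) (.leaf 643)))) (.node (.node (.node (.node (.leaf 237) (.leaf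 926)) (.leaf 637)) (.node (.leaf 241) (.leaf 1114))) (.node (.node (.node (.leaf 456) (.leaf 1329)) (.leaf 1056)) (.node (.leaf 495) (.leaf 1191))))))) (.node (.node (.node (.node (.node (.node (.node (.leaf 45) (.leaf 736)) (.leaf 849)) (.node (.node (.leaf 500) (.leaf 1216)) (.leaf 1019))) (.node (.node (.node (.leaf 68) (.leaf 974)) (.leaf 964)) (.node (.leaf 679) (.leaf 593)))) (.node (.node (.node (.node (.leaf 33) (.leaf 857)) (.leaf 440)) (.node (.node (.leaf 205) (.leaf 1359)) (.leaf 531))) (.node (.node (.node (.leaf 398) (.leaf 1076)) (.leaf 426)) (.node (.leaf 334) (.leaf 1169))))) (.node (.node (.node (.node (.node (.leaf 88) (.leaf 1227)) (.leaf 377)) (.node (.node (.leaf 162) (.leaf 1327)) (.leaf 865))) (.node (.node (.node (.leaf 83) (.leaf 1285)) (.leaf 921)) (.node (.leaf 728) (.leaf 952)))) (.node (.node (.node (.node (.leaf 185) (.leaf 901)) (.leaf 936)) (.node (.leaf 191) (.leaf 1127))) (.node (.node (.node (.leaf 373) (.leaf 1323)) (.leaf 956)) (.node (.leaf 503) (.leaf 711)))))) (.node (.node (.node (.node (.node (.node (.leaf 74) (.leaf 1205))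 (.leaf 480)) (.node (.node (.leaf 149) (.leaf 1308)) (.leaf 1095))) (.node (.node (.node (.leaf 76) (.leaf 1041)) (.leaf 699)) (.node (.leaf 701) (.leaf 720)))) (.node (.node (.node (.node (.leaf 53) (.leaf 899)) (.leaf 344)) (.node (.leaf 181) (.leaf 536))) (.node (.node (.node (.leaf 422) (.leaf 1238)) (.leaf 437)) (.node (.leaf 793) (.leaf 692))))) (.node (.node (.node (.node (.node (.leaf 24) (.leaf 1123)) (.leaf 843)) (.node (.node (.leaf 169) (.leaf 1307)) (.leaf 523))) (.node (.node (.node (.leaf 367) (.leaf 1061)) (.leaf 1000)) (.node (.leaf 446) (.leaf 754)))) (.node (.node (.node (.node (.leaf 56) (.leaf 1255)) (.leaf 858)) (.node (.leaf 200) (.leaf 1109))) (.node (.node (.node (.leaf 478) (.leaf 1333)) (.leaf 464)) (.node (.leaf 284) (.leaf 1146))))))))))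

/-- A table. -/
noncomputable def lineOrbNext4 : BTree := .node lineOrbNext4L lineOrbNext4R

/-- Part of a table. -/
noncomputable def lineOrbNext5L : BTree := (.node (.node (.node (.node (.node (.node (.node (.node (.node (.node (.leaf 5) (.leaf 803)) (.leaf 829)) (.node (.node (.leaf 482) (.leaf 1284)) (.leaf 464))) (.node (.node (.node (.leaf 156) (.leaf 1257)) (.leaf 950)) (.node (.leaf 200) (.leaf 840)))) (.node (.node (.node (.node (.leaf 24) (.leaf 1235)) (.leaf 898)) (.node (.node (.leaf 363) (.leaf 1337)) (.leaf 810))) (.node (.node (.node (.leaf 370) (.leaf 1064)) (.leaf 780)) (.node (.leaf 238) (.leaf 1110))))) (.node (.node (.node (.node (.node (.leaf 9) (.leaf 758)) (.leaf 294)) (.node (.node (.leaf 371) (.leaf 1243)) (.leaf 510))) (.node (.node (.node (.leaf 228) (.leaf 1044)) (.leaf 917)) (.node (.leaf 472) (.leaf 619)))) (.node (.node (.node (.node (.leaf 54) (.leaf 1179)) (.leaf 345)) (.node (.leaf 610) (.leaf 848))) (.node (.node (.node (.leaf 404) (.leaf 1144)) (.leaf 568)) (.node (.leaf 795) (.leaf 693)))))) (.node (.node (.node (.node (.node (.node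 (.leaf 3) (.leaf 944)) (.leaf 851)) (.node (.node (.leaf 138) (.leaf 1296)) (.leaf 474))) (.node (.node (.node (.leaf 66) (.leaf 1265)) (.leaf 834)) (.node (.leaf 208) (.leaf 996)))) (.node (.node (.node (.node (.leaf 112) (.leaf 819)) (.leaf 755)) (.node (.node (.leaf 596) (.leaf 1348)) (.leaf 864))) (.node (.node (.node (.leaf 400) (.leaf 1303)) (.leaf 1017)) (.node (.leaf 768) (.leaf 1162))))) (.node (.node (.node (.node (.node (.leaf 33) (.leaf 1160)) (.leaf 652)) (.node (.node (.leaf 157) (.leaf 1270)) (.leaf 501))) (.node (.node (.node (.leaf 83) (.leaf 1192)) (.leaf 923)) (.node (.leaf 732) (.leaf 1040)))) (.node (.node (.node (.node (.leaf 80) (.leaf 1021)) (.leaf 939)) (.node (.leaf 291) (.leaf 553))) (.node (.node (.node (.leaf 452) (.leaf 1326)) (.leaf 1047)) (.node (.leaf 500) (.leaf 1093))))))) (.node (.node (.node (.node (.node (.node (.node (.leaf 30) (.leaf 1198)) (.leaf 839)) (.node (.node (.leaf 282) (.leaf 1205)) (.leaf 668))) (.node (.node (.node (.leaf 119) (.leaf 1072)) (.leaf 376)) (.node (.leaf 661) (.leaf 935)))) (.node (.node (.node (.node (.leaf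 56) (.leaf 1240)) (.leaf 365)) (.node (.node (.leaf 588) (.leaf 1352)) (.leaf 896))) (.node (.node (.node (.leaf 384) (.leaf 1067)) (.leaf 794)) (.node (.leaf 243) (.leaf 670))))) (.node (.node (.node (.node (.node (.leaf 20) (.leaf 1216)) (.leaf 473)) (.node (.node (.leaf 547) (.leaf 1266)) (.leaf 838))) (.node (.node (.node (.leaf 323) (.leaf 1200)) (.leaf 979)) (.node (.leaf 225) (.leaf 967)))) (.node (.node (.node (.node (.leaf 217) (.leaf 929)) (.leaf 918)) (.node (.leaf 319) (.leaf 994))) (.node (.node (.node (.leaf 165) (.leaf 1319)) (.leaf 445)) (.node (.leaf 741) (.leaf 710)))))) (.node (.node (.node (.node (.node (.node (.leaf 64) (.leaf 1202)) (.leaf 843)) (.node (.node (.leaf 143) (.leaf 1342)) (.leaf 1092))) (.node (.node (.node (.leaf 298) (.leaf 1269)) (.leaf 386)) (.node (.leaf 694) (.leaf 714)))) (.node (.node (.node (.node (.leaf 177) (.leaf 1011)) (.leaf 393)) (.node (.leaf 315) (.leaf 1117))) (.node (.node (.node (.leaf 414) (.leaf 1096)) (.leaf 725)) (.node (.leaf 416) (.leaf 1171))))) (.node (.node (.node (.node (.node (.leaf 72) (.leaf 972)) (.leaf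 736)) (.node (.node (.leaf 564) (.leaf 1333)) (.leaf 955))) (.node (.node (.node (.leaf 342) (.leaf 1291)) (.leaf 410)) (.node (.leaf 233) (.leaf 827)))) (.node (.node (.node (.node (.leaf 241) (.leaf 1248)) (.leaf 585)) (.node (.leaf 648) (.leaf 1131))) (.node (.node (.node (.leaf 467) (.leaf 1272)) (.leaf 458)) (.node (.leaf 287) (.leaf 1178)))))))) (.node (.node (.node (.node (.node (.node (.node (.node (.leaf 19) (.leaf 1193)) (.leaf 494)) (.node (.node (.leaf 441) (.leaf 1280)) (.leaf 1078))) (.node (.node (.node (.leaf 235) (.leaf 1132)) (.leaf 870)) (.node (.leaf 667) (.leaf 1135)))) (.node (.node (.node (.node (.leaf 147) (.leaf 792)) (.leaf 903)) (.node (.node (.leaf 581) (.leaf 1360)) (.leaf 731))) (.node (.node (.node (.leaf 375) (.leaf 1203)) (.leaf 998)) (.node (.leaf 240) (.leaf 1111))))) (.node (.node (.node (.node (.node (.leaf 11) (.leaf 1215)) (.leaf 873)) (.node (.node (.leaf 539) (.leaf 1293)) (.leaf 1018))) (.node (.node (.node (.leaf 77) (.leaf 1126)) (.leaf 395)) (.node (.leaf 702) (.leaf 811)))) (.node (.node (.node (.node (.leaf 209) (.leaf 1246))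 (.leaf 922)) (.node (.leaf 621) (.leaf 541))) (.node (.node (.node (.leaf 160) (.leaf 1212)) (.leaf 486)) (.node (.leaf 257) (.leaf 912)))))) (.node (.node (.node (.node (.node (.node (.leaf 40) (.leaf 1184)) (.leaf 639)) (.node (.node (.leaf 509) (.leaf 1221)) (.leaf 1087))) (.node (.node (.node (.leaf 273) (.leaf 985)) (.leaf 382)) (.node (.leaf 224) (.leaf 671)))) (.node (.node (.node (.node (.leaf 34) (.leaf 1099)) (.leaf 336)) (.node (.node (.leaf 175) (.leaf 1364)) (.leaf 1002))) (.node (.node (.node (.leaf 110) (.leaf 1236)) (.leaf 429)) (.node (.leaf 249) (.leaf 681))))) (.node (.node (.node (.node (.node (.leaf 94) (.leaf 1225)) (.leaf 312)) (.node (.node (.leaf 558) (.leaf 1310)) (.leaf 1105))) (.node (.node (.node (.leaf 351) (.leaf 1057)) (.leaf 407)) (.node (.leaf 306) (.leaf 943)))) (.node (.node (.node (.node (.leaf 59) (.leaf 1083)) (.leaf 582)) (.node (.leaf 290) (.leaf 891))) (.node (.node (.node (.leaf 459) (.leaf 1175)) (.leaf 1052)) (.node (.leaf 496) (.leaf 1090))))))) (.node (.node (.node (.node (.node (.node (.node (.leaf 39) (.leaf 842)) (.leaf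 818)) (.node (.node (.leaf 499) (.leaf 1315)) (.leaf 704))) (.node (.node (.node (.leaf 70) (.leaf 1006)) (.leaf 560)) (.node (.leaf 206) (.leaf 769)))) (.node (.node (.node (.node (.leaf 113) (.leaf 855)) (.leaf 328)) (.node (.node (.leaf 591) (.leaf 1353)) (.leaf 589))) (.node (.node (.node (.leaf 98) (.leaf 1259)) (.leaf 427)) (.node (.leaf 764) (.leaf 1080))))) (.node (.node (.node (.node (.node (.leaf 107) (.leaf 766)) (.leaf 737)) (.node (.node (.leaf 153) (.leaf 1263)) (.leaf 497))) (.node (.node (.node (.leaf 334) (.leaf 1031)) (.leaf 423)) (.node (.leaf 717) (.leaf 625)))) (.node (.node (.node (.node (.leaf 45) (.leaf 1156)) (.leaf 931)) (.node (.leaf 637) (.leaf 550))) (.node (.node (.node (.leaf 133) (.leaf 1169)) (.leaf 1007)) (.node (.leaf 515) (.leaf 706)))))) (.node (.node (.node (.node (.node (.node (.leaf 21) (.leaf 756)) (.leaf 867)) (.node (.node (.leaf 521) (.leaf 1308)) (.leaf 1095))) (.node (.node (.node (.leaf 128) (.leaf 1009)) (.leaf 776)) (.node (.leaf 215) (.leaf 618)))) (.node (.node (.node (.node (.leaf 37) (.leaf 1118)) (.leaf 422)) (.node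 (.leaf 611) (.leaf 849))) (.node (.node (.node (.leaf 106) (.leaf 1122)) (.leaf 432)) (.node (.leaf 790) (.leaf 719))))) (.node (.node (.node (.node (.node (.leaf 117) (.leaf 786)) (.leaf 630)) (.node (.node (.leaf 437) (.leaf 1321)) (.leaf 511))) (.node (.node (.node (.leaf 167) (.leaf 1252)) (.leaf 413)) (.node (.leaf 263) (.leaf 645)))) (.node (.node (.node (.node (.leaf 250) (.leaf 1058)) (.leaf 631)) (.node (.leaf 657) (.leaf 945))) (.node (.node (.node (.leaf 218) (.leaf 1242)) (.leaf 460)) (.node (.leaf 825) (.leaf 805))))))))) (.node (.node (.node (.node (.node (.node (.node (.node (.node (.leaf 13) (.leaf 1030)) (.leaf 495)) (.node (.node (.leaf 129) (.leaf 1195)) (.leaf 1075))) (.node (.node (.node (.leaf 65) (.leaf 1035)) (.leaf 526)) (.node (.leaf 664) (.leaf 576)))) (.node (.node (.node (.node (.leaf 144) (.leaf 1012)) (.leaf 322)) (.node (.node (.leaf 578) (.leaf 1357)) (.leaf 656))) (.node (.node (.node (.leaf 150) (.leaf 1295)) (.leaf 1004)) (.node (.leaf 239) (.leaf 1127))))) (.node (.node (.node (.node (.node (.leaf 84) (.leaf 1148)) (.leaf 871)) (.node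 (.node (.leaf 372) (.leaf 1285)) (.leaf 989))) (.node (.node (.node (.leaf 313) (.leaf 1274)) (.leaf 978)) (.node (.leaf 219) (.leaf 781)))) (.node (.node (.node (.node (.leaf 204) (.leaf 1244)) (.leaf 352)) (.node (.leaf 602) (.leaf 1049))) (.node (.node (.node (.leaf 405) (.leaf 1199)) (.leaf 909)) (.node (.leaf 256) (.leaf 872)))))) (.node (.node (.node (.node (.node (.node (.leaf 51) (.leaf 845)) (.leaf 289)) (.node (.node (.leaf 149) (.leaf 1281)) (.leaf 1084))) (.node (.node (.node (.leaf 285) (.leaf 983)) (.leaf 907)) (.node (.leaf 222) (.leaf 595)))) (.node (.node (.node (.node (.leaf 173) (.leaf 826)) (.leaf 913)) (.node (.node (.leaf 599) (.leaf 1362)) (.leaf 1115))) (.node (.node (.node (.leaf 101) (.leaf 1309)) (.leaf 1019)) (.node (.leaf 773) (.leaf 674))))) (.node (.node (.node (.node (.node (.leaf 23) (.leaf 1230)) (.leaf 574)) (.node (.node (.leaf 436) (.leaf 1330)) (.leaf 524))) (.node (.node (.node (.leaf 347) (.leaf 1048)) (.leaf 687)) (.node (.leaf 227) (.leaf 942)))) (.node (.node (.node (.node (.leaf 79) (.leaf 902)) (.leaf 941)) (.node (.leaf 192)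 (.leaf 1039))) (.node (.node (.node (.leaf 454) (.leaf 1320)) (.leaf 453)) (.node (.leaf 813) (.leaf 1133))))))) (.node (.node (.node (.node (.node (.node (.node (.leaf 1) (.leaf 1029)) (.leaf 579)) (.node (.node (.leaf 281) (.leaf 1279)) (.leaf 1081))) (.node (.node (.node (.leaf 272) (.leaf 976)) (.leaf 377)) (.node (.leaf 675) (.leaf 1113)))) (.node (.node (.node (.node (.leaf 158) (.leaf 801)) (.leaf 633)) (.node (.node (.leaf 307) (.leaf 1354)) (.leaf 1036))) (.node (.node (.node (.leaf 389) (.leaf 1069)) (.leaf 920)) (.node (.leaf 760) (.leaf 662))))) (.node (.node (.node (.node (.node (.leaf 102) (.leaf 1222)) (.leaf 607)) (.node (.node (.leaf 152) (.leaf 1322)) (.leaf 832))) (.node (.node (.node (.leaf 187) (.leaf 1197)) (.leaf 981)) (.node (.leaf 686) (.leaf 1153)))) (.node (.node (.node (.node (.leaf 220) (.leaf 879)) (.leaf 924)) (.node (.leaf 327) (.leaf 1123))) (.node (.node (.node (.leaf 131) (.leaf 1286)) (.leaf 1043)) (.node (.leaf 303) (.leaf 852)))))) (.node (.node (.node (.node (.node (.node (.leaf 69) (.leaf 966)) (.leaf 321)) (.node (.node (.leaf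 264) (.leaf 1341)) (.leaf 712))) (.node (.node (.node (.leaf 71) (.leaf 1016)) (.leaf 387)) (.node (.leaf 696) (.leaf 612)))) (.node (.node (.node (.node (.leaf 191) (.leaf 1183)) (.leaf 354)) (.node (.leaf 609) (.leaf 859))) (.node (.node (.node (.leaf 252) (.leaf 1276)) (.leaf 1038)) (.node (.leaf 784) (.leaf 1173))))) (.node (.node (.node (.node (.node (.leaf 115) (.leaf 782)) (.leaf 861)) (.node (.node (.leaf 163) (.leaf 1338)) (.leaf 1106))) (.node (.node (.node (.leaf 169) (.leaf 1187)) (.leaf 411)) (.node (.leaf 261) (.leaf 711)))) (.node (.node (.node (.node (.leaf 245) (.leaf 1101)) (.leaf 573)) (.node (.leaf 653) (.leaf 571))) (.node (.node (.node (.leaf 124) (.leaf 1186)) (.leaf 1061)) (.node (.leaf 823) (.leaf 804)))))))) (.node (.node (.node (.node (.node (.node (.node (.node (.leaf 17) (.leaf 1026)) (.leaf 491)) (.node (.node (.leaf 489) (.leaf 1258)) (.leaf 1071))) (.node (.node (.node (.leaf 145) (.leaf 949)) (.leaf 374)) (.node (.leaf 203) (.leaf 1138)))) (.node (.node (.node (.node (.leaf 140) (.leaf 1239)) (.leaf 628)) (.node (.node (.leaf 361) (.leaf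 1361)) (.leaf 808))) (.node (.node (.node (.leaf 379) (.leaf 1066)) (.leaf 1000)) (.node (.leaf 242) (.leaf 1050))))) (.node (.node (.node (.node (.node (.leaf 93) (.leaf 974)) (.leaf 876)) (.node (.node (.leaf 544) (.leaf 1254)) (.leaf 837))) (.node (.node (.node (.leaf 229) (.leaf 1211)) (.leaf 397)) (.node (.leaf 604) (.leaf 761)))) (.node (.node (.node (.node (.leaf 42) (.leaf 1188)) (.leaf 638)) (.node (.leaf 627) (.leaf 644))) (.node (.node (.node (.leaf 161) (.leaf 1318)) (.leaf 443)) (.node (.leaf 740) (.leaf 708)))))) (.node (.node (.node (.node (.node (.node (.leaf 49) (.leaf 750)) (.leaf 533)) (.node (.node (.leaf 485) (.leaf 1231)) (.leaf 476))) (.node (.node (.node (.leaf 194) (.leaf 1267)) (.leaf 970)) (.node (.leaf 615) (.leaf 616)))) (.node (.node (.node (.node (.leaf 182) (.leaf 960)) (.leaf 337)) (.node (.leaf 184) (.leaf 529))) (.node (.node (.node (.leaf 409) (.leaf 1185)) (.leaf 733)) (.node (.leaf 779) (.leaf 683))))) (.node (.node (.node (.node (.node (.leaf 96) (.leaf 772)) (.leaf 593)) (.node (.node (.leaf 383) (.leaf 1327)) (.leaf 505))) (.node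 (.node (.node (.leaf 86) (.leaf 1053)) (.leaf 408)) (.node (.leaf 305) (.leaf 640)))) (.node (.node (.node (.node (.leaf 195) (.leaf 925)) (.leaf 572)) (.node (.leaf 646) (.leaf 910))) (.node (.node (.node (.leaf 462) (.leaf 1328)) (.leaf 1056)) (.node (.leaf 271) (.leaf 1182))))))) (.node (.node (.node (.node (.node (.node (.node (.leaf 43) (.leaf 730)) (.leaf 642)) (.node (.node (.leaf 267) (.leaf 1262)) (.leaf 1082))) (.node (.node (.node (.leaf 259) (.leaf 1217)) (.leaf 517)) (.node (.leaf 679) (.leaf 886)))) (.node (.node (.node (.node (.leaf 31) (.leaf 814)) (.leaf 329)) (.node (.node (.leaf 172) (.leaf 1358)) (.leaf 525))) (.node (.node (.node (.leaf 396) (.leaf 1074)) (.leaf 689)) (.node (.leaf 246) (.leaf 1062))))) (.node (.node (.node (.node (.node (.leaf 15) (.leaf 767)) (.leaf 308)) (.node (.node (.leaf 254) (.leaf 1264)) (.leaf 1102))) (.node (.node (.node (.leaf 339) (.leaf 1032)) (.leaf 426)) (.node (.leaf 433) (.leaf 946)))) (.node (.node (.node (.node (.leaf 212) (.leaf 894)) (.leaf 933)) (.node (.leaf 189) (.leaf 743))) (.node (.node (.node (.leaf 448)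 (.leaf 1294)) (.leaf 1046)) (.node (.leaf 516) (.leaf 1164)))))) (.node (.node (.node (.node (.node (.node (.leaf 8) (.leaf 757)) (.leaf 293)) (.node (.node (.leaf 503) (.leaf 1332)) (.leaf 1097))) (.node (.node (.node (.leaf 74) (.leaf 1014)) (.leaf 968)) (.node (.leaf 216) (.leaf 1143)))) (.node (.node (.node (.node (.leaf 52) (.leaf 1116)) (.leaf 565)) (.node (.leaf 613) (.leaf 567))) (.node (.node (.node (.leaf 402) (.leaf 1124)) (.leaf 523)) (.node (.leaf 793) (.leaf 921))))) (.node (.node (.node (.node (.node (.leaf 61) (.leaf 787)) (.leaf 562)) (.node (.node (.leaf 535) (.leaf 1304)) (.leaf 889))) (.node (.node (.node (.leaf 367) (.leaf 1167)) (.leaf 420)) (.node (.leaf 745) (.leaf 865)))) (.node (.node (.node (.node (.leaf 105) (.leaf 1255)) (.leaf 614)) (.node (.leaf 660) (.leaf 1134))) (.node (.node (.node (.leaf 302) (.leaf 1331)) (.leaf 1068)) (.node (.leaf 800) (.leaf 1037))))))))))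

/-- Part of a table. -/
noncomputable def lineOrbNext5R : BTree := (.node (.node (.node (.node (.node (.node (.node (.node (.node (.node (.leaf 10) (.leaf 721)) (.leaf 279)) (.node (.node (.leaf 484) (.leaf 1298)) (.leaf 908))) (.node (.node (.node (.leaf 258) (.leaf 938)) (.leaf 527)) (.node (.leaf 205) (.leaf 1137)))) (.node (.node (.node (.node (.leaf 130) (.leaf 789)) (.leaf 901)) (.node (.node (.leaf 538) (.leaf 1317)) (.leaf 649))) (.node (.node (.node (.leaf 91) (.leaf 1166)) (.leaf 1003)) (.node (.leaf 749) (.leaf 835))))) (.node (.node (.node (.node (.node (.leaf 48) (.leaf 1204)) (.leaf 373)) (.node (.node (.leaf 530) (.leaf 1251)) (.leaf 1098))) (.node (.node (.node (.leaf 230) (.leaf 1238)) (.leaf 977)) (.node (.leaf 707) (.leaf 1128)))) (.node (.node (.node (.node (.leaf 201) (.leaf 1241)) (.leaf 346)) (.node (.leaf 601) (.leaf 958))) (.node (.node (.node (.leaf 424) (.leaf 1145)) (.leaf 556)) (.node (.leaf 797) (.leaf 695)))))) (.node (.node (.node (.node (.node (.node (.leaf 6) (.leaf 887)) (.leaf 854)) (.node (.node (.leaf 148) (.leaf 1261)) (.leaf 487)))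 (.node (.node (.node (.leaf 134) (.leaf 1260)) (.leaf 380)) (.node (.leaf 677) (.leaf 594)))) (.node (.node (.node (.node (.leaf 89) (.leaf 820)) (.leaf 566)) (.node (.node (.leaf 598) (.leaf 1350)) (.leaf 860))) (.node (.node (.node (.leaf 100) (.leaf 1077)) (.leaf 1025)) (.node (.leaf 771) (.leaf 673))))) (.node (.node (.node (.node (.node (.leaf 22) (.leaf 1141)) (.leaf 659)) (.node (.node (.leaf 438) (.leaf 1329)) (.leaf 723))) (.node (.node (.node (.leaf 88) (.leaf 1155)) (.leaf 718)) (.node (.leaf 430) (.leaf 892)))) (.node (.node (.node (.node (.leaf 76) (.leaf 897)) (.leaf 940)) (.node (.leaf 475) (.leaf 911))) (.node (.node (.node (.leaf 120) (.leaf 1168)) (.leaf 815)) (.node (.leaf 812) (.leaf 1180))))))) (.node (.node (.node (.node (.node (.node (.node (.leaf 32) (.leaf 727)) (.leaf 284)) (.node (.node (.leaf 283) (.leaf 1299)) (.leaf 469))) (.node (.node (.node (.leaf 135) (.leaf 975)) (.leaf 833)) (.node (.leaf 600) (.leaf 651)))) (.node (.node (.node (.node (.leaf 57) (.leaf 798)) (.leaf 632)) (.node (.node (.leaf 590) (.leaf 1356)) (.leaf 559))) (.node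 (.node (.node (.leaf 97) (.leaf 1076)) (.leaf 1001)) (.node (.leaf 759) (.leaf 1163))))) (.node (.node (.node (.node (.node (.leaf 99) (.leaf 973)) (.leaf 880)) (.node (.node (.leaf 549) (.leaf 1340)) (.leaf 537))) (.node (.node (.node (.leaf 186) (.leaf 1028)) (.leaf 980)) (.node (.leaf 685) (.leaf 1151)))) (.node (.node (.node (.node (.leaf 126) (.leaf 877)) (.leaf 919)) (.node (.leaf 326) (.leaf 548))) (.node (.node (.node (.leaf 440) (.leaf 1152)) (.leaf 446)) (.node (.leaf 262) (.leaf 713)))))) (.node (.node (.node (.node (.node (.node (.leaf 67) (.leaf 866)) (.leaf 809)) (.node (.node (.leaf 266) (.leaf 1229)) (.leaf 478))) (.node (.node (.node (.leaf 300) (.leaf 1015)) (.leaf 971)) (.node (.leaf 214) (.leaf 990)))) (.node (.node (.node (.node (.leaf 81) (.leaf 906)) (.leaf 353)) (.node (.leaf 608) (.leaf 531))) (.node (.node (.node (.leaf 104) (.leaf 1121)) (.leaf 431)) (.node (.leaf 552) (.leaf 1172))))) (.node (.node (.node (.node (.node (.leaf 73) (.leaf 778)) (.leaf 739)) (.node (.node (.leaf 162) (.leaf 1344)) (.leaf 508))) (.node (.node (.node (.leaf 343)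 (.leaf 1055)) (.leaf 995)) (.node (.leaf 260) (.leaf 643)))) (.node (.node (.node (.node (.leaf 197) (.leaf 1249)) (.leaf 586)) (.node (.leaf 650) (.leaf 830))) (.node (.node (.node (.leaf 468) (.leaf 1191)) (.leaf 934)) (.node (.leaf 822) (.leaf 720)))))))) (.node (.node (.node (.node (.node (.node (.node (.node (.leaf 0) (.leaf 1034)) (.leaf 654)) (.node (.node (.leaf 442) (.leaf 1314)) (.leaf 466))) (.node (.node (.node (.leaf 236) (.leaf 951)) (.leaf 956)) (.node (.leaf 202) (.leaf 577)))) (.node (.node (.node (.node (.leaf 26) (.leaf 1008)) (.leaf 324)) (.node (.node (.leaf 359) (.leaf 1323)) (.leaf 806))) (.node (.node (.node (.leaf 121) (.leaf 1300)) (.leaf 999)) (.node (.leaf 754) (.leaf 655))))) (.node (.node (.node (.node (.node (.leaf 92) (.leaf 762)) (.leaf 297)) (.node (.node (.leaf 542) (.leaf 1345)) (.leaf 1020))) (.node (.node (.node (.leaf 232) (.leaf 1275)) (.leaf 401)) (.node (.leaf 703) (.leaf 622)))) (.node (.node (.node (.node (.leaf 210) (.leaf 875)) (.leaf 350)) (.node (.leaf 605) (.leaf 543))) (.node (.node (.node (.leaf 166) (.leaf 1213)) (.leaf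 488)) (.node (.leaf 278) (.leaf 699)))))) (.node (.node (.node (.node (.node (.node (.leaf 28) (.leaf 821)) (.leaf 534)) (.node (.node (.leaf 141) (.leaf 1223)) (.leaf 1089))) (.node (.node (.node (.leaf 274) (.leaf 986)) (.leaf 392)) (.node (.leaf 226) (.leaf 672)))) (.node (.node (.node (.node (.leaf 181) (.leaf 899)) (.leaf 915)) (.node (.leaf 183) (.leaf 1005))) (.node (.node (.node (.leaf 111) (.leaf 1091)) (.leaf 728)) (.node (.leaf 777) (.leaf 682))))) (.node (.node (.node (.node (.node (.leaf 95) (.leaf 1233)) (.leaf 606)) (.node (.node (.leaf 435) (.leaf 1336)) (.leaf 1045))) (.node (.node (.node (.leaf 85) (.leaf 1288)) (.leaf 992)) (.node (.leaf 316) (.leaf 1158)))) (.node (.node (.node (.node (.leaf 60) (.leaf 1073)) (.leaf 583)) (.node (.leaf 545) (.leaf 893))) (.node (.node (.node (.leaf 122) (.leaf 1176)) (.leaf 1054)) (.node (.leaf 816) (.leaf 1181))))))) (.node (.node (.node (.node (.node (.node (.node (.leaf 2) (.leaf 1022)) (.leaf 846)) (.node (.node (.leaf 237) (.leaf 1316)) (.leaf 930))) (.node (.node (.node (.leaf 277) (.leaf 1219)) (.leaf 378))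 (.node (.leaf 678) (.leaf 738)))) (.node (.node (.node (.node (.leaf 164) (.leaf 1146)) (.leaf 844)) (.node (.node (.leaf 463) (.leaf 1346)) (.leaf 1042))) (.node (.node (.node (.leaf 385) (.leaf 1305)) (.leaf 428)) (.node (.leaf 391) (.leaf 1065))))) (.node (.node (.node (.node (.node (.leaf 108) (.leaf 1226)) (.leaf 587)) (.node (.node (.leaf 253) (.leaf 1351)) (.leaf 498))) (.node (.node (.node (.leaf 82) (.leaf 1194)) (.leaf 425)) (.node (.leaf 724) (.leaf 626)))) (.node (.node (.node (.node (.leaf 211) (.leaf 1010)) (.leaf 356)) (.node (.leaf 584) (.leaf 1129))) (.node (.node (.node (.leaf 269) (.leaf 1297)) (.leaf 449)) (.node (.leaf 519) (.leaf 853)))))) (.node (.node (.node (.node (.node (.node (.leaf 75) (.leaf 1206)) (.leaf 868)) (.node (.node (.leaf 146) (.leaf 1234)) (.leaf 481))) (.node (.node (.node (.leaf 304) (.leaf 1013)) (.leaf 763)) (.node (.leaf 700) (.leaf 1142)))) (.node (.node (.node (.node (.leaf 38) (.leaf 856)) (.leaf 357)) (.node (.leaf 179) (.leaf 570))) (.node (.node (.node (.leaf 415) (.leaf 1245)) (.leaf 726)) (.node (.leaf 791) (.leaf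 802))))) (.node (.node (.node (.node (.node (.leaf 62) (.leaf 1023)) (.leaf 634)) (.node (.node (.leaf 439) (.leaf 1306)) (.leaf 512))) (.node (.node (.node (.leaf 366) (.leaf 1253)) (.leaf 419)) (.node (.leaf 744) (.leaf 1159)))) (.node (.node (.node (.node (.leaf 55) (.leaf 1059)) (.leaf 364)) (.node (.leaf 199) (.leaf 885))) (.node (.node (.node (.leaf 301) (.leaf 1247)) (.leaf 1063)) (.node (.leaf 276) (.leaf 1136))))))))) (.node (.node (.node (.node (.node (.node (.node (.node (.node (.leaf 16) (.leaf 783)) (.leaf 492)) (.node (.node (.leaf 142) (.leaf 1207)) (.leaf 465))) (.node (.node (.node (.leaf 234) (.leaf 1201)) (.leaf 953)) (.node (.leaf 666) (.leaf 1109)))) (.node (.node (.node (.node (.leaf 25) (.leaf 1237)) (.leaf 522)) (.node (.node (.leaf 168) (.leaf 1347)) (.leaf 961))) (.node (.node (.node (.leaf 118) (.leaf 1165)) (.leaf 417)) (.node (.leaf 751) (.leaf 1107))))) (.node (.node (.node (.node (.node (.leaf 87) (.leaf 1149)) (.leaf 296)) (.node (.node (.leaf 368) (.leaf 1292)) (.leaf 1024))) (.node (.node (.node (.leaf 314) (.leaf 1210)) (.leaf 394))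 (.node (.leaf 701) (.leaf 620)))) (.node (.node (.node (.node (.leaf 41) (.leaf 874)) (.leaf 348)) (.node (.leaf 603) (.leaf 540))) (.node (.node (.node (.leaf 434) (.leaf 1313)) (.leaf 569)) (.node (.leaf 799) (.leaf 697)))))) (.node (.node (.node (.node (.node (.node (.leaf 4) (.leaf 746)) (.leaf 857)) (.node (.node (.leaf 507) (.leaf 1289)) (.leaf 1086))) (.node (.node (.node (.leaf 68) (.leaf 984)) (.leaf 561)) (.node (.leaf 223) (.leaf 597)))) (.node (.node (.node (.node (.leaf 176) (.leaf 963)) (.leaf 914)) (.node (.node (.leaf 174) (.leaf 1359)) (.leaf 528))) (.node (.node (.node (.leaf 109) (.leaf 1088)) (.leaf 817)) (.node (.leaf 248) (.leaf 680))))) (.node (.node (.node (.node (.node (.leaf 18) (.leaf 770)) (.leaf 311)) (.node (.node (.leaf 330) (.leaf 1278)) (.leaf 1104))) (.node (.node (.node (.leaf 349) (.leaf 1220)) (.leaf 991)) (.node (.leaf 309) (.leaf 635)))) (.node (.node (.node (.node (.leaf 58) (.leaf 927)) (.leaf 358)) (.node (.leaf 288) (.leaf 623))) (.node (.node (.node (.leaf 456) (.leaf 1174)) (.leaf 592)) (.node (.leaf 268) (.leaf 1112)))))))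 (.node (.node (.node (.node (.node (.node (.node (.leaf 36) (.leaf 1154)) (.leaf 734)) (.node (.node (.leaf 270) (.leaf 1208)) (.leaf 470))) (.node (.node (.node (.leaf 63) (.leaf 969)) (.leaf 905)) (.node (.leaf 676) (.leaf 658)))) (.node (.node (.node (.node (.leaf 29) (.leaf 1108)) (.leaf 557)) (.node (.node (.leaf 171) (.leaf 1355)) (.leaf 536))) (.node (.node (.node (.leaf 390) (.leaf 1079)) (.leaf 987)) (.node (.leaf 244) (.leaf 665))))) (.node (.node (.node (.node (.node (.leaf 14) (.leaf 1224)) (.leaf 735)) (.node (.node (.leaf 551) (.leaf 1349)) (.leaf 932))) (.node (.node (.node (.leaf 331) (.leaf 1282)) (.leaf 982)) (.node (.leaf 716) (.leaf 624)))) (.node (.node (.node (.node (.leaf 44) (.leaf 888)) (.leaf 928)) (.node (.leaf 320) (.leaf 1125))) (.node (.node (.node (.leaf 132) (.leaf 1228)) (.leaf 447)) (.node (.leaf 518) (.leaf 705)))))) (.node (.node (.node (.node (.node (.node (.leaf 7) (.leaf 1147)) (.leaf 292)) (.node (.node (.leaf 265) (.leaf 1307)) (.leaf 480))) (.node (.node (.node (.leaf 127) (.leaf 1120)) (.leaf 388)) (.node (.leaf 698) (.leaf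 688)))) (.node (.node (.node (.node (.leaf 193) (.leaf 850)) (.leaf 355)) (.node (.leaf 178) (.leaf 858))) (.node (.node (.node (.leaf 418) (.leaf 1312)) (.leaf 836)) (.node (.leaf 369) (.leaf 715))))) (.node (.node (.node (.node (.node (.leaf 116) (.leaf 1140)) (.leaf 890)) (.node (.node (.leaf 344) (.leaf 1339)) (.leaf 952))) (.node (.node (.node (.leaf 170) (.leaf 1190)) (.leaf 997)) (.node (.leaf 742) (.leaf 824)))) (.node (.node (.node (.node (.leaf 247) (.leaf 1051)) (.leaf 947)) (.node (.leaf 198) (.leaf 884))) (.node (.node (.node (.leaf 471) (.leaf 1189)) (.leaf 669)) (.node (.leaf 275) (.leaf 722)))))))) (.node (.node (.node (.node (.node (.node (.node (.node (.leaf 27) (.leaf 1196)) (.leaf 493)) (.node (.node (.leaf 444) (.leaf 1335)) (.leaf 663))) (.node (.node (.node (.leaf 137) (.leaf 957)) (.leaf 959)) (.node (.leaf 461) (.leaf 580)))) (.node (.node (.node (.node (.leaf 154) (.leaf 796)) (.leaf 629)) (.node (.node (.leaf 362) (.leaf 1325)) (.leaf 520))) (.node (.node (.node (.leaf 381) (.leaf 1301)) (.leaf 954)) (.node (.leaf 335) (.leaf 936))))) (.node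 (.node (.node (.node (.node (.leaf 12) (.leaf 765)) (.leaf 299)) (.node (.node (.leaf 151) (.leaf 1256)) (.leaf 831))) (.node (.node (.node (.leaf 188) (.leaf 1273)) (.leaf 398)) (.node (.leaf 684) (.leaf 904)))) (.node (.node (.node (.node (.leaf 47) (.leaf 962)) (.leaf 406)) (.node (.leaf 325) (.leaf 546))) (.node (.node (.node (.leaf 159) (.leaf 1150)) (.leaf 878)) (.node (.leaf 785) (.leaf 709)))))) (.node (.node (.node (.node (.node (.node (.leaf 50) (.leaf 752)) (.leaf 318)) (.node (.node (.leaf 513) (.leaf 1232)) (.leaf 477))) (.node (.node (.node (.leaf 295) (.leaf 1268)) (.leaf 775)) (.node (.leaf 692) (.leaf 617)))) (.node (.node (.node (.node (.leaf 35) (.leaf 964)) (.leaf 338)) (.node (.leaf 185) (.leaf 1100))) (.node (.node (.node (.leaf 412) (.leaf 1094)) (.leaf 1033)) (.node (.leaf 251) (.leaf 1170))))) (.node (.node (.node (.node (.node (.leaf 125) (.leaf 1227)) (.leaf 862)) (.node (.node (.leaf 563) (.leaf 1287)) (.leaf 506))) (.node (.node (.node (.leaf 341) (.leaf 1283)) (.leaf 993)) (.node (.leaf 317) (.leaf 1157)))) (.node (.node (.node (.node (.leaf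 136) (.leaf 926)) (.leaf 636)) (.node (.leaf 196) (.leaf 1041))) (.node (.node (.node (.leaf 123) (.leaf 1271)) (.leaf 457)) (.node (.leaf 286) (.leaf 1177))))))) (.node (.node (.node (.node (.node (.node (.node (.leaf 46) (.leaf 882)) (.leaf 641)) (.node (.node (.leaf 502) (.leaf 1218)) (.leaf 1027))) (.node (.node (.node (.leaf 280) (.leaf 1214)) (.leaf 965)) (.node (.leaf 207) (.leaf 881)))) (.node (.node (.node (.node (.leaf 114) (.leaf 847)) (.leaf 332)) (.node (.node (.leaf 455) (.leaf 1363)) (.leaf 1103))) (.node (.node (.node (.leaf 399) (.leaf 1302)) (.leaf 988)) (.node (.leaf 333) (.leaf 1161))))) (.node (.node (.node (.node (.node (.leaf 103) (.leaf 774)) (.leaf 841)) (.node (.node (.leaf 490) (.leaf 1334)) (.leaf 753))) (.node (.node (.node (.leaf 340) (.leaf 1250)) (.leaf 690)) (.node (.leaf 729) (.leaf 948)))) (.node (.node (.node (.node (.leaf 213) (.leaf 900)) (.leaf 883)) (.node (.leaf 190) (.leaf 1130))) (.node (.node (.node (.leaf 450) (.leaf 1324)) (.leaf 451)) (.node (.leaf 514) (.leaf 748)))))) (.node (.node (.node (.node (.node (.node (.leaf 78)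 (.leaf 1209)) (.leaf 869)) (.node (.node (.leaf 504) (.leaf 1311)) (.leaf 483))) (.node (.node (.node (.leaf 231) (.leaf 1114)) (.leaf 916)) (.node (.leaf 221) (.leaf 1139)))) (.node (.node (.node (.node (.leaf 53) (.leaf 895)) (.leaf 554)) (.node (.leaf 180) (.leaf 575))) (.node (.node (.node (.leaf 403) (.leaf 1277)) (.leaf 555)) (.node (.leaf 255) (.leaf 691))))) (.node (.node (.node (.node (.node (.leaf 139) (.leaf 788)) (.leaf 863)) (.node (.node (.leaf 360) (.leaf 1343)) (.leaf 807))) (.node (.node (.node (.leaf 90) (.leaf 1060)) (.leaf 421)) (.node (.leaf 747) (.leaf 647)))) (.node (.node (.node (.node (.leaf 155) (.leaf 937)) (.leaf 532)) (.node (.leaf 310) (.leaf 1119))) (.node (.node (.node (.leaf 479) (.leaf 1290)) (.leaf 1070)) (.node (.leaf 828) (.leaf 1085))))))))))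

/-- A table. -/
noncomputable def lineOrbNext5 : BTree := .node lineOrbNext5L lineOrbNext5R

/-- Part of a table. -/
noncomputable def lineOrbSrtL : BTree := (.node (.node (.node (.node (.node (.node (.node (.node (.node (.node (.leaf 1206) (.leaf 958)) (.leaf 877)) (.node (.node (.leaf 754) (.leaf 814)) (.leaf 132))) (.node (.node (.node (.leaf 818) (.leaf 963)) (.leaf 808)) (.node (.leaf 836) (.leaf 654)))) (.node (.node (.node (.node (.leaf 1073) (.leaf 652)) (.leaf 453)) (.node (.node (.leaf 1062) (.leaf 1296)) (.leaf 158))) (.node (.node (.node (.leaf 14) (.leaf 1120)) (.leaf 78)) (.node (.leaf 385) (.leaf 594))))) (.node (.node (.node (.node (.node (.leaf 1209) (.leaf 127)) (.leaf 481)) (.node (.node (.leaf 1075) (.leaf 402)) (.leaf 918))) (.node (.node (.node (.leaf 900) (.leaf 600)) (.leaf 1219)) (.node (.leaf 102) (.leaf 1163)))) (.node (.node (.node (.node (.leaf 207) (.leaf 1202)) (.leaf 1244)) (.node (.leaf 324) (.leaf 1265))) (.node (.node (.node (.leaf 518) (.leaf 707)) (.leaf 410)) (.node (.leaf 160) (.leaf 1118)))))) (.node (.node (.node (.node (.node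 (.node (.leaf 1205) (.leaf 565)) (.leaf 27)) (.node (.node (.leaf 962) (.leaf 300)) (.leaf 18))) (.node (.node (.node (.leaf 1017) (.leaf 742)) (.leaf 1169)) (.node (.leaf 966) (.leaf 1359)))) (.node (.node (.node (.node (.leaf 1215) (.leaf 53)) (.leaf 673)) (.node (.node (.leaf 1274) (.leaf 1273)) (.leaf 351))) (.node (.node (.node (.leaf 468) (.leaf 1319)) (.leaf 747)) (.node (.leaf 227) (.leaf 195))))) (.node (.node (.node (.node (.node (.leaf 701) (.leaf 36)) (.leaf 616)) (.node (.node (.leaf 1078) (.leaf 603)) (.leaf 11))) (.node (.node (.node (.leaf 1161) (.leaf 938)) (.leaf 264)) (.node (.leaf 161) (.leaf 625)))) (.node (.node (.node (.node (.leaf 745) (.leaf 607)) (.leaf 546)) (.node (.leaf 813) (.leaf 774))) (.node (.node (.node (.leaf 170) (.leaf 346)) (.leaf 915)) (.node (.leaf 1025) (.leaf 443))))))) (.node (.node (.node (.node (.node (.node (.node (.leaf 755) (.leaf 1286)) (.leaf 916)) (.node (.node (.leaf 898) (.leaf 883)) (.leaf 676))) (.node (.node (.node (.leaf 670) (.leaf 585)) (.leaf 975)) (.node (.leaf 308) (.leaf 232)))) (.node (.node (.node (.node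 (.leaf 1135) (.leaf 1101)) (.leaf 792)) (.node (.node (.leaf 858) (.leaf 925)) (.leaf 786))) (.node (.node (.node (.leaf 809) (.leaf 943)) (.leaf 225)) (.node (.leaf 221) (.leaf 595))))) (.node (.node (.node (.node (.node (.leaf 783) (.leaf 525)) (.leaf 541)) (.node (.node (.leaf 474) (.leaf 426)) (.leaf 429))) (.node (.node (.node (.leaf 1069) (.leaf 1302)) (.leaf 1322)) (.node (.leaf 288) (.leaf 636)))) (.node (.node (.node (.node (.leaf 1279) (.leaf 982)) (.leaf 76)) (.node (.leaf 77) (.leaf 1058))) (.node (.node (.node (.leaf 472) (.leaf 439)) (.leaf 368)) (.node (.leaf 663) (.leaf 133)))))) (.node (.node (.node (.node (.node (.node (.leaf 461) (.leaf 1175)) (.leaf 479)) (.node (.node (.leaf 451) (.leaf 294)) (.leaf 88))) (.node (.node (.node (.leaf 926) (.leaf 563)) (.leaf 1185)) (.node (.leaf 493) (.leaf 634)))) (.node (.node (.node (.node (.leaf 1313) (.leaf 136)) (.leaf 142)) (.node (.leaf 1184) (.leaf 217))) (.node (.node (.node (.leaf 458) (.leaf 104)) (.leaf 176)) (.node (.leaf 851) (.leaf 981))))) (.node (.node (.node (.node (.node (.leaf 1061) (.leaf 38))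 (.leaf 360)) (.node (.node (.leaf 399) (.leaf 405)) (.leaf 1155))) (.node (.node (.node (.leaf 1321) (.leaf 1148)) (.leaf 671)) (.node (.leaf 692) (.leaf 269)))) (.node (.node (.node (.node (.leaf 734) (.leaf 629)) (.leaf 55)) (.node (.leaf 1072) (.leaf 17))) (.node (.node (.node (.leaf 1007) (.leaf 1328)) (.leaf 579)) (.node (.leaf 1004) (.leaf 935)))))))) (.node (.node (.node (.node (.node (.node (.node (.node (.leaf 1282) (.leaf 991)) (.leaf 552)) (.node (.node (.leaf 584) (.leaf 1337)) (.leaf 1115))) (.node (.node (.node (.leaf 678) (.leaf 262)) (.leaf 567)) (.node (.leaf 726) (.leaf 93)))) (.node (.node (.node (.node (.leaf 661) (.leaf 1241)) (.leaf 255)) (.node (.node (.leaf 776) (.leaf 355)) (.leaf 86))) (.node (.node (.node (.leaf 447) (.leaf 942)) (.leaf 245)) (.node (.leaf 733) (.leaf 683))))) (.node (.node (.node (.node (.node (.leaf 432) (.leaf 128)) (.leaf 801)) (.node (.node (.leaf 460) (.leaf 602)) (.leaf 871))) (.node (.node (.node (.leaf 899) (.leaf 1133)) (.leaf 514)) (.node (.leaf 389) (.leaf 929)))) (.node (.node (.node (.node (.leaf 1290) (.leaf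 985)) (.leaf 1096)) (.node (.leaf 944) (.leaf 1212))) (.node (.node (.node (.leaf 1018) (.leaf 615)) (.leaf 209)) (.node (.leaf 442) (.leaf 1113)))))) (.node (.node (.node (.node (.node (.node (.leaf 908) (.leaf 271)) (.leaf 543)) (.node (.node (.leaf 235) (.leaf 341)) (.leaf 12))) (.node (.node (.node (.leaf 471) (.leaf 888)) (.leaf 1224)) (.node (.leaf 1222) (.leaf 711)))) (.node (.node (.node (.node (.leaf 575) (.leaf 267)) (.leaf 441)) (.node (.node (.leaf 613) (.leaf 1364)) (.leaf 659))) (.node (.node (.node (.leaf 1012) (.leaf 302)) (.leaf 1340)) (.node (.leaf 374) (.leaf 1269))))) (.node (.node (.node (.node (.node (.leaf 1035) (.leaf 8)) (.leaf 184)) (.node (.node (.leaf 372) (.leaf 875)) (.leaf 1121))) (.node (.node (.node (.leaf 1320) (.leaf 1263)) (.leaf 529)) (.node (.leaf 260) (.leaf 699)))) (.node (.node (.node (.node (.leaf 515) (.leaf 983)) (.leaf 619)) (.node (.leaf 494) (.leaf 635))) (.node (.node (.node (.leaf 574) (.leaf 1105)) (.leaf 192)) (.node (.leaf 780) (.leaf 510))))))) (.node (.node (.node (.node (.node (.node (.node (.leaf 1036) (.leaf 1317))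 (.leaf 1046)) (.node (.node (.leaf 220) (.leaf 103)) (.leaf 581))) (.node (.node (.node (.leaf 1195) (.leaf 214)) (.leaf 728)) (.node (.leaf 286) (.leaf 1324)))) (.node (.node (.node (.node (.leaf 251) (.leaf 736)) (.leaf 528)) (.node (.node (.leaf 639) (.leaf 1308)) (.leaf 155))) (.node (.node (.node (.leaf 1238) (.leaf 815)) (.leaf 43)) (.node (.leaf 266) (.leaf 566))))) (.node (.node (.node (.node (.node (.leaf 247) (.leaf 517)) (.leaf 1311)) (.node (.node (.leaf 1314) (.leaf 257)) (.leaf 1111))) (.node (.node (.node (.leaf 1194) (.leaf 1341)) (.leaf 332)) (.node (.leaf 331) (.leaf 827)))) (.node (.node (.node (.node (.leaf 1109) (.leaf 847)) (.leaf 299)) (.node (.leaf 1221) (.leaf 1326))) (.node (.node (.node (.leaf 995) (.leaf 553)) (.leaf 679)) (.node (.leaf 1044) (.leaf 366)))))) (.node (.node (.node (.node (.node (.node (.leaf 668) (.leaf 165)) (.leaf 919)) (.node (.node (.leaf 3) (.leaf 222)) (.leaf 687))) (.node (.node (.node (.leaf 749) (.leaf 89)) (.leaf 491)) (.node (.leaf 999) (.leaf 81)))) (.node (.node (.node (.node (.leaf 1233) (.leaf 94)) (.leaf 522))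 (.node (.leaf 181) (.leaf 1306))) (.node (.node (.node (.leaf 421) (.leaf 561)) (.leaf 277)) (.node (.leaf 576) (.leaf 609))))) (.node (.node (.node (.node (.node (.leaf 781) (.leaf 844)) (.leaf 85)) (.node (.node (.leaf 848) (.leaf 1329)) (.leaf 436))) (.node (.node (.node (.leaf 1295) (.leaf 1254)) (.leaf 7)) (.node (.leaf 1335) (.leaf 910)))) (.node (.node (.node (.node (.leaf 545) (.leaf 396)) (.leaf 532)) (.node (.leaf 1187) (.leaf 377))) (.node (.node (.node (.leaf 965) (.leaf 1268)) (.leaf 788)) (.node (.leaf 896) (.leaf 1179))))))))) (.node (.node (.node (.node (.node (.node (.node (.node (.node (.leaf 1162) (.leaf 130)) (.leaf 215)) (.node (.node (.leaf 740) (.leaf 1353)) (.leaf 1039))) (.node (.node (.node (.leaf 233) (.leaf 978)) (.leaf 168)) (.node (.leaf 1080) (.leaf 143)))) (.node (.node (.node (.node (.leaf 1052) (.leaf 60)) (.leaf 723)) (.node (.node (.leaf 534) (.leaf 714)) (.leaf 206))) (.node (.node (.node (.leaf 390) (.leaf 627)) (.leaf 5)) (.node (.leaf 243) (.leaf 752))))) (.node (.node (.node (.node (.node (.leaf 1281) (.leaf 1235)) (.leaf 797))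 (.node (.node (.leaf 773) (.leaf 298)) (.leaf 342))) (.node (.node (.node (.leaf 388) (.leaf 191)) (.leaf 508)) (.node (.leaf 291) (.leaf 1024)))) (.node (.node (.node (.node (.leaf 1145) (.leaf 980)) (.leaf 551)) (.node (.leaf 382) (.leaf 1351))) (.node (.node (.node (.leaf 497) (.leaf 923)) (.leaf 570)) (.node (.leaf 833) (.leaf 496)))))) (.node (.node (.node (.node (.node (.node (.leaf 758) (.leaf 1103)) (.leaf 1098)) (.node (.node (.leaf 35) (.leaf 873)) (.leaf 29))) (.node (.node (.node (.leaf 446) (.leaf 593)) (.leaf 1218)) (.node (.leaf 1300) (.leaf 1356)))) (.node (.node (.node (.node (.leaf 669) (.leaf 336)) (.leaf 435)) (.node (.node (.leaf 642) (.leaf 1352)) (.leaf 648))) (.node (.node (.node (.leaf 356) (.leaf 1357)) (.leaf 450)) (.node (.leaf 415) (.leaf 52))))) (.node (.node (.node (.node (.node (.leaf 974) (.leaf 622)) (.leaf 798)) (.node (.node (.leaf 1006) (.leaf 1142)) (.leaf 169))) (.node (.node (.node (.leaf 729) (.leaf 1303)) (.leaf 1358)) (.node (.leaf 309) (.leaf 393)))) (.node (.node (.node (.node (.leaf 194) (.leaf 315)) (.leaf 445)) (.node (.leaf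 1160) (.leaf 1213))) (.node (.node (.node (.leaf 559) (.leaf 345)) (.leaf 339)) (.node (.leaf 416) (.leaf 909))))))) (.node (.node (.node (.node (.node (.node (.node (.leaf 1038) (.leaf 1256)) (.leaf 144)) (.node (.node (.leaf 735) (.leaf 152)) (.leaf 582))) (.node (.node (.node (.leaf 1031) (.leaf 693)) (.leaf 431)) (.node (.leaf 340) (.leaf 846)))) (.node (.node (.node (.node (.leaf 930) (.leaf 1183)) (.leaf 200)) (.node (.node (.leaf 400) (.leaf 1330)) (.leaf 1088))) (.node (.node (.node (.leaf 459) (.leaf 521)) (.leaf 210)) (.node (.leaf 238) (.leaf 1048))))) (.node (.node (.node (.node (.node (.leaf 717) (.leaf 650)) (.leaf 799)) (.node (.node (.leaf 763) (.leaf 1016)) (.leaf 589))) (.node (.node (.node (.leaf 1261) (.leaf 1168)) (.leaf 495)) (.node (.leaf 1099) (.leaf 753)))) (.node (.node (.node (.node (.leaf 1305) (.leaf 1047)) (.leaf 242)) (.node (.leaf 1057) (.leaf 1255))) (.node (.node (.node (.leaf 530) (.leaf 1128)) (.leaf 1108)) (.node (.leaf 892) (.leaf 1130)))))) (.node (.node (.node (.node (.node (.node (.leaf 782) (.leaf 69)) (.leaf 876)) (.node (.node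 (.leaf 887) (.leaf 795)) (.leaf 185))) (.node (.node (.node (.leaf 1189) (.leaf 969)) (.leaf 526)) (.node (.leaf 456) (.leaf 327)))) (.node (.node (.node (.node (.leaf 1190) (.leaf 1171)) (.leaf 370)) (.node (.leaf 704) (.leaf 352))) (.node (.node (.node (.leaf 1008) (.leaf 413)) (.leaf 283)) (.node (.leaf 444) (.leaf 820))))) (.node (.node (.node (.node (.node (.leaf 1199) (.leaf 1084)) (.leaf 884)) (.node (.node (.leaf 859) (.leaf 1125)) (.leaf 162))) (.node (.node (.node (.leaf 1262) (.leaf 624)) (.leaf 672)) (.node (.leaf 724) (.leaf 272)))) (.node (.node (.node (.node (.leaf 149) (.leaf 630)) (.leaf 712)) (.node (.leaf 1066) (.leaf 117))) (.node (.node (.node (.leaf 1312) (.leaf 986)) (.leaf 789)) (.node (.leaf 289) (.leaf 364)))))))) (.node (.node (.node (.node (.node (.node (.node (.node (.leaf 759) (.leaf 959)) (.leaf 56)) (.node (.node (.leaf 1023) (.leaf 940)) (.leaf 751))) (.node (.node (.node (.leaf 276) (.leaf 830)) (.leaf 768)) (.node (.leaf 777) (.leaf 25)))) (.node (.node (.node (.node (.leaf 455) (.leaf 879)) (.leaf 987)) (.node (.node (.leaf 420) (.leaf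 547)) (.leaf 15))) (.node (.node (.node (.leaf 862) (.leaf 1157)) (.leaf 760)) (.node (.leaf 708) (.leaf 95))))) (.node (.node (.node (.node (.node (.leaf 1164) (.leaf 383)) (.leaf 1015)) (.node (.node (.leaf 150) (.leaf 1236)) (.leaf 357))) (.node (.node (.node (.leaf 1033) (.leaf 1132)) (.leaf 282)) (.node (.leaf 901) (.leaf 107)))) (.node (.node (.node (.node (.leaf 1249) (.leaf 1045)) (.leaf 1272)) (.node (.leaf 303) (.leaf 1076))) (.node (.node (.node (.leaf 475) (.leaf 800)) (.leaf 644)) (.node (.leaf 1134) (.leaf 489)))))) (.node (.node (.node (.node (.node (.node (.leaf 463) (.leaf 1170)) (.leaf 715)) (.node (.node (.leaf 395) (.leaf 544)) (.leaf 353))) (.node (.node (.node (.leaf 1211) (.leaf 193)) (.leaf 810)) (.node (.leaf 837) (.leaf 1010)))) (.node (.node (.node (.node (.leaf 667) (.leaf 913)) (.leaf 408)) (.node (.leaf 319) (.leaf 571))) (.node (.node (.node (.leaf 424) (.leaf 179)) (.leaf 1247)) (.node (.leaf 380) (.leaf 270))))) (.node (.node (.node (.node (.node (.leaf 1280) (.leaf 9)) (.leaf 188)) (.node (.node (.leaf 337) (.leaf 791)) (.leaf 437)))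 (.node (.node (.node (.leaf 101) (.leaf 1225)) (.leaf 556)) (.node (.leaf 384) (.leaf 845)))) (.node (.node (.node (.node (.leaf 598) (.leaf 964)) (.leaf 1119)) (.node (.leaf 1208) (.leaf 826))) (.node (.node (.node (.leaf 970) (.leaf 500)) (.leaf 361)) (.node (.leaf 718) (.leaf 989))))))) (.node (.node (.node (.node (.node (.node (.node (.leaf 1220) (.leaf 1159)) (.leaf 737)) (.node (.node (.leaf 1332) (.leaf 1095)) (.leaf 164))) (.node (.node (.node (.leaf 123) (.leaf 647)) (.leaf 1032)) (.node (.leaf 519) (.leaf 1360)))) (.node (.node (.node (.node (.leaf 778) (.leaf 237)) (.leaf 590)) (.node (.node (.leaf 895) (.leaf 1246)) (.leaf 156))) (.node (.node (.node (.leaf 928) (.leaf 501)) (.leaf 710)) (.node (.leaf 196) (.leaf 63))))) (.node (.node (.node (.node (.node (.leaf 430) (.leaf 97)) (.leaf 223)) (.node (.node (.leaf 1193) (.leaf 796)) (.leaf 1107))) (.node (.node (.node (.leaf 725) (.leaf 1150)) (.leaf 145)) (.node (.leaf 438) (.leaf 994)))) (.node (.node (.node (.node (.leaf 1043) (.leaf 1100)) (.leaf 71)) (.node (.leaf 558) (.leaf 1292))) (.node (.node (.node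 (.leaf 228) (.leaf 44)) (.leaf 174)) (.node (.leaf 804) (.leaf 889)))))) (.node (.node (.node (.node (.node (.node (.leaf 757) (.leaf 21)) (.leaf 483)) (.node (.node (.leaf 1250) (.leaf 212)) (.leaf 16))) (.node (.node (.node (.leaf 322) (.leaf 897)) (.leaf 1301)) (.node (.leaf 292) (.leaf 90)))) (.node (.node (.node (.node (.leaf 1143) (.leaf 912)) (.leaf 367)) (.node (.leaf 945) (.leaf 939))) (.node (.node (.node (.leaf 499) (.leaf 878)) (.leaf 72)) (.node (.leaf 1310) (.leaf 178))))) (.node (.node (.node (.node (.node (.leaf 1081) (.leaf 67)) (.leaf 187)) (.node (.node (.leaf 467) (.leaf 1354)) (.leaf 28))) (.node (.node (.node (.leaf 1067) (.leaf 1149)) (.leaf 39)) (.node (.leaf 42) (.leaf 119)))) (.node (.node (.node (.node (.leaf 387) (.leaf 304)) (.leaf 1188)) (.node (.leaf 709) (.leaf 560))) (.node (.node (.node (.leaf 829) (.leaf 953)) (.leaf 1276)) (.node (.leaf 1085) (.leaf 511))))))))))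

/-- Part of a table. -/
noncomputable def lineOrbSrtR : BTree := (.node (.node (.node (.node (.node (.node (.node (.node (.node (.node (.leaf 769) (.leaf 131)) (.leaf 697)) (.node (.node (.leaf 689) (.leaf 1293)) (.leaf 1140))) (.node (.node (.node (.leaf 397) (.leaf 932)) (.leaf 203)) (.node (.leaf 205) (.leaf 26)))) (.node (.node (.node (.node (.leaf 1054) (.leaf 59)) (.leaf 365)) (.node (.node (.leaf 927) (.leaf 684)) (.leaf 30))) (.node (.node (.node (.leaf 323) (.leaf 967)) (.leaf 51)) (.node (.leaf 731) (.leaf 680))))) (.node (.node (.node (.node (.node (.leaf 392) (.leaf 1123)) (.leaf 258)) (.node (.node (.leaf 1154) (.leaf 422)) (.leaf 1091))) (.node (.node (.node (.leaf 82) (.leaf 824)) (.leaf 134)) (.node (.leaf 84) (.leaf 311)))) (.node (.node (.node (.node (.leaf 208) (.leaf 979)) (.leaf 92)) (.node (.leaf 628) (.leaf 1318))) (.node (.node (.node (.leaf 265) (.leaf 738)) (.leaf 73)) (.node (.leaf 166) (.leaf 608)))))) (.node (.node (.node (.node (.node (.node (.leaf 1203) (.leaf 344)) (.leaf 57)) (.node (.node (.leaf 49) (.leaf 110)) (.leaf 0))) (.node (.node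 (.node (.leaf 419) (.leaf 705)) (.leaf 1068)) (.node (.leaf 1204) (.leaf 1344)))) (.node (.node (.node (.node (.leaf 1285) (.leaf 61)) (.leaf 328)) (.node (.node (.leaf 1000) (.leaf 1338)) (.leaf 349))) (.node (.node (.node (.leaf 924) (.leaf 1345)) (.leaf 537)) (.node (.leaf 779) (.leaf 40))))) (.node (.node (.node (.node (.node (.leaf 770) (.leaf 6)) (.leaf 1237)) (.node (.node (.leaf 1022) (.leaf 867)) (.leaf 572))) (.node (.node (.node (.leaf 766) (.leaf 937)) (.leaf 287)) (.node (.leaf 114) (.leaf 990)))) (.node (.node (.node (.node (.leaf 533) (.leaf 96)) (.leaf 716)) (.node (.leaf 1283) (.leaf 946))) (.node (.node (.node (.leaf 1110) (.leaf 197)) (.leaf 597)) (.node (.leaf 216) (.leaf 614))))))) (.node (.node (.node (.node (.node (.node (.node (.leaf 592) (.leaf 1350)) (.leaf 917)) (.node (.node (.leaf 721) (.leaf 872)) (.leaf 675))) (.node (.node (.node (.leaf 976) (.leaf 189)) (.leaf 765)) (.node (.leaf 516) (.leaf 933)))) (.node (.node (.node (.node (.leaf 173) (.leaf 65)) (.leaf 988)) (.node (.node (.leaf 864) (.leaf 1248)) (.leaf 163))) (.node (.node (.node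 (.leaf 125) (.leaf 828)) (.leaf 621)) (.node (.leaf 498) (.leaf 681))))) (.node (.node (.node (.node (.node (.leaf 730) (.leaf 587)) (.leaf 224)) (.node (.node (.leaf 620) (.leaf 296)) (.leaf 1245))) (.node (.node (.node (.leaf 1165) (.leaf 1315)) (.leaf 1347)) (.node (.leaf 971) (.leaf 284)))) (.node (.node (.node (.node (.leaf 1181) (.leaf 881)) (.leaf 79)) (.node (.leaf 1259) (.leaf 1151))) (.node (.node (.node (.leaf 126) (.leaf 1005)) (.leaf 860)) (.node (.leaf 893) (.leaf 513)))))) (.node (.node (.node (.node (.node (.node (.leaf 204) (.leaf 1270)) (.leaf 151)) (.node (.node (.leaf 850) (.leaf 480)) (.leaf 1271))) (.node (.node (.node (.leaf 1304) (.leaf 954)) (.leaf 268)) (.node (.leaf 1343) (.leaf 320)))) (.node (.node (.node (.node (.leaf 1331) (.leaf 505)) (.leaf 326)) (.node (.leaf 706) (.leaf 698))) (.node (.node (.node (.leaf 1126) (.leaf 411)) (.leaf 812)) (.node (.leaf 454) (.leaf 1173))))) (.node (.node (.node (.node (.node (.leaf 1074) (.leaf 46)) (.leaf 359)) (.node (.node (.leaf 290) (.leaf 226)) (.leaf 157))) (.node (.node (.node (.leaf 1166) (.leaf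 1323)) (.leaf 66)) (.node (.leaf 58) (.leaf 64)))) (.node (.node (.node (.node (.leaf 492) (.leaf 993)) (.leaf 249)) (.node (.leaf 1207) (.leaf 48))) (.node (.node (.node (.leaf 894) (.leaf 682)) (.leaf 37)) (.node (.leaf 106) (.leaf 936)))))))) (.node (.node (.node (.node (.node (.node (.node (.node (.leaf 1196) (.leaf 992)) (.leaf 1243)) (.node (.node (.leaf 1158) (.leaf 865)) (.leaf 490))) (.node (.node (.node (.leaf 449) (.leaf 279)) (.leaf 727)) (.node (.leaf 1355) (.leaf 13)))) (.node (.node (.node (.node (.leaf 1055) (.leaf 234)) (.leaf 550)) (.node (.node (.leaf 931) (.leaf 540)) (.leaf 583))) (.node (.node (.node (.leaf 239) (.leaf 839)) (.leaf 1090)) (.node (.leaf 246) (.leaf 1172))))) (.node (.node (.node (.node (.node (.leaf 1037) (.leaf 80)) (.leaf 1177)) (.node (.node (.leaf 762) (.leaf 183)) (.leaf 866))) (.node (.node (.node (.leaf 1198) (.leaf 573)) (.leaf 504)) (.node (.leaf 849) (.leaf 252)))) (.node (.node (.node (.node (.leaf 1333) (.leaf 138)) (.leaf 549)) (.node (.leaf 1242) (.leaf 1059))) (.node (.node (.node (.leaf 1129) (.leaf 802)) (.leaf 577))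 (.node (.leaf 841) (.leaf 1114)))))) (.node (.node (.node (.node (.node (.node (.leaf 1053) (.leaf 855)) (.leaf 868)) (.node (.node (.leaf 690) (.leaf 354)) (.leaf 109))) (.node (.node (.node (.leaf 373) (.leaf 961)) (.leaf 1070)) (.node (.leaf 1210) (.leaf 1156)))) (.node (.node (.node (.node (.leaf 666) (.leaf 137)) (.leaf 115)) (.node (.leaf 885) (.leaf 580))) (.node (.node (.node (.leaf 122) (.leaf 180)) (.leaf 1217)) (.node (.leaf 398) (.leaf 596))))) (.node (.node (.node (.node (.node (.leaf 1192) (.leaf 2)) (.leaf 512)) (.node (.node (.leaf 506) (.leaf 478)) (.leaf 307))) (.node (.node (.node (.leaf 1216) (.leaf 1348)) (.leaf 569)) (.node (.leaf 259) (.leaf 317)))) (.node (.node (.node (.node (.leaf 523) (.leaf 606)) (.leaf 536)) (.node (.leaf 539) (.leaf 643))) (.node (.node (.node (.leaf 473) (.leaf 1116)) (.leaf 190)) (.node (.leaf 1020) (.leaf 417))))))) (.node (.node (.node (.node (.node (.node (.node (.leaf 578) (.leaf 677)) (.leaf 739)) (.node (.node (.leaf 263) (.leaf 482)) (.leaf 23))) (.node (.node (.node (.leaf 433) (.leaf 691)) (.leaf 1064)) (.node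 (.leaf 281) (.leaf 1349)))) (.node (.node (.node (.node (.leaf 732) (.leaf 278)) (.leaf 657)) (.node (.node (.leaf 838) (.leaf 1094)) (.leaf 695))) (.node (.node (.node (.leaf 427) (.leaf 631)) (.leaf 1093)) (.node (.leaf 140) (.leaf 996))))) (.node (.node (.node (.node (.node (.leaf 746) (.leaf 306)) (.leaf 211)) (.node (.node (.leaf 771) (.leaf 111)) (.leaf 674))) (.node (.node (.node (.leaf 464) (.leaf 1071)) (.leaf 141)) (.node (.leaf 653) (.leaf 626)))) (.node (.node (.node (.node (.leaf 842) (.leaf 401)) (.leaf 297)) (.node (.leaf 1050) (.leaf 951))) (.node (.node (.node (.leaf 412) (.leaf 218)) (.leaf 371)) (.node (.leaf 748) (.leaf 632)))))) (.node (.node (.node (.node (.node (.node (.leaf 1141) (.leaf 159)) (.leaf 719)) (.node (.node (.leaf 50) (.leaf 47)) (.leaf 108))) (.node (.node (.node (.leaf 240) (.leaf 386)) (.leaf 1226)) (.node (.leaf 1307) (.leaf 91)))) (.node (.node (.node (.node (.leaf 1077) (.leaf 139)) (.leaf 1087)) (.node (.leaf 611) (.leaf 1231))) (.node (.node (.node (.leaf 1014) (.leaf 890)) (.leaf 825)) (.node (.leaf 1136) (.leaf 121))))) (.node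 (.node (.node (.node (.node (.leaf 335) (.leaf 790)) (.leaf 348)) (.node (.node (.leaf 1284) (.leaf 1239)) (.leaf 476))) (.node (.node (.node (.leaf 973) (.leaf 1325)) (.leaf 75)) (.node (.leaf 175) (.leaf 911)))) (.node (.node (.node (.node (.leaf 641) (.leaf 956)) (.leaf 120)) (.node (.leaf 1287) (.leaf 557))) (.node (.node (.node (.leaf 741) (.leaf 947)) (.leaf 1040)) (.node (.leaf 949) (.leaf 948))))))))) (.node (.node (.node (.node (.node (.node (.node (.node (.node (.leaf 968) (.leaf 409)) (.leaf 105)) (.node (.node (.leaf 612) (.leaf 1363)) (.leaf 1041))) (.node (.node (.node (.leaf 440) (.leaf 313)) (.leaf 41)) (.node (.leaf 462) (.leaf 19)))) (.node (.node (.node (.node (.leaf 1298) (.leaf 1201)) (.leaf 696)) (.node (.node (.leaf 1200) (.leaf 686)) (.leaf 645))) (.node (.node (.node (.leaf 321) (.leaf 904)) (.leaf 250)) (.node (.leaf 470) (.leaf 984))))) (.node (.node (.node (.node (.node (.leaf 1138) (.leaf 834)) (.leaf 425)) (.node (.node (.leaf 1082) (.leaf 293)) (.leaf 343))) (.node (.node (.node (.leaf 863) (.leaf 921)) (.leaf 148)) (.node (.leaf 861) (.leaf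 880)))) (.node (.node (.node (.node (.leaf 1229) (.leaf 1176)) (.leaf 154)) (.node (.leaf 1083) (.leaf 520))) (.node (.node (.node (.leaf 334) (.leaf 1234)) (.leaf 202)) (.node (.leaf 960) (.leaf 568)))))) (.node (.node (.node (.node (.node (.node (.leaf 1051) (.leaf 1117)) (.leaf 869)) (.node (.node (.leaf 45) (.leaf 548)) (.leaf 1))) (.node (.node (.node (.leaf 466) (.leaf 819)) (.leaf 1065)) (.node (.leaf 448) (.leaf 835)))) (.node (.node (.node (.node (.leaf 1028) (.leaf 118)) (.leaf 230)) (.node (.node (.leaf 832) (.leaf 1362)) (.leaf 254))) (.node (.node (.node (.leaf 124) (.leaf 487)) (.leaf 1294)) (.node (.leaf 100) (.leaf 1003))))) (.node (.node (.node (.node (.node (.leaf 1167) (.leaf 74)) (.leaf 177)) (.node (.node (.leaf 1019) (.leaf 477)) (.leaf 1112))) (.node (.node (.node (.leaf 1063) (.leaf 1264)) (.leaf 68)) (.node (.leaf 694) (.leaf 955)))) (.node (.node (.node (.node (.leaf 274) (.leaf 856)) (.leaf 658)) (.node (.leaf 1289) (.leaf 1153))) (.node (.node (.node (.leaf 229) (.leaf 347)) (.leaf 507)) (.node (.leaf 922) (.leaf 688))))))) (.node (.node (.node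 (.node (.node (.node (.node (.leaf 720) (.leaf 1346)) (.leaf 253)) (.node (.node (.leaf 414) (.leaf 153)) (.leaf 660))) (.node (.node (.node (.leaf 457) (.leaf 236)) (.leaf 1266)) (.node (.leaf 70) (.leaf 1309)))) (.node (.node (.node (.node (.leaf 902) (.leaf 906)) (.leaf 171)) (.node (.node (.leaf 843) (.leaf 1144)) (.leaf 874))) (.node (.node (.node (.leaf 794) (.leaf 952)) (.leaf 618)) (.node (.leaf 503) (.leaf 62))))) (.node (.node (.node (.node (.node (.leaf 391) (.leaf 198)) (.leaf 617)) (.node (.node (.leaf 1060) (.leaf 256)) (.leaf 199))) (.node (.node (.node (.leaf 1029) (.leaf 934)) (.leaf 273)) (.node (.leaf 588) (.leaf 816)))) (.node (.node (.node (.node (.leaf 1336) (.leaf 502)) (.leaf 305)) (.node (.leaf 1228) (.leaf 1232))) (.node (.node (.node (.leaf 649) (.leaf 803)) (.leaf 665)) (.node (.leaf 655) (.leaf 1086)))))) (.node (.node (.node (.node (.node (.node (.leaf 1139) (.leaf 33)) (.leaf 295)) (.node (.node (.leaf 882) (.leaf 604)) (.leaf 87))) (.node (.node (.node (.leaf 1013) (.leaf 997)) (.leaf 172)) (.node (.leaf 469) (.leaf 664)))) (.node (.node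 (.node (.node (.leaf 1342) (.leaf 852)) (.leaf 905)) (.node (.leaf 805) (.leaf 743))) (.node (.node (.node (.leaf 1009) (.leaf 903)) (.leaf 591)) (.node (.leaf 488) (.leaf 531))))) (.node (.node (.node (.node (.node (.leaf 248) (.leaf 280)) (.leaf 350)) (.node (.node (.leaf 452) (.leaf 1124)) (.leaf 201))) (.node (.node (.node (.leaf 241) (.leaf 1227)) (.leaf 817)) (.node (.leaf 1291) (.leaf 821)))) (.node (.node (.node (.node (.leaf 823) (.leaf 186)) (.leaf 703)) (.node (.leaf 1299) (.leaf 231))) (.node (.node (.node (.leaf 840) (.leaf 1174)) (.leaf 1122)) (.node (.leaf 662) (.leaf 358)))))))) (.node (.node (.node (.node (.node (.node (.node (.node (.leaf 1147) (.leaf 485)) (.leaf 147)) (.node (.node (.leaf 950) (.leaf 941)) (.leaf 564))) (.node (.node (.node (.leaf 1056) (.leaf 586)) (.leaf 1197)) (.node (.leaf 972) (.leaf 811)))) (.node (.node (.node (.node (.leaf 702) (.leaf 787)) (.leaf 404)) (.node (.node (.leaf 527) (.leaf 1178)) (.leaf 310))) (.node (.node (.node (.leaf 99) (.leaf 637)) (.leaf 713)) (.node (.leaf 998) (.leaf 1002))))) (.node (.node (.node (.node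 (.node (.leaf 1027) (.leaf 330)) (.leaf 685)) (.node (.node (.leaf 784) (.leaf 423)) (.leaf 605))) (.node (.node (.node (.leaf 1223) (.leaf 1258)) (.leaf 807)) (.node (.leaf 870) (.leaf 418)))) (.node (.node (.node (.node (.leaf 1275) (.leaf 20)) (.leaf 1049)) (.node (.leaf 312) (.leaf 1257))) (.node (.node (.node (.leaf 1021) (.leaf 1042)) (.leaf 646)) (.node (.leaf 1127) (.leaf 1146)))))) (.node (.node (.node (.node (.node (.node (.leaf 1026) (.leaf 54)) (.leaf 1092)) (.node (.node (.leaf 394) (.leaf 542)) (.leaf 1097))) (.node (.node (.node (.leaf 1278) (.leaf 363)) (.leaf 1180)) (.node (.leaf 375) (.leaf 1137)))) (.node (.node (.node (.node (.leaf 524) (.leaf 914)) (.leaf 378)) (.node (.leaf 891) (.leaf 700))) (.node (.node (.node (.leaf 1277) (.leaf 376)) (.leaf 1186)) (.node (.leaf 329) (.leaf 822))))) (.node (.node (.node (.node (.node (.leaf 764) (.leaf 4)) (.leaf 562)) (.node (.node (.leaf 338) (.leaf 793)) (.leaf 112))) (.node (.node (.node (.leaf 744) (.leaf 1252)) (.leaf 750)) (.node (.leaf 977) (.leaf 853)))) (.node (.node (.node (.node (.leaf 599) (.leaf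 1011)) (.leaf 244)) (.node (.leaf 1334) (.leaf 116))) (.node (.node (.node (.leaf 775) (.leaf 857)) (.leaf 651)) (.node (.leaf 486) (.leaf 406))))))) (.node (.node (.node (.node (.node (.node (.node (.leaf 1288) (.leaf 554)) (.leaf 854)) (.node (.node (.leaf 261) (.leaf 484)) (.leaf 31))) (.node (.node (.node (.leaf 428) (.leaf 638)) (.leaf 1034)) (.node (.leaf 806) (.leaf 1316)))) (.node (.node (.node (.node (.leaf 465) (.leaf 24)) (.leaf 407)) (.node (.node (.leaf 1001) (.leaf 1191)) (.leaf 785))) (.node (.node (.node (.leaf 907) (.leaf 1361)) (.leaf 538)) (.node (.leaf 1327) (.leaf 1104))))) (.node (.node (.node (.node (.node (.leaf 1030) (.leaf 182)) (.leaf 601)) (.node (.node (.leaf 722) (.leaf 920)) (.leaf 656))) (.node (.node (.node (.leaf 1260) (.leaf 1253)) (.leaf 831)) (.node (.leaf 113) (.leaf 623)))) (.node (.node (.node (.node (.leaf 333) (.leaf 957)) (.leaf 1240)) (.node (.leaf 535) (.leaf 761))) (.node (.node (.node (.leaf 167) (.leaf 219)) (.leaf 275)) (.node (.leaf 640) (.leaf 633)))))) (.node (.node (.node (.node (.node (.node (.leaf 756) (.leaf 381))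 (.leaf 129)) (.node (.node (.leaf 1230) (.leaf 213)) (.leaf 403))) (.node (.node (.node (.leaf 98) (.leaf 362)) (.leaf 1297)) (.node (.leaf 318) (.leaf 1131)))) (.node (.node (.node (.node (.leaf 1251) (.leaf 886)) (.leaf 1089)) (.node (.leaf 325) (.leaf 1079))) (.node (.node (.node (.leaf 83) (.leaf 610)) (.leaf 301)) (.node (.leaf 555) (.leaf 1267))))) (.node (.node (.node (.node (.node (.leaf 772) (.leaf 316)) (.leaf 146)) (.node (.node (.leaf 1214) (.leaf 1339)) (.leaf 32))) (.node (.node (.node (.leaf 767) (.leaf 1152)) (.leaf 10)) (.node (.leaf 34) (.leaf 135)))) (.node (.node (.node (.node (.leaf 509) (.leaf 314)) (.leaf 1182)) (.node (.leaf 434) (.leaf 379))) (.node (.node (.node (.leaf 285) (.leaf 1106)) (.leaf 22)) (.node (.leaf 369) (.leaf 1102))))))))))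

/-- A table. -/
noncomputable def lineOrbSrt : BTree := .node lineOrbSrtL lineOrbSrtR

/-- Part of a table. -/
noncomputable def lineOrbPosL : BTree := (.node (.node (.node (.node (.node (.node (.node (.node (.node (.node (.leaf 785) (.leaf 930)) (.leaf 565)) (.node (.node (.leaf 1323) (.leaf 54)) (.leaf 646))) (.node (.node (.node (.leaf 1060) (.leaf 1215)) (.leaf 495)) (.node (.leaf 438) (.leaf 508)))) (.node (.node (.node (.node (.leaf 953) (.leaf 842)) (.leaf 476)) (.node (.node (.leaf 921) (.leaf 913)) (.leaf 339))) (.node (.node (.node (.leaf 756) (.leaf 181)) (.leaf 346)) (.node (.leaf 403) (.leaf 483))))) (.node (.node (.node (.node (.node (.leaf 831) (.leaf 135)) (.leaf 1302)) (.node (.node (.leaf 424) (.leaf 250)) (.leaf 1254))) (.node (.node (.node (.leaf 480) (.leaf 344)) (.leaf 698)) (.node (.leaf 498) (.leaf 206)))) (.node (.node (.node (.node (.leaf 1137) (.leaf 1216)) (.leaf 993)) (.node (.leaf 858) (.leaf 329))) (.node (.node (.node (.leaf 553) (.leaf 1353)) (.leaf 1100)) (.node (.leaf 1305) (.leaf 1029)))))) (.node (.node (.node (.node (.node (.node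 (.leaf 798) (.leaf 765)) (.leaf 588)) (.node (.node (.leaf 954) (.leaf 1344)) (.leaf 295))) (.node (.node (.node (.leaf 522) (.leaf 1194)) (.leaf 815)) (.node (.leaf 330) (.leaf 1118)))) (.node (.node (.node (.node (.leaf 1061) (.leaf 975)) (.leaf 9)) (.node (.node (.leaf 1106) (.leaf 910)) (.leaf 316))) (.node (.node (.node (.leaf 97) (.leaf 875)) (.leaf 11)) (.node (.leaf 173) (.leaf 137))))) (.node (.node (.node (.node (.node (.leaf 889) (.leaf 376)) (.leaf 894)) (.node (.node (.leaf 1150) (.leaf 1272)) (.leaf 939))) (.node (.node (.node (.leaf 728) (.leaf 323)) (.leaf 1011)) (.node (.leaf 36) (.leaf 356)))) (.node (.node (.node (.node (.leaf 823) (.leaf 477)) (.leaf 1210)) (.node (.leaf 744) (.leaf 931))) (.node (.node (.node (.leaf 157) (.leaf 1203)) (.leaf 962)) (.node (.leaf 994) (.leaf 218))))))) (.node (.node (.node (.node (.node (.node (.node (.leaf 1076) (.leaf 654)) (.leaf 867)) (.node (.node (.leaf 688) (.leaf 15)) (.leaf 324))) (.node (.node (.node (.leaf 1112) (.leaf 370)) (.leaf 850)) (.node (.leaf 33) (.leaf 1219)))) (.node (.node (.node (.node (.leaf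 734) (.leaf 612)) (.leaf 260)) (.node (.node (.leaf 593) (.leaf 1362)) (.leaf 251))) (.node (.node (.node (.leaf 586) (.leaf 660)) (.leaf 634)) (.node (.leaf 410) (.leaf 3))))) (.node (.node (.node (.node (.node (.leaf 977) (.leaf 653)) (.leaf 516)) (.node (.node (.leaf 1321) (.leaf 180)) (.leaf 640))) (.node (.node (.node (.leaf 642) (.leaf 53)) (.leaf 961)) (.node (.leaf 214) (.leaf 1017)))) (.node (.node (.node (.node (.leaf 1240) (.leaf 1258)) (.leaf 560)) (.node (.leaf 568) (.leaf 1289))) (.node (.node (.node (.leaf 904) (.leaf 1034)) (.leaf 183)) (.node (.leaf 475) (.leaf 337)))))) (.node (.node (.node (.node (.node (.node (.leaf 1103) (.leaf 970)) (.leaf 629)) (.node (.node (.leaf 1083) (.leaf 153)) (.leaf 584))) (.node (.node (.node (.leaf 1290) (.leaf 1123)) (.leaf 923)) (.node (.leaf 598) (.leaf 1327)))) (.node (.node (.node (.node (.leaf 792) (.leaf 819)) (.leaf 1184)) (.node (.leaf 1041) (.leaf 1139))) (.node (.node (.node (.leaf 497) (.leaf 623)) (.leaf 652)) (.node (.leaf 232) (.leaf 963))))) (.node (.node (.node (.node (.node (.leaf 518) (.leaf 386)) (.leaf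 995)) (.node (.node (.leaf 359) (.leaf 107)) (.leaf 1185))) (.node (.node (.node (.leaf 564) (.leaf 374)) (.leaf 579)) (.node (.leaf 131) (.leaf 1227)))) (.node (.node (.node (.node (.leaf 637) (.leaf 1355)) (.leaf 1005)) (.node (.leaf 1239) (.leaf 1172))) (.node (.node (.node (.leaf 59) (.leaf 614)) (.leaf 710)) (.node (.leaf 677) (.leaf 1322)))))))) (.node (.node (.node (.node (.node (.node (.node (.node (.leaf 1079) (.leaf 83)) (.leaf 393)) (.node (.node (.leaf 436) (.leaf 317)) (.leaf 63))) (.node (.node (.node (.leaf 768) (.leaf 917)) (.leaf 742)) (.node (.leaf 162) (.leaf 160)))) (.node (.node (.node (.node (.leaf 691) (.leaf 535)) (.leaf 853)) (.node (.node (.leaf 352) (.leaf 1205)) (.leaf 384))) (.node (.node (.node (.leaf 462) (.leaf 14)) (.leaf 454)) (.node (.leaf 315) (.leaf 1142))))) (.node (.node (.node (.node (.node (.leaf 1072) (.leaf 299)) (.leaf 1299)) (.node (.node (.leaf 414) (.leaf 911)) (.leaf 494))) (.node (.node (.node (.leaf 782) (.leaf 638)) (.leaf 776)) (.node (.leaf 326) (.leaf 1153)))) (.node (.node (.node (.node (.leaf 467) (.leaf 1339))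 (.leaf 259)) (.node (.leaf 210) (.leaf 533))) (.node (.node (.node (.leaf 238) (.leaf 1207)) (.leaf 258)) (.node (.leaf 1295) (.leaf 973)))))) (.node (.node (.node (.node (.node (.node (.leaf 1127) (.leaf 492)) (.leaf 636)) (.node (.node (.leaf 134) (.leaf 402)) (.leaf 764))) (.node (.node (.node (.leaf 675) (.leaf 965)) (.leaf 779)) (.node (.leaf 583) (.leaf 520)))) (.node (.node (.node (.node (.leaf 417) (.leaf 746)) (.leaf 981)) (.node (.node (.leaf 394) (.leaf 1364)) (.leaf 1115))) (.node (.node (.node (.leaf 1310) (.leaf 1318)) (.leaf 442)) (.node (.leaf 208) (.leaf 1122))))) (.node (.node (.node (.node (.node (.leaf 978) (.leaf 870)) (.leaf 775)) (.node (.node (.leaf 392) (.leaf 270)) (.leaf 986))) (.node (.node (.node (.leaf 1237) (.leaf 401)) (.leaf 440)) (.node (.leaf 828) (.leaf 1021)))) (.node (.node (.node (.node (.leaf 887) (.leaf 769)) (.leaf 353)) (.node (.leaf 308) (.leaf 570))) (.node (.node (.node (.leaf 631) (.leaf 1276)) (.leaf 31)) (.node (.leaf 1270) (.leaf 212))))))) (.node (.node (.node (.node (.node (.node (.node (.leaf 788) (.leaf 12)) (.leaf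 87)) (.node (.node (.leaf 665) (.leaf 878)) (.leaf 500))) (.node (.node (.node (.leaf 461) (.leaf 38)) (.leaf 1088)) (.node (.leaf 1148) (.leaf 20)))) (.node (.node (.node (.node (.leaf 616) (.leaf 1134)) (.leaf 427)) (.node (.node (.leaf 684) (.leaf 914)) (.leaf 1084))) (.node (.node (.node (.leaf 25) (.leaf 363)) (.leaf 625)) (.node (.leaf 292) (.leaf 391))))) (.node (.node (.node (.node (.node (.leaf 1262) (.leaf 657)) (.leaf 694)) (.node (.node (.leaf 1296) (.leaf 908)) (.leaf 729))) (.node (.node (.node (.leaf 667) (.leaf 5)) (.leaf 1345)) (.node (.leaf 143) (.leaf 1286)))) (.node (.node (.node (.node (.leaf 797) (.leaf 1190)) (.leaf 297)) (.node (.leaf 1018) (.leaf 538))) (.node (.node (.node (.leaf 1163) (.leaf 175)) (.leaf 493)) (.node (.leaf 121) (.leaf 504)))))) (.node (.node (.node (.node (.node (.node (.leaf 830) (.leaf 66)) (.leaf 1349)) (.node (.node (.leaf 937) (.leaf 1356)) (.leaf 1326))) (.node (.node (.node (.leaf 846) (.leaf 663)) (.leaf 28)) (.node (.leaf 237) (.leaf 209)))) (.node (.node (.node (.node (.leaf 609) (.leaf 1269)) (.leaf 1307)) (.node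 (.leaf 573) (.leaf 745))) (.node (.node (.node (.leaf 268) (.leaf 608)) (.leaf 77)) (.node (.leaf 829) (.leaf 585))))) (.node (.node (.node (.node (.node (.leaf 1090) (.leaf 1082)) (.leaf 817)) (.node (.node (.leaf 1087) (.leaf 724)) (.leaf 1225))) (.node (.node (.node (.leaf 566) (.leaf 868)) (.leaf 855)) (.node (.leaf 474) (.leaf 1149)))) (.node (.node (.node (.node (.leaf 211) (.leaf 1208)) (.leaf 936)) (.node (.leaf 470) (.leaf 490))) (.node (.node (.node (.leaf 933) (.leaf 766)) (.leaf 55)) (.node (.leaf 674) (.leaf 501))))))))) (.node (.node (.node (.node (.node (.node (.node (.node (.node (.leaf 1077) (.leaf 23)) (.leaf 676)) (.node (.node (.leaf 545) (.leaf 4)) (.leaf 49))) (.node (.node (.node (.leaf 1026) (.leaf 289)) (.leaf 338)) (.node (.leaf 1181) (.leaf 264)))) (.node (.node (.node (.node (.leaf 697) (.leaf 709)) (.leaf 13)) (.node (.node (.leaf 158) (.leaf 1035)) (.leaf 1059))) (.node (.node (.node (.leaf 114) (.leaf 658)) (.leaf 345)) (.node (.leaf 722) (.leaf 272))))) (.node (.node (.node (.node (.node (.leaf 447) (.leaf 872)) (.leaf 624)) (.node (.node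 (.leaf 313) (.leaf 300)) (.leaf 1253))) (.node (.node (.node (.leaf 826) (.leaf 727)) (.leaf 813)) (.node (.leaf 935) (.leaf 74)))) (.node (.node (.node (.node (.leaf 159) (.leaf 763)) (.leaf 1247)) (.node (.leaf 1301) (.leaf 805))) (.node (.node (.node (.leaf 1337) (.leaf 286)) (.leaf 1249)) (.node (.leaf 1293) (.leaf 942)))))) (.node (.node (.node (.node (.node (.node (.leaf 784) (.leaf 1255)) (.leaf 234)) (.node (.node (.leaf 115) (.leaf 67)) (.leaf 840))) (.node (.node (.node (.leaf 575) (.leaf 1046)) (.leaf 627)) (.node (.leaf 1312) (.leaf 1111)))) (.node (.node (.node (.node (.leaf 161) (.leaf 1279)) (.leaf 960)) (.node (.node (.leaf 311) (.leaf 1363)) (.leaf 281))) (.node (.node (.node (.leaf 714) (.leaf 1251)) (.leaf 303)) (.node (.leaf 147) (.leaf 1154))))) (.node (.node (.node (.node (.node (.leaf 285) (.leaf 57)) (.leaf 567)) (.node (.node (.leaf 1069) (.leaf 1354)) (.leaf 128))) (.node (.node (.node (.leaf 990) (.leaf 1120)) (.leaf 277)) (.node (.leaf 383) (.leaf 881)))) (.node (.node (.node (.node (.leaf 433) (.leaf 35)) (.leaf 941)) (.node (.leaf 602) (.leaf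 283))) (.node (.node (.node (.leaf 618) (.leaf 651)) (.leaf 256)) (.node (.leaf 457) (.leaf 918))))))) (.node (.node (.node (.node (.node (.node (.node (.leaf 703) (.leaf 655)) (.leaf 604)) (.node (.node (.leaf 460) (.leaf 100)) (.leaf 78))) (.node (.node (.node (.leaf 1125) (.leaf 2)) (.leaf 1066)) (.node (.leaf 279) (.leaf 1099)))) (.node (.node (.node (.node (.leaf 1075) (.leaf 530)) (.leaf 1159)) (.node (.node (.leaf 1063) (.leaf 1342)) (.leaf 109))) (.node (.node (.node (.leaf 739) (.leaf 669)) (.leaf 1346)) (.node (.leaf 216) (.leaf 246))))) (.node (.node (.node (.node (.node (.leaf 446) (.leaf 378)) (.leaf 1039)) (.node (.node (.leaf 1314) (.leaf 680)) (.leaf 662))) (.node (.node (.node (.leaf 240) (.leaf 172)) (.leaf 1273)) (.node (.leaf 1320) (.leaf 1200)))) (.node (.node (.node (.node (.leaf 505) (.leaf 1002)) (.leaf 715)) (.node (.leaf 1183) (.leaf 843))) (.node (.node (.node (.leaf 1093) (.leaf 1191)) (.leaf 45)) (.node (.leaf 773) (.leaf 967)))))) (.node (.node (.node (.node (.node (.node (.leaf 897) (.leaf 365)) (.leaf 719)) (.node (.node (.leaf 678) (.leaf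 860)) (.leaf 203))) (.node (.node (.node (.leaf 611) (.leaf 1351)) (.leaf 85)) (.node (.leaf 736) (.leaf 499)))) (.node (.node (.node (.node (.leaf 926) (.leaf 997)) (.leaf 1316)) (.node (.leaf 1264) (.leaf 328))) (.node (.node (.node (.leaf 1261) (.leaf 357)) (.leaf 41)) (.node (.leaf 296) (.leaf 1274))))) (.node (.node (.node (.node (.node (.leaf 441) (.leaf 291)) (.leaf 738)) (.node (.node (.leaf 1151) (.leaf 1361)) (.leaf 886))) (.node (.node (.node (.leaf 1147) (.leaf 405)) (.leaf 857)) (.node (.leaf 484) (.leaf 1177)))) (.node (.node (.node (.node (.leaf 213) (.leaf 999)) (.leaf 920)) (.node (.leaf 599) (.leaf 1245))) (.node (.node (.node (.leaf 707) (.leaf 336)) (.leaf 293)) (.node (.leaf 309) (.leaf 228)))))))) (.node (.node (.node (.node (.node (.node (.node (.node (.leaf 1073) (.leaf 47)) (.leaf 224)) (.node (.node (.leaf 1156) (.leaf 1032)) (.leaf 880))) (.node (.node (.node (.leaf 673) (.leaf 261)) (.leaf 743)) (.node (.leaf 194) (.leaf 75)))) (.node (.node (.node (.node (.leaf 395) (.leaf 1357)) (.leaf 778)) (.node (.node (.leaf 601) (.leaf 1033)) (.leaf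 333))) (.node (.node (.node (.leaf 1067) (.leaf 404)) (.leaf 718)) (.node (.leaf 473) (.leaf 400))))) (.node (.node (.node (.node (.node (.leaf 1080) (.leaf 320)) (.leaf 581)) (.node (.node (.leaf 1304) (.leaf 865)) (.leaf 399))) (.node (.node (.node (.leaf 481) (.leaf 90)) (.leaf 132)) (.node (.leaf 1313) (.leaf 1195)))) (.node (.node (.node (.node (.leaf 416) (.leaf 217)) (.leaf 1009)) (.node (.leaf 1019) (.leaf 423))) (.node (.node (.node (.leaf 595) (.leaf 1212)) (.leaf 1168)) (.node (.leaf 503) (.leaf 455)))))) (.node (.node (.node (.node (.node (.node (.leaf 767) (.leaf 524)) (.leaf 322)) (.node (.node (.leaf 1101) (.leaf 1192)) (.leaf 1085))) (.node (.node (.node (.leaf 294) (.leaf 1275)) (.leaf 507)) (.node (.leaf 1015) (.leaf 800)))) (.node (.node (.node (.node (.leaf 836) (.leaf 241)) (.leaf 118)) (.node (.leaf 802) (.leaf 527))) (.node (.node (.node (.leaf 1164) (.leaf 204)) (.leaf 388)) (.node (.leaf 451) (.leaf 1128))))) (.node (.node (.node (.node (.node (.leaf 1047) (.leaf 304)) (.leaf 972)) (.node (.node (.leaf 839) (.leaf 375)) (.leaf 983))) (.node (.node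 (.node (.leaf 1071) (.leaf 0)) (.leaf 435)) (.node (.leaf 430) (.leaf 263)))) (.node (.node (.node (.node (.leaf 1107) (.leaf 1330)) (.leaf 1146)) (.node (.leaf 468) (.leaf 1119))) (.node (.node (.node (.leaf 453) (.leaf 1049)) (.leaf 18)) (.node (.leaf 1131) (.leaf 221))))))) (.node (.node (.node (.node (.node (.node (.node (.leaf 192) (.leaf 10)) (.leaf 666)) (.node (.node (.leaf 982) (.leaf 723)) (.leaf 26))) (.node (.node (.node (.leaf 600) (.leaf 185)) (.leaf 896)) (.node (.leaf 469) (.leaf 956)))) (.node (.node (.node (.node (.leaf 704) (.leaf 1023)) (.leaf 590)) (.node (.node (.leaf 227) (.leaf 690)) (.leaf 906))) (.node (.node (.node (.leaf 834) (.leaf 287)) (.leaf 502)) (.node (.leaf 387) (.leaf 50))))) (.node (.node (.node (.node (.node (.leaf 1081) (.leaf 661)) (.leaf 366)) (.node (.node (.leaf 1236) (.leaf 876)) (.leaf 1280))) (.node (.node (.node (.leaf 750) (.leaf 165)) (.leaf 1347)) (.node (.leaf 46) (.leaf 1220)))) (.node (.node (.node (.node (.leaf 1297) (.leaf 486)) (.leaf 1074)) (.node (.leaf 1004) (.leaf 1246))) (.node (.node (.node (.leaf 458) (.leaf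 186)) (.leaf 695)) (.node (.leaf 372) (.leaf 306)))))) (.node (.node (.node (.node (.node (.node (.leaf 833) (.leaf 65)) (.leaf 1303)) (.node (.node (.leaf 396) (.leaf 478)) (.leaf 562))) (.node (.node (.node (.leaf 832) (.leaf 639)) (.leaf 136)) (.node (.leaf 267) (.leaf 152)))) (.node (.node (.node (.node (.leaf 1116) (.leaf 992)) (.leaf 1141)) (.node (.leaf 571) (.leaf 198))) (.node (.node (.node (.leaf 1308) (.leaf 1358)) (.leaf 120)) (.node (.leaf 1333) (.leaf 945))))) (.node (.node (.node (.node (.node (.leaf 971) (.leaf 1003)) (.leaf 244)) (.node (.node (.leaf 415) (.leaf 91)) (.leaf 1158))) (.node (.node (.node (.leaf 757) (.leaf 319)) (.leaf 71)) (.node (.leaf 146) (.leaf 1024)))) (.node (.node (.node (.node (.leaf 233) (.leaf 1198)) (.leaf 1167)) (.node (.leaf 354) (.leaf 249))) (.node (.node (.node (.leaf 851) (.leaf 151)) (.leaf 177)) (.node (.leaf 1012) (.leaf 305))))))))))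

/-- Part of a table. -/
noncomputable def lineOrbPosR : BTree := (.node (.node (.node (.node (.node (.node (.node (.node (.node (.node (.leaf 787) (.leaf 496)) (.leaf 1001)) (.node (.node (.leaf 1324) (.leaf 34)) (.leaf 1))) (.node (.node (.node (.leaf 543) (.leaf 883)) (.leaf 125)) (.node (.leaf 448) (.leaf 1182)))) (.node (.node (.node (.node (.leaf 1097) (.leaf 607)) (.leaf 741)) (.node (.node (.leaf 195) (.leaf 1233)) (.leaf 482))) (.node (.node (.node (.leaf 1174) (.leaf 725)) (.leaf 1169)) (.node (.leaf 133) (.leaf 1173))))) (.node (.node (.node (.node (.node (.leaf 1051) (.leaf 362)) (.leaf 124)) (.node (.node (.leaf 506) (.leaf 88)) (.leaf 548))) (.node (.node (.node (.leaf 432) (.leaf 664)) (.leaf 592)) (.node (.leaf 1013) (.leaf 932)))) (.node (.node (.node (.node (.leaf 1070) (.leaf 820)) (.leaf 988)) (.node (.leaf 790) (.leaf 1285))) (.node (.node (.node (.leaf 712) (.leaf 102)) (.leaf 526)) (.node (.leaf 544) (.leaf 1145)))))) (.node (.node (.node (.node (.node (.node (.leaf 888) (.leaf 771)) (.leaf 692)) (.node (.node (.leaf 683) (.leaf 671)) (.leaf 847)))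 (.node (.node (.node (.leaf 686) (.leaf 656)) (.leaf 589)) (.node (.leaf 1133) (.leaf 1110)))) (.node (.node (.node (.node (.leaf 924) (.leaf 1268)) (.leaf 1170)) (.node (.node (.leaf 310) (.leaf 1231)) (.leaf 421))) (.node (.node (.node (.leaf 740) (.leaf 92)) (.leaf 265)) (.node (.leaf 79) (.leaf 439))))) (.node (.node (.node (.node (.node (.leaf 273) (.leaf 64)) (.leaf 1244)) (.node (.node (.leaf 619) (.leaf 1340)) (.leaf 699))) (.node (.node (.node (.leaf 563) (.leaf 1091)) (.leaf 257)) (.node (.leaf 141) (.leaf 350)))) (.node (.node (.node (.node (.leaf 431) (.leaf 919)) (.leaf 944)) (.node (.leaf 511) (.leaf 1129))) (.node (.node (.node (.leaf 187) (.leaf 864)) (.leaf 938)) (.node (.leaf 226) (.leaf 219))))))) (.node (.node (.node (.node (.node (.node (.node (.leaf 1078) (.leaf 166)) (.leaf 1226)) (.node (.node (.leaf 225) (.leaf 371)) (.leaf 390))) (.node (.node (.node (.leaf 1109) (.leaf 176)) (.leaf 235)) (.node (.leaf 946) (.leaf 603)))) (.node (.node (.node (.node (.leaf 737) (.leaf 791)) (.leaf 1160)) (.node (.node (.leaf 471) (.leaf 1282)) (.leaf 485)))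 (.node (.node (.node (.leaf 827) (.leaf 1206)) (.leaf 711)) (.node (.leaf 139) (.leaf 1178))))) (.node (.node (.node (.node (.node (.leaf 643) (.leaf 659)) (.leaf 1260)) (.node (.node (.leaf 621) (.leaf 184)) (.leaf 200))) (.node (.node (.node (.leaf 818) (.leaf 302)) (.leaf 969)) (.node (.leaf 547) (.leaf 1201)))) (.node (.node (.node (.node (.leaf 515) (.leaf 229)) (.leaf 555)) (.node (.leaf 758) (.leaf 1298))) (.node (.node (.node (.leaf 130) (.leaf 871)) (.leaf 112)) (.node (.leaf 998) (.leaf 335)))))) (.node (.node (.node (.node (.node (.node (.leaf 902) (.leaf 615)) (.leaf 721)) (.node (.node (.leaf 397) (.leaf 106)) (.leaf 1335))) (.node (.node (.node (.leaf 1291) (.leaf 549)) (.leaf 747)) (.node (.leaf 1027) (.leaf 1187)))) (.node (.node (.node (.node (.leaf 1180) (.leaf 996)) (.leaf 559)) (.node (.leaf 1266) (.leaf 1271))) (.node (.node (.node (.leaf 856) (.leaf 1092)) (.leaf 178)) (.node (.leaf 245) (.leaf 1124))))) (.node (.node (.node (.node (.node (.leaf 529) (.leaf 62)) (.leaf 693)) (.node (.node (.leaf 1155) (.leaf 1284)) (.leaf 733))) (.node (.node (.node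 (.leaf 794) (.leaf 32)) (.leaf 513)) (.node (.leaf 596) (.leaf 1278)))) (.node (.node (.node (.node (.leaf 989) (.leaf 98)) (.leaf 1007)) (.node (.leaf 892) (.leaf 1006))) (.node (.node (.node (.leaf 633) (.leaf 1360)) (.leaf 879)) (.node (.leaf 1113) (.leaf 144)))))))) (.node (.node (.node (.node (.node (.node (.node (.node (.leaf 706) (.leaf 171)) (.leaf 1068)) (.node (.node (.leaf 271) (.leaf 81)) (.leaf 290))) (.node (.node (.node (.leaf 1000) (.leaf 1222)) (.leaf 835)) (.node (.leaf 420) (.leaf 422)))) (.node (.node (.node (.node (.leaf 1050) (.leaf 717)) (.leaf 780)) (.node (.node (.leaf 351) (.leaf 909)) (.leaf 406))) (.node (.node (.node (.leaf 1265) (.leaf 364)) (.leaf 382)) (.node (.leaf 576) (.leaf 252))))) (.node (.node (.node (.node (.node (.leaf 761) (.leaf 56)) (.leaf 613)) (.node (.node (.leaf 1315) (.leaf 1036)) (.leaf 347))) (.node (.node (.node (.leaf 1052) (.leaf 154)) (.leaf 1037)) (.node (.leaf 220) (.leaf 905)))) (.node (.node (.node (.node (.leaf 182) (.leaf 1338)) (.leaf 340)) (.node (.leaf 806) (.leaf 531))) (.node (.node (.node (.leaf 243)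 (.leaf 1199)) (.leaf 253)) (.node (.leaf 1031) (.leaf 1179)))))) (.node (.node (.node (.node (.node (.node (.leaf 1054) (.leaf 1126)) (.leaf 113)) (.node (.node (.leaf 732) (.leaf 670)) (.leaf 762))) (.node (.node (.node (.leaf 122) (.leaf 985)) (.leaf 68)) (.node (.leaf 1336) (.leaf 521)))) (.node (.node (.node (.node (.leaf 572) (.leaf 108)) (.leaf 753)) (.node (.leaf 1300) (.leaf 951))) (.node (.node (.node (.leaf 1311) (.leaf 561)) (.leaf 174)) (.node (.leaf 411) (.leaf 984))))) (.node (.node (.node (.node (.node (.leaf 1104) (.leaf 93)) (.leaf 1040)) (.node (.node (.leaf 434) (.leaf 101)) (.leaf 955))) (.node (.node (.node (.leaf 348) (.leaf 16)) (.leaf 1162)) (.node (.leaf 822) (.leaf 509)))) (.node (.node (.node (.node (.leaf 890) (.leaf 29)) (.leaf 1144)) (.node (.leaf 149) (.leaf 341))) (.node (.node (.node (.leaf 708) (.leaf 980)) (.leaf 30)) (.node (.leaf 1230) (.leaf 155))))))) (.node (.node (.node (.node (.node (.node (.node (.leaf 901) (.leaf 37)) (.leaf 1064)) (.node (.node (.leaf 952) (.leaf 1281)) (.leaf 60))) (.node (.node (.node (.leaf 685) (.leaf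 169)) (.leaf 429)) (.node (.leaf 129) (.leaf 1010)))) (.node (.node (.node (.node (.leaf 360) (.leaf 1096)) (.leaf 810)) (.node (.node (.leaf 111) (.leaf 1234)) (.leaf 950))) (.node (.node (.node (.leaf 385) (.leaf 99)) (.leaf 42)) (.node (.leaf 24) (.leaf 189))))) (.node (.node (.node (.node (.node (.leaf 275) (.leaf 168)) (.leaf 893)) (.node (.node (.leaf 735) (.leaf 1213)) (.leaf 368))) (.node (.node (.node (.leaf 73) (.leaf 647)) (.leaf 551)) (.node (.leaf 808) (.leaf 1287)))) (.node (.node (.node (.node (.leaf 789) (.leaf 1188)) (.leaf 713)) (.node (.leaf 577) (.leaf 512))) (.node (.node (.node (.leaf 1102) (.leaf 170)) (.leaf 156)) (.node (.leaf 408) (.leaf 1257)))))) (.node (.node (.node (.node (.node (.node (.leaf 786) (.leaf 21)) (.leaf 552)) (.node (.node (.leaf 255) (.leaf 907)) (.leaf 546))) (.node (.node (.node (.leaf 825) (.leaf 105)) (.leaf 82)) (.node (.leaf 1242) (.leaf 1352)))) (.node (.node (.node (.node (.leaf 900) (.leaf 1043)) (.leaf 807)) (.node (.leaf 849) (.leaf 419))) (.node (.node (.node (.leaf 456) (.leaf 809)) (.leaf 452)) (.node (.leaf 1331)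 (.leaf 1014))))) (.node (.node (.node (.node (.node (.leaf 1105) (.leaf 510)) (.leaf 1189)) (.node (.node (.leaf 949) (.leaf 1196)) (.leaf 254))) (.node (.node (.node (.leaf 1161) (.leaf 882)) (.leaf 48)) (.node (.leaf 626) (.leaf 1135)))) (.node (.node (.node (.node (.leaf 201) (.leaf 1214)) (.leaf 1223)) (.node (.leaf 1055) (.leaf 489))) (.node (.node (.node (.leaf 523) (.leaf 215)) (.leaf 649)) (.node (.leaf 127) (.leaf 231))))))))) (.node (.node (.node (.node (.node (.node (.node (.node (.node (.leaf 284) (.leaf 39)) (.leaf 116)) (.node (.node (.leaf 437) (.leaf 369)) (.leaf 301))) (.node (.node (.node (.leaf 1025) (.leaf 824)) (.leaf 885)) (.node (.leaf 126) (.leaf 164)))) (.node (.node (.node (.node (.leaf 1086) (.leaf 801)) (.leaf 760)) (.node (.node (.leaf 193) (.leaf 681)) (.leaf 915))) (.node (.node (.node (.leaf 976) (.leaf 672)) (.leaf 1248)) (.node (.leaf 280) (.leaf 1152))))) (.node (.node (.node (.node (.node (.leaf 274) (.leaf 869)) (.leaf 1350)) (.node (.node (.leaf 418) (.leaf 1193)) (.leaf 1259))) (.node (.node (.node (.leaf 841) (.leaf 380)) (.leaf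 777)) (.node (.leaf 145) (.leaf 325)))) (.node (.node (.node (.node (.leaf 199) (.leaf 1057)) (.leaf 349)) (.node (.leaf 1348) (.leaf 1329))) (.node (.node (.node (.leaf 464) (.leaf 95)) (.leaf 525)) (.node (.leaf 542) (.leaf 236)))))) (.node (.node (.node (.node (.node (.node (.leaf 899) (.leaf 110)) (.leaf 987)) (.node (.node (.leaf 751) (.leaf 379)) (.leaf 1095))) (.node (.node (.node (.leaf 519) (.leaf 1114)) (.leaf 852)) (.node (.leaf 799) (.leaf 752)))) (.node (.node (.node (.node (.leaf 223) (.leaf 814)) (.leaf 968)) (.node (.node (.leaf 754) (.leaf 1283)) (.leaf 472))) (.node (.node (.node (.leaf 557) (.leaf 1058)) (.leaf 578)) (.node (.leaf 318) (.leaf 1121))))) (.node (.node (.node (.node (.node (.leaf 705) (.leaf 288)) (.leaf 1176)) (.node (.node (.leaf 821) (.leaf 89)) (.leaf 1171))) (.node (.node (.node (.leaf 1238) (.leaf 17)) (.leaf 1165)) (.node (.leaf 594) (.leaf 1277)))) (.node (.node (.node (.node (.leaf 597) (.leaf 27)) (.leaf 1218)) (.node (.leaf 749) (.leaf 1288))) (.node (.node (.node (.leaf 450) (.leaf 991)) (.leaf 8)) (.node (.leaf 222) (.leaf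 1143))))))) (.node (.node (.node (.node (.node (.node (.node (.leaf 816) (.leaf 52)) (.leaf 117)) (.node (.node (.leaf 1108) (.leaf 443)) (.leaf 465))) (.node (.node (.node (.leaf 1117) (.leaf 928)) (.leaf 759)) (.node (.leaf 278) (.leaf 207)))) (.node (.node (.node (.node (.leaf 701) (.leaf 426)) (.leaf 1065)) (.node (.node (.leaf 428) (.leaf 389)) (.leaf 331))) (.node (.node (.node (.leaf 641) (.leaf 1211)) (.leaf 534)) (.node (.leaf 202) (.leaf 425))))) (.node (.node (.node (.node (.node (.leaf 716) (.leaf 190)) (.leaf 479)) (.node (.node (.leaf 620) (.leaf 1209)) (.leaf 903))) (.node (.node (.node (.leaf 587) (.leaf 140)) (.leaf 964)) (.node (.leaf 205) (.leaf 862)))) (.node (.node (.node (.node (.leaf 934) (.leaf 927)) (.leaf 628)) (.node (.leaf 1175) (.leaf 1332))) (.node (.node (.node (.leaf 276) (.leaf 361)) (.leaf 720)) (.node (.leaf 668) (.leaf 979)))))) (.node (.node (.node (.node (.node (.node (.leaf 528) (.leaf 19)) (.leaf 373)) (.node (.node (.leaf 730) (.leaf 413)) (.leaf 1306))) (.node (.node (.node (.leaf 844) (.leaf 1020)) (.leaf 86)) (.node (.leaf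 1241) (.leaf 1250)))) (.node (.node (.node (.node (.leaf 925) (.leaf 772)) (.leaf 1328)) (.node (.leaf 1267) (.leaf 314))) (.node (.node (.node (.leaf 1263) (.leaf 517)) (.leaf 449)) (.node (.leaf 230) (.leaf 582))))) (.node (.node (.node (.node (.node (.leaf 1089) (.leaf 355)) (.leaf 854)) (.node (.node (.leaf 1138) (.leaf 1343)) (.leaf 940))) (.node (.node (.node (.leaf 574) (.leaf 150)) (.leaf 948)) (.node (.leaf 1008) (.leaf 947)))) (.node (.node (.node (.node (.leaf 142) (.leaf 7)) (.leaf 884)) (.node (.leaf 895) (.leaf 343))) (.node (.node (.node (.leaf 76) (.leaf 103)) (.leaf 298)) (.node (.leaf 755) (.leaf 307)))))))) (.node (.node (.node (.node (.node (.node (.node (.node (.leaf 700) (.leaf 138)) (.leaf 398)) (.node (.node (.leaf 269) (.leaf 381)) (.leaf 247))) (.node (.node (.node (.leaf 959) (.leaf 1038)) (.leaf 1166)) (.node (.leaf 43) (.leaf 1243)))) (.node (.node (.node (.node (.leaf 622) (.leaf 1294)) (.leaf 837)) (.node (.node (.leaf 922) (.leaf 866)) (.leaf 1221))) (.node (.node (.node (.leaf 811) (.leaf 167)) (.leaf 916)) (.node (.leaf 70) (.leaf 1217)))))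 (.node (.node (.node (.node (.node (.leaf 702) (.leaf 179)) (.leaf 610)) (.node (.node (.leaf 539) (.leaf 1232)) (.leaf 679))) (.node (.node (.node (.leaf 239) (.leaf 1359)) (.leaf 748)) (.node (.leaf 1319) (.leaf 1016)))) (.node (.node (.node (.node (.leaf 1292) (.leaf 487)) (.leaf 1252)) (.node (.leaf 569) (.leaf 804))) (.node (.node (.node (.leaf 891) (.leaf 874)) (.leaf 859)) (.node (.leaf 1235) (.leaf 412)))))) (.node (.node (.node (.node (.node (.node (.leaf 781) (.leaf 1130)) (.leaf 367)) (.node (.node (.leaf 1157) (.leaf 1202)) (.leaf 1334))) (.node (.node (.node (.leaf 537) (.leaf 1048)) (.leaf 488)) (.node (.leaf 591) (.leaf 540)))) (.node (.node (.node (.node (.leaf 795) (.leaf 812)) (.leaf 119)) (.node (.leaf 803) (.leaf 1045))) (.node (.node (.node (.leaf 514) (.leaf 1341)) (.leaf 645)) (.node (.leaf 148) (.leaf 1140))))) (.node (.node (.node (.node (.node (.leaf 632) (.leaf 863)) (.leaf 644)) (.node (.node (.leaf 929) (.leaf 444)) (.leaf 123))) (.node (.node (.node (.leaf 1317) (.leaf 377)) (.leaf 845)) (.node (.leaf 1256) (.leaf 877)))) (.node (.node (.node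 (.node (.leaf 958) (.leaf 94)) (.leaf 1229)) (.node (.leaf 407) (.leaf 282))) (.node (.node (.node (.leaf 44) (.leaf 793)) (.leaf 6)) (.node (.leaf 459) (.leaf 550))))))) (.node (.node (.node (.node (.node (.node (.node (.leaf 838) (.leaf 770)) (.leaf 327)) (.node (.node (.leaf 1044) (.leaf 188)) (.leaf 40))) (.node (.node (.node (.leaf 898) (.leaf 51)) (.leaf 491)) (.node (.leaf 312) (.leaf 957)))) (.node (.node (.node (.node (.leaf 617) (.leaf 1042)) (.leaf 731)) (.node (.node (.leaf 61) (.leaf 912)) (.leaf 1132))) (.node (.node (.node (.leaf 96) (.leaf 861)) (.leaf 541)) (.node (.leaf 22) (.leaf 648))))) (.node (.node (.node (.node (.node (.leaf 1309) (.leaf 1197)) (.leaf 242)) (.node (.node (.leaf 358) (.leaf 463)) (.leaf 1228))) (.node (.node (.node (.leaf 445) (.leaf 58)) (.leaf 796)) (.node (.leaf 650) (.leaf 1224)))) (.node (.node (.node (.node (.leaf 1325) (.leaf 72)) (.leaf 943)) (.node (.leaf 606) (.leaf 1094))) (.node (.node (.node (.leaf 197) (.leaf 1204)) (.leaf 774)) (.node (.leaf 682) (.leaf 248)))))) (.node (.node (.node (.node (.node (.node (.leaf 783)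 (.leaf 69)) (.leaf 532)) (.node (.node (.leaf 689) (.leaf 556)) (.leaf 554))) (.node (.node (.node (.leaf 1053) (.leaf 1098)) (.leaf 696)) (.node (.leaf 466) (.leaf 321)))) (.node (.node (.node (.node (.leaf 966) (.leaf 630)) (.leaf 1136)) (.node (.leaf 848) (.leaf 163))) (.node (.node (.node (.leaf 558) (.leaf 726)) (.leaf 266)) (.node (.leaf 536) (.leaf 1028))))) (.node (.node (.node (.node (.node (.leaf 974) (.leaf 605)) (.leaf 84)) (.node (.node (.leaf 342) (.leaf 409)) (.leaf 687))) (.node (.node (.node (.leaf 1186) (.leaf 80)) (.leaf 635)) (.node (.leaf 196) (.leaf 1030)))) (.node (.node (.node (.node (.leaf 1056) (.leaf 873)) (.leaf 332)) (.node (.leaf 1062) (.leaf 334))) (.node (.node (.node (.leaf 580) (.leaf 104)) (.leaf 191)) (.node (.leaf 1022) (.leaf 262))))))))))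

/-- A table. -/
noncomputable def lineOrbPos : BTree := .node lineOrbPosL lineOrbPosR

/-- The orbit. -/
noncomputable def lineOrb : MOrb where
  n := 1365
  masks := lineOrbMasks
  par := lineOrbPar
  nxt := [lineOrbNext0, lineOrbNext1, lineOrbNext2, lineOrbNext3, lineOrbNext4, lineOrbNext5]
  srt := lineOrbSrt
  pos := lineOrbPos

/-- Part of a table. -/
noncomputable def lineCls : BTree := (.node (.node (.node (.node (.node (.node (.node (.node (.node (.node (.node (.leaf 96) (.leaf 21)) (.leaf 24)) (.node (.node (.leaf 21) (.leaf 21)) (.leaf 21))) (.node (.node (.node (.leaf 21) (.leaf 21)) (.leaf 21)) (.node (.leaf 21) (.leaf 24)))) (.node (.node (.node (.node (.leaf 21) (.leaf 21)) (.leaf 24)) (.node (.node (.leaf 21) (.leaf 21)) (.leaf 21))) (.node (.node (.node (.leaf 24) (.leaf 24)) (.leaf 21)) (.node (.leaf 21) (.leaf 21))))) (.node (.node (.node (.node (.node (.leaf 21) (.leaf 24)) (.leaf 21)) (.node (.node (.leaf 21) (.leaf 21)) (.leaf 21))) (.node (.node (.node (.leaf 21) (.leaf 21)) (.leaf 21)) (.node (.leaf 21) (.leaf 24)))) (.node (.node (.node (.node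 (.leaf 21) (.leaf 21)) (.leaf 24)) (.node (.leaf 21) (.leaf 21))) (.node (.node (.node (.leaf 21) (.leaf 21)) (.leaf 21)) (.node (.leaf 21) (.leaf 24)))))) (.node (.node (.node (.node (.node (.node (.leaf 21) (.leaf 21)) (.leaf 21)) (.node (.node (.leaf 24) (.leaf 21)) (.leaf 21))) (.node (.node (.node (.leaf 21) (.leaf 24)) (.leaf 21)) (.node (.leaf 21) (.leaf 21)))) (.node (.node (.node (.node (.leaf 21) (.leaf 21)) (.leaf 21)) (.node (.node (.leaf 21) (.leaf 21)) (.leaf 21))) (.node (.node (.node (.leaf 21) (.leaf 21)) (.leaf 21)) (.node (.leaf 24) (.leaf 24))))) (.node (.node (.node (.node (.node (.leaf 21) (.leaf 21)) (.leaf 21)) (.node (.node (.leaf 24) (.leaf 24)) (.leaf 21))) (.node (.node (.node (.leaf 21) (.leaf 21)) (.leaf 24)) (.node (.leaf 21) (.leaf 24)))) (.node (.node (.node (.node (.leaf 21) (.leaf 21)) (.leaf 21)) (.node (.leaf 21) (.leaf 21))) (.node (.node (.node (.leaf 21) (.leaf 21)) (.leaf 24)) (.node (.leaf 21) (.leaf 21))))))) (.node (.node (.node (.node (.node (.node (.node (.leaf 24) (.leaf 48)) (.leaf 21)) (.node (.node (.leaf 21) (.leaf 21))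 (.leaf 24))) (.node (.node (.node (.leaf 21) (.leaf 24)) (.leaf 21)) (.node (.leaf 21) (.leaf 24)))) (.node (.node (.node (.node (.leaf 21) (.leaf 21)) (.leaf 24)) (.node (.node (.leaf 21) (.leaf 21)) (.leaf 21))) (.node (.node (.node (.leaf 24) (.leaf 21)) (.leaf 21)) (.node (.leaf 21) (.leaf 21))))) (.node (.node (.node (.node (.node (.leaf 21) (.leaf 21)) (.leaf 24)) (.node (.node (.leaf 21) (.leaf 24)) (.leaf 21))) (.node (.node (.node (.leaf 21) (.leaf 21)) (.leaf 21)) (.node (.leaf 24) (.leaf 24)))) (.node (.node (.node (.node (.leaf 24) (.leaf 21)) (.leaf 21)) (.node (.leaf 21) (.leaf 21))) (.node (.node (.node (.leaf 24) (.leaf 24)) (.leaf 24)) (.node (.leaf 21) (.leaf 21)))))) (.node (.node (.node (.node (.node (.node (.leaf 21) (.leaf 21)) (.leaf 21)) (.node (.node (.leaf 24) (.leaf 21)) (.leaf 21))) (.node (.node (.node (.leaf 24) (.leaf 21)) (.leaf 21)) (.node (.leaf 21) (.leaf 21)))) (.node (.node (.node (.node (.leaf 21) (.leaf 24)) (.leaf 24)) (.node (.leaf 21) (.leaf 21))) (.node (.node (.node (.leaf 21) (.leaf 21)) (.leaf 21)) (.node (.leaf 21) (.leaf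 24))))) (.node (.node (.node (.node (.node (.leaf 48) (.leaf 21)) (.leaf 21)) (.node (.node (.leaf 48) (.leaf 21)) (.leaf 21))) (.node (.node (.node (.leaf 24) (.leaf 21)) (.leaf 24)) (.node (.leaf 21) (.leaf 24)))) (.node (.node (.node (.node (.leaf 21) (.leaf 24)) (.leaf 24)) (.node (.leaf 21) (.leaf 21))) (.node (.node (.node (.leaf 21) (.leaf 24)) (.leaf 21)) (.node (.leaf 21) (.leaf 21)))))))) (.node (.node (.node (.node (.node (.node (.node (.node (.leaf 21) (.leaf 21)) (.leaf 21)) (.node (.node (.leaf 21) (.leaf 24)) (.leaf 21))) (.node (.node (.node (.leaf 21) (.leaf 21)) (.leaf 21)) (.node (.leaf 21) (.leaf 21)))) (.node (.node (.node (.node (.leaf 21) (.leaf 21)) (.leaf 21)) (.node (.node (.leaf 21) (.leaf 21)) (.leaf 24))) (.node (.node (.node (.leaf 21) (.leaf 21)) (.leaf 21)) (.node (.leaf 24) (.leaf 21))))) (.node (.node (.node (.node (.node (.leaf 21) (.leaf 24)) (.leaf 21)) (.node (.node (.leaf 21) (.leaf 21)) (.leaf 21))) (.node (.node (.node (.leaf 21) (.leaf 24)) (.leaf 21)) (.node (.leaf 21) (.leaf 21)))) (.node (.node (.node (.node (.leaf 21) (.leaf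 21)) (.leaf 21)) (.node (.leaf 21) (.leaf 21))) (.node (.node (.node (.leaf 21) (.leaf 21)) (.leaf 21)) (.node (.leaf 21) (.leaf 21)))))) (.node (.node (.node (.node (.node (.node (.leaf 21) (.leaf 24)) (.leaf 24)) (.node (.node (.leaf 21) (.leaf 21)) (.leaf 21))) (.node (.node (.node (.leaf 48) (.leaf 21)) (.leaf 21)) (.node (.leaf 21) (.leaf 24)))) (.node (.node (.node (.node (.leaf 21) (.leaf 21)) (.leaf 21)) (.node (.node (.leaf 21) (.leaf 21)) (.leaf 24))) (.node (.node (.node (.leaf 24) (.leaf 21)) (.leaf 21)) (.node (.leaf 21) (.leaf 21))))) (.node (.node (.node (.node (.node (.leaf 21) (.leaf 21)) (.leaf 21)) (.node (.node (.leaf 21) (.leaf 21)) (.leaf 21))) (.node (.node (.node (.leaf 21) (.leaf 21)) (.leaf 21)) (.node (.leaf 21) (.leaf 24)))) (.node (.node (.node (.node (.leaf 21) (.leaf 21)) (.leaf 21)) (.node (.leaf 21) (.leaf 24))) (.node (.node (.node (.leaf 21) (.leaf 21)) (.leaf 21)) (.node (.leaf 24) (.leaf 24))))))) (.node (.node (.node (.node (.node (.node (.node (.leaf 24) (.leaf 21)) (.leaf 21)) (.node (.node (.leaf 24) (.leaf 21)) (.leaf 21))) (.node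 (.node (.node (.leaf 21) (.leaf 21)) (.leaf 21)) (.node (.leaf 21) (.leaf 24)))) (.node (.node (.node (.node (.leaf 24) (.leaf 21)) (.leaf 24)) (.node (.node (.leaf 24) (.leaf 24)) (.leaf 21))) (.node (.node (.node (.leaf 21) (.leaf 21)) (.leaf 21)) (.node (.leaf 24) (.leaf 21))))) (.node (.node (.node (.node (.node (.leaf 21) (.leaf 21)) (.leaf 21)) (.node (.node (.leaf 21) (.leaf 21)) (.leaf 21))) (.node (.node (.node (.leaf 24) (.leaf 24)) (.leaf 21)) (.node (.leaf 21) (.leaf 21)))) (.node (.node (.node (.node (.leaf 21) (.leaf 21)) (.leaf 24)) (.node (.leaf 21) (.leaf 21))) (.node (.node (.node (.leaf 24) (.leaf 21)) (.leaf 21)) (.node (.leaf 21) (.leaf 21)))))) (.node (.node (.node (.node (.node (.node (.leaf 21) (.leaf 24)) (.leaf 21)) (.node (.node (.leaf 21) (.leaf 21)) (.leaf 21))) (.node (.node (.node (.leaf 21) (.leaf 21)) (.leaf 21)) (.node (.leaf 21) (.leaf 24)))) (.node (.node (.node (.node (.leaf 21) (.leaf 21)) (.leaf 24)) (.node (.leaf 21) (.leaf 21))) (.node (.node (.node (.leaf 21) (.leaf 24)) (.leaf 21)) (.node (.leaf 24) (.leaf 24))))) (.node (.node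 (.node (.node (.node (.leaf 21) (.leaf 21)) (.leaf 21)) (.node (.node (.leaf 24) (.leaf 24)) (.leaf 21))) (.node (.node (.node (.leaf 24) (.leaf 21)) (.leaf 21)) (.node (.leaf 24) (.leaf 21)))) (.node (.node (.node (.node (.leaf 21) (.leaf 24)) (.leaf 21)) (.node (.leaf 21) (.leaf 24))) (.node (.node (.node (.leaf 21) (.leaf 21)) (.leaf 21)) (.node (.leaf 24) (.leaf 24))))))))) (.node (.node (.node (.node (.node (.node (.node (.node (.node (.leaf 21) (.leaf 21)) (.leaf 21)) (.node (.node (.leaf 21) (.leaf 21)) (.leaf 21))) (.node (.node (.node (.leaf 21) (.leaf 21)) (.leaf 24)) (.node (.leaf 21) (.leaf 21)))) (.node (.node (.node (.node (.leaf 24) (.leaf 21)) (.leaf 21)) (.node (.node (.leaf 21) (.leaf 21)) (.leaf 24))) (.node (.node (.node (.leaf 21) (.leaf 24)) (.leaf 21)) (.node (.leaf 21) (.leaf 21))))) (.node (.node (.node (.node (.node (.leaf 21) (.leaf 24)) (.leaf 21)) (.node (.node (.leaf 21) (.leaf 24)) (.leaf 21))) (.node (.node (.node (.leaf 21) (.leaf 24)) (.leaf 24)) (.node (.leaf 24) (.leaf 21)))) (.node (.node (.node (.node (.leaf 21) (.leaf 21)) (.leaf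 21)) (.node (.leaf 24) (.leaf 24))) (.node (.node (.node (.leaf 21) (.leaf 21)) (.leaf 48)) (.node (.leaf 21) (.leaf 24)))))) (.node (.node (.node (.node (.node (.node (.leaf 24) (.leaf 21)) (.leaf 21)) (.node (.node (.leaf 21) (.leaf 21)) (.leaf 21))) (.node (.node (.node (.leaf 21) (.leaf 21)) (.leaf 24)) (.node (.leaf 21) (.leaf 21)))) (.node (.node (.node (.node (.leaf 21) (.leaf 21)) (.leaf 21)) (.node (.node (.leaf 21) (.leaf 21)) (.leaf 21))) (.node (.node (.node (.leaf 21) (.leaf 24)) (.leaf 21)) (.node (.leaf 24) (.leaf 21))))) (.node (.node (.node (.node (.node (.leaf 21) (.leaf 21)) (.leaf 24)) (.node (.node (.leaf 21) (.leaf 21)) (.leaf 21))) (.node (.node (.node (.leaf 21) (.leaf 21)) (.leaf 21)) (.node (.leaf 21) (.leaf 21)))) (.node (.node (.node (.node (.leaf 21) (.leaf 24)) (.leaf 21)) (.node (.leaf 21) (.leaf 21))) (.node (.node (.node (.leaf 21) (.leaf 21)) (.leaf 21)) (.node (.leaf 21) (.leaf 21))))))) (.node (.node (.node (.node (.node (.node (.node (.leaf 21) (.leaf 21)) (.leaf 48)) (.node (.node (.leaf 24) (.leaf 24)) (.leaf 24))) (.node (.node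 (.node (.leaf 21) (.leaf 24)) (.leaf 21)) (.node (.leaf 21) (.leaf 21)))) (.node (.node (.node (.node (.leaf 21) (.leaf 24)) (.leaf 24)) (.node (.node (.leaf 21) (.leaf 24)) (.leaf 21))) (.node (.node (.node (.leaf 21) (.leaf 24)) (.leaf 24)) (.node (.leaf 21) (.leaf 21))))) (.node (.node (.node (.node (.node (.leaf 24) (.leaf 21)) (.leaf 21)) (.node (.node (.leaf 21) (.leaf 21)) (.leaf 24))) (.node (.node (.node (.leaf 21) (.leaf 21)) (.leaf 21)) (.node (.leaf 21) (.leaf 21)))) (.node (.node (.node (.node (.leaf 24) (.leaf 21)) (.leaf 21)) (.node (.leaf 21) (.leaf 21))) (.node (.node (.node (.leaf 24) (.leaf 21)) (.leaf 21)) (.node (.leaf 21) (.leaf 24)))))) (.node (.node (.node (.node (.node (.node (.leaf 21) (.leaf 21)) (.leaf 21)) (.node (.node (.leaf 24) (.leaf 24)) (.leaf 21))) (.node (.node (.node (.leaf 21) (.leaf 24)) (.leaf 21)) (.node (.leaf 21) (.leaf 21)))) (.node (.node (.node (.node (.leaf 21) (.leaf 24)) (.leaf 21)) (.node (.leaf 24) (.leaf 21))) (.node (.node (.node (.leaf 21) (.leaf 21)) (.leaf 24)) (.node (.leaf 24) (.leaf 24))))) (.node (.node (.node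 (.node (.node (.leaf 21) (.leaf 21)) (.leaf 24)) (.node (.node (.leaf 21) (.leaf 21)) (.leaf 21))) (.node (.node (.node (.leaf 21) (.leaf 24)) (.leaf 21)) (.node (.leaf 21) (.leaf 21)))) (.node (.node (.node (.node (.leaf 21) (.leaf 24)) (.leaf 21)) (.node (.leaf 21) (.leaf 24))) (.node (.node (.node (.leaf 21) (.leaf 21)) (.leaf 21)) (.node (.leaf 24) (.leaf 24)))))))) (.node (.node (.node (.node (.node (.node (.node (.node (.leaf 21) (.leaf 24)) (.leaf 21)) (.node (.node (.leaf 21) (.leaf 21)) (.leaf 21))) (.node (.node (.node (.leaf 24) (.leaf 21)) (.leaf 24)) (.node (.leaf 24) (.leaf 24)))) (.node (.node (.node (.node (.leaf 21) (.leaf 21)) (.leaf 21)) (.node (.node (.leaf 21) (.leaf 21)) (.leaf 21))) (.node (.node (.node (.leaf 21) (.leaf 21)) (.leaf 21)) (.node (.leaf 21) (.leaf 21))))) (.node (.node (.node (.node (.node (.leaf 21) (.leaf 21)) (.leaf 21)) (.node (.node (.leaf 21) (.leaf 21)) (.leaf 24))) (.node (.node (.node (.leaf 21) (.leaf 21)) (.leaf 24)) (.node (.leaf 24) (.leaf 21)))) (.node (.node (.node (.node (.leaf 21) (.leaf 21)) (.leaf 21)) (.node (.leaf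 21) (.leaf 21))) (.node (.node (.node (.leaf 24) (.leaf 21)) (.leaf 21)) (.node (.leaf 21) (.leaf 24)))))) (.node (.node (.node (.node (.node (.node (.leaf 21) (.leaf 21)) (.leaf 21)) (.node (.node (.leaf 21) (.leaf 21)) (.leaf 21))) (.node (.node (.node (.leaf 21) (.leaf 21)) (.leaf 21)) (.node (.leaf 21) (.leaf 48)))) (.node (.node (.node (.node (.leaf 24) (.leaf 21)) (.leaf 21)) (.node (.leaf 24) (.leaf 21))) (.node (.node (.node (.leaf 21) (.leaf 21)) (.leaf 21)) (.node (.leaf 21) (.leaf 21))))) (.node (.node (.node (.node (.node (.leaf 21) (.leaf 24)) (.leaf 21)) (.node (.node (.leaf 21) (.leaf 24)) (.leaf 21))) (.node (.node (.node (.leaf 21) (.leaf 21)) (.leaf 21)) (.node (.leaf 21) (.leaf 21)))) (.node (.node (.node (.node (.leaf 21) (.leaf 24)) (.leaf 21)) (.node (.leaf 24) (.leaf 21))) (.node (.node (.node (.leaf 21) (.leaf 21)) (.leaf 21)) (.node (.leaf 24) (.leaf 21))))))) (.node (.node (.node (.node (.node (.node (.node (.leaf 21) (.leaf 21)) (.leaf 24)) (.node (.node (.leaf 21) (.leaf 21)) (.leaf 21))) (.node (.node (.node (.leaf 21) (.leaf 24)) (.leaf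 24)) (.node (.leaf 21) (.leaf 21)))) (.node (.node (.node (.node (.leaf 24) (.leaf 24)) (.leaf 24)) (.node (.node (.leaf 21) (.leaf 21)) (.leaf 21))) (.node (.node (.node (.leaf 21) (.leaf 21)) (.leaf 24)) (.node (.leaf 21) (.leaf 21))))) (.node (.node (.node (.node (.node (.leaf 21) (.leaf 24)) (.leaf 24)) (.node (.node (.leaf 21) (.leaf 21)) (.leaf 21))) (.node (.node (.node (.leaf 21) (.leaf 21)) (.leaf 21)) (.node (.leaf 21) (.leaf 21)))) (.node (.node (.node (.node (.leaf 21) (.leaf 24)) (.leaf 21)) (.node (.leaf 21) (.leaf 48))) (.node (.node (.node (.leaf 21) (.leaf 24)) (.leaf 21)) (.node (.leaf 21) (.leaf 21)))))) (.node (.node (.node (.node (.node (.node (.leaf 24) (.leaf 21)) (.leaf 21)) (.node (.node (.leaf 24) (.leaf 21)) (.leaf 24))) (.node (.node (.node (.leaf 21) (.leaf 21)) (.leaf 21)) (.node (.leaf 21) (.leaf 21)))) (.node (.node (.node (.node (.leaf 21) (.leaf 24)) (.leaf 21)) (.node (.leaf 21) (.leaf 24))) (.node (.node (.node (.leaf 21) (.leaf 21)) (.leaf 24)) (.node (.leaf 24) (.leaf 21))))) (.node (.node (.node (.node (.node (.leaf 24) (.leaf 24))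 (.leaf 21)) (.node (.node (.leaf 21) (.leaf 21)) (.leaf 21))) (.node (.node (.node (.leaf 21) (.leaf 21)) (.leaf 21)) (.node (.leaf 21) (.leaf 21)))) (.node (.node (.node (.node (.leaf 21) (.leaf 21)) (.leaf 21)) (.node (.leaf 21) (.leaf 21))) (.node (.node (.node (.leaf 21) (.leaf 21)) (.leaf 21)) (.node (.leaf 48) (.leaf 21)))))))))) (.node (.node (.node (.node (.node (.node (.node (.node (.node (.node (.leaf 21) (.leaf 48)) (.leaf 48)) (.node (.node (.leaf 21) (.leaf 24)) (.leaf 21))) (.node (.node (.node (.leaf 24) (.leaf 21)) (.leaf 21)) (.node (.leaf 24) (.leaf 21)))) (.node (.node (.node (.node (.leaf 21) (.leaf 21)) (.leaf 21)) (.node (.node (.leaf 21) (.leaf 24)) (.leaf 24))) (.node (.node (.node (.leaf 21) (.leaf 24)) (.leaf 21)) (.node (.leaf 21) (.leaf 21))))) (.node (.node (.node (.node (.node (.leaf 21) (.leaf 24)) (.leaf 21)) (.node (.node (.leaf 21) (.leaf 21)) (.leaf 21))) (.node (.node (.node (.leaf 21) (.leaf 24)) (.leaf 48)) (.node (.leaf 21) (.leaf 21)))) (.node (.node (.node (.node (.leaf 21) (.leaf 21)) (.leaf 21)) (.node (.leaf 21) (.leaf 24)))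 (.node (.node (.node (.leaf 24) (.leaf 21)) (.leaf 48)) (.node (.leaf 21) (.leaf 24)))))) (.node (.node (.node (.node (.node (.node (.leaf 21) (.leaf 21)) (.leaf 21)) (.node (.node (.leaf 21) (.leaf 21)) (.leaf 21))) (.node (.node (.node (.leaf 21) (.leaf 24)) (.leaf 21)) (.node (.leaf 21) (.leaf 21)))) (.node (.node (.node (.node (.leaf 21) (.leaf 24)) (.leaf 21)) (.node (.node (.leaf 21) (.leaf 21)) (.leaf 21))) (.node (.node (.node (.leaf 21) (.leaf 21)) (.leaf 24)) (.node (.leaf 21) (.leaf 24))))) (.node (.node (.node (.node (.node (.leaf 21) (.leaf 21)) (.leaf 21)) (.node (.node (.leaf 24) (.leaf 21)) (.leaf 21))) (.node (.node (.node (.leaf 21) (.leaf 24)) (.leaf 21)) (.node (.leaf 21) (.leaf 21)))) (.node (.node (.node (.node (.leaf 21) (.leaf 21)) (.leaf 21)) (.node (.leaf 21) (.leaf 24))) (.node (.node (.node (.leaf 21) (.leaf 21)) (.leaf 21)) (.node (.leaf 21) (.leaf 21))))))) (.node (.node (.node (.node (.node (.node (.node (.leaf 21) (.leaf 21)) (.leaf 21)) (.node (.node (.leaf 21) (.leaf 21)) (.leaf 21))) (.node (.node (.node (.leaf 21) (.leaf 21)) (.leaf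 21)) (.node (.leaf 21) (.leaf 21)))) (.node (.node (.node (.node (.leaf 21) (.leaf 24)) (.leaf 24)) (.node (.node (.leaf 21) (.leaf 21)) (.leaf 24))) (.node (.node (.node (.leaf 21) (.leaf 21)) (.leaf 21)) (.node (.leaf 21) (.leaf 21))))) (.node (.node (.node (.node (.node (.leaf 21) (.leaf 21)) (.leaf 24)) (.node (.node (.leaf 21) (.leaf 21)) (.leaf 21))) (.node (.node (.node (.leaf 24) (.leaf 21)) (.leaf 21)) (.node (.leaf 21) (.leaf 48)))) (.node (.node (.node (.node (.leaf 24) (.leaf 21)) (.leaf 24)) (.node (.leaf 21) (.leaf 21))) (.node (.node (.node (.leaf 24) (.leaf 24)) (.leaf 24)) (.node (.leaf 21) (.leaf 21)))))) (.node (.node (.node (.node (.node (.node (.leaf 21) (.leaf 24)) (.leaf 21)) (.node (.node (.leaf 21) (.leaf 24)) (.leaf 21))) (.node (.node (.node (.leaf 21) (.leaf 21)) (.leaf 21)) (.node (.leaf 21) (.leaf 21)))) (.node (.node (.node (.node (.leaf 24) (.leaf 24)) (.leaf 21)) (.node (.leaf 21) (.leaf 21))) (.node (.node (.node (.leaf 21) (.leaf 21)) (.leaf 21)) (.node (.leaf 24) (.leaf 21))))) (.node (.node (.node (.node (.node (.leaf 21) (.leaf 21))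 (.leaf 21)) (.node (.node (.leaf 21) (.leaf 21)) (.leaf 21))) (.node (.node (.node (.leaf 21) (.leaf 21)) (.leaf 24)) (.node (.leaf 24) (.leaf 21)))) (.node (.node (.node (.node (.leaf 21) (.leaf 21)) (.leaf 21)) (.node (.leaf 21) (.leaf 21))) (.node (.node (.node (.leaf 48) (.leaf 24)) (.leaf 21)) (.node (.leaf 24) (.leaf 21)))))))) (.node (.node (.node (.node (.node (.node (.node (.node (.leaf 21) (.leaf 21)) (.leaf 21)) (.node (.node (.leaf 21) (.leaf 21)) (.leaf 21))) (.node (.node (.node (.leaf 24) (.leaf 21)) (.leaf 21)) (.node (.leaf 21) (.leaf 21)))) (.node (.node (.node (.node (.leaf 21) (.leaf 24)) (.leaf 21)) (.node (.node (.leaf 21) (.leaf 21)) (.leaf 21))) (.node (.node (.node (.leaf 21) (.leaf 21)) (.leaf 24)) (.node (.leaf 21) (.leaf 21))))) (.node (.node (.node (.node (.node (.leaf 24) (.leaf 21)) (.leaf 21)) (.node (.node (.leaf 21) (.leaf 21)) (.leaf 21))) (.node (.node (.node (.leaf 21) (.leaf 21)) (.leaf 21)) (.node (.leaf 24) (.leaf 21)))) (.node (.node (.node (.node (.leaf 21) (.leaf 21)) (.leaf 21)) (.node (.leaf 21) (.leaf 24))) (.node (.node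 (.node (.leaf 21) (.leaf 21)) (.leaf 24)) (.node (.leaf 21) (.leaf 21)))))) (.node (.node (.node (.node (.node (.node (.leaf 21) (.leaf 24)) (.leaf 24)) (.node (.node (.leaf 21) (.leaf 24)) (.leaf 21))) (.node (.node (.node (.leaf 24) (.leaf 21)) (.leaf 21)) (.node (.leaf 21) (.leaf 24)))) (.node (.node (.node (.node (.leaf 24) (.leaf 21)) (.leaf 21)) (.node (.leaf 21) (.leaf 21))) (.node (.node (.node (.leaf 21) (.leaf 21)) (.leaf 21)) (.node (.leaf 21) (.leaf 21))))) (.node (.node (.node (.node (.node (.leaf 21) (.leaf 21)) (.leaf 21)) (.node (.node (.leaf 21) (.leaf 21)) (.leaf 48))) (.node (.node (.node (.leaf 21) (.leaf 21)) (.leaf 21)) (.node (.leaf 21) (.leaf 21)))) (.node (.node (.node (.node (.leaf 21) (.leaf 21)) (.leaf 21)) (.node (.leaf 21) (.leaf 24))) (.node (.node (.node (.leaf 21) (.leaf 24)) (.leaf 24)) (.node (.leaf 24) (.leaf 24))))))) (.node (.node (.node (.node (.node (.node (.node (.leaf 21) (.leaf 21)) (.leaf 24)) (.node (.node (.leaf 24) (.leaf 21)) (.leaf 21))) (.node (.node (.node (.leaf 21) (.leaf 21)) (.leaf 21)) (.node (.leaf 21) (.leaf 21))))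 (.node (.node (.node (.node (.leaf 24) (.leaf 21)) (.leaf 21)) (.node (.node (.leaf 21) (.leaf 21)) (.leaf 24))) (.node (.node (.node (.leaf 21) (.leaf 21)) (.leaf 21)) (.node (.leaf 21) (.leaf 21))))) (.node (.node (.node (.node (.node (.leaf 24) (.leaf 21)) (.leaf 21)) (.node (.node (.leaf 24) (.leaf 21)) (.leaf 21))) (.node (.node (.node (.leaf 21) (.leaf 21)) (.leaf 21)) (.node (.leaf 21) (.leaf 21)))) (.node (.node (.node (.node (.leaf 21) (.leaf 21)) (.leaf 24)) (.node (.leaf 21) (.leaf 21))) (.node (.node (.node (.leaf 21) (.leaf 21)) (.leaf 21)) (.node (.leaf 21) (.leaf 21)))))) (.node (.node (.node (.node (.node (.node (.leaf 21) (.leaf 21)) (.leaf 21)) (.node (.node (.leaf 21) (.leaf 21)) (.leaf 21))) (.node (.node (.node (.leaf 21) (.leaf 48)) (.leaf 21)) (.node (.leaf 21) (.leaf 21)))) (.node (.node (.node (.node (.leaf 21) (.leaf 21)) (.leaf 21)) (.node (.leaf 24) (.leaf 24))) (.node (.node (.node (.leaf 21) (.leaf 21)) (.leaf 21)) (.node (.leaf 21) (.leaf 21))))) (.node (.node (.node (.node (.node (.leaf 24) (.leaf 24)) (.leaf 21)) (.node (.node (.leaf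 24) (.leaf 24)) (.leaf 24))) (.node (.node (.node (.leaf 21) (.leaf 21)) (.leaf 21)) (.node (.leaf 21) (.leaf 24)))) (.node (.node (.node (.node (.leaf 21) (.leaf 21)) (.leaf 21)) (.node (.leaf 21) (.leaf 21))) (.node (.node (.node (.leaf 21) (.leaf 21)) (.leaf 21)) (.node (.leaf 21) (.leaf 21))))))))) (.node (.node (.node (.node (.node (.node (.node (.node (.node (.leaf 21) (.leaf 21)) (.leaf 21)) (.node (.node (.leaf 21) (.leaf 21)) (.leaf 21))) (.node (.node (.node (.leaf 24) (.leaf 21)) (.leaf 24)) (.node (.leaf 21) (.leaf 21)))) (.node (.node (.node (.node (.leaf 21) (.leaf 21)) (.leaf 21)) (.node (.node (.leaf 21) (.leaf 21)) (.leaf 21))) (.node (.node (.node (.leaf 21) (.leaf 21)) (.leaf 21)) (.node (.leaf 24) (.leaf 24))))) (.node (.node (.node (.node (.node (.leaf 21) (.leaf 24)) (.leaf 21)) (.node (.node (.leaf 24) (.leaf 21)) (.leaf 21))) (.node (.node (.node (.leaf 24) (.leaf 24)) (.leaf 21)) (.node (.leaf 21) (.leaf 24)))) (.node (.node (.node (.node (.leaf 21) (.leaf 24)) (.leaf 24)) (.node (.leaf 21) (.leaf 21))) (.node (.node (.node (.leaf 21) (.leaf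 21)) (.leaf 21)) (.node (.leaf 21) (.leaf 24)))))) (.node (.node (.node (.node (.node (.node (.leaf 21) (.leaf 21)) (.leaf 24)) (.node (.node (.leaf 48) (.leaf 24)) (.leaf 21))) (.node (.node (.node (.leaf 21) (.leaf 21)) (.leaf 21)) (.node (.leaf 24) (.leaf 24)))) (.node (.node (.node (.node (.leaf 24) (.leaf 21)) (.leaf 21)) (.node (.node (.leaf 24) (.leaf 21)) (.leaf 21))) (.node (.node (.node (.leaf 21) (.leaf 21)) (.leaf 24)) (.node (.leaf 21) (.leaf 21))))) (.node (.node (.node (.node (.node (.leaf 21) (.leaf 21)) (.leaf 21)) (.node (.node (.leaf 21) (.leaf 24)) (.leaf 21))) (.node (.node (.node (.leaf 24) (.leaf 21)) (.leaf 21)) (.node (.leaf 21) (.leaf 21)))) (.node (.node (.node (.node (.leaf 24) (.leaf 21)) (.leaf 24)) (.node (.leaf 21) (.leaf 21))) (.node (.node (.node (.leaf 21) (.leaf 21)) (.leaf 21)) (.node (.leaf 24) (.leaf 21))))))) (.node (.node (.node (.node (.node (.node (.node (.leaf 21) (.leaf 21)) (.leaf 21)) (.node (.node (.leaf 21) (.leaf 21)) (.leaf 21))) (.node (.node (.node (.leaf 21) (.leaf 21)) (.leaf 21)) (.node (.leaf 21) (.leaf 21))))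 (.node (.node (.node (.node (.leaf 24) (.leaf 24)) (.leaf 24)) (.node (.node (.leaf 24) (.leaf 21)) (.leaf 21))) (.node (.node (.node (.leaf 24) (.leaf 21)) (.leaf 24)) (.node (.leaf 21) (.leaf 21))))) (.node (.node (.node (.node (.node (.leaf 21) (.leaf 21)) (.leaf 24)) (.node (.node (.leaf 24) (.leaf 21)) (.leaf 24))) (.node (.node (.node (.leaf 21) (.leaf 24)) (.leaf 21)) (.node (.leaf 21) (.leaf 21)))) (.node (.node (.node (.node (.leaf 21) (.leaf 24)) (.leaf 21)) (.node (.leaf 21) (.leaf 21))) (.node (.node (.node (.leaf 24) (.leaf 21)) (.leaf 24)) (.node (.leaf 21) (.leaf 21)))))) (.node (.node (.node (.node (.node (.node (.leaf 48) (.leaf 21)) (.leaf 21)) (.node (.node (.leaf 21) (.leaf 24)) (.leaf 24))) (.node (.node (.node (.leaf 24) (.leaf 24)) (.leaf 21)) (.node (.leaf 24) (.leaf 21)))) (.node (.node (.node (.node (.leaf 24) (.leaf 21)) (.leaf 21)) (.node (.leaf 21) (.leaf 21))) (.node (.node (.node (.leaf 24) (.leaf 21)) (.leaf 21)) (.node (.leaf 21) (.leaf 21))))) (.node (.node (.node (.node (.node (.leaf 24) (.leaf 21)) (.leaf 24)) (.node (.node (.leaf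 24) (.leaf 24)) (.leaf 21))) (.node (.node (.node (.leaf 21) (.leaf 21)) (.leaf 21)) (.node (.leaf 21) (.leaf 24)))) (.node (.node (.node (.node (.leaf 21) (.leaf 21)) (.leaf 21)) (.node (.leaf 21) (.leaf 21))) (.node (.node (.node (.leaf 21) (.leaf 21)) (.leaf 21)) (.node (.leaf 21) (.leaf 21)))))))) (.node (.node (.node (.node (.node (.node (.node (.node (.leaf 21) (.leaf 21)) (.leaf 21)) (.node (.node (.leaf 21) (.leaf 21)) (.leaf 24))) (.node (.node (.node (.leaf 24) (.leaf 21)) (.leaf 21)) (.node (.leaf 24) (.leaf 24)))) (.node (.node (.node (.node (.leaf 21) (.leaf 24)) (.leaf 21)) (.node (.node (.leaf 24) (.leaf 21)) (.leaf 24))) (.node (.node (.node (.leaf 21) (.leaf 21)) (.leaf 24)) (.node (.leaf 21) (.leaf 21))))) (.node (.node (.node (.node (.node (.leaf 21) (.leaf 21)) (.leaf 21)) (.node (.node (.leaf 21) (.leaf 21)) (.leaf 21))) (.node (.node (.node (.leaf 21) (.leaf 21)) (.leaf 21)) (.node (.leaf 24) (.leaf 21)))) (.node (.node (.node (.node (.leaf 21) (.leaf 21)) (.leaf 24)) (.node (.leaf 21) (.leaf 21))) (.node (.node (.node (.leaf 21) (.leaf 21)) (.leaf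 21)) (.node (.leaf 21) (.leaf 21)))))) (.node (.node (.node (.node (.node (.node (.leaf 21) (.leaf 21)) (.leaf 21)) (.node (.node (.leaf 21) (.leaf 24)) (.leaf 21))) (.node (.node (.node (.leaf 21) (.leaf 24)) (.leaf 21)) (.node (.leaf 21) (.leaf 21)))) (.node (.node (.node (.node (.leaf 21) (.leaf 21)) (.leaf 24)) (.node (.leaf 48) (.leaf 21))) (.node (.node (.node (.leaf 21) (.leaf 21)) (.leaf 21)) (.node (.leaf 21) (.leaf 21))))) (.node (.node (.node (.node (.node (.leaf 21) (.leaf 21)) (.leaf 24)) (.node (.node (.leaf 21) (.leaf 21)) (.leaf 21))) (.node (.node (.node (.leaf 21) (.leaf 21)) (.leaf 21)) (.node (.leaf 24) (.leaf 21)))) (.node (.node (.node (.node (.leaf 21) (.leaf 24)) (.leaf 21)) (.node (.leaf 21) (.leaf 21))) (.node (.node (.node (.leaf 21) (.leaf 21)) (.leaf 24)) (.node (.leaf 21) (.leaf 21))))))) (.node (.node (.node (.node (.node (.node (.node (.leaf 21) (.leaf 21)) (.leaf 21)) (.node (.node (.leaf 21) (.leaf 21)) (.leaf 21))) (.node (.node (.node (.leaf 21) (.leaf 21)) (.leaf 21)) (.node (.leaf 21) (.leaf 21)))) (.node (.node (.node (.node (.leaf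 21) (.leaf 21)) (.leaf 21)) (.node (.node (.leaf 21) (.leaf 21)) (.leaf 21))) (.node (.node (.node (.leaf 24) (.leaf 21)) (.leaf 21)) (.node (.leaf 21) (.leaf 21))))) (.node (.node (.node (.node (.node (.leaf 21) (.leaf 24)) (.leaf 21)) (.node (.node (.leaf 24) (.leaf 21)) (.leaf 21))) (.node (.node (.node (.leaf 21) (.leaf 21)) (.leaf 21)) (.node (.leaf 21) (.leaf 21)))) (.node (.node (.node (.node (.leaf 21) (.leaf 21)) (.leaf 21)) (.node (.leaf 21) (.leaf 21))) (.node (.node (.node (.leaf 21) (.leaf 21)) (.leaf 21)) (.node (.leaf 24) (.leaf 21)))))) (.node (.node (.node (.node (.node (.node (.leaf 21) (.leaf 24)) (.leaf 21)) (.node (.node (.leaf 21) (.leaf 24)) (.leaf 21))) (.node (.node (.node (.leaf 24) (.leaf 24)) (.leaf 21)) (.node (.leaf 21) (.leaf 21)))) (.node (.node (.node (.node (.leaf 21) (.leaf 21)) (.leaf 21)) (.node (.leaf 21) (.leaf 21))) (.node (.node (.node (.leaf 24) (.leaf 21)) (.leaf 21)) (.node (.leaf 24) (.leaf 21))))) (.node (.node (.node (.node (.node (.leaf 21) (.leaf 24)) (.leaf 24)) (.node (.node (.leaf 21) (.leaf 21)) (.leaf 24))) (.node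 (.node (.node (.leaf 24) (.leaf 24)) (.leaf 21)) (.node (.leaf 21) (.leaf 24)))) (.node (.node (.node (.node (.leaf 21) (.leaf 24)) (.leaf 21)) (.node (.leaf 21) (.leaf 21))) (.node (.node (.node (.leaf 21) (.leaf 21)) (.leaf 21)) (.node (.leaf 21) (.leaf 24)))))))))))

/-- Part of a table. -/
noncomputable def lineParL : BTree := (.node (.node (.node (.node (.node (.node (.node (.node (.node (.node (.leaf 0) (.leaf 2054)) (.leaf 1663)) (.node (.node (.leaf 518) (.leaf 2058)) (.leaf 2501))) (.node (.node (.node (.leaf 255) (.leaf 2394)) (.leaf 974)) (.node (.leaf 492) (.leaf 749)))) (.node (.node (.node (.node (.leaf 995) (.leaf 2273)) (.leaf 1140)) (.node (.node (.leaf 147) (.leaf 2632)) (.leaf 1680))) (.node (.node (.node (.leaf 539) (.leaf 1771)) (.leaf 605)) (.node (.leaf 1626) (.leaf 1935))))) (.node (.node (.node (.node (.node (.leaf 66) (.leaf 2114)) (.leaf 1090)) (.node (.node (.leaf 865) (.leaf 967)) (.leaf 1109))) (.node (.node (.node (.leaf 1247) (.leaf 2166)) (.leaf 1192)) (.node (.leaf 826) (.leaf 921)))) (.node (.node (.node (.node (.leaf 65) (.leaf 2127))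 (.leaf 358)) (.node (.leaf 181) (.leaf 1689))) (.node (.node (.node (.leaf 1420) (.leaf 2344)) (.leaf 1139)) (.node (.leaf 909) (.leaf 1763)))))) (.node (.node (.node (.node (.node (.node (.leaf 429) (.leaf 2078)) (.leaf 1761)) (.node (.node (.leaf 151) (.leaf 2639)) (.leaf 2258))) (.node (.node (.node (.leaf 290) (.leaf 2433)) (.leaf 1497)) (.node (.leaf 802) (.leaf 1043)))) (.node (.node (.node (.node (.leaf 1007) (.leaf 741)) (.leaf 2129)) (.node (.node (.leaf 676) (.leaf 2577)) (.leaf 2200))) (.node (.node (.node (.leaf 901) (.leaf 1843)) (.leaf 463)) (.node (.leaf 2157) (.leaf 2437))))) (.node (.node (.node (.node (.node (.leaf 100) (.leaf 2146)) (.leaf 1453)) (.node (.node (.leaf 630) (.leaf 2538)) (.leaf 361))) (.node (.node (.node (.leaf 1202) (.leaf 1073)) (.leaf 1105)) (.node (.leaf 872) (.leaf 1770)))) (.node (.node (.node (.node (.leaf 659) (.leaf 291)) (.leaf 1533)) (.node (.leaf 734) (.leaf 1329))) (.node (.node (.node (.leaf 2251) (.leaf 1950)) (.leaf 1292)) (.node (.leaf 1634) (.leaf 1599))))))) (.node (.node (.node (.node (.node (.node (.node (.leaf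 0) (.leaf 1874)) (.leaf 1728)) (.node (.node (.leaf 1711) (.leaf 2511)) (.leaf 1955))) (.node (.node (.node (.leaf 996) (.leaf 2324)) (.leaf 899)) (.node (.leaf 2155) (.leaf 929)))) (.node (.node (.node (.node (.leaf 321) (.leaf 1401)) (.leaf 1172)) (.node (.node (.leaf 528) (.leaf 2586)) (.leaf 443))) (.node (.node (.node (.leaf 1849) (.leaf 2411)) (.leaf 1547)) (.node (.leaf 1853) (.leaf 87))))) (.node (.node (.node (.node (.node (.leaf 7) (.leaf 801)) (.leaf 1106)) (.node (.node (.leaf 1521) (.leaf 2431)) (.leaf 2233))) (.node (.node (.node (.leaf 1315) (.leaf 2215)) (.leaf 1589)) (.node (.leaf 1483) (.leaf 1768)))) (.node (.node (.node (.node (.leaf 212) (.leaf 1427)) (.leaf 1397)) (.node (.leaf 201) (.leaf 1947))) (.node (.node (.node (.leaf 1053) (.leaf 2690)) (.leaf 213)) (.node (.leaf 357) (.leaf 1603)))))) (.node (.node (.node (.node (.node (.node (.leaf 52) (.leaf 1372)) (.leaf 175)) (.node (.node (.leaf 572) (.leaf 2463)) (.leaf 483))) (.node (.node (.node (.leaf 1199) (.leaf 2495)) (.leaf 1827)) (.node (.leaf 2535) (.leaf 1384)))) (.node (.node (.node (.node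 (.leaf 435) (.leaf 1150)) (.leaf 883)) (.node (.leaf 735) (.leaf 1718))) (.node (.node (.node (.leaf 1651) (.leaf 2536)) (.leaf 1455)) (.node (.leaf 1083) (.leaf 1835))))) (.node (.node (.node (.node (.node (.leaf 498) (.leaf 2326)) (.leaf 2177)) (.node (.node (.leaf 1757) (.leaf 2301)) (.leaf 1413))) (.node (.node (.node (.leaf 1915) (.leaf 2520)) (.leaf 469)) (.node (.leaf 968) (.leaf 1005)))) (.node (.node (.node (.node (.leaf 190) (.leaf 1991)) (.leaf 1904)) (.node (.leaf 242) (.leaf 563))) (.node (.node (.node (.leaf 1949) (.leaf 2351)) (.leaf 2131)) (.node (.leaf 756) (.leaf 2018)))))))) (.node (.node (.node (.node (.node (.node (.node (.node (.leaf 221) (.leaf 2507)) (.leaf 960)) (.node (.node (.leaf 873) (.leaf 2514)) (.leaf 2446))) (.node (.node (.node (.leaf 349) (.leaf 857)) (.leaf 671)) (.node (.leaf 309) (.leaf 661)))) (.node (.node (.node (.node (.leaf 540) (.leaf 2494)) (.leaf 1166)) (.node (.node (.leaf 723) (.leaf 2523)) (.leaf 2173))) (.node (.node (.node (.leaf 1583) (.leaf 2442)) (.leaf 944)) (.node (.leaf 439) (.leaf 1924))))) (.node (.node (.node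 (.node (.node (.leaf 689) (.leaf 2339)) (.leaf 312)) (.node (.node (.leaf 588) (.leaf 1937)) (.leaf 2256))) (.node (.node (.node (.leaf 1108) (.leaf 2191)) (.leaf 193)) (.node (.leaf 1185) (.leaf 1632)))) (.node (.node (.node (.node (.leaf 2185) (.leaf 2361)) (.leaf 1751)) (.node (.leaf 2409) (.leaf 1624))) (.node (.node (.node (.leaf 1462) (.leaf 2128)) (.leaf 1386)) (.node (.leaf 2031) (.leaf 1342)))))) (.node (.node (.node (.node (.node (.node (.leaf 549) (.leaf 2489)) (.leaf 2236)) (.node (.node (.leaf 2349) (.leaf 2519)) (.leaf 1100))) (.node (.node (.node (.leaf 54) (.leaf 1943)) (.leaf 1766)) (.node (.leaf 1815) (.leaf 1377)))) (.node (.node (.node (.node (.leaf 1187) (.leaf 1671)) (.leaf 1775)) (.node (.node (.leaf 1345) (.leaf 2723)) (.leaf 1690))) (.node (.node (.node (.leaf 2041) (.leaf 2621)) (.leaf 1855)) (.node (.leaf 596) (.leaf 792))))) (.node (.node (.node (.node (.node (.leaf 715) (.leaf 2150)) (.leaf 509)) (.node (.node (.leaf 1563) (.leaf 1941)) (.leaf 813))) (.node (.node (.node (.leaf 1439) (.leaf 2445)) (.leaf 1133)) (.node (.leaf 1327) (.leaf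 359)))) (.node (.node (.node (.node (.leaf 739) (.leaf 2230)) (.leaf 911)) (.node (.leaf 1902) (.leaf 1809))) (.node (.node (.node (.leaf 353) (.leaf 1333)) (.leaf 1516)) (.node (.leaf 1469) (.leaf 2246))))))) (.node (.node (.node (.node (.node (.node (.node (.leaf 36) (.leaf 159)) (.leaf 143)) (.node (.node (.leaf 1973) (.leaf 2597)) (.leaf 1571))) (.node (.node (.node (.leaf 1097) (.leaf 1332)) (.leaf 989)) (.node (.leaf 1409) (.leaf 1177)))) (.node (.node (.node (.node (.leaf 155) (.leaf 1069)) (.leaf 2061)) (.node (.node (.leaf 1969) (.leaf 2325)) (.leaf 69))) (.node (.node (.node (.leaf 657) (.leaf 2557)) (.leaf 1799)) (.node (.leaf 2118) (.leaf 1942))))) (.node (.node (.node (.node (.node (.leaf 432) (.leaf 117)) (.leaf 1132)) (.node (.node (.leaf 250) (.leaf 2698)) (.leaf 2267))) (.node (.node (.node (.leaf 460) (.leaf 267)) (.leaf 2193)) (.node (.leaf 1039) (.leaf 1451)))) (.node (.node (.node (.node (.leaf 218) (.leaf 1774)) (.leaf 933)) (.node (.leaf 859) (.leaf 2491))) (.node (.node (.node (.leaf 1482) (.leaf 2721)) (.leaf 1288)) (.node (.leaf 1929) (.leaf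 1387)))))) (.node (.node (.node (.node (.node (.node (.leaf 939) (.leaf 2297)) (.leaf 1627)) (.node (.node (.leaf 697) (.leaf 2189)) (.leaf 520))) (.node (.node (.node (.leaf 613) (.leaf 2534)) (.leaf 1334)) (.node (.leaf 405) (.leaf 2293)))) (.node (.node (.node (.node (.leaf 742) (.leaf 553)) (.leaf 424)) (.node (.leaf 853) (.leaf 629))) (.node (.node (.node (.leaf 1825) (.leaf 473)) (.leaf 1869)) (.node (.leaf 2277) (.leaf 2289))))) (.node (.node (.node (.node (.node (.leaf 148) (.leaf 2271)) (.leaf 1318)) (.node (.node (.leaf 1873) (.leaf 2708)) (.leaf 2201))) (.node (.node (.node (.leaf 74) (.leaf 1524)) (.leaf 2162)) (.node (.leaf 25) (.leaf 285)))) (.node (.node (.node (.node (.leaf 254) (.leaf 1171)) (.leaf 743)) (.node (.leaf 1702) (.leaf 607))) (.node (.node (.node (.leaf 502) (.leaf 1803)) (.leaf 2385)) (.node (.leaf 882) (.leaf 1287))))))))) (.node (.node (.node (.node (.node (.node (.node (.node (.node (.leaf 745) (.leaf 874)) (.leaf 294)) (.node (.node (.leaf 1182) (.leaf 2566)) (.leaf 1532))) (.node (.node (.node (.leaf 457) (.leaf 2567)) (.leaf 1286))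 (.node (.leaf 973) (.leaf 1577)))) (.node (.node (.node (.node (.leaf 1781) (.leaf 1752)) (.leaf 1755)) (.node (.node (.leaf 1776) (.leaf 2565)) (.leaf 1856))) (.node (.node (.node (.leaf 386) (.leaf 2296)) (.leaf 1638)) (.node (.leaf 590) (.leaf 543))))) (.node (.node (.node (.node (.node (.leaf 793) (.leaf 2120)) (.leaf 820)) (.node (.node (.leaf 2235) (.leaf 2391)) (.leaf 850))) (.node (.node (.node (.leaf 733) (.leaf 2421)) (.leaf 414)) (.node (.leaf 1556) (.leaf 1760)))) (.node (.node (.node (.node (.leaf 925) (.leaf 1584)) (.leaf 1218)) (.node (.leaf 1987) (.leaf 999))) (.node (.node (.node (.leaf 1244) (.leaf 1727)) (.leaf 1474)) (.node (.leaf 1018) (.leaf 2113)))))) (.node (.node (.node (.node (.node (.node (.leaf 1285) (.leaf 2008)) (.leaf 1120)) (.node (.node (.leaf 1304) (.leaf 2505)) (.leaf 1921))) (.node (.node (.node (.leaf 1022) (.leaf 1741)) (.leaf 1180)) (.node (.leaf 204) (.leaf 1055)))) (.node (.node (.node (.node (.leaf 194) (.leaf 1710)) (.leaf 1277)) (.node (.node (.leaf 597) (.leaf 2521)) (.leaf 2266))) (.node (.node (.node (.leaf 422) (.leaf 2622))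 (.leaf 219)) (.node (.leaf 928) (.leaf 109))))) (.node (.node (.node (.node (.node (.leaf 975) (.leaf 2138)) (.leaf 699)) (.node (.node (.leaf 616) (.leaf 2354)) (.leaf 2202))) (.node (.node (.node (.leaf 360) (.leaf 2659)) (.leaf 1369)) (.node (.leaf 1637) (.leaf 1716)))) (.node (.node (.node (.node (.leaf 1193) (.leaf 2262)) (.leaf 372)) (.node (.leaf 59) (.leaf 1299))) (.node (.node (.node (.leaf 2347) (.leaf 2627)) (.leaf 1734)) (.node (.leaf 1103) (.leaf 2242))))))) (.node (.node (.node (.node (.node (.node (.node (.leaf 303) (.leaf 585)) (.leaf 625)) (.node (.node (.leaf 122) (.leaf 1235)) (.leaf 2143))) (.node (.node (.node (.leaf 317) (.leaf 2613)) (.leaf 1049)) (.node (.leaf 796) (.leaf 2482)))) (.node (.node (.node (.node (.leaf 111) (.leaf 1857)) (.leaf 1443)) (.node (.node (.leaf 666) (.leaf 2691)) (.leaf 455))) (.node (.node (.node (.leaf 1326) (.leaf 263)) (.leaf 1436)) (.node (.leaf 256) (.leaf 2012))))) (.node (.node (.node (.node (.node (.leaf 685) (.leaf 2596)) (.leaf 1765)) (.node (.node (.leaf 253) (.leaf 2646)) (.leaf 1863))) (.node (.node (.node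 (.leaf 57) (.leaf 2384)) (.leaf 2345)) (.node (.leaf 409) (.leaf 2633)))) (.node (.node (.node (.node (.leaf 2367) (.leaf 515)) (.leaf 1232)) (.node (.leaf 1113) (.leaf 2665))) (.node (.node (.node (.leaf 1431) (.leaf 2664)) (.leaf 1625)) (.node (.leaf 688) (.leaf 1017)))))) (.node (.node (.node (.node (.node (.node (.leaf 1163) (.leaf 1545)) (.leaf 302)) (.node (.node (.leaf 1897) (.leaf 2156)) (.leaf 2309))) (.node (.node (.node (.leaf 490) (.leaf 1968)) (.leaf 757)) (.node (.leaf 1337) (.leaf 710)))) (.node (.node (.node (.node (.leaf 724) (.leaf 1784)) (.leaf 1865)) (.node (.leaf 467) (.leaf 997))) (.node (.node (.node (.leaf 2083) (.leaf 1923)) (.leaf 2198)) (.node (.leaf 946) (.leaf 1201))))) (.node (.node (.node (.node (.node (.leaf 514) (.leaf 1796)) (.leaf 461)) (.node (.node (.leaf 1212) (.leaf 2323)) (.leaf 1221))) (.node (.node (.node (.leaf 1881) (.leaf 1515)) (.leaf 942)) (.node (.leaf 886) (.leaf 898)))) (.node (.node (.node (.node (.leaf 2423) (.leaf 1792)) (.leaf 1325)) (.node (.leaf 1029) (.leaf 1254))) (.node (.node (.node (.leaf 619) (.leaf 2342))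 (.leaf 421)) (.node (.leaf 1997) (.leaf 1769)))))))) (.node (.node (.node (.node (.node (.node (.node (.node (.leaf 677) (.leaf 1621)) (.leaf 1464)) (.node (.node (.leaf 2079) (.leaf 2327)) (.leaf 1546))) (.node (.node (.node (.leaf 339) (.leaf 2015)) (.leaf 133)) (.node (.leaf 211) (.leaf 1051)))) (.node (.node (.node (.node (.leaf 138) (.leaf 1197)) (.leaf 1880)) (.node (.node (.leaf 732) (.leaf 2722)) (.leaf 1273))) (.node (.node (.node (.leaf 984) (.leaf 2576)) (.leaf 1959)) (.node (.leaf 1289) (.leaf 2379))))) (.node (.node (.node (.node (.node (.leaf 5) (.leaf 2584)) (.leaf 2479)) (.node (.node (.leaf 1647) (.leaf 2400)) (.leaf 632))) (.node (.node (.node (.leaf 336) (.leaf 1543)) (.leaf 1175)) (.node (.leaf 848) (.leaf 2130)))) (.node (.node (.node (.node (.leaf 53) (.leaf 2553)) (.leaf 1259)) (.node (.leaf 375) (.leaf 1305))) (.node (.node (.node (.leaf 1255) (.leaf 2068)) (.leaf 526)) (.node (.leaf 1850) (.leaf 1429)))))) (.node (.node (.node (.node (.node (.node (.leaf 58) (.leaf 557)) (.leaf 340)) (.node (.node (.leaf 794) (.leaf 2136)) (.leaf 2016))) (.node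 (.node (.node (.leaf 1167) (.leaf 1974)) (.leaf 1330)) (.node (.leaf 816) (.leaf 1477)))) (.node (.node (.node (.node (.leaf 166) (.leaf 335)) (.leaf 1994)) (.node (.leaf 806) (.leaf 797))) (.node (.node (.node (.leaf 427) (.leaf 2250)) (.leaf 2299)) (.node (.leaf 799) (.leaf 2000))))) (.node (.node (.node (.node (.node (.leaf 370) (.leaf 119)) (.leaf 789)) (.node (.node (.leaf 145) (.leaf 2640)) (.leaf 1500))) (.node (.node (.node (.leaf 817) (.leaf 2589)) (.leaf 1206)) (.node (.leaf 247) (.leaf 1444)))) (.node (.node (.node (.node (.leaf 23) (.leaf 561)) (.leaf 1079)) (.node (.leaf 1209) (.leaf 1706))) (.node (.node (.node (.leaf 591) (.leaf 2477)) (.leaf 2649)) (.node (.leaf 173) (.leaf 852))))))) (.node (.node (.node (.node (.node (.node (.node (.leaf 22) (.leaf 863)) (.leaf 305)) (.node (.node (.leaf 895) (.leaf 2711)) (.leaf 1156))) (.node (.node (.node (.leaf 282) (.leaf 2515)) (.leaf 1176)) (.node (.leaf 1091) (.leaf 185)))) (.node (.node (.node (.node (.leaf 610) (.leaf 1446)) (.leaf 2175)) (.node (.node (.leaf 494) (.leaf 2696)) (.leaf 1306))) (.node (.node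 (.node (.leaf 416) (.leaf 2464)) (.leaf 631)) (.node (.leaf 408) (.leaf 2522))))) (.node (.node (.node (.node (.node (.leaf 19) (.leaf 2142)) (.leaf 1793)) (.node (.node (.leaf 1754) (.leaf 2727)) (.leaf 649))) (.node (.node (.node (.leaf 2163) (.leaf 2585)) (.leaf 135)) (.node (.leaf 2317) (.leaf 765)))) (.node (.node (.node (.node (.leaf 825) (.leaf 849)) (.leaf 977)) (.node (.leaf 535) (.leaf 2050))) (.node (.node (.node (.leaf 2097) (.leaf 2332)) (.leaf 2329)) (.node (.leaf 1281) (.leaf 969)))))) (.node (.node (.node (.node (.node (.node (.leaf 318) (.leaf 121)) (.leaf 2086)) (.node (.node (.leaf 609) (.leaf 2572)) (.leaf 2288))) (.node (.node (.node (.leaf 589) (.leaf 1851)) (.leaf 759)) (.node (.leaf 2007) (.leaf 2069)))) (.node (.node (.node (.node (.leaf 453) (.leaf 903)) (.leaf 1137)) (.node (.leaf 1233) (.leaf 2060))) (.node (.node (.node (.leaf 829) (.leaf 2474)) (.leaf 1174)) (.node (.leaf 2195) (.leaf 1448))))) (.node (.node (.node (.node (.node (.leaf 157) (.leaf 1001)) (.leaf 1054)) (.node (.node (.leaf 160) (.leaf 2595)) (.leaf 281))) (.node (.node (.node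 (.leaf 374) (.leaf 2673)) (.leaf 1498)) (.node (.leaf 1403) (.leaf 906)))) (.node (.node (.node (.node (.leaf 940) (.leaf 1454)) (.leaf 1717)) (.node (.leaf 1782) (.leaf 1061))) (.node (.node (.node (.leaf 1261) (.leaf 2290)) (.leaf 1385)) (.node (.leaf 1346) (.leaf 2220))))))))))

/-- Part of a table. -/
noncomputable def lineParR : BTree := (.node (.node (.node (.node (.node (.node (.node (.node (.node (.node (.leaf 0) (.leaf 1475)) (.leaf 1643)) (.node (.node (.leaf 2353) (.leaf 2110)) (.leaf 2456))) (.node (.node (.node (.leaf 262) (.leaf 2587)) (.leaf 73)) (.node (.leaf 662) (.leaf 1767)))) (.node (.node (.node (.node (.leaf 552) (.leaf 2617)) (.leaf 867)) (.node (.node (.leaf 217) (.leaf 2713)) (.leaf 564))) (.node (.node (.node (.leaf 1899) (.leaf 2678)) (.leaf 1408)) (.node (.leaf 1957) (.leaf 1684))))) (.node (.node (.node (.node (.node (.leaf 351) (.leaf 2321)) (.leaf 1639)) (.node (.node (.leaf 1665) (.leaf 2395)) (.leaf 1600))) (.node (.node (.node (.leaf 486) (.leaf 2488)) (.leaf 687)) (.node (.leaf 1820) (.leaf 513)))) (.node (.node (.node (.node (.leaf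 1883) (.leaf 2487)) (.leaf 791)) (.node (.leaf 174) (.leaf 1063))) (.node (.node (.node (.leaf 368) (.leaf 2666)) (.leaf 297)) (.node (.leaf 260) (.leaf 1988)))))) (.node (.node (.node (.node (.node (.node (.leaf 228) (.leaf 2552)) (.leaf 1417)) (.node (.node (.leaf 1797) (.leaf 2579)) (.leaf 1566))) (.node (.node (.node (.leaf 329) (.leaf 2681)) (.leaf 1432)) (.node (.leaf 2355) (.leaf 293)))) (.node (.node (.node (.node (.leaf 576) (.leaf 1678)) (.leaf 795)) (.node (.node (.leaf 1824) (.leaf 2643)) (.leaf 640))) (.node (.node (.node (.leaf 1362) (.leaf 2439)) (.leaf 1240)) (.node (.leaf 1085) (.leaf 2284))))) (.node (.node (.node (.node (.node (.leaf 239) (.leaf 2647)) (.leaf 1871)) (.node (.node (.leaf 167) (.leaf 2352)) (.leaf 1777))) (.node (.node (.node (.leaf 1847) (.leaf 889)) (.leaf 1382)) (.node (.leaf 224) (.leaf 2484)))) (.node (.node (.node (.node (.leaf 581) (.leaf 163)) (.leaf 1258)) (.node (.leaf 249) (.leaf 1905))) (.node (.node (.node (.leaf 983) (.leaf 2109)) (.leaf 1294)) (.node (.leaf 831) (.leaf 1389))))))) (.node (.node (.node (.node (.node (.node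 (.node (.leaf 12) (.leaf 97)) (.leaf 1257)) (.node (.node (.leaf 569) (.leaf 2108)) (.leaf 778))) (.node (.node (.node (.leaf 50) (.leaf 2574)) (.leaf 1313)) (.node (.leaf 1945) (.leaf 1228)))) (.node (.node (.node (.node (.leaf 1565) (.leaf 2350)) (.leaf 327)) (.node (.node (.leaf 1909) (.leaf 2724)) (.leaf 1231))) (.node (.node (.node (.leaf 910) (.leaf 1735)) (.leaf 1438)) (.node (.leaf 2137) (.leaf 1901))))) (.node (.node (.node (.node (.node (.leaf 342) (.leaf 1341)) (.leaf 879)) (.node (.node (.leaf 144) (.leaf 2637)) (.leaf 1492))) (.node (.node (.node (.leaf 655) (.leaf 1878)) (.leaf 2093)) (.node (.leaf 669) (.leaf 1045)))) (.node (.node (.node (.node (.leaf 822) (.leaf 1391)) (.leaf 2657)) (.node (.leaf 1179) (.leaf 1981))) (.node (.node (.node (.leaf 1491) (.leaf 377)) (.leaf 1590)) (.node (.leaf 976) (.leaf 2404)))))) (.node (.node (.node (.node (.node (.node (.leaf 161) (.leaf 1725)) (.leaf 1082)) (.node (.node (.leaf 134) (.leaf 2709)) (.leaf 1588))) (.node (.node (.node (.leaf 56) (.leaf 2555)) (.leaf 601)) (.node (.leaf 1635) (.leaf 1611)))) (.node (.node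 (.node (.node (.leaf 182) (.leaf 1673)) (.leaf 2017)) (.node (.leaf 413) (.leaf 2314))) (.node (.node (.node (.leaf 1081) (.leaf 2625)) (.leaf 2056)) (.node (.leaf 823) (.leaf 1995))))) (.node (.node (.node (.node (.node (.leaf 110) (.leaf 1517)) (.leaf 313)) (.node (.node (.leaf 1131) (.leaf 2676)) (.leaf 1598))) (.node (.node (.node (.leaf 199) (.leaf 265)) (.leaf 1989)) (.node (.leaf 37) (.leaf 1713)))) (.node (.node (.node (.node (.leaf 479) (.leaf 707)) (.leaf 1685)) (.node (.leaf 2055) (.leaf 1042))) (.node (.node (.node (.leaf 2363) (.leaf 2371)) (.leaf 1526)) (.node (.leaf 1012) (.leaf 567)))))))) (.node (.node (.node (.node (.node (.node (.node (.node (.leaf 225) (.leaf 229)) (.leaf 1845)) (.node (.node (.leaf 673) (.leaf 2066)) (.leaf 2417))) (.node (.node (.node (.leaf 888) (.leaf 593)) (.leaf 480)) (.node (.leaf 1821) (.leaf 67)))) (.node (.node (.node (.node (.leaf 1041) (.leaf 2403)) (.leaf 1882)) (.node (.node (.leaf 1256) (.leaf 2701)) (.leaf 195))) (.node (.node (.node (.leaf 747) (.leaf 2601)) (.leaf 1422)) (.node (.leaf 555) (.leaf 2213))))) (.node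 (.node (.node (.node (.node (.leaf 1807) (.leaf 1121)) (.leaf 500)) (.node (.node (.leaf 1038) (.leaf 2638)) (.leaf 1186))) (.node (.node (.node (.leaf 316) (.leaf 2319)) (.leaf 2475)) (.node (.leaf 2115) (.leaf 1441)))) (.node (.node (.node (.node (.leaf 1353) (.leaf 235)) (.leaf 667)) (.node (.leaf 423) (.leaf 1889))) (.node (.node (.node (.leaf 454) (.leaf 2594)) (.leaf 75)) (.node (.leaf 966) (.leaf 1633)))))) (.node (.node (.node (.node (.node (.node (.leaf 244) (.leaf 1910)) (.leaf 382)) (.node (.node (.leaf 1594) (.leaf 2629)) (.leaf 2573))) (.node (.node (.node (.leaf 319) (.leaf 779)) (.leaf 2527)) (.node (.leaf 1842) (.leaf 2205)))) (.node (.node (.node (.node (.leaf 1217) (.leaf 277)) (.leaf 1099)) (.node (.leaf 680) (.leaf 769))) (.node (.node (.node (.leaf 139) (.leaf 2485)) (.leaf 2070)) (.node (.leaf 1328) (.leaf 2543))))) (.node (.node (.node (.node (.node (.leaf 392) (.leaf 2153)) (.leaf 1128)) (.node (.node (.leaf 754) (.leaf 2283)) (.leaf 1021))) (.node (.node (.node (.leaf 381) (.leaf 2406)) (.leaf 881)) (.node (.leaf 1779) (.leaf 1072)))) (.node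 (.node (.node (.node (.leaf 475) (.leaf 1340)) (.leaf 417)) (.node (.leaf 642) (.leaf 1241))) (.node (.node (.node (.leaf 2057) (.leaf 2285)) (.leaf 1739)) (.node (.leaf 1000) (.leaf 1817))))))) (.node (.node (.node (.node (.node (.node (.node (.leaf 40) (.leaf 2072)) (.leaf 298)) (.node (.node (.leaf 536) (.leaf 2139)) (.leaf 508))) (.node (.node (.node (.leaf 913) (.leaf 2334)) (.leaf 615)) (.node (.leaf 495) (.leaf 2161)))) (.node (.node (.node (.node (.leaf 1169) (.leaf 2085)) (.leaf 1312)) (.node (.node (.leaf 943) (.leaf 2397)) (.leaf 603))) (.node (.node (.node (.leaf 2307) (.leaf 2154)) (.leaf 1486)) (.node (.leaf 620) (.leaf 2305))))) (.node (.node (.node (.node (.node (.leaf 1659) (.leaf 1983)) (.leaf 323)) (.node (.node (.leaf 1553) (.leaf 2532)) (.leaf 617))) (.node (.node (.node (.leaf 410) (.leaf 2667)) (.leaf 295)) (.node (.leaf 714) (.leaf 1535)))) (.node (.node (.node (.node (.leaf 1211) (.leaf 325)) (.leaf 2375)) (.node (.leaf 728) (.leaf 371))) (.node (.node (.node (.leaf 476) (.leaf 2457)) (.leaf 1411)) (.node (.leaf 994) (.leaf 141)))))) (.node (.node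 (.node (.node (.node (.node (.leaf 1219) (.leaf 2699)) (.leaf 1015)) (.node (.node (.leaf 719) (.leaf 1593)) (.leaf 2383))) (.node (.node (.node (.leaf 1609) (.leaf 1875)) (.leaf 2126)) (.node (.leaf 1965) (.leaf 927)))) (.node (.node (.node (.node (.leaf 459) (.leaf 1701)) (.leaf 855)) (.node (.leaf 345) (.leaf 1804))) (.node (.node (.node (.leaf 2455) (.leaf 2517)) (.leaf 1513)) (.node (.leaf 1748) (.leaf 814))))) (.node (.node (.node (.node (.node (.leaf 61) (.leaf 843)) (.leaf 2471)) (.node (.node (.leaf 1762) (.leaf 2525)) (.leaf 1170))) (.node (.node (.node (.leaf 1047) (.leaf 2428)) (.leaf 434)) (.node (.leaf 238) (.leaf 2187)))) (.node (.node (.node (.node (.leaf 1531) (.leaf 2677)) (.leaf 722)) (.node (.leaf 2259) (.leaf 1791))) (.node (.node (.node (.leaf 1383) (.leaf 935)) (.leaf 2298)) (.node (.leaf 1399) (.leaf 403))))))))) (.node (.node (.node (.node (.node (.node (.node (.node (.node (.leaf 68) (.leaf 497)) (.leaf 2039)) (.node (.node (.leaf 827) (.leaf 1595)) (.leaf 2462))) (.node (.node (.node (.leaf 1395) (.leaf 2077)) (.leaf 1067)) (.node (.leaf 411)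 (.leaf 1758)))) (.node (.node (.node (.node (.leaf 43) (.leaf 2549)) (.leaf 1719)) (.node (.node (.leaf 860) (.leaf 2651)) (.leaf 1749))) (.node (.node (.node (.leaf 1009) (.leaf 419)) (.leaf 1903)) (.node (.leaf 748) (.leaf 2046))))) (.node (.node (.node (.node (.node (.leaf 191) (.leaf 2513)) (.leaf 2240)) (.node (.node (.leaf 125) (.leaf 2389)) (.leaf 223))) (.node (.node (.node (.leaf 633) (.leaf 2104)) (.leaf 2340)) (.node (.leaf 1359) (.leaf 2036)))) (.node (.node (.node (.node (.leaf 670) (.leaf 2623)) (.leaf 209)) (.node (.leaf 207) (.leaf 1675))) (.node (.node (.node (.leaf 1931) (.leaf 2425)) (.leaf 1414)) (.node (.leaf 251) (.leaf 1996)))))) (.node (.node (.node (.node (.node (.node (.leaf 83) (.leaf 105)) (.leaf 1052)) (.node (.node (.leaf 1837) (.leaf 2392)) (.leaf 1726))) (.node (.node (.node (.leaf 115) (.leaf 1335)) (.leaf 1267)) (.node (.leaf 1447) (.leaf 1613)))) (.node (.node (.node (.node (.leaf 425) (.leaf 1048)) (.leaf 348)) (.node (.node (.leaf 1834) (.leaf 2728)) (.leaf 1155))) (.node (.node (.node (.leaf 243) (.leaf 2554)) (.leaf 2199)) (.node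 (.leaf 2291) (.leaf 1956))))) (.node (.node (.node (.node (.node (.leaf 721) (.leaf 2575)) (.leaf 1282)) (.node (.node (.leaf 755) (.leaf 2569)) (.leaf 387))) (.node (.node (.node (.leaf 709) (.leaf 1925)) (.leaf 2343)) (.node (.leaf 705) (.leaf 2234)))) (.node (.node (.node (.node (.leaf 664) (.leaf 1523)) (.leaf 1173)) (.node (.leaf 331) (.leaf 653))) (.node (.node (.node (.leaf 1339) (.leaf 1207)) (.leaf 2465)) (.node (.leaf 1911) (.leaf 2316))))))) (.node (.node (.node (.node (.node (.node (.node (.leaf 1229) (.leaf 2133)) (.leaf 1300)) (.node (.node (.leaf 1006) (.leaf 2652)) (.leaf 824))) (.node (.node (.node (.leaf 1631) (.leaf 645)) (.leaf 1886)) (.node (.leaf 200) (.leaf 2239)))) (.node (.node (.node (.node (.leaf 152) (.leaf 1107)) (.leaf 573)) (.node (.node (.leaf 311) (.leaf 2684)) (.leaf 541))) (.node (.node (.node (.leaf 959) (.leaf 2645)) (.leaf 781)) (.node (.leaf 1746) (.leaf 337))))) (.node (.node (.node (.node (.node (.leaf 354) (.leaf 2605)) (.leaf 1134)) (.node (.node (.leaf 602) (.leaf 2729)) (.leaf 1004))) (.node (.node (.node (.leaf 103) (.leaf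 1514)) (.leaf 1368)) (.node (.leaf 1688) (.leaf 1539)))) (.node (.node (.node (.node (.leaf 587) (.leaf 663)) (.leaf 1056)) (.node (.leaf 27) (.leaf 2176))) (.node (.node (.node (.leaf 464) (.leaf 2149)) (.leaf 1738)) (.node (.leaf 320) (.leaf 1887)))))) (.node (.node (.node (.node (.node (.node (.leaf 0) (.leaf 1525)) (.leaf 1023)) (.node (.node (.leaf 1086) (.leaf 2610)) (.leaf 1003))) (.node (.node (.node (.leaf 1805) (.leaf 1519)) (.leaf 637)) (.node (.leaf 1357) (.leaf 1708)))) (.node (.node (.node (.node (.leaf 1461) (.leaf 1707)) (.leaf 1433)) (.node (.leaf 700) (.leaf 595))) (.node (.node (.node (.leaf 1394) (.leaf 2019)) (.leaf 979)) (.node (.leaf 1087) (.leaf 289))))) (.node (.node (.node (.node (.node (.leaf 16) (.leaf 2045)) (.leaf 771)) (.node (.node (.leaf 383) (.leaf 2641)) (.leaf 1245))) (.node (.node (.node (.leaf 11) (.leaf 2401)) (.leaf 1826)) (.node (.leaf 1471) (.leaf 1977)))) (.node (.node (.node (.node (.leaf 1537) (.leaf 2408)) (.leaf 1278)) (.node (.leaf 1298) (.leaf 341))) (.node (.node (.node (.leaf 1961) (.leaf 2672)) (.leaf 1951)) (.node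 (.leaf 2092) (.leaf 950)))))))) (.node (.node (.node (.node (.node (.node (.node (.node (.leaf 126) (.leaf 2106)) (.leaf 49)) (.node (.node (.leaf 875) (.leaf 2697)) (.leaf 1552))) (.node (.node (.node (.leaf 1731) (.leaf 1841)) (.leaf 1019)) (.node (.leaf 780) (.leaf 1808)))) (.node (.node (.node (.node (.leaf 146) (.leaf 1356)) (.leaf 503)) (.node (.node (.leaf 582) (.leaf 2654)) (.leaf 2237))) (.node (.node (.node (.leaf 1801) (.leaf 2461)) (.leaf 1265)) (.node (.leaf 1089) (.leaf 1459))))) (.node (.node (.node (.node (.node (.leaf 165) (.leaf 2145)) (.leaf 1520)) (.node (.node (.leaf 1629) (.leaf 2067)) (.leaf 1467))) (.node (.node (.node (.leaf 300) (.leaf 2030)) (.leaf 41)) (.node (.leaf 842) (.leaf 1511)))) (.node (.node (.node (.node (.leaf 168) (.leaf 2238)) (.leaf 2171)) (.node (.leaf 643) (.leaf 99))) (.node (.node (.node (.leaf 98) (.leaf 2500)) (.leaf 961)) (.node (.leaf 449) (.leaf 1740)))))) (.node (.node (.node (.node (.node (.node (.leaf 2) (.leaf 1912)) (.leaf 1145)) (.node (.node (.leaf 2231) (.leaf 2099)) (.leaf 1071))) (.node (.node (.node (.leaf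 1297) (.leaf 1833)) (.leaf 2049)) (.node (.leaf 1183) (.leaf 818)))) (.node (.node (.node (.node (.leaf 3) (.leaf 2218)) (.leaf 1200)) (.node (.leaf 55) (.leaf 1275))) (.node (.node (.node (.leaf 1963) (.leaf 1970)) (.leaf 1077)) (.node (.leaf 851) (.leaf 1649))))) (.node (.node (.node (.node (.node (.leaf 2159) (.leaf 934)) (.leaf 949)) (.node (.node (.leaf 1165) (.leaf 2530)) (.leaf 1648))) (.node (.node (.node (.leaf 811) (.leaf 2412)) (.leaf 592)) (.node (.leaf 2040) (.leaf 753)))) (.node (.node (.node (.node (.leaf 1295) (.leaf 2117)) (.leaf 1266)) (.node (.leaf 89) (.leaf 1465))) (.node (.node (.node (.leaf 1879) (.leaf 2540)) (.leaf 2420)) (.node (.leaf 639) (.leaf 1967))))))) (.node (.node (.node (.node (.node (.node (.node (.leaf 202) (.leaf 713)) (.leaf 275)) (.node (.node (.leaf 1628) (.leaf 2509)) (.leaf 2381))) (.node (.node (.node (.leaf 276) (.leaf 2561)) (.leaf 2260)) (.node (.leaf 1966) (.leaf 1818)))) (.node (.node (.node (.node (.leaf 20) (.leaf 283)) (.leaf 1343)) (.node (.node (.leaf 47) (.leaf 2703)) (.leaf 1291))) (.node (.node (.node (.leaf 807)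 (.leaf 2653)) (.leaf 2661)) (.node (.leaf 1787) (.leaf 2499))))) (.node (.node (.node (.node (.node (.leaf 72) (.leaf 2333)) (.leaf 1645)) (.node (.node (.leaf 154) (.leaf 2571)) (.leaf 1080))) (.node (.node (.node (.leaf 70) (.leaf 1681)) (.leaf 1210)) (.node (.leaf 2559) (.leaf 1161)))) (.node (.node (.node (.node (.leaf 347) (.leaf 763)) (.leaf 1260)) (.node (.leaf 1575) (.leaf 1421))) (.node (.node (.node (.leaf 1078) (.leaf 2694)) (.leaf 2318)) (.node (.leaf 599) (.leaf 1993)))))) (.node (.node (.node (.node (.node (.node (.leaf 264) (.leaf 1591)) (.leaf 2001)) (.node (.node (.leaf 1567) (.leaf 1597)) (.leaf 101))) (.node (.node (.node (.leaf 1437) (.leaf 2402)) (.leaf 1373)) (.node (.leaf 915) (.leaf 2042)))) (.node (.node (.node (.node (.leaf 529) (.leaf 241)) (.leaf 626)) (.node (.leaf 704) (.leaf 1435))) (.node (.node (.node (.leaf 1393) (.leaf 2387)) (.leaf 1466)) (.node (.leaf 2186) (.leaf 1370))))) (.node (.node (.node (.node (.node (.leaf 1449) (.leaf 2376)) (.leaf 2269)) (.node (.node (.leaf 648) (.leaf 2655)) (.leaf 1682))) (.node (.node (.node (.leaf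 17) (.leaf 2432)) (.leaf 2101)) (.node (.leaf 988) (.leaf 2098)))) (.node (.node (.node (.node (.leaf 2255) (.leaf 179)) (.leaf 1057)) (.node (.leaf 196) (.leaf 1930))) (.node (.node (.node (.leaf 937) (.leaf 2626)) (.leaf 496)) (.node (.leaf 389) (.leaf 259))))))))))

/-- A table. -/
noncomputable def linePar : BTree := .node lineParL lineParR

/-- Part of a table. -/
noncomputable def lineRankL : BTree := (.node (.node (.node (.node (.node (.node (.node (.node (.node (.node (.leaf 0) (.leaf 10)) (.leaf 12)) (.node (.node (.leaf 15) (.leaf 16)) (.leaf 10))) (.node (.node (.node (.leaf 16) (.leaf 12)) (.leaf 11)) (.node (.leaf 12) (.leaf 8)))) (.node (.node (.node (.node (.leaf 17) (.leaf 12)) (.leaf 11)) (.node (.node (.leaf 9) (.leaf 14)) (.leaf 13))) (.node (.node (.node (.leaf 11) (.leaf 7)) (.leaf 7)) (.node (.leaf 13) (.leaf 16))))) (.node (.node (.node (.node (.node (.leaf 15) (.leaf 7)) (.leaf 7)) (.node (.node (.leaf 14) (.leaf 15)) (.leaf 9))) (.node (.node (.node (.leaf 10) (.leaf 17)) (.leaf 14)) (.node (.leaf 14) (.leaf 10)))) (.node (.node (.node (.node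 (.leaf 16) (.leaf 12)) (.leaf 12)) (.node (.leaf 13) (.leaf 11))) (.node (.node (.node (.leaf 9) (.leaf 16)) (.leaf 15)) (.node (.leaf 5) (.leaf 11)))))) (.node (.node (.node (.node (.node (.node (.leaf 16) (.leaf 16)) (.leaf 11)) (.node (.node (.leaf 12) (.leaf 15)) (.leaf 14))) (.node (.node (.node (.leaf 11) (.leaf 8)) (.leaf 5)) (.node (.leaf 8) (.leaf 11)))) (.node (.node (.node (.node (.leaf 11) (.leaf 16)) (.leaf 10)) (.node (.node (.leaf 14) (.leaf 12)) (.leaf 15))) (.node (.node (.node (.leaf 12) (.leaf 13)) (.leaf 15)) (.node (.leaf 3) (.leaf 12))))) (.node (.node (.node (.node (.node (.leaf 12) (.leaf 10)) (.leaf 13)) (.node (.node (.leaf 3) (.leaf 8)) (.leaf 10))) (.node (.node (.node (.leaf 15) (.leaf 3)) (.leaf 8)) (.node (.leaf 13) (.leaf 7)))) (.node (.node (.node (.node (.leaf 10) (.leaf 11)) (.leaf 12)) (.node (.leaf 11) (.leaf 10))) (.node (.node (.node (.leaf 14) (.leaf 13)) (.leaf 12)) (.node (.leaf 11) (.leaf 13))))))) (.node (.node (.node (.node (.node (.node (.node (.leaf 0) (.leaf 8)) (.leaf 12)) (.node (.node (.leaf 10) (.leaf 11)) (.leaf 8)))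 (.node (.node (.node (.leaf 13) (.leaf 5)) (.leaf 8)) (.node (.leaf 12) (.leaf 4)))) (.node (.node (.node (.node (.leaf 11) (.leaf 13)) (.leaf 8)) (.node (.node (.leaf 11) (.leaf 13)) (.leaf 12))) (.node (.node (.node (.leaf 11) (.leaf 14)) (.leaf 16)) (.node (.leaf 13) (.leaf 12))))) (.node (.node (.node (.node (.node (.leaf 11) (.leaf 9)) (.leaf 7)) (.node (.node (.leaf 11) (.leaf 9)) (.leaf 16))) (.node (.node (.node (.leaf 13) (.leaf 12)) (.leaf 15)) (.node (.leaf 8) (.leaf 6)))) (.node (.node (.node (.node (.leaf 11) (.leaf 10)) (.leaf 13)) (.node (.leaf 12) (.leaf 14))) (.node (.node (.node (.leaf 11) (.leaf 7)) (.leaf 11)) (.node (.leaf 11) (.leaf 11)))))) (.node (.node (.node (.node (.node (.node (.leaf 13) (.leaf 9)) (.leaf 2)) (.node (.node (.leaf 5) (.leaf 11)) (.leaf 13))) (.node (.node (.node (.leaf 9) (.leaf 10)) (.leaf 9)) (.node (.leaf 14) (.leaf 11)))) (.node (.node (.node (.node (.leaf 15) (.leaf 11)) (.leaf 7)) (.node (.leaf 11) (.leaf 14))) (.node (.node (.node (.leaf 14) (.leaf 13)) (.leaf 12)) (.node (.leaf 14) (.leaf 11))))) (.node (.node (.node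 (.node (.node (.leaf 10) (.leaf 12)) (.leaf 13)) (.node (.node (.leaf 5) (.leaf 13)) (.leaf 7))) (.node (.node (.node (.leaf 11) (.leaf 14)) (.leaf 12)) (.node (.leaf 11) (.leaf 9)))) (.node (.node (.node (.node (.leaf 12) (.leaf 7)) (.leaf 10)) (.node (.leaf 10) (.leaf 9))) (.node (.node (.node (.leaf 8) (.leaf 11)) (.leaf 10)) (.node (.leaf 11) (.leaf 15)))))))) (.node (.node (.node (.node (.node (.node (.node (.node (.leaf 15) (.leaf 13)) (.leaf 6)) (.node (.node (.leaf 13) (.leaf 9)) (.leaf 16))) (.node (.node (.node (.leaf 13) (.leaf 16)) (.leaf 3)) (.node (.leaf 16) (.leaf 14)))) (.node (.node (.node (.node (.leaf 15) (.leaf 10)) (.leaf 12)) (.node (.node (.leaf 8) (.leaf 7)) (.leaf 9))) (.node (.node (.node (.leaf 19) (.leaf 16)) (.leaf 15)) (.node (.leaf 11) (.leaf 12))))) (.node (.node (.node (.node (.node (.leaf 12) (.leaf 10)) (.leaf 14)) (.node (.node (.leaf 10) (.leaf 13)) (.leaf 11))) (.node (.node (.node (.leaf 9) (.leaf 8)) (.leaf 17)) (.node (.leaf 11) (.leaf 11)))) (.node (.node (.node (.node (.leaf 11) (.leaf 15)) (.leaf 14)) (.node (.leaf 14) (.leaf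 16))) (.node (.node (.node (.leaf 14) (.leaf 10)) (.leaf 13)) (.node (.leaf 10) (.leaf 10)))))) (.node (.node (.node (.node (.node (.node (.leaf 15) (.leaf 10)) (.leaf 10)) (.node (.node (.leaf 14) (.leaf 14)) (.leaf 15))) (.node (.node (.node (.leaf 1) (.leaf 15)) (.leaf 15)) (.node (.leaf 15) (.leaf 9)))) (.node (.node (.node (.node (.leaf 11) (.leaf 16)) (.leaf 13)) (.node (.node (.leaf 15) (.leaf 7)) (.leaf 11))) (.node (.node (.node (.leaf 5) (.leaf 14)) (.leaf 12)) (.node (.leaf 13) (.leaf 9))))) (.node (.node (.node (.node (.node (.leaf 12) (.leaf 10)) (.leaf 10)) (.node (.node (.leaf 11) (.leaf 13)) (.leaf 16))) (.node (.node (.node (.leaf 9) (.leaf 13)) (.leaf 10)) (.node (.leaf 12) (.leaf 12)))) (.node (.node (.node (.node (.leaf 18) (.leaf 15)) (.leaf 9)) (.node (.leaf 12) (.leaf 5))) (.node (.node (.node (.leaf 16) (.leaf 12)) (.leaf 11)) (.node (.leaf 7) (.leaf 11))))))) (.node (.node (.node (.node (.node (.node (.node (.leaf 6) (.leaf 12)) (.leaf 10)) (.node (.node (.leaf 9) (.leaf 12)) (.leaf 15))) (.node (.node (.node (.leaf 15) (.leaf 12)) (.leaf 13))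 (.node (.leaf 8) (.leaf 11)))) (.node (.node (.node (.node (.leaf 10) (.leaf 14)) (.leaf 10)) (.node (.node (.leaf 12) (.leaf 5)) (.leaf 10))) (.node (.node (.node (.leaf 12) (.leaf 5)) (.leaf 11)) (.node (.leaf 9) (.leaf 15))))) (.node (.node (.node (.node (.node (.leaf 15) (.leaf 13)) (.leaf 10)) (.node (.node (.leaf 14) (.leaf 9)) (.leaf 15))) (.node (.node (.node (.leaf 10) (.leaf 9)) (.leaf 14)) (.node (.leaf 15) (.leaf 15)))) (.node (.node (.node (.node (.leaf 14) (.leaf 13)) (.leaf 5)) (.node (.leaf 13) (.leaf 16))) (.node (.node (.node (.leaf 8) (.leaf 13)) (.leaf 4)) (.node (.leaf 13) (.leaf 13)))))) (.node (.node (.node (.node (.node (.node (.leaf 11) (.leaf 11)) (.leaf 13)) (.node (.node (.leaf 15) (.leaf 14)) (.leaf 14))) (.node (.node (.node (.leaf 13) (.leaf 14)) (.leaf 14)) (.node (.leaf 13) (.leaf 10)))) (.node (.node (.node (.node (.leaf 13) (.leaf 15)) (.leaf 6)) (.node (.leaf 14) (.leaf 16))) (.node (.node (.node (.leaf 12) (.leaf 9)) (.leaf 11)) (.node (.leaf 12) (.leaf 8))))) (.node (.node (.node (.node (.node (.leaf 8) (.leaf 16)) (.leaf 16)) (.node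 (.node (.leaf 7) (.leaf 8)) (.leaf 15))) (.node (.node (.node (.leaf 7) (.leaf 13)) (.leaf 12)) (.node (.leaf 7) (.leaf 16)))) (.node (.node (.node (.node (.leaf 16) (.leaf 10)) (.leaf 13)) (.node (.leaf 14) (.leaf 11))) (.node (.node (.node (.leaf 11) (.leaf 16)) (.leaf 13)) (.node (.leaf 7) (.leaf 4))))))))) (.node (.node (.node (.node (.node (.node (.node (.node (.node (.leaf 13) (.leaf 13)) (.leaf 9)) (.node (.node (.leaf 11) (.leaf 13)) (.leaf 12))) (.node (.node (.node (.leaf 15) (.leaf 13)) (.leaf 4)) (.node (.leaf 17) (.leaf 16)))) (.node (.node (.node (.node (.leaf 10) (.leaf 17)) (.leaf 6)) (.node (.node (.leaf 10) (.leaf 14)) (.leaf 11))) (.node (.node (.node (.leaf 5) (.leaf 11)) (.leaf 6)) (.node (.leaf 11) (.leaf 11))))) (.node (.node (.node (.node (.node (.leaf 9) (.leaf 11)) (.leaf 16)) (.node (.node (.leaf 17) (.leaf 11)) (.leaf 11))) (.node (.node (.node (.leaf 13) (.leaf 11)) (.leaf 11)) (.node (.leaf 12) (.leaf 11)))) (.node (.node (.node (.node (.leaf 14) (.leaf 14)) (.leaf 14)) (.node (.leaf 10) (.leaf 11))) (.node (.node (.node (.leaf 13) (.leaf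 9)) (.leaf 3)) (.node (.leaf 11) (.leaf 8)))))) (.node (.node (.node (.node (.node (.node (.leaf 5) (.leaf 14)) (.leaf 14)) (.node (.node (.leaf 14) (.leaf 11)) (.leaf 17))) (.node (.node (.node (.leaf 7) (.leaf 15)) (.leaf 11)) (.node (.leaf 14) (.leaf 15)))) (.node (.node (.node (.node (.leaf 12) (.leaf 10)) (.leaf 15)) (.node (.node (.leaf 13) (.leaf 14)) (.leaf 15))) (.node (.node (.node (.leaf 11) (.leaf 10)) (.leaf 14)) (.node (.leaf 4) (.leaf 6))))) (.node (.node (.node (.node (.node (.leaf 11) (.leaf 12)) (.leaf 12)) (.node (.node (.leaf 12) (.leaf 7)) (.leaf 16))) (.node (.node (.node (.leaf 10) (.leaf 12)) (.leaf 15)) (.node (.leaf 17) (.leaf 14)))) (.node (.node (.node (.node (.leaf 14) (.leaf 11)) (.leaf 17)) (.node (.leaf 15) (.leaf 7))) (.node (.node (.node (.leaf 17) (.leaf 13)) (.leaf 14)) (.node (.leaf 12) (.leaf 17))))))) (.node (.node (.node (.node (.node (.node (.node (.leaf 10) (.leaf 11)) (.leaf 6)) (.node (.node (.leaf 7) (.leaf 10)) (.leaf 11))) (.node (.node (.node (.leaf 11) (.leaf 4)) (.leaf 11)) (.node (.leaf 8) (.leaf 17)))) (.node (.node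 (.node (.node (.leaf 7) (.leaf 11)) (.leaf 7)) (.node (.node (.leaf 13) (.leaf 7)) (.leaf 13))) (.node (.node (.node (.leaf 12) (.leaf 11)) (.leaf 4)) (.node (.leaf 17) (.leaf 12))))) (.node (.node (.node (.node (.node (.leaf 11) (.leaf 12)) (.leaf 8)) (.node (.node (.leaf 12) (.leaf 9)) (.leaf 8))) (.node (.node (.node (.leaf 12) (.leaf 13)) (.leaf 16)) (.node (.leaf 13) (.leaf 14)))) (.node (.node (.node (.node (.leaf 10) (.leaf 12)) (.leaf 14)) (.node (.leaf 11) (.leaf 14))) (.node (.node (.node (.leaf 11) (.leaf 14)) (.leaf 16)) (.node (.leaf 12) (.leaf 8)))))) (.node (.node (.node (.node (.node (.node (.leaf 12) (.leaf 17)) (.leaf 10)) (.node (.node (.leaf 13) (.leaf 3)) (.leaf 14))) (.node (.node (.node (.leaf 15) (.leaf 12)) (.leaf 11)) (.node (.leaf 15) (.leaf 14)))) (.node (.node (.node (.node (.leaf 12) (.leaf 12)) (.leaf 12)) (.node (.leaf 12) (.leaf 13))) (.node (.node (.node (.leaf 18) (.leaf 15)) (.leaf 8)) (.node (.leaf 9) (.leaf 8))))) (.node (.node (.node (.node (.node (.leaf 12) (.leaf 17)) (.leaf 10)) (.node (.node (.leaf 15) (.leaf 10)) (.leaf 15)))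 (.node (.node (.node (.leaf 16) (.leaf 10)) (.leaf 12)) (.node (.leaf 15) (.leaf 8)))) (.node (.node (.node (.node (.leaf 5) (.leaf 9)) (.leaf 17)) (.node (.leaf 10) (.leaf 9))) (.node (.node (.node (.leaf 12) (.leaf 15)) (.leaf 12)) (.node (.leaf 6) (.leaf 6)))))))) (.node (.node (.node (.node (.node (.node (.node (.node (.leaf 14) (.leaf 9)) (.leaf 12)) (.node (.node (.leaf 16) (.leaf 12)) (.leaf 16))) (.node (.node (.node (.leaf 13) (.leaf 12)) (.leaf 11)) (.node (.leaf 9) (.leaf 7)))) (.node (.node (.node (.node (.leaf 14) (.leaf 13)) (.leaf 16)) (.node (.node (.leaf 13) (.leaf 7)) (.leaf 14))) (.node (.node (.node (.leaf 14) (.leaf 12)) (.leaf 8)) (.node (.leaf 4) (.leaf 14))))) (.node (.node (.node (.node (.node (.leaf 14) (.leaf 13)) (.leaf 14)) (.node (.node (.leaf 9) (.leaf 4)) (.leaf 8))) (.node (.node (.node (.leaf 14) (.leaf 12)) (.leaf 6)) (.node (.leaf 9) (.leaf 10)))) (.node (.node (.node (.node (.leaf 13) (.leaf 17)) (.leaf 14)) (.node (.leaf 13) (.leaf 14))) (.node (.node (.node (.leaf 9) (.leaf 12)) (.leaf 14)) (.node (.leaf 16) (.leaf 5)))))) (.node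 (.node (.node (.node (.node (.node (.leaf 15) (.leaf 11)) (.leaf 13)) (.node (.node (.leaf 10) (.leaf 14)) (.leaf 14))) (.node (.node (.node (.leaf 12) (.leaf 13)) (.leaf 16)) (.node (.leaf 15) (.leaf 4)))) (.node (.node (.node (.node (.leaf 7) (.leaf 14)) (.leaf 12)) (.node (.leaf 10) (.leaf 8))) (.node (.node (.node (.leaf 15) (.leaf 14)) (.leaf 12)) (.node (.leaf 10) (.leaf 12))))) (.node (.node (.node (.node (.node (.leaf 5) (.leaf 2)) (.leaf 9)) (.node (.node (.leaf 12) (.leaf 10)) (.leaf 14))) (.node (.node (.node (.leaf 15) (.leaf 15)) (.leaf 13)) (.node (.leaf 12) (.leaf 15)))) (.node (.node (.node (.node (.leaf 16) (.leaf 6)) (.leaf 8)) (.node (.leaf 7) (.leaf 14))) (.node (.node (.node (.leaf 11) (.leaf 15)) (.leaf 10)) (.node (.leaf 8) (.leaf 14))))))) (.node (.node (.node (.node (.node (.node (.node (.leaf 16) (.leaf 15)) (.leaf 10)) (.node (.node (.leaf 14) (.leaf 14)) (.leaf 7))) (.node (.node (.node (.leaf 15) (.leaf 9)) (.leaf 11)) (.node (.leaf 7) (.leaf 14)))) (.node (.node (.node (.node (.leaf 8) (.leaf 9)) (.leaf 10)) (.node (.node (.leaf 9) (.leaf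 8)) (.leaf 13))) (.node (.node (.node (.leaf 13) (.leaf 14)) (.leaf 3)) (.node (.leaf 13) (.leaf 7))))) (.node (.node (.node (.node (.node (.leaf 16) (.leaf 11)) (.leaf 9)) (.node (.node (.leaf 6) (.leaf 9)) (.leaf 9))) (.node (.node (.node (.leaf 12) (.leaf 13)) (.leaf 8)) (.node (.leaf 13) (.leaf 15)))) (.node (.node (.node (.node (.leaf 14) (.leaf 9)) (.leaf 12)) (.node (.leaf 12) (.leaf 4))) (.node (.node (.node (.leaf 10) (.leaf 10)) (.leaf 13)) (.node (.leaf 12) (.leaf 11)))))) (.node (.node (.node (.node (.node (.node (.leaf 5) (.leaf 9)) (.leaf 14)) (.node (.node (.leaf 4) (.leaf 13)) (.leaf 8))) (.node (.node (.node (.leaf 10) (.leaf 16)) (.leaf 8)) (.node (.leaf 15) (.leaf 12)))) (.node (.node (.node (.node (.leaf 14) (.leaf 9)) (.leaf 14)) (.node (.leaf 14) (.leaf 10))) (.node (.node (.node (.leaf 16) (.leaf 17)) (.leaf 6)) (.node (.leaf 12) (.leaf 13))))) (.node (.node (.node (.node (.node (.leaf 9) (.leaf 8)) (.leaf 15)) (.node (.node (.leaf 12) (.leaf 12)) (.leaf 16))) (.node (.node (.node (.leaf 13) (.leaf 14)) (.leaf 10)) (.node (.leaf 16) (.leaf 14))))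 (.node (.node (.node (.node (.leaf 11) (.leaf 12)) (.leaf 14)) (.node (.leaf 14) (.leaf 15))) (.node (.node (.node (.leaf 9) (.leaf 4)) (.leaf 11)) (.node (.leaf 3) (.leaf 15))))))))))

/-- Part of a table. -/
noncomputable def lineRankR : BTree := (.node (.node (.node (.node (.node (.node (.node (.node (.node (.node (.leaf 0) (.leaf 3)) (.leaf 5)) (.node (.node (.leaf 11) (.leaf 11)) (.leaf 6))) (.node (.node (.node (.leaf 11) (.leaf 13)) (.leaf 13)) (.node (.leaf 10) (.leaf 15)))) (.node (.node (.node (.node (.leaf 15) (.leaf 15)) (.leaf 12)) (.node (.node (.leaf 15) (.leaf 6)) (.leaf 14))) (.node (.node (.node (.leaf 4) (.leaf 11)) (.leaf 8)) (.node (.leaf 7) (.leaf 14))))) (.node (.node (.node (.node (.node (.leaf 14) (.leaf 6)) (.leaf 6)) (.node (.node (.leaf 14) (.leaf 12)) (.leaf 10))) (.node (.node (.node (.leaf 14) (.leaf 10)) (.leaf 2)) (.node (.leaf 15) (.leaf 16)))) (.node (.node (.node (.node (.leaf 11) (.leaf 16)) (.leaf 13)) (.node (.leaf 2) (.leaf 12))) (.node (.node (.node (.leaf 12) (.leaf 11)) (.leaf 2)) (.node (.leaf 16) (.leaf 9)))))) (.node (.node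 (.node (.node (.node (.node (.leaf 15) (.leaf 17)) (.leaf 16)) (.node (.node (.leaf 17) (.leaf 11)) (.leaf 14))) (.node (.node (.node (.leaf 10) (.leaf 9)) (.leaf 12)) (.node (.leaf 7) (.leaf 8)))) (.node (.node (.node (.node (.leaf 15) (.leaf 11)) (.leaf 10)) (.node (.node (.leaf 12) (.leaf 6)) (.leaf 10))) (.node (.node (.node (.leaf 13) (.leaf 15)) (.leaf 6)) (.node (.leaf 15) (.leaf 7))))) (.node (.node (.node (.node (.node (.leaf 13) (.leaf 9)) (.leaf 16)) (.node (.node (.leaf 7) (.leaf 11)) (.leaf 10))) (.node (.node (.node (.leaf 10) (.leaf 8)) (.leaf 16)) (.node (.leaf 11) (.leaf 16)))) (.node (.node (.node (.node (.leaf 18) (.leaf 16)) (.leaf 14)) (.node (.leaf 17) (.leaf 10))) (.node (.node (.node (.leaf 12) (.leaf 10)) (.leaf 12)) (.node (.leaf 16) (.leaf 14))))))) (.node (.node (.node (.node (.node (.node (.node (.leaf 15) (.leaf 13)) (.leaf 10)) (.node (.node (.leaf 16) (.leaf 10)) (.leaf 16))) (.node (.node (.node (.leaf 13) (.leaf 9)) (.leaf 6)) (.node (.leaf 16) (.leaf 15)))) (.node (.node (.node (.node (.leaf 8) (.leaf 11)) (.leaf 9)) (.node (.node (.leaf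 9) (.leaf 15)) (.leaf 10))) (.node (.node (.node (.leaf 9) (.leaf 14)) (.leaf 9)) (.node (.leaf 14) (.leaf 16))))) (.node (.node (.node (.node (.node (.leaf 15) (.leaf 9)) (.leaf 6)) (.node (.node (.leaf 12) (.leaf 5)) (.leaf 17))) (.node (.node (.node (.leaf 12) (.leaf 8)) (.leaf 12)) (.node (.leaf 10) (.leaf 7)))) (.node (.node (.node (.node (.leaf 8) (.leaf 13)) (.leaf 9)) (.node (.leaf 7) (.leaf 14))) (.node (.node (.node (.leaf 11) (.leaf 8)) (.leaf 10)) (.node (.leaf 12) (.leaf 13)))))) (.node (.node (.node (.node (.node (.node (.leaf 12) (.leaf 11)) (.leaf 14)) (.node (.node (.leaf 8) (.leaf 8)) (.leaf 15))) (.node (.node (.node (.leaf 12) (.leaf 6)) (.leaf 15)) (.node (.leaf 11) (.leaf 12)))) (.node (.node (.node (.node (.leaf 10) (.leaf 10)) (.leaf 14)) (.node (.leaf 14) (.leaf 13))) (.node (.node (.node (.leaf 14) (.leaf 16)) (.leaf 14)) (.node (.leaf 8) (.leaf 12))))) (.node (.node (.node (.node (.node (.leaf 7) (.leaf 11)) (.leaf 14)) (.node (.node (.leaf 12) (.leaf 11)) (.leaf 13))) (.node (.node (.node (.leaf 4) (.leaf 14)) (.leaf 9)) (.node (.leaf 6) (.leaf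 15)))) (.node (.node (.node (.node (.leaf 9) (.leaf 3)) (.leaf 14)) (.node (.leaf 10) (.leaf 11))) (.node (.node (.node (.leaf 9) (.leaf 11)) (.leaf 14)) (.node (.leaf 7) (.leaf 14)))))))) (.node (.node (.node (.node (.node (.node (.node (.node (.leaf 11) (.leaf 15)) (.leaf 15)) (.node (.node (.leaf 15) (.leaf 14)) (.leaf 15))) (.node (.node (.node (.leaf 8) (.leaf 12)) (.leaf 15)) (.node (.leaf 15) (.leaf 15)))) (.node (.node (.node (.node (.leaf 13) (.leaf 9)) (.leaf 11)) (.node (.node (.leaf 10) (.leaf 8)) (.leaf 12))) (.node (.node (.node (.leaf 17) (.leaf 15)) (.leaf 12)) (.node (.leaf 13) (.leaf 11))))) (.node (.node (.node (.node (.node (.leaf 6) (.leaf 14)) (.leaf 13)) (.node (.node (.leaf 15) (.leaf 15)) (.leaf 11))) (.node (.node (.node (.leaf 11) (.leaf 13)) (.leaf 17)) (.node (.leaf 7) (.leaf 16)))) (.node (.node (.node (.node (.leaf 18) (.leaf 13)) (.leaf 13)) (.node (.leaf 11) (.leaf 8))) (.node (.node (.node (.leaf 13) (.leaf 12)) (.leaf 7)) (.node (.leaf 15) (.leaf 11)))))) (.node (.node (.node (.node (.node (.node (.leaf 6) (.leaf 10)) (.leaf 2)) (.node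 (.node (.leaf 12) (.leaf 12)) (.leaf 13))) (.node (.node (.node (.leaf 5) (.leaf 16)) (.leaf 17)) (.node (.leaf 13) (.leaf 10)))) (.node (.node (.node (.node (.leaf 13) (.leaf 12)) (.leaf 14)) (.node (.leaf 16) (.leaf 13))) (.node (.node (.node (.leaf 14) (.leaf 16)) (.leaf 14)) (.node (.leaf 10) (.leaf 17))))) (.node (.node (.node (.node (.node (.leaf 20) (.leaf 11)) (.leaf 11)) (.node (.node (.leaf 11) (.leaf 10)) (.leaf 4))) (.node (.node (.node (.leaf 14) (.leaf 13)) (.leaf 12)) (.node (.leaf 12) (.leaf 3)))) (.node (.node (.node (.node (.leaf 12) (.leaf 9)) (.leaf 13)) (.node (.leaf 16) (.leaf 6))) (.node (.node (.node (.leaf 14) (.leaf 7)) (.leaf 9)) (.node (.leaf 8) (.leaf 12))))))) (.node (.node (.node (.node (.node (.node (.node (.leaf 16) (.leaf 13)) (.leaf 6)) (.node (.node (.leaf 10) (.leaf 12)) (.leaf 10))) (.node (.node (.node (.leaf 14) (.leaf 18)) (.leaf 12)) (.node (.leaf 9) (.leaf 13)))) (.node (.node (.node (.node (.leaf 9) (.leaf 15)) (.leaf 6)) (.node (.node (.leaf 12) (.leaf 14)) (.leaf 10))) (.node (.node (.node (.leaf 14) (.leaf 12)) (.leaf 7))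 (.node (.leaf 13) (.leaf 13))))) (.node (.node (.node (.node (.node (.leaf 11) (.leaf 11)) (.leaf 15)) (.node (.node (.leaf 9) (.leaf 14)) (.leaf 12))) (.node (.node (.node (.leaf 15) (.leaf 11)) (.leaf 9)) (.node (.leaf 12) (.leaf 10)))) (.node (.node (.node (.node (.leaf 13) (.leaf 14)) (.leaf 13)) (.node (.leaf 14) (.leaf 5))) (.node (.node (.node (.leaf 11) (.leaf 6)) (.leaf 9)) (.node (.leaf 17) (.leaf 15)))))) (.node (.node (.node (.node (.node (.node (.leaf 14) (.leaf 9)) (.leaf 13)) (.node (.node (.leaf 17) (.leaf 15)) (.leaf 11))) (.node (.node (.node (.leaf 12) (.leaf 8)) (.leaf 12)) (.node (.leaf 13) (.leaf 15)))) (.node (.node (.node (.node (.leaf 14) (.leaf 16)) (.leaf 12)) (.node (.leaf 11) (.leaf 8))) (.node (.node (.node (.leaf 11) (.leaf 15)) (.leaf 12)) (.node (.leaf 15) (.leaf 12))))) (.node (.node (.node (.node (.node (.leaf 6) (.leaf 8)) (.leaf 7)) (.node (.node (.leaf 11) (.leaf 11)) (.leaf 10))) (.node (.node (.node (.leaf 13) (.leaf 15)) (.leaf 15)) (.node (.leaf 13) (.leaf 10)))) (.node (.node (.node (.node (.leaf 13) (.leaf 11)) (.leaf 8)) (.node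 (.leaf 14) (.leaf 13))) (.node (.node (.node (.leaf 16) (.leaf 5)) (.leaf 12)) (.node (.leaf 10) (.leaf 10))))))))) (.node (.node (.node (.node (.node (.node (.node (.node (.node (.leaf 10) (.leaf 9)) (.leaf 15)) (.node (.node (.leaf 14) (.leaf 12)) (.leaf 11))) (.node (.node (.node (.leaf 10) (.leaf 16)) (.leaf 3)) (.node (.leaf 15) (.leaf 10)))) (.node (.node (.node (.node (.leaf 7) (.leaf 16)) (.leaf 14)) (.node (.node (.leaf 14) (.leaf 15)) (.leaf 15))) (.node (.node (.node (.leaf 12) (.leaf 14)) (.leaf 12)) (.node (.leaf 8) (.leaf 13))))) (.node (.node (.node (.node (.node (.leaf 12) (.leaf 8)) (.leaf 13)) (.node (.node (.leaf 10) (.leaf 14)) (.leaf 17))) (.node (.node (.node (.leaf 8) (.leaf 12)) (.leaf 16)) (.node (.leaf 17) (.leaf 7)))) (.node (.node (.node (.node (.leaf 3) (.leaf 10)) (.leaf 12)) (.node (.leaf 13) (.leaf 13))) (.node (.node (.node (.leaf 12) (.leaf 14)) (.leaf 13)) (.node (.leaf 14) (.leaf 6)))))) (.node (.node (.node (.node (.node (.node (.leaf 16) (.leaf 13)) (.leaf 11)) (.node (.node (.leaf 5) (.leaf 10)) (.leaf 9))) (.node (.node (.node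 (.leaf 8) (.leaf 14)) (.leaf 15)) (.node (.leaf 9) (.leaf 9)))) (.node (.node (.node (.node (.leaf 6) (.leaf 11)) (.leaf 13)) (.node (.node (.leaf 11) (.leaf 8)) (.leaf 13))) (.node (.node (.node (.leaf 10) (.leaf 6)) (.leaf 8)) (.node (.leaf 4) (.leaf 7))))) (.node (.node (.node (.node (.node (.leaf 13) (.leaf 9)) (.leaf 14)) (.node (.node (.leaf 11) (.leaf 10)) (.leaf 5))) (.node (.node (.node (.leaf 11) (.leaf 12)) (.leaf 15)) (.node (.leaf 14) (.leaf 17)))) (.node (.node (.node (.node (.leaf 13) (.leaf 15)) (.leaf 8)) (.node (.leaf 12) (.leaf 14))) (.node (.node (.node (.leaf 13) (.leaf 13)) (.leaf 14)) (.node (.leaf 10) (.leaf 13))))))) (.node (.node (.node (.node (.node (.node (.node (.leaf 15) (.leaf 13)) (.leaf 12)) (.node (.node (.leaf 11) (.leaf 10)) (.leaf 14))) (.node (.node (.node (.leaf 15) (.leaf 11)) (.leaf 14)) (.node (.leaf 12) (.leaf 14)))) (.node (.node (.node (.node (.leaf 11) (.leaf 7)) (.leaf 5)) (.node (.node (.leaf 9) (.leaf 13)) (.leaf 15))) (.node (.node (.node (.leaf 11) (.leaf 10)) (.leaf 10)) (.node (.leaf 15) (.leaf 14))))) (.node (.node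 (.node (.node (.node (.leaf 11) (.leaf 15)) (.leaf 11)) (.node (.node (.leaf 10) (.leaf 8)) (.leaf 9))) (.node (.node (.node (.leaf 14) (.leaf 10)) (.leaf 15)) (.node (.leaf 11) (.leaf 7)))) (.node (.node (.node (.node (.leaf 16) (.leaf 10)) (.leaf 12)) (.node (.leaf 17) (.leaf 13))) (.node (.node (.node (.leaf 12) (.leaf 13)) (.leaf 9)) (.node (.leaf 11) (.leaf 14)))))) (.node (.node (.node (.node (.node (.node (.leaf 0) (.leaf 13)) (.leaf 7)) (.node (.node (.leaf 13) (.leaf 9)) (.leaf 9))) (.node (.node (.node (.leaf 8) (.leaf 12)) (.leaf 13)) (.node (.leaf 7) (.leaf 9)))) (.node (.node (.node (.node (.leaf 9) (.leaf 14)) (.leaf 12)) (.node (.leaf 15) (.leaf 13))) (.node (.node (.node (.leaf 10) (.leaf 15)) (.leaf 13)) (.node (.leaf 13) (.leaf 12))))) (.node (.node (.node (.node (.node (.leaf 1) (.leaf 16)) (.leaf 11)) (.node (.node (.leaf 2) (.leaf 10)) (.leaf 13))) (.node (.node (.node (.leaf 12) (.leaf 4)) (.leaf 9)) (.node (.leaf 14) (.leaf 9)))) (.node (.node (.node (.node (.leaf 11) (.leaf 14)) (.leaf 13)) (.node (.leaf 7) (.leaf 13))) (.node (.node (.node (.leaf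 10) (.leaf 14)) (.leaf 13)) (.node (.leaf 12) (.leaf 14)))))))) (.node (.node (.node (.node (.node (.node (.node (.node (.leaf 14) (.leaf 10)) (.leaf 14)) (.node (.node (.leaf 13) (.leaf 8)) (.leaf 9))) (.node (.node (.node (.leaf 13) (.leaf 12)) (.leaf 11)) (.node (.leaf 10) (.leaf 5)))) (.node (.node (.node (.node (.leaf 9) (.leaf 7)) (.leaf 11)) (.node (.node (.leaf 11) (.leaf 16)) (.leaf 10))) (.node (.node (.node (.leaf 15) (.leaf 15)) (.leaf 11)) (.node (.leaf 8) (.leaf 15))))) (.node (.node (.node (.node (.node (.leaf 13) (.leaf 11)) (.leaf 11)) (.node (.node (.leaf 10) (.leaf 14)) (.leaf 13))) (.node (.node (.node (.leaf 13) (.leaf 10)) (.leaf 16)) (.node (.leaf 8) (.leaf 15)))) (.node (.node (.node (.node (.leaf 12) (.leaf 14)) (.leaf 9)) (.node (.leaf 16) (.leaf 14))) (.node (.node (.node (.leaf 14) (.leaf 10)) (.leaf 6)) (.node (.leaf 10) (.leaf 15)))))) (.node (.node (.node (.node (.node (.node (.leaf 1) (.leaf 17)) (.leaf 17)) (.node (.node (.leaf 15) (.leaf 12)) (.leaf 18))) (.node (.node (.node (.leaf 9) (.leaf 10)) (.leaf 11)) (.node (.leaf 11) (.leaf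 12)))) (.node (.node (.node (.node (.leaf 1) (.leaf 13)) (.leaf 8)) (.node (.leaf 1) (.leaf 9))) (.node (.node (.node (.leaf 18) (.leaf 13)) (.leaf 11)) (.node (.leaf 11) (.leaf 8))))) (.node (.node (.node (.node (.node (.leaf 6) (.leaf 5)) (.leaf 10)) (.node (.node (.leaf 17) (.leaf 11)) (.leaf 8))) (.node (.node (.node (.leaf 14) (.leaf 16)) (.leaf 12)) (.node (.leaf 5) (.leaf 11)))) (.node (.node (.node (.node (.leaf 12) (.leaf 12)) (.leaf 15)) (.node (.leaf 16) (.leaf 12))) (.node (.node (.node (.leaf 8) (.leaf 16)) (.leaf 11)) (.node (.leaf 10) (.leaf 9))))))) (.node (.node (.node (.node (.node (.node (.node (.leaf 19) (.leaf 15)) (.leaf 14)) (.node (.node (.leaf 10) (.leaf 13)) (.leaf 13))) (.node (.node (.node (.leaf 12) (.leaf 17)) (.leaf 13)) (.node (.leaf 9) (.leaf 14)))) (.node (.node (.node (.node (.leaf 11) (.leaf 15)) (.leaf 10)) (.node (.node (.leaf 2) (.leaf 17)) (.leaf 16))) (.node (.node (.node (.leaf 10) (.leaf 10)) (.leaf 8)) (.node (.leaf 14) (.leaf 12))))) (.node (.node (.node (.node (.node (.leaf 13) (.leaf 10)) (.leaf 15)) (.node (.node (.leaf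 10) (.leaf 15)) (.leaf 14))) (.node (.node (.node (.leaf 13) (.leaf 13)) (.leaf 13)) (.node (.leaf 14) (.leaf 13)))) (.node (.node (.node (.node (.leaf 16) (.leaf 15)) (.leaf 9)) (.node (.leaf 10) (.leaf 9))) (.node (.node (.node (.leaf 8) (.leaf 16)) (.leaf 13)) (.node (.leaf 11) (.leaf 11)))))) (.node (.node (.node (.node (.node (.node (.leaf 14) (.leaf 10)) (.leaf 12)) (.node (.node (.leaf 14) (.leaf 9)) (.leaf 12))) (.node (.node (.node (.leaf 4) (.leaf 9)) (.leaf 9)) (.node (.leaf 15) (.leaf 11)))) (.node (.node (.node (.node (.leaf 11) (.leaf 13)) (.leaf 13)) (.node (.leaf 14) (.leaf 8))) (.node (.node (.node (.leaf 13) (.leaf 9)) (.leaf 13)) (.node (.leaf 10) (.leaf 10))))) (.node (.node (.node (.node (.node (.leaf 13) (.leaf 9)) (.leaf 10)) (.node (.node (.leaf 9) (.leaf 16)) (.leaf 11))) (.node (.node (.node (.leaf 1) (.leaf 8)) (.leaf 18)) (.node (.leaf 13) (.leaf 12)))) (.node (.node (.node (.node (.leaf 15) (.leaf 11)) (.leaf 12)) (.node (.leaf 15) (.leaf 12))) (.node (.node (.node (.leaf 14) (.leaf 13)) (.leaf 9)) (.node (.leaf 6) (.leaf 12))))))))))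

/-- A table. -/
noncomputable def lineRank : BTree := .node lineRankL lineRankR

/-- Class representatives. -/
def lineReps : List ℕ := [1, 8, 27]

end Cfsg.Agent.SuzRankThree
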