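import Cfsg.Agent.Lib.SuzRankThree.Basic
import Cfsg.Agent.Lib.SuzRankThree.DataGraph

/-!
# The graph of valency 100 on 416 points

* `nset`, `smul_nset` : the neighbourhood of a point, equivariantly
* `autNb`, `rho_mem` : its automorphisms
* `rigid_bound` : order bounds for automorphism groups fixing points
* `card_autNb_le`, `eq_one_of_base7`
-/

set_option autoImplicit false
set_option maxRecDepth 100000

namespace Cfsg.Agent.SuzRankThree

open MulAction Cfsg.Agent.StabCert Cfsg.Agent.CosetEnum Cfsg.Agent.JTwoInGTwo Cfsg.Agent.SuzGTwo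
open scoped Pointwise

/-- The neighbour mask of a point. -/
noncomputable def nmask (x : ℕ) : ℕ := nbTree.get x

/-- The neighbourhood of a point. -/
noncomputable def nset (p : Pt) : Finset Pt := setOf (nmask p.val)

/-- The check at one point. -/
noncomputable def nmaskStep (x : ℕ) : Bool :=
  force (nmask x) fun m => valid m && (List.range 6).all fun a =>
    Nat.beq (img [a] m) (nmask (look 9 (letterTab.getD a 0) x))

theorem nmask_chunk0 : ((List.range' (0 * 32) 32).all fun x => Nat.ble 416 x || nmaskStep x) = true := by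
  decide +kernel

theorem nmask_chunk1 : ((List.range' (1 * 32) 32).all fun x => Nat.ble 416 x || nmaskStep x) = true := by
  decide +kernel

theorem nmask_chunk2 : ((List.range' (2 * 32) 32).all fun x => Nat.ble 416 x || nmaskStep x) = true := by
  decide +kernel

theorem nmask_chunk3 : ((List.range' (3 * 32) 32).all fun x => Nat.ble 416 x || nmaskStep x) = true := by
  decide +kernel

theorem nmask_chunk4 : ((List.range' (4 * 32) 32).all fun x => Nat.ble 416 x || nmaskStep x) = true := by
  decide +kernel

theorem nmask_chunk5 : ((List.range' (5 * 32) 32).all fun x => Nat.ble 416 x || nmaskStep x) = true := by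
  decide +kernel

theorem nmask_chunk6 : ((List.range' (6 * 32) 32).all fun x => Nat.ble 416 x || nmaskStep x) = true := by
  decide +kernel

theorem nmask_chunk7 : ((List.range' (7 * 32) 32).all fun x => Nat.ble 416 x || nmaskStep x) = true := by
  decide +kernel

theorem nmask_chunk8 : ((List.range' (8 * 32) 32).all fun x => Nat.ble 416 x || nmaskStep x) = true := by
  decide +kernel

theorem nmask_chunk9 : ((List.range' (9 * 32) 32).all fun x => Nat.ble 416 x || nmaskStep x) = true := by
  decide +kernel

theorem nmask_chunk10 : ((List.range' (10 * 32) 32).all fun x => Nat.ble 416 x || nmaskStep x) = true := by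
  decide +kernel

theorem nmask_chunk11 : ((List.range' (11 * 32) 32).all fun x => Nat.ble 416 x || nmaskStep x) = true := by
  decide +kernel

theorem nmask_chunk12 : ((List.range' (12 * 32) 32).all fun x => Nat.ble 416 x || nmaskStep x) = true := by
  decide +kernel

theorem nmask_ok : ∀ x < 416, nmaskStep x = true :=
  of_chunks (K := 13) (c := 32) (by norm_num) fun k hk => by
    interval_cases k
    · exact nmask_chunk0
    · exact nmask_chunk1
    · exact nmask_chunk2
    · exact nmask_chunk3
    · exact nmask_chunk4
    · exact nmask_chunk5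
    · exact nmask_chunk6
    · exact nmask_chunk7
    · exact nmask_chunk8
    · exact nmask_chunk9
    · exact nmask_chunk10
    · exact nmask_chunk11
    · exact nmask_chunk12

theorem nmask_valid {x : ℕ} (hx : x < 416) : valid (nmask x) = true := by
  have h := nmask_ok x hx
  rw [nmaskStep, force_eq, Bool.and_eq_true] at h
  exact h.1

theorem smul_nset (g : GSix) (p : Pt) : g • nset p = nset (g • p) := by
  have : Finite GSix := finite_six
  have hg : g ∈ Subgroup.closure (letterEl '' {a | a < 6}) := letters_gen ▸ Subgroup.mem_top g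
  rw [← Subgroup.mem_toSubmonoid, Subgroup.closure_toSubmonoid_of_finite] at hg
  induction hg using Submonoid.closure_induction_left generalizing p with
  | one => rw [one_smul, one_smul]
  | mul_left x hx y _ ih =>
    obtain ⟨a, ha, rfl⟩ := hx
    rw [mul_smul, ih, mul_smul]
    have h := nmask_ok (y • p).val (y • p).isLt
    rw [nmaskStep, force_eq, Bool.and_eq_true, List.all_eq_true] at h
    have h2 := h.2 a (List.mem_range.2 ha)
    rw [Nat.beq_eq] at h2
    have h3 := (img_spec (w := [a]) (fun b hb => by rw [List.mem_singleton.1 hb]; exact ha) h.1).2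
    rw [h2] at h3
    show letterEl a • setOf (nmask (y • p).val) = setOf (nmask (letterEl a • y • p).val)
    rw [letter_smul ha, h3]
    simp [wordEl]

theorem nmask_zero : ((List.range 416).all fun i => bitP (nmask 0) i == Nat.beq (orbitLab.getD i 0) 2) = true := by
  decide +kernel

/-- The neighbours of the first point form the suborbit with label two. -/
theorem mem_nset_zero (p : Pt) : p ∈ nset (mkPt 0) ↔ orbitLab.getD p.val 0 = 2 := by
  have h := List.all_eq_true.1 nmask_zero p.val (List.mem_range.2 p.isLt)
  rw [beq_iff_eq] at h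
  have e : (mkPt 0).val = 0 := rfl
  simp only [nset, setOf, Finset.mem_filter, Finset.mem_univ, true_and, e, h, Nat.beq_eq]

/-- The automorphisms of the graph. -/
noncomputable def autNb : Subgroup (Equiv.Perm Pt) where
  carrier := {π | ∀ p, (nset p).image π = nset (π p)}
  one_mem' p := by simp
  mul_mem' {a b} ha hb p := by
    have : (nset p).image (a * b) = ((nset p).image b).image a := by rw [Finset.image_image]; rfl
    rw [this, hb, ha]
    rfl
  inv_mem' {a} ha p := by
    have h := ha (a⁻¹ p)
    rw [show a (a⁻¹ p) = p from a.apply_symm_apply p] at h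
    rw [← h, Finset.image_image]
    have e : (⇑a⁻¹ ∘ ⇑a) = id := funext fun x => a.symm_apply_apply x
    rw [e, Finset.image_id]

theorem rho_mem (g : GSix) : rho g ∈ autNb := fun p => by
  show (nset p).image (fun x => g • x) = nset (g • p)
  rw [← smul_nset]
  rfl

/-! ### Rigidity -/

/-- A point added to a mask. -/
noncomputable def addP (F x : ℕ) : ℕ := Nat.lor F (Nat.shiftLeft 1 (Nat.mul x 10))

/-- Can `x` be the image of `b` under an automorphism fixing `F`? -/
noncomputable def candP (F b x : ℕ) : Bool :=
  !bitP F x && Nat.beq (Nat.land (nmask x) F) (Nat.land (nmask b) F)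

/-- Each point of a round is determined by `F`. -/
noncomputable def roundOK (F : ℕ) (r : List ℕ) : Bool :=
  r.all fun x => Nat.blt x 416 && !bitP F x && force (Nat.land (nmask x) F) fun s =>
    (List.range 416).all fun y => Nat.beq y x || bitP F y || !Nat.beq (Nat.land (nmask y) F) s

/-- Each round starts where the previous one ends; the last one ends at all points. -/
noncomputable def linkOK : List (ℕ × List ℕ) → ℕ → Bool
  | [], F => (List.range 416).all fun i => bitP F i
  | p :: rs, F => Nat.beq F p.1 && valid p.1 && force (p.2.foldl addP p.1) fun F' => linkOK rs F'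

/-- Points with their numbers of candidates, up to the mask `E`. -/
noncomputable def stepsOK : List (ℕ × ℕ) → ℕ → ℕ → Bool
  | [], E, F => Nat.beq F E
  | (b, c) :: st, E, F => valid F && (Nat.blt b 416 && !bitP F b) &&
      Nat.ble ((List.range 416).countP fun x => candP F b x) c && force (addP F b) fun F' => stepsOK st E F'

theorem mem_setOf_addP {F x : ℕ} (hF : valid F = true) (hx : x < 416) (p : Pt) :
    p ∈ setOf (addP F x) ↔ p ∈ setOf F ∨ p.val = x := by
  rw [mem_setOf, mem_setOf]
  have hp : p.val < 512 := by have := val_lt p; omega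
  have h1 : lane 10 F p.val = 0 ∨ lane 10 F p.val = 1 := by
    rw [pack_setOf hF, lane_pack (by norm_num) (fun i _ => by split <;> norm_num) hp]; split <;> simp
  have e : lane 10 (addP F x) p.val = lane 10 F p.val ||| lane 10 (1 <<< (x * 10)) p.val := by
    rw [lane_def, lane_def, lane_def]
    refine Nat.eq_of_testBit_eq fun k => ?_
    change Nat.testBit (((F ||| 1 <<< (x * 10)) >>> (p.val * 10)) &&& _) k = _
    simp only [Nat.testBit_land, Nat.testBit_lor, Nat.testBit_shiftRight, Bool.and_or_distrib_right]
  have e2 : lane 10 (1 <<< (x * 10)) p.val = if p.val = x then 1 else 0 := by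
    rw [lane_def]
    refine Nat.eq_of_testBit_eq fun k => ?_
    rw [Nat.testBit_land, Nat.testBit_shiftRight, Nat.testBit_two_pow_sub_one, Nat.one_shiftLeft,
      Nat.testBit_two_pow]
    by_cases h : p.val = x
    · subst h
      rw [if_pos rfl, show (1 : ℕ) = 2 ^ 0 from rfl, Nat.testBit_two_pow, ← Bool.decide_and, decide_eq_decide]
      omega
    · rw [if_neg h, Nat.zero_testBit, ← Bool.decide_and, decide_eq_false_iff_not]
      omega
  rw [e, e2]
  rcases h1 with h1 | h1 <;> by_cases h : p.val = x <;> rw [h1] <;> simp [h]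

section bound

variable {K : Subgroup (Equiv.Perm Pt)}

theorem cand_of_mem (hK : K ≤ autNb) {F : ℕ} (hF : valid F = true)
    (hfix : ∀ π ∈ K, ∀ p ∈ setOf F, π p = p) {π : Equiv.Perm Pt} (hπ : π ∈ K) {b : Pt} (hb : b ∉ setOf F) :
    π b ∉ setOf F ∧ Nat.land (nmask (π b).val) F = Nat.land (nmask b.val) F := by
  refine ⟨fun h => ?_, ?_⟩
  · have := hfix π hπ _ h
    exact hb (π.injective this ▸ h)
  · obtain ⟨v1, s1⟩ := setOf_land _ F (nmask_valid (π b).isLt) hF
    obtain ⟨v2, s2⟩ := setOf_land _ F (nmask_valid b.isLt) hF
    refine setOf_injective v1 v2 ?_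
    rw [s1, s2]
    show nset (π b) ∩ setOf F = nset b ∩ setOf F
    ext q
    simp only [Finset.mem_inter, ← hK hπ b, Finset.mem_image]
    constructor
    · rintro ⟨⟨r, hr, rfl⟩, hq⟩
      have := π.injective (hfix π hπ _ hq)
      rw [this] at hq ⊢
      exact ⟨hr, hq⟩
    · rintro ⟨hr, hq⟩
      exact ⟨⟨q, hr, hfix π hπ q hq⟩, hq⟩

end bound

theorem foldl_fix : ∀ (r : List ℕ) (F : ℕ), valid F = true → (∀ x ∈ r, x < 416) →
    valid (r.foldl addP F) = true ∧
      ∀ p, p ∈ setOf (r.foldl addP F) ↔ p ∈ setOf F ∨ p.val ∈ r
  | [], F, hF, _ => ⟨hF, fun p => by simp⟩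
  | x :: r, F, hF, hr => by
    have hx := hr x List.mem_cons_self
    have hv : valid (addP F x) = true := by
      rw [valid, Nat.beq_eq] at hF ⊢
      show (F ||| 1 <<< (x * 10)) &&& below 10 416 suz_lvl0.one = F ||| 1 <<< (x * 10)
      change F &&& below 10 416 suz_lvl0.one = F at hF
      rw [Nat.and_or_distrib_right, hF]
      congr 1
      have hone : suz_lvl0.one = pack 10 512 (fun _ => 1) := rep_eq 10 9
      rw [hone, below_eq (by norm_num) 416]
      refine Nat.eq_of_testBit_eq fun k => ?_
      rw [Nat.testBit_land, Nat.one_shiftLeft, Nat.testBit_two_pow,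
        testBit_pack (by norm_num) (fun i _ => by split <;> norm_num)]
      by_cases hk : x * 10 = k
      · subst hk
        have : x * 10 / 10 = x := by omega
        have h2 : x * 10 % 10 = 0 := by omega
        simp [this, h2, hx, (show x < 512 by omega)]
      · simp [hk]
    obtain ⟨h1, h2⟩ := foldl_fix r (addP F x) hv fun y hy => hr y (List.mem_cons_of_mem x hy)
    refine ⟨h1, fun p => ?_⟩
    rw [List.foldl_cons, h2, mem_setOf_addP hF hx, List.mem_cons, or_assoc]

theorem rounds_spec : ∀ (rs : List (ℕ × List ℕ)) (F : ℕ), linkOK rs F = true →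
    (∀ p ∈ rs, roundOK p.1 p.2 = true) → ∀ {K : Subgroup (Equiv.Perm Pt)},
    K ≤ autNb → (∀ π ∈ K, ∀ p ∈ setOf F, π p = p) → K = ⊥
  | [], F, h, _, K, _, hfix => by
    simp only [linkOK, List.all_eq_true, List.mem_range] at h
    refine (Subgroup.eq_bot_iff_forall _).2 fun π hπ => Equiv.ext fun p => ?_
    exact hfix π hπ p (by simp [setOf, h p.val p.isLt])
  | (F₀, r) :: rs, F, h, hall, K, hK, hfix => by
    rw [linkOK, force_eq] at h
    simp only [Bool.and_eq_true, Nat.beq_eq] at h
    obtain ⟨⟨rfl, hF⟩, hrest⟩ := h
    have hr := hall _ List.mem_cons_self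
    simp only [roundOK, force_eq, List.all_eq_true, Bool.and_eq_true, Nat.blt_eq, List.mem_range,
      Bool.not_eq_true', Bool.or_eq_true, Nat.beq_eq] at hr
    obtain ⟨-, hmem⟩ := foldl_fix r F hF fun x hx => (hr x hx).1.1
    refine rounds_spec rs _ hrest (fun p hp => hall p (List.mem_cons_of_mem _ hp)) hK fun π hπ p hp => ?_
    rcases (hmem p).1 hp with h1 | h1
    · exact hfix π hπ p h1
    · obtain ⟨⟨-, hout⟩, hu⟩ := hr _ h1
      obtain ⟨c1, c2⟩ := cand_of_mem hK hF hfix hπ (b := p) (by simp [setOf, hout])
      rcases hu (π p).val (π p).isLt with (h2 | h2) | h2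
      · exact Fin.ext h2
      · exact absurd (by simp [setOf, h2]) c1
      · exact absurd c2 (fun e => by
          rw [e, Bool.eq_false_iff, Ne, Nat.beq_eq] at h2
          exact h2 rfl)

open Classical in
theorem rigid_bound {rs : List (ℕ × List ℕ)} {E : ℕ} (hl : linkOK rs E = true)
    (hr : ∀ p ∈ rs, roundOK p.1 p.2 = true) : ∀ (st : List (ℕ × ℕ)) (F : ℕ), stepsOK st E F = true →
    ∀ {K : Subgroup (Equiv.Perm Pt)}, K ≤ autNb → (∀ π ∈ K, ∀ p ∈ setOf F, π p = p) →
      Nat.card K ≤ (st.map Prod.snd).prod
  | [], F, h, K, hK, hfix => by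
    rw [stepsOK, Nat.beq_eq] at h
    subst h
    simp [rounds_spec rs F hl hr hK hfix]
  | (b, c) :: st, F, h, K, hK, hfix => by
    rw [stepsOK, force_eq] at h
    simp only [Bool.and_eq_true, Nat.blt_eq, Nat.ble_eq] at h
    obtain ⟨⟨⟨hF, hb, hbout⟩, hc⟩, hrest⟩ := h
    set B : Pt := ⟨b, hb⟩ with hB
    have hbF : B ∉ setOf F := by simpa [setOf, hB] using hbout
    let L : Subgroup (Equiv.Perm Pt) := K ⊓ stabilizer (Equiv.Perm Pt) B
    have hLc : Nat.card L ≤ (st.map Prod.snd).prod :=
      rigid_bound hl hr st _ hrest (inf_le_left.trans hK) fun π hπ p hp => by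
        rcases (mem_setOf_addP hF hb p).1 hp with h1 | h1
        · exact hfix π hπ.1 p h1
        · have : p = B := Fin.ext h1
          subst this
          exact hπ.2
    have h1 : Nat.card K = Nat.card (orbit K B) * Nat.card (stabilizer K B) := by
      rw [← Nat.card_prod, Nat.card_congr (orbitProdStabilizerEquivGroup K B)]
    have h2 : Nat.card (stabilizer K B) = Nat.card L :=
      Nat.card_congr ⟨fun x => ⟨x.1.1, x.1.2, x.2⟩, fun x => ⟨⟨x.1, x.2.1⟩, x.2.2⟩, fun _ => rfl, fun _ => rfl⟩
    have h3 : Nat.card (orbit K B) ≤ c := by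
      refine le_trans ?_ hc
      rw [List.countP_eq_length_filter, ← List.toFinset_card_of_nodup (List.nodup_range.filter _),
        Nat.card_coe_set_eq, Set.ncard_eq_toFinset_card', ← Finset.card_image_of_injective _ Fin.val_injective]
      refine Finset.card_le_card fun x hx => ?_
      obtain ⟨q, hq, rfl⟩ := Finset.mem_image.1 hx
      obtain ⟨⟨π, hπ⟩, rfl⟩ := Set.mem_toFinset.1 hq
      obtain ⟨c1, c2⟩ := cand_of_mem hK hF hfix hπ hbF
      simp only [List.mem_toFinset, List.mem_filter, List.mem_range, candP, Bool.and_eq_true,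
        Bool.not_eq_true', Nat.beq_eq]
      refine ⟨(π B).isLt, ?_, c2⟩
      simpa [setOf] using c1
    rw [h1, h2, List.map_cons, List.prod_cons]
    exact Nat.mul_le_mul h3 hLc

theorem rigAll_round0 : roundOK (rigAllRounds.getD 0 (0, [])).1 (rigAllRounds.getD 0 (0, [])).2 = true := by
  decide +kernel

theorem rigAll_round1 : roundOK (rigAllRounds.getD 1 (0, [])).1 (rigAllRounds.getD 1 (0, [])).2 = true := by
  decide +kernel

theorem rigAll_round2 : roundOK (rigAllRounds.getD 2 (0, [])).1 (rigAllRounds.getD 2 (0, [])).2 = true := by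
  decide +kernel

theorem rigAll_round3 : roundOK (rigAllRounds.getD 3 (0, [])).1 (rigAllRounds.getD 3 (0, [])).2 = true := by
  decide +kernel

theorem rigAll_round4 : roundOK (rigAllRounds.getD 4 (0, [])).1 (rigAllRounds.getD 4 (0, [])).2 = true := by
  decide +kernel

theorem rigAll_round5 : roundOK (rigAllRounds.getD 5 (0, [])).1 (rigAllRounds.getD 5 (0, [])).2 = true := by
  decide +kernel

theorem rigAll_round6 : roundOK (rigAllRounds.getD 6 (0, [])).1 (rigAllRounds.getD 6 (0, [])).2 = true := by
  decide +kernel

theorem rigAll_round7 : roundOK (rigAllRounds.getD 7 (0, [])).1 (rigAllRounds.getD 7 (0, [])).2 = true := by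
  decide +kernel

theorem rigAll_round8 : roundOK (rigAllRounds.getD 8 (0, [])).1 (rigAllRounds.getD 8 (0, [])).2 = true := by
  decide +kernel

theorem rigAll_round9 : roundOK (rigAllRounds.getD 9 (0, [])).1 (rigAllRounds.getD 9 (0, [])).2 = true := by
  decide +kernel

theorem rigAll_round10 : roundOK (rigAllRounds.getD 10 (0, [])).1 (rigAllRounds.getD 10 (0, [])).2 = true := by
  decide +kernel

theorem rigAll_round11 : roundOK (rigAllRounds.getD 11 (0, [])).1 (rigAllRounds.getD 11 (0, [])).2 = true := by
  decide +kernel

theorem rigAll_round12 : roundOK (rigAllRounds.getD 12 (0, [])).1 (rigAllRounds.getD 12 (0, [])).2 = true := by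
  decide +kernel

theorem rigAll_round13 : roundOK (rigAllRounds.getD 13 (0, [])).1 (rigAllRounds.getD 13 (0, [])).2 = true := by
  decide +kernel

theorem rigAll_round14 : roundOK (rigAllRounds.getD 14 (0, [])).1 (rigAllRounds.getD 14 (0, [])).2 = true := by
  decide +kernel

theorem rigAll_round15 : roundOK (rigAllRounds.getD 15 (0, [])).1 (rigAllRounds.getD 15 (0, [])).2 = true := by
  decide +kernel

theorem rigAll_round16 : roundOK (rigAllRounds.getD 16 (0, [])).1 (rigAllRounds.getD 16 (0, [])).2 = true := by
  decide +kernel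

theorem rigAll_round17 : roundOK (rigAllRounds.getD 17 (0, [])).1 (rigAllRounds.getD 17 (0, [])).2 = true := by
  decide +kernel

theorem rigAll_round18 : roundOK (rigAllRounds.getD 18 (0, [])).1 (rigAllRounds.getD 18 (0, [])).2 = true := by
  decide +kernel

theorem rigAll_rounds : ∀ p ∈ rigAllRounds, roundOK p.1 p.2 = true := by
  intro p hp
  obtain ⟨i, hi, rfl⟩ := List.getElem_of_mem hp
  rw [← List.getD_eq_getElem rigAllRounds (0, []) hi]
  replace hi : i < 19 := hi
  interval_cases i
  · exact rigAll_round0
  · exact rigAll_round1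
  · exact rigAll_round2
  · exact rigAll_round3
  · exact rigAll_round4
  · exact rigAll_round5
  · exact rigAll_round6
  · exact rigAll_round7
  · exact rigAll_round8
  · exact rigAll_round9
  · exact rigAll_round10
  · exact rigAll_round11
  · exact rigAll_round12
  · exact rigAll_round13
  · exact rigAll_round14
  · exact rigAll_round15
  · exact rigAll_round16
  · exact rigAll_round17
  · exact rigAll_round18

theorem rigFix_round0 : roundOK (rigFixRounds.getD 0 (0, [])).1 (rigFixRounds.getD 0 (0, [])).2 = true := by
  decide +kernel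

theorem rigFix_round1 : roundOK (rigFixRounds.getD 1 (0, [])).1 (rigFixRounds.getD 1 (0, [])).2 = true := by
  decide +kernel

theorem rigFix_round2 : roundOK (rigFixRounds.getD 2 (0, [])).1 (rigFixRounds.getD 2 (0, [])).2 = true := by
  decide +kernel

theorem rigFix_round3 : roundOK (rigFixRounds.getD 3 (0, [])).1 (rigFixRounds.getD 3 (0, [])).2 = true := by
  decide +kernel

theorem rigFix_round4 : roundOK (rigFixRounds.getD 4 (0, [])).1 (rigFixRounds.getD 4 (0, [])).2 = true := by
  decide +kernel

theorem rigFix_round5 : roundOK (rigFixRounds.getD 5 (0, [])).1 (rigFixRounds.getD 5 (0, [])).2 = true := by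
  decide +kernel

theorem rigFix_round6 : roundOK (rigFixRounds.getD 6 (0, [])).1 (rigFixRounds.getD 6 (0, [])).2 = true := by
  decide +kernel

theorem rigFix_round7 : roundOK (rigFixRounds.getD 7 (0, [])).1 (rigFixRounds.getD 7 (0, [])).2 = true := by
  decide +kernel

theorem rigFix_round8 : roundOK (rigFixRounds.getD 8 (0, [])).1 (rigFixRounds.getD 8 (0, [])).2 = true := by
  decide +kernel

theorem rigFix_round9 : roundOK (rigFixRounds.getD 9 (0, [])).1 (rigFixRounds.getD 9 (0, [])).2 = true := by
  decide +kernel

theorem rigFix_round10 : roundOK (rigFixRounds.getD 10 (0, [])).1 (rigFixRounds.getD 10 (0, [])).2 = true := by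
  decide +kernel

theorem rigFix_round11 : roundOK (rigFixRounds.getD 11 (0, [])).1 (rigFixRounds.getD 11 (0, [])).2 = true := by
  decide +kernel

theorem rigFix_round12 : roundOK (rigFixRounds.getD 12 (0, [])).1 (rigFixRounds.getD 12 (0, [])).2 = true := by
  decide +kernel

theorem rigFix_round13 : roundOK (rigFixRounds.getD 13 (0, [])).1 (rigFixRounds.getD 13 (0, [])).2 = true := by
  decide +kernel

theorem rigFix_round14 : roundOK (rigFixRounds.getD 14 (0, [])).1 (rigFixRounds.getD 14 (0, [])).2 = true := by
  decide +kernel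

theorem rigFix_round15 : roundOK (rigFixRounds.getD 15 (0, [])).1 (rigFixRounds.getD 15 (0, [])).2 = true := by
  decide +kernel

theorem rigFix_round16 : roundOK (rigFixRounds.getD 16 (0, [])).1 (rigFixRounds.getD 16 (0, [])).2 = true := by
  decide +kernel

theorem rigFix_rounds : ∀ p ∈ rigFixRounds, roundOK p.1 p.2 = true := by
  intro p hp
  obtain ⟨i, hi, rfl⟩ := List.getElem_of_mem hp
  rw [← List.getD_eq_getElem rigFixRounds (0, []) hi]
  replace hi : i < 17 := hi
  interval_cases i
  · exact rigFix_round0
  · exact rigFix_round1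
  · exact rigFix_round2
  · exact rigFix_round3
  · exact rigFix_round4
  · exact rigFix_round5
  · exact rigFix_round6
  · exact rigFix_round7
  · exact rigFix_round8
  · exact rigFix_round9
  · exact rigFix_round10
  · exact rigFix_round11
  · exact rigFix_round12
  · exact rigFix_round13
  · exact rigFix_round14
  · exact rigFix_round15
  · exact rigFix_round16

/-- The mask after the first seven points. -/
noncomputable def allStart : ℕ := (rigAllRounds.getD 0 (0, [])).1

theorem rigAll_link : linkOK rigAllRounds allStart = true := by decide +kernel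

theorem rigFix_link : linkOK rigFixRounds (rigFixRounds.getD 0 (0, [])).1 = true := by decide +kernel

theorem rigAll_steps : stepsOK rigAllSteps allStart 0 = true := by decide +kernel

theorem rigFix_steps : stepsOK rigFixSteps (rigFixRounds.getD 0 (0, [])).1 fixMask = true := by decide +kernel

/-- At most `503193600` automorphisms. -/
theorem card_autNb_le : Nat.card autNb ≤ 503193600 := by
  refine le_trans (rigid_bound rigAll_link rigAll_rounds _ _ rigAll_steps le_rfl fun π _ p hp => ?_) (le_of_eq (by decide +kernel))
  rw [mem_setOf, lane_def] at hp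
  simp at hp

theorem base7Mask_ok : ((List.range 416).all fun i => bitP base7Mask i == base7.contains i) = true := by
  decide +kernel

/-- An element fixing the seven points is trivial. -/
theorem eq_one_of_base7 {g : GSix} (h : ∀ β ∈ base7, g • mkPt β = mkPt β) : g = 1 := by
  have hK : Subgroup.zpowers (rho g) = ⊥ := by
    refine rounds_spec rigAllRounds base7Mask ?_ rigAll_rounds ?_ fun π hπ p hp => ?_
    · decide +kernel
    · rw [Subgroup.zpowers_le]; exact rho_mem g
    · have h7 := List.all_eq_true.1 base7Mask_ok p.val (List.mem_range.2 p.isLt)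
      rw [beq_iff_eq] at h7
      have hb : bitP base7Mask p.val = true := by simpa [setOf] using hp
      rw [hb] at h7
      have hg : rho g p = p := by
        have := h p.val (List.contains_iff_mem.1 h7.symm)
        rwa [mkPt_val] at this
      have hle : Subgroup.zpowers (rho g) ≤ stabilizer (Equiv.Perm Pt) p := Subgroup.zpowers_le.2 hg
      exact hle hπ
  rw [Subgroup.zpowers_eq_bot] at hK
  exact smul_eq_one fun p => by
    show rho g p = p
    rw [hK, Equiv.Perm.one_apply]

end Cfsg.Agent.SuzRankThree
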