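import Cfsg.Agent.Lib.SuzRankThree.Chains
import Cfsg.Agent.Lib.SuzRankThree.CheckLines
import Cfsg.Agent.Lib.SuzRankThree.CheckBad0
import Cfsg.Agent.Lib.SuzRankThree.CheckBad1
import Cfsg.Agent.Lib.SuzRankThree.CheckBad2

/-!
# Sets of 96 points with stabiliser of order 184320

* `lineSet`, `card_line_orbit` : such a set and its orbit of length 1365
* `line_of_invariant` : every such set is a translate, and the stabiliser is the whole one
* `line_meet`, `invariant_320` : the three other suborbits, by the size of the meet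
-/

set_option autoImplicit false
set_option maxRecDepth 100000

namespace Cfsg.Agent.SuzRankThree

open MulAction Cfsg.Agent.StabCert Cfsg.Agent.CosetEnum Cfsg.Agent.JTwoInGTwo Cfsg.Agent.SuzGTwo
open scoped Pointwise

/-- The first line. -/
noncomputable abbrev lineSet : Finset Pt := setOf (lineOrb.mask 0)

/-- The lines. -/
noncomputable abbrev lineSets : Set (Finset Pt) := orbit GSix lineSet

theorem card_line_orbit : Nat.card lineSets = 1365 :=
  MOrb.card_orbit lineOrb_valid (by decide +kernel) lineOrb_step lineOrb_close lineOrb_srt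

theorem card_stab_mul (s : Finset Pt) :
    Nat.card (orbit GSix s) * Nat.card (stabilizer GSix s) = 251596800 := by
  rw [← Nat.card_prod, Nat.card_congr (orbitProdStabilizerEquivGroup GSix s), SuzGTwo.card_six]

theorem card_line_stab : Nat.card (stabilizer GSix lineSet) = 184320 := by
  have h := card_stab_mul lineSet
  rw [card_line_orbit] at h
  omega

/-! ### Orbits of the Sylow 2-subgroup -/

/-- The word of a generator. -/
noncomputable abbrev u2 (k : ℕ) : List ℕ := twoWords.getD k []

/-- Each point is joined to its representative, and the label is invariant. -/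
noncomputable def twoStep (x : ℕ) : Bool :=
  force (twoLab.get x) fun i => Nat.blt i 5 &&
  ((Nat.beq x (twoReps.getD i 0) || force (twoPar.get x) fun p =>
    Nat.blt (Nat.div p 16) 416 && (Nat.beq (twoLab.get (Nat.div p 16)) i &&
    (Nat.blt (twoRank.get (Nat.div p 16)) (twoRank.get x) && (Nat.blt (Nat.mod p 16) twoWords.length &&
      Nat.beq (look 9 (twoTab.getD (Nat.mod p 16) 0) (Nat.div p 16)) x)))) &&
  (List.range twoWords.length).all fun k => Nat.beq (twoLab.get (look 9 (twoTab.getD k 0) x)) i)

theorem two_step_chunk0 : ((List.range' (0 * 52) 52).all fun x => Nat.ble 416 x || twoStep x) = true := by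
  decide +kernel

theorem two_step_chunk1 : ((List.range' (1 * 52) 52).all fun x => Nat.ble 416 x || twoStep x) = true := by
  decide +kernel

theorem two_step_chunk2 : ((List.range' (2 * 52) 52).all fun x => Nat.ble 416 x || twoStep x) = true := by
  decide +kernel

theorem two_step_chunk3 : ((List.range' (3 * 52) 52).all fun x => Nat.ble 416 x || twoStep x) = true := by
  decide +kernel

theorem two_step_chunk4 : ((List.range' (4 * 52) 52).all fun x => Nat.ble 416 x || twoStep x) = true := by
  decide +kernel

theorem two_step_chunk5 : ((List.range' (5 * 52) 52).all fun x => Nat.ble 416 x || twoStep x) = true := by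
  decide +kernel

theorem two_step_chunk6 : ((List.range' (6 * 52) 52).all fun x => Nat.ble 416 x || twoStep x) = true := by
  decide +kernel

theorem two_step_chunk7 : ((List.range' (7 * 52) 52).all fun x => Nat.ble 416 x || twoStep x) = true := by
  decide +kernel

theorem two_step : ∀ x < 416, twoStep x = true :=
  of_chunks (K := 8) (c := 52) (by norm_num) fun k hk => by
    interval_cases k
    · exact two_step_chunk0
    · exact two_step_chunk1
    · exact two_step_chunk2
    · exact two_step_chunk3
    · exact two_step_chunk4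
    · exact two_step_chunk5
    · exact two_step_chunk6
    · exact two_step_chunk7

theorem two_gen (k : ℕ) (hk : k < twoWords.length) : genOf twoWords k ∈ twoGrp := by
  rw [twoGrp, two_gens]
  exact gen_mem_sub _ (List.mem_range.2 hk)

theorem two_reach : ∀ x < 416, ∃ u ∈ twoGrp, twoLab.get x < 5 ∧
    u • mkPt (twoReps.getD (twoLab.get x) 0) = mkPt x := by
  suffices ∀ r x, x < 416 → twoRank.get x = r → ∃ u ∈ twoGrp, twoLab.get x < 5 ∧
      u • mkPt (twoReps.getD (twoLab.get x) 0) = mkPt x from fun x hx => this _ x hx rfl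
  intro r
  induction r using Nat.strong_induction_on with
  | _ r ih =>
    intro x hx hr
    have h := two_step x hx
    simp only [twoStep, force_eq, Bool.and_eq_true, Bool.or_eq_true, Nat.blt_eq, Nat.beq_eq] at h
    obtain ⟨hi, h | ⟨hp, hlab, hrk, hk, himg⟩, -⟩ := h
    · exact ⟨1, one_mem _, hi, by rw [one_smul, ← h]⟩
    · obtain ⟨u, hu, -, he⟩ := ih _ (hr ▸ hrk) _ hp rfl
      refine ⟨genOf twoWords (Nat.mod (twoPar.get x) 16) * u, mul_mem (two_gen _ hk) hu, hi, ?_⟩
      obtain ⟨-, h2⟩ := sound_of_genOK two_genOK _ hk _ hp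
      rw [hlab] at he
      change genOf twoWords _ • mkPt (Nat.div (twoPar.get x) 16) = _ at h2
      rw [mul_smul, he, h2, himg]

theorem twoReps_lt : ∀ i < 5, twoReps.getD i 0 < 416 ∧ twoLab.get (twoReps.getD i 0) = i := by decide +kernel

/-! ### Classes of lines against the first -/

/-- The representative of a meet. -/
noncomputable def repCls (t : ℕ) : ℕ :=
  if Nat.beq t 21 then lineReps.getD 0 0 else if Nat.beq t 24 then lineReps.getD 1 0 else lineReps.getD 2 0

/-- Each line but the first has one of three meets and is joined to the representative. -/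
noncomputable def lineStep (j : ℕ) : Bool :=
  Nat.beq j 0 || force (lineCls.get j) fun t =>
    (Nat.beq t 21 || Nat.beq t 24 || Nat.beq t 48) &&
    (Nat.beq (count (Nat.land (lineOrb.mask 0) (lineOrb.mask j))) t &&
    (Nat.beq j (repCls t) || force (linePar.get j) fun p =>
      Nat.blt 0 (Nat.div p 2) && (Nat.blt (Nat.div p 2) 1365 && (Nat.beq (lineCls.get (Nat.div p 2)) t &&
      (Nat.blt (lineRank.get (Nat.div p 2)) (lineRank.get j) &&
        Nat.beq (lineOrb.idx (lineWords.getD (Nat.mod p 2) []) (Nat.div p 2)) j)))))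

theorem line_step_chunk0 : ((List.range' (0 * 105) 105).all fun x => Nat.ble 1365 x || lineStep x) = true := by
  decide +kernel

theorem line_step_chunk1 : ((List.range' (1 * 105) 105).all fun x => Nat.ble 1365 x || lineStep x) = true := by
  decide +kernel

theorem line_step_chunk2 : ((List.range' (2 * 105) 105).all fun x => Nat.ble 1365 x || lineStep x) = true := by
  decide +kernel

theorem line_step_chunk3 : ((List.range' (3 * 105) 105).all fun x => Nat.ble 1365 x || lineStep x) = true := by
  decide +kernel

theorem line_step_chunk4 : ((List.range' (4 * 105) 105).all fun x => Nat.ble 1365 x || lineStep x) = true := by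
  decide +kernel

theorem line_step_chunk5 : ((List.range' (5 * 105) 105).all fun x => Nat.ble 1365 x || lineStep x) = true := by
  decide +kernel

theorem line_step_chunk6 : ((List.range' (6 * 105) 105).all fun x => Nat.ble 1365 x || lineStep x) = true := by
  decide +kernel

theorem line_step_chunk7 : ((List.range' (7 * 105) 105).all fun x => Nat.ble 1365 x || lineStep x) = true := by
  decide +kernel

theorem line_step_chunk8 : ((List.range' (8 * 105) 105).all fun x => Nat.ble 1365 x || lineStep x) = true := by
  decide +kernel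

theorem line_step_chunk9 : ((List.range' (9 * 105) 105).all fun x => Nat.ble 1365 x || lineStep x) = true := by
  decide +kernel

theorem line_step_chunk10 : ((List.range' (10 * 105) 105).all fun x => Nat.ble 1365 x || lineStep x) = true := by
  decide +kernel

theorem line_step_chunk11 : ((List.range' (11 * 105) 105).all fun x => Nat.ble 1365 x || lineStep x) = true := by
  decide +kernel

theorem line_step_chunk12 : ((List.range' (12 * 105) 105).all fun x => Nat.ble 1365 x || lineStep x) = true := by
  decide +kernel

theorem line_step : ∀ x < 1365, lineStep x = true :=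
  of_chunks (K := 13) (c := 105) (by norm_num) fun k hk => by
    interval_cases k
    · exact line_step_chunk0
    · exact line_step_chunk1
    · exact line_step_chunk2
    · exact line_step_chunk3
    · exact line_step_chunk4
    · exact line_step_chunk5
    · exact line_step_chunk6
    · exact line_step_chunk7
    · exact line_step_chunk8
    · exact line_step_chunk9
    · exact line_step_chunk10
    · exact line_step_chunk11
    · exact line_step_chunk12

theorem lineWords_ok : ((List.range 2).all fun k => ((lineWords.getD k []).all fun a => Nat.blt a 6) &&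
    Nat.beq (lineOrb.idx (lineWords.getD k []) 0) 0) = true := by
  decide +kernel

theorem line_next {w : List ℕ} (hw : ∀ a ∈ w, a < 6) {j : ℕ} (hj : j < 1365) :
    lineOrb.idx w j < 1365 ∧
      wordEl letterEl w • setOf (lineOrb.mask j) = setOf (lineOrb.mask (lineOrb.idx w j)) :=
  MOrb.next_spec lineOrb_valid lineOrb_step lineOrb_close hw hj

theorem lineWord_spec {k : ℕ} (hk : k < 2) :
    (∀ a ∈ lineWords.getD k [], a < 6) ∧ wordEl letterEl (lineWords.getD k []) ∈ stabilizer GSix lineSet := by
  have h := List.all_eq_true.1 lineWords_ok k (List.mem_range.2 hk)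
  simp only [Bool.and_eq_true, List.all_eq_true, Nat.blt_eq, Nat.beq_eq] at h
  refine ⟨h.1, ?_⟩
  obtain ⟨-, h2⟩ := line_next h.1 (show 0 < 1365 by norm_num)
  rw [h.2] at h2
  exact h2

theorem line_reach : ∀ j, 0 < j → j < 1365 → ∃ q ∈ stabilizer GSix lineSet,
    q • setOf (lineOrb.mask (repCls (lineCls.get j))) = setOf (lineOrb.mask j) := by
  suffices ∀ r j, 0 < j → j < 1365 → lineRank.get j = r → ∃ q ∈ stabilizer GSix lineSet,
      q • setOf (lineOrb.mask (repCls (lineCls.get j))) = setOf (lineOrb.mask j) from
    fun j h0 hj => this _ j h0 hj rfl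
  intro r
  induction r using Nat.strong_induction_on with
  | _ r ih =>
    intro j h0 hj hr
    have h := line_step j hj
    simp only [lineStep, force_eq, Bool.and_eq_true, Bool.or_eq_true, Nat.blt_eq, Nat.beq_eq] at h
    obtain h | ⟨-, -, h | ⟨hp0, hp, hlab, hrk, himg⟩⟩ := h
    · omega
    · exact ⟨1, one_mem _, by rw [one_smul, ← h]⟩
    · obtain ⟨q, hq, he⟩ := ih _ (hr ▸ hrk) _ hp0 hp rfl
      have hk : Nat.mod (linePar.get j) 2 < 2 := Nat.mod_lt _ (by norm_num)
      obtain ⟨hw, hmem⟩ := lineWord_spec hk
      refine ⟨_, mul_mem hmem hq, ?_⟩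
      obtain ⟨-, h2⟩ := line_next hw hp
      rw [himg] at h2
      rw [hlab] at he
      rw [mul_smul, he, h2]

theorem line_meet {j : ℕ} (h0 : 0 < j) (hj : j < 1365) :
    (lineSet ∩ setOf (lineOrb.mask j)).card = lineCls.get j ∧
      (lineCls.get j = 21 ∨ lineCls.get j = 24 ∨ lineCls.get j = 48) := by
  have h := line_step j hj
  simp only [lineStep, force_eq, Bool.and_eq_true, Bool.or_eq_true, Nat.beq_eq] at h
  obtain h | ⟨ht, hc, -⟩ := h
  · omega
  obtain ⟨v, e⟩ := setOf_land _ _ lineOrb_valid (MOrb.reach_spec lineOrb_valid lineOrb_step j hj).1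
  refine ⟨?_, by tauto⟩
  rw [← e, card_setOf v]
  exact hc

theorem cls_counts : ((List.range' 1 1364).countP fun j => Nat.beq (lineCls.get j) 21) = 1024 ∧
    ((List.range' 1 1364).countP fun j => Nat.beq (lineCls.get j) 24) = 320 ∧
    ((List.range' 1 1364).countP fun j => Nat.beq (lineCls.get j) 48) = 20 := by
  refine ⟨?_, ?_, ?_⟩ <;> decide +kernel

theorem card_lineSet : lineSet.card = 96 := by
  rw [card_setOf lineOrb_valid]
  decide +kernel

/-- An invariant family of 320 other lines consists of those meeting the first in 24 points. -/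
theorem invariant_320 (D : Finset (Finset Pt)) (hD : D.card = 320)
    (hmem : ∀ s ∈ D, s ∈ lineSets ∧ s ≠ lineSet)
    (hinv : ∀ q ∈ stabilizer GSix lineSet, ∀ s ∈ D, q • s ∈ D)
    (s : Finset Pt) (hs : s ∈ lineSets) : s ∈ D ↔ (lineSet ∩ s).card = 24 := by
  classical
  let I : ℕ → Finset ℕ := fun t => (Finset.Ico 1 1365).filter fun j => lineCls.get j = t
  have hI : ∀ t, (I t).card = (List.range' 1 1364).countP fun j => Nat.beq (lineCls.get j) t := by
    intro t
    rw [List.countP_eq_length_filter, ← List.toFinset_card_of_nodup ((List.nodup_range' (step := 1)).filter _)]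
    congr 1
    ext j
    simp [I]
  -- the lines of a meet
  let C : ℕ → Finset (Finset Pt) := fun t => (I t).image fun j => setOf (lineOrb.mask j)
  have hC : ∀ t, (C t).card = (I t).card := fun t => Finset.card_image_of_injOn fun i hi j hj e => by
    simp only [I, Finset.coe_filter, Finset.mem_Ico, Set.mem_ofPred_eq] at hi hj
    exact MOrb.setOf_injOn lineOrb_valid lineOrb_step lineOrb_srt hi.1.2 hj.1.2 e
  have hcls : ∀ s ∈ lineSets, s ≠ lineSet → ∃ j, 0 < j ∧ j < 1365 ∧ s = setOf (lineOrb.mask j) := by
    intro s hs hne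
    obtain ⟨j, hj, rfl⟩ := (MOrb.mem_orbit_iff lineOrb_valid (by decide +kernel) lineOrb_step lineOrb_close).1 hs
    refine ⟨j, Nat.pos_of_ne_zero fun e => hne (by rw [e]), hj, rfl⟩
  have hall : ∀ t s, s ∈ D → s ∈ C t → C t ⊆ D := by
    intro t s hsD hsC s' hs'
    obtain ⟨i, hi, rfl⟩ := Finset.mem_image.1 hsC
    obtain ⟨j, hj, rfl⟩ := Finset.mem_image.1 hs'
    simp only [I, Finset.mem_filter, Finset.mem_Ico] at hi hj
    obtain ⟨q, hq, eq⟩ := line_reach i hi.1.1 hi.1.2
    obtain ⟨q', hq', eq'⟩ := line_reach j hj.1.1 hj.1.2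
    rw [hi.2] at eq
    rw [hj.2, ← inv_smul_eq_iff.2 eq.symm, ← mul_smul] at eq'
    exact eq' ▸ hinv _ (mul_mem hq' (inv_mem hq)) _ hsD
  have hin : ∀ s ∈ D, ∃ t, (t = 21 ∨ t = 24 ∨ t = 48) ∧ s ∈ C t := fun s hsD => by
    obtain ⟨j, h0, hj, rfl⟩ := hcls s (hmem s hsD).1 (hmem s hsD).2
    exact ⟨_, (line_meet h0 hj).2, Finset.mem_image.2 ⟨j, by simp [I]; omega, rfl⟩⟩
  have h21 : ∀ s ∈ D, s ∉ C 21 := fun s hsD hsC => by
    have := Finset.card_le_card (hall 21 s hsD hsC)
    rw [hC, hI, cls_counts.1, hD] at this
    omega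
  have h24 : C 24 ⊆ D := by
    by_contra hne
    have hsub : D ⊆ C 48 := fun s hsD => by
      obtain ⟨t, ht, hsC⟩ := hin s hsD
      rcases ht with rfl | rfl | rfl
      · exact absurd hsC (h21 s hsD)
      · exact absurd (hall 24 s hsD hsC) hne
      · exact hsC
    have := Finset.card_le_card hsub
    rw [hC, hI, cls_counts.2.2, hD] at this
    omega
  have heq : D = C 24 := (Finset.eq_of_subset_of_card_le h24 (by rw [hC, hI, cls_counts.2.1, hD])).symm
  rw [heq]
  constructor
  · intro h
    obtain ⟨j, hj, rfl⟩ := Finset.mem_image.1 h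
    simp only [I, Finset.mem_filter, Finset.mem_Ico] at hj
    rw [(line_meet hj.1.1 hj.1.2).1, hj.2]
  · intro h
    have hne : s ≠ lineSet := fun e => by
      rw [e, Finset.inter_self, card_lineSet] at h
      omega
    obtain ⟨j, h0, hj, rfl⟩ := hcls s hs hne
    refine Finset.mem_image.2 ⟨j, ?_, rfl⟩
    rw [(line_meet h0 hj).1] at h
    simp [I, h]
    omega

/-! ### Classification -/

/-- Membership of a label in a choice. -/
def inChoice (S : ℕ) (i : ℕ) : Bool := Nat.beq (Nat.land (Nat.shiftRight S i) 1) 1

/-- A union of orbits with 96 points is one of four sets. -/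
noncomputable def choiceStep (S : ℕ) : Bool :=
  !Nat.beq ((List.range 416).countP fun x => inChoice S (twoLab.get x)) 96 ||
    [lineOrb.mask 0, badOrb0.mask 0, badOrb1.mask 0, badOrb2.mask 0].any fun m =>
      (List.range 416).all fun x => bitP m x == inChoice S (twoLab.get x)

theorem choice_step_chunk0 : ((List.range' (0 * 8) 8).all fun x => Nat.ble 32 x || choiceStep x) = true := by
  decide +kernel

theorem choice_step_chunk1 : ((List.range' (1 * 8) 8).all fun x => Nat.ble 32 x || choiceStep x) = true := by
  decide +kernel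

theorem choice_step_chunk2 : ((List.range' (2 * 8) 8).all fun x => Nat.ble 32 x || choiceStep x) = true := by
  decide +kernel

theorem choice_step_chunk3 : ((List.range' (3 * 8) 8).all fun x => Nat.ble 32 x || choiceStep x) = true := by
  decide +kernel

theorem choice_step : ∀ x < 32, choiceStep x = true :=
  of_chunks (K := 4) (c := 8) (by norm_num) fun k hk => by
    interval_cases k
    · exact choice_step_chunk0
    · exact choice_step_chunk1
    · exact choice_step_chunk2
    · exact choice_step_chunk3

theorem bad_small (O : MOrb) (hn : O.n = 1366) (h0 : valid (O.mask 0) = true)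
    (hr : ∀ i, 0 < i → i < O.n → O.reachStep i = true) (hs : ∀ i < O.n, O.srtStep i = true) :
    Nat.card (stabilizer GSix (setOf (O.mask 0))) < 184320 := by
  have h1 := O.le_card_orbit h0 hr hs
  have h2 := card_stab_mul (setOf (O.mask 0))
  rw [hn] at h1
  by_contra h
  push Not at h
  have := Nat.mul_le_mul h1 h
  omega

/-- A set of 96 points invariant under a subgroup of order 184320 is a line, with that stabiliser. -/
theorem line_of_invariant (X : Subgroup GSix) (hX : Nat.card X = 184320) (M : Finset Pt) (hM : M.card = 96)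
    (hinv : ∀ x ∈ X, x • M = M) : M ∈ lineSets ∧ X = stabilizer GSix M := by
  classical
  have : Finite GSix := finite_six
  have : Fact (Nat.Prime 2) := ⟨Nat.prime_two⟩
  have hU : IsPGroup 2 twoGrp := IsPGroup.of_card (n := 12) (by rw [card_twoGrp]; norm_num)
  obtain ⟨T, hT⟩ := Sylow.exists_subgroup_card_pow_prime (G := X) 2 (n := 12) (by rw [hX]; norm_num)
  have hle : ∀ S : Sylow 2 GSix, Nat.card S ≤ 4096 := fun S => by
    obtain ⟨m, hm⟩ := IsPGroup.iff_card.1 S.2
    have hd := Subgroup.card_subgroup_dvd_card (S : Subgroup GSix)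
    rw [hm, SuzGTwo.card_six] at hd
    rw [hm]
    refine le_trans (Nat.pow_le_pow_right (by norm_num) (show m ≤ 12 from ?_)) (by norm_num)
    by_contra hm'
    have := dvd_trans (pow_dvd_pow 2 (show 13 ≤ m by omega)) hd
    norm_num at this
  let T' : Subgroup GSix := T.map X.subtype
  have hTc : Nat.card T' = 4096 := by
    rw [Subgroup.card_map_of_injective X.subtype_injective, hT]; norm_num
  obtain ⟨S, hS⟩ := hU.exists_le_sylow
  obtain ⟨S', hS'⟩ := (IsPGroup.of_card (p := 2) (n := 12) (G := T') (by rw [hTc]; norm_num)).exists_le_sylow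
  have eU : twoGrp = S := Subgroup.eq_of_le_of_card_ge hS (by rw [card_twoGrp]; exact hle S)
  have eT : T' = S' := Subgroup.eq_of_le_of_card_ge hS' (by rw [hTc]; exact hle S')
  obtain ⟨g, hg⟩ := exists_smul_eq GSix S' S
  -- the translate is invariant under the standard subgroup
  have hUM : ∀ u ∈ twoGrp, u • g • M = g • M := by
    intro u hu
    rw [eU, ← hg, Sylow.coe_subgroup_smul, ← eT] at hu
    obtain ⟨y, hy, rfl⟩ := hu
    obtain ⟨w, -, rfl⟩ := hy
    show (g * w.1 * g⁻¹) • g • M = g • M
    rw [mul_smul, inv_smul_smul, mul_smul, hinv _ w.2]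
  -- so it is a union of orbits
  let cb : ℕ → Bool := fun i => decide (mkPt (twoReps.getD i 0) ∈ g • M)
  obtain ⟨S₀, hS₀, hch⟩ : ∃ S₀ < 32, ∀ i < 5, inChoice S₀ i = cb i := by
    have key : ∀ b0 b1 b2 b3 b4 : Bool, ∃ S₀ < 32, inChoice S₀ 0 = b0 ∧ inChoice S₀ 1 = b1 ∧
        inChoice S₀ 2 = b2 ∧ inChoice S₀ 3 = b3 ∧ inChoice S₀ 4 = b4 := by decide +kernel
    obtain ⟨S₀, h1, h2, h3, h4, h5, h6⟩ := key (cb 0) (cb 1) (cb 2) (cb 3) (cb 4)
    exact ⟨S₀, h1, fun i hi => by interval_cases i <;> assumption⟩
  have hmemM : ∀ p : Pt, p ∈ g • M ↔ inChoice S₀ (twoLab.get p.val) = true := by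
    intro p
    obtain ⟨u, hu, hi, hup⟩ := two_reach p.val p.isLt
    rw [mkPt_val] at hup
    rw [hch _ hi]
    conv_lhs => rw [← hup, ← hUM u hu, Finset.smul_mem_smul_finset_iff]
    simp [cb]
  have hcount : ((List.range 416).countP fun x => inChoice S₀ (twoLab.get x)) = 96 := by
    rw [← hM, ← Finset.card_smul_finset g M, List.countP_eq_length_filter,
      ← List.toFinset_card_of_nodup (List.nodup_range.filter _),
      ← Finset.card_image_of_injective (g • M) Fin.val_injective]
    congr 1
    ext x
    simp only [List.mem_toFinset, List.mem_filter, List.mem_range, Finset.mem_image]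
    constructor
    · exact fun ⟨hx, h⟩ => ⟨⟨x, hx⟩, (hmemM _).2 h, rfl⟩
    · rintro ⟨p, hp, rfl⟩
      exact ⟨p.isLt, (hmemM p).1 hp⟩
  have h := choice_step S₀ hS₀
  simp only [choiceStep, hcount, Bool.or_eq_true, Bool.not_eq_true', List.any_eq_true, List.mem_cons,
    List.not_mem_nil, or_false, List.all_eq_true, List.mem_range, beq_iff_eq] at h
  rcases h with h | ⟨m, hm, hbits⟩
  · exact absurd h (by decide)
  have hgM : g • M = setOf m := by
    ext p
    rw [hmemM, ← hbits p.val p.isLt]
    simp [setOf]
  have hXle : X ≤ stabilizer GSix M := fun x hx => hinv x hx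
  have horb : orbit GSix M = orbit GSix (setOf m) := by rw [← hgM, orbit_smul]
  have hmul := card_stab_mul M
  rw [horb] at hmul
  have hmul' := card_stab_mul (setOf m)
  have hsame : Nat.card (stabilizer GSix M) = Nat.card (stabilizer GSix (setOf m)) := by
    have hpos : 0 < Nat.card (orbit GSix (setOf m)) := Nat.pos_of_ne_zero fun e => by
      rw [e, zero_mul] at hmul'
      omega
    exact Nat.eq_of_mul_eq_mul_left hpos (hmul.trans hmul'.symm)
  have hle' := Nat.card_le_card_of_injective _ (Subgroup.inclusion_injective hXle)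
  rw [hX] at hle'
  rcases hm with rfl | rfl | rfl | rfl
  · refine ⟨?_, Subgroup.eq_of_le_of_card_ge hXle ?_⟩
    · show M ∈ orbit GSix lineSet
      rw [← horb]
      exact mem_orbit_self M
    · rw [hsame, card_line_stab, hX]
  · have := bad_small badOrb0 (by decide +kernel) badOrb0_valid badOrb0_step badOrb0_srt
    omega
  · have := bad_small badOrb1 (by decide +kernel) badOrb1_valid badOrb1_step badOrb1_srt
    omega
  · have := bad_small badOrb2 (by decide +kernel) badOrb2_valid badOrb2_step badOrb2_srt
    omega

end Cfsg.Agent.SuzRankThree
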