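import Cfsg.Agent.Lib.SuzRankThree.Core

/-!
# Recognition of Suz by the rank three action on 1782 points

* `exists_image` : such a group is a subgroup of order `|Suz|` of the automorphism group of the graph
* `isoSuz_of_rank_three` : and hence is Suz
-/

set_option autoImplicit false

namespace Cfsg.Agent.SuzRankThree

open MulAction Cfsg.Agent.JTwoInGTwo Cfsg.Agent.SuzGTwo Cfsg.Agent.CosetEnum

theorem exists_image {Ω : Type*} [Fintype Ω] [DecidableEq Ω] (hΩ : Fintype.card Ω = 1782)
    (G : Subgroup (Equiv.Perm Ω)) [IsPretransitive G Ω] (a : Ω) (κ : stabilizer G a ≃* GSix) (b c : Ω)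
    (hb : (orbit (stabilizer G a) b).ncard = 416) (hc : (orbit (stabilizer G a) c).ncard = 1365) :
    ∃ S : Subgroup (Equiv.Perm Vtx), S ≤ autV ∧ Nat.card S = 448345497600 ∧ Nonempty (G ≃* S) := by
  obtain ⟨Φ, hΦ⟩ := exists_equiv hΩ G a κ b c hb hc
  let e : Equiv.Perm Ω ≃* Equiv.Perm Vtx := Φ.symm.permCongrHom
  refine ⟨G.map e.toMonoidHom, ?_, ?_, ⟨G.equivMapOfInjective e.toMonoidHom e.injective⟩⟩
  · rintro _ ⟨g, hg, rfl⟩ u v
    exact hΦ g hg u v
  · rw [Subgroup.card_map_of_injective (f := e.toMonoidHom) e.injective,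
      ← Nat.card_congr (orbitProdStabilizerEquivGroup G a), Nat.card_prod,
      show orbit G a = Set.univ from orbit_eq_univ G a, Nat.card_coe_set_eq, Set.ncard_univ,
      Nat.card_eq_fintype_card, hΩ, Nat.card_congr κ.toEquiv, SuzGTwo.card_six]

/-- Suz itself gives such a subgroup. -/
theorem exists_suz_image :
    ∃ S : Subgroup (Equiv.Perm Vtx), S ≤ autV ∧ Nat.card S = 448345497600 ∧ Nonempty (Cfsg.Spor.Suz ≃* S) := by
  classical
  have hs : IsSimpleGroup suzSetup.G := Cfsg.Agent.S1694.main.1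
  set H := suzSetup.closureOf Cfsg.Agent.S1680.H1782 with hH
  obtain ⟨hidx, q₁, q₂, h1, h2⟩ := Cfsg.Agent.S1680.main H hH
  have hne : H.index ≠ 0 := by rw [hidx]; norm_num
  have : Fintype (suzSetup.G ⧸ H) := Subgroup.fintypeOfIndexNeZero hne
  let φ := MulAction.toPermHom suzSetup.G (suzSetup.G ⧸ H)
  have hker : φ.ker = ⊥ := by
    rcases IsSimpleGroup.eq_bot_or_eq_top_of_normal φ.ker inferInstance with h | h
    · exact h
    · exfalso
      have hall : ∀ g : suzSetup.G, g • ((1 : suzSetup.G) : suzSetup.G ⧸ H) = ((1 : suzSetup.G) : suzSetup.G ⧸ H) := by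
        intro g
        have hg : φ g = 1 := MonoidHom.mem_ker.1 (h ▸ Subgroup.mem_top g)
        exact congrArg (fun π : Equiv.Perm _ => π ((1 : suzSetup.G) : suzSetup.G ⧸ H)) hg
      have : Subsingleton (suzSetup.G ⧸ H) := ⟨fun x y => by
        obtain ⟨g, rfl⟩ := exists_smul_eq suzSetup.G ((1 : suzSetup.G) : suzSetup.G ⧸ H) x
        obtain ⟨g', rfl⟩ := exists_smul_eq suzSetup.G ((1 : suzSetup.G) : suzSetup.G ⧸ H) y
        rw [hall, hall]⟩
      have := Finite.card_le_one_iff_subsingleton.2 this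
      rw [← Subgroup.index_eq_card, hidx] at this
      norm_num at this
  have hinj : Function.Injective φ := (MonoidHom.ker_eq_bot_iff φ).1 hker
  let G := φ.range
  let θ : suzSetup.G ≃* G := MonoidHom.ofInjective hinj
  have hθ : ∀ (g : suzSetup.G) (x : suzSetup.G ⧸ H), θ g • x = g • x := fun g x => rfl
  have : IsPretransitive G (suzSetup.G ⧸ H) := ⟨fun x y => by
    obtain ⟨g, hg⟩ := exists_smul_eq suzSetup.G x y
    exact ⟨θ g, (hθ g x).trans hg⟩⟩
  set o : suzSetup.G ⧸ H := ((1 : suzSetup.G) : suzSetup.G ⧸ H) with ho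
  have hmem : ∀ g : suzSetup.G, g ∈ H ↔ g • o = o := by
    intro g
    rw [ho]
    show g ∈ H ↔ ((g * 1 : suzSetup.G) : suzSetup.G ⧸ H) = _
    rw [mul_one, eq_comm, QuotientGroup.eq, inv_one, one_mul]
  have hmap : H.map θ.toMonoidHom = stabilizer G o := by
    ext x
    obtain ⟨g, rfl⟩ := θ.surjective x
    rw [Subgroup.mem_map_equiv, θ.symm_apply_apply, hmem, mem_stabilizer_iff, hθ]
  let κ₀ : stabilizer G o ≃* H :=
    (MulEquiv.subgroupCongr hmap).symm.trans (θ.subgroupMap H).symm
  let κ₁ : H ≃* GSix := (MulEquiv.subgroupCongr suzHom_range.symm).trans (MonoidHom.ofInjective suzHom_injective).symm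
  have horb : ∀ q : suzSetup.G ⧸ H, orbit (stabilizer G o) q = orbit H q := by
    intro q
    ext x
    constructor
    · rintro ⟨k, rfl⟩
      obtain ⟨g, hg⟩ := θ.surjective k.1
      refine ⟨⟨g, (hmem g).2 (by rw [← hθ, hg]; exact k.2)⟩, ?_⟩
      show g • q = k.1 • q
      rw [← hg, hθ]
    · rintro ⟨h, rfl⟩
      exact ⟨⟨θ h.1, by rw [mem_stabilizer_iff, hθ]; exact (hmem _).1 h.2⟩, hθ h.1 q⟩
  obtain ⟨S, hS, hcard, ⟨e⟩⟩ := exists_image (Ω := suzSetup.G ⧸ H)
    (by rw [← Nat.card_eq_fintype_card, ← Subgroup.index_eq_card, hidx]) G o (κ₀.trans κ₁) q₁ q₂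
    (by rw [horb]; exact h1) (by rw [horb]; exact h2)
  exact ⟨S, hS, hcard, ⟨θ.trans e⟩⟩

/-- Suz is the only such group. -/
theorem isoSuz_of_rank_three {Ω : Type*} [Fintype Ω] [DecidableEq Ω] (hΩ : Fintype.card Ω = 1782)
    (G : Subgroup (Equiv.Perm Ω)) [IsPretransitive G Ω] (a : Ω) (κ : stabilizer G a ≃* GSix) (b c : Ω)
    (hb : (orbit (stabilizer G a) b).ncard = 416) (hc : (orbit (stabilizer G a) c).ncard = 1365) :
    Cfsg.Spor.IsoSuz G := by
  classical
  obtain ⟨P, hP, hPcard, ⟨eP⟩⟩ := exists_image hΩ G a κ b c hb hc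
  obtain ⟨S, hS, hScard, ⟨eS⟩⟩ := exists_suz_image
  have hsimp : IsSimpleGroup S := by
    have h : IsSimpleGroup Cfsg.Spor.Suz := Cfsg.Agent.S1694.main.1
    exact eS.symm.isSimpleGroup
  -- the index of the intersection in `S` is at most two
  set D := P.subgroupOf S with hD
  have hprod : Nat.card S * Nat.card P ≤ Nat.card autV * Nat.card (P ⊓ S : Subgroup (Equiv.Perm Vtx)) := by
    have h1 := Subgroup.relIndex_mul_relIndex (P ⊓ S) S autV inf_le_right hS
    have h2 : P.relIndex S ≤ P.relIndex autV :=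
      Subgroup.relIndex_le_of_le_right hS (fun h => by
        have := Subgroup.index_ne_zero_of_finite (H := P.subgroupOf autV)
        exact this h)
    have c1 : (P ⊓ S).relIndex S * Nat.card (P ⊓ S : Subgroup (Equiv.Perm Vtx)) = Nat.card S := by
      have := Subgroup.relIndex_mul_relIndex ⊥ (P ⊓ S) S bot_le inf_le_right
      rw [Subgroup.relIndex_bot_left, Subgroup.relIndex_bot_left] at this
      rw [Nat.mul_comm]
      exact this
    have c2 : P.relIndex autV * Nat.card P = Nat.card autV := by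
      have := Subgroup.relIndex_mul_relIndex ⊥ P autV bot_le hP
      rw [Subgroup.relIndex_bot_left, Subgroup.relIndex_bot_left] at this
      rw [Nat.mul_comm]
      exact this
    rw [Subgroup.inf_relIndex_right] at c1
    calc Nat.card S * Nat.card P
        = P.relIndex S * Nat.card P * Nat.card (P ⊓ S : Subgroup (Equiv.Perm Vtx)) := by rw [← c1]; ring
      _ ≤ P.relIndex autV * Nat.card P * Nat.card (P ⊓ S : Subgroup (Equiv.Perm Vtx)) :=
          Nat.mul_le_mul_right _ (Nat.mul_le_mul_right _ h2)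
      _ = _ := by rw [c2]
  have hidx : D.index ≤ 2 := by
    have h1 : D.index * Nat.card (P ⊓ S : Subgroup (Equiv.Perm Vtx)) = 448345497600 := by
      rw [← hScard, ← D.index_mul_card]
      congr 1
      rw [hD, ← Subgroup.inf_subgroupOf_right, Nat.card_congr (Subgroup.subgroupOfEquivOfLe inf_le_right).toEquiv]
    rw [hScard, hPcard] at hprod
    have h3 := card_autV_le
    by_contra h
    push Not at h
    have h5 : 3 * Nat.card (P ⊓ S : Subgroup (Equiv.Perm Vtx)) ≤ 448345497600 :=
      h1 ▸ Nat.mul_le_mul_right _ h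
    have h6 : Nat.card autV * Nat.card (P ⊓ S : Subgroup (Equiv.Perm Vtx)) ≤
        1782 * 503193600 * Nat.card (P ⊓ S : Subgroup (Equiv.Perm Vtx)) := Nat.mul_le_mul_right _ h3
    omega
  have hone : D.index = 1 := by
    have h0 : D.index ≠ 0 := Subgroup.index_ne_zero_of_finite
    rcases (show D.index = 1 ∨ D.index = 2 by omega) with h | h
    · exact h
    · have := Subgroup.normal_of_index_eq_two h
      rcases IsSimpleGroup.eq_bot_or_eq_top_of_normal D this with e | e
      · rw [e, Subgroup.index_bot, hScard] at h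
        norm_num at h
      · rw [e, Subgroup.index_top] at h
        norm_num at h
  have hle : S ≤ P := Subgroup.subgroupOf_eq_top.1 (Subgroup.index_eq_one.1 hone)
  have heq : S = P := Subgroup.eq_of_le_of_card_ge hle (by rw [hPcard, hScard])
  exact ⟨eP.trans ((MulEquiv.subgroupCongr heq.symm).trans eS.symm)⟩

end Cfsg.Agent.SuzRankThree
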