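import Cfsg.Agent.Lib.SuzRankThree.Lines

/-!
# The graph on 1782 points

* `Vtx`, `adjV` : a point, 416 points, 1365 lines
* `autV`, `card_autV_le` : its automorphism group has order at most `1782 * 503193600`
-/

set_option autoImplicit false

namespace Cfsg.Agent.SuzRankThree

open MulAction Cfsg.Agent.JTwoInGTwo Cfsg.Agent.SuzGTwo
open scoped Pointwise

/-- The vertices. -/
abbrev Vtx : Type := Option (Pt ⊕ ↥lineSets)

/-- Adjacency. -/
def adjV : Vtx → Vtx → Prop
  | none, some (Sum.inl _) => True
  | some (Sum.inl _), none => True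
  | some (Sum.inl x), some (Sum.inl y) => y ∈ nset x
  | some (Sum.inl x), some (Sum.inr M) => x ∈ M.1
  | some (Sum.inr M), some (Sum.inl x) => x ∈ M.1
  | some (Sum.inr M), some (Sum.inr M') => (M.1 ∩ M'.1).card = 24
  | _, _ => False

theorem card_Vtx : Nat.card Vtx = 1782 := by
  rw [Finite.card_option, Nat.card_sum, Nat.card_fin, card_line_orbit, table_n]

/-- The automorphisms of the graph. -/
def autV : Subgroup (Equiv.Perm Vtx) where
  carrier := {π | ∀ u v, adjV (π u) (π v) ↔ adjV u v}
  one_mem' u v := Iff.rfl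
  mul_mem' {a b} ha hb u v := (ha (b u) (b v)).trans (hb u v)
  inv_mem' {a} ha u v := by
    have h := ha (a⁻¹ u) (a⁻¹ v)
    rw [show a (a⁻¹ u) = u from a.apply_symm_apply u, show a (a⁻¹ v) = v from a.apply_symm_apply v] at h
    exact h.symm

theorem adjV_none (v : Vtx) : adjV none v ↔ ∃ p, v = some (Sum.inl p) := by
  rcases v with _ | p | M
  · exact ⟨False.elim, fun ⟨p, h⟩ => by simp at h⟩
  · exact ⟨fun _ => ⟨p, rfl⟩, fun _ => trivial⟩
  · exact ⟨False.elim, fun ⟨p, h⟩ => by simp at h⟩

theorem card_stab_none : Nat.card (stabilizer autV (none : Vtx)) ≤ 503193600 := by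
  classical
  set S := stabilizer autV (none : Vtx) with hS
  have hmove : ∀ π : S, ∀ p : Pt, ∃ q : Pt, π.1.1 (some (Sum.inl p)) = some (Sum.inl q) := by
    intro π p
    have h := (π.1.2 none (some (Sum.inl p))).2 trivial
    rw [show π.1.1 none = none from π.2, adjV_none] at h
    exact h
  choose r hr using hmove
  have hinj : ∀ π, Function.Injective (r π) := fun π x y e => by
    have := π.1.1.injective (show π.1.1 (some (Sum.inl x)) = π.1.1 (some (Sum.inl y)) by rw [hr, hr, e])
    simpa using this
  let P : S → Equiv.Perm Pt := fun π =>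
    Equiv.ofBijective (r π) ⟨hinj π, Finite.surjective_of_injective (hinj π)⟩
  have hP : ∀ π, P π ∈ autNb := by
    intro π p
    ext q
    obtain ⟨q, rfl⟩ := (P π).surjective q
    rw [Finset.mem_image]
    have h := π.1.2 (some (Sum.inl p)) (some (Sum.inl q))
    rw [hr, hr] at h
    constructor
    · rintro ⟨s, hs, e⟩
      exact h.2 ((P π).injective e ▸ hs)
    · exact fun hq => ⟨q, h.1 hq, rfl⟩
  have hPinj : Function.Injective fun π => (⟨P π, hP π⟩ : autNb) := by
    intro π π' e
    have e' : ∀ p, r π p = r π' p := fun p => congrArg (fun f : autNb => f.1 p) e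
    refine Subtype.ext (Subtype.ext (Equiv.ext fun v => ?_))
    rcases v with _ | p | M
    · exact π.2.trans π'.2.symm
    · rw [hr, hr, e']
    · have key : ∀ τ : S, ∃ M', τ.1.1 (some (Sum.inr M)) = some (Sum.inr M') ∧
          ∀ p, r τ p ∈ M'.1 ↔ p ∈ M.1 := by
        intro τ
        rcases h : τ.1.1 (some (Sum.inr M)) with _ | q | M'
        · have := τ.1.1.injective (h.trans τ.2.symm)
          simp at this
        · have h2 := (τ.1.2 none (some (Sum.inr M))).1
          rw [show τ.1.1 none = none from τ.2, h] at h2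
          exact (h2 trivial).elim
        · refine ⟨M', rfl, fun p => ?_⟩
          have h2 := τ.1.2 (some (Sum.inl p)) (some (Sum.inr M))
          rw [hr, h] at h2
          exact h2
      obtain ⟨M₁, e1, h1⟩ := key π
      obtain ⟨M₂, e2, h2⟩ := key π'
      rw [e1, e2]
      congr 2
      refine Subtype.ext (Finset.ext fun q => ?_)
      obtain ⟨p, rfl⟩ := (P π).surjective q
      show r π p ∈ M₁.1 ↔ r π p ∈ M₂.1
      rw [h1, e' p, h2]
  exact (Nat.card_le_card_of_injective _ hPinj).trans card_autNb_le

theorem card_autV_le : Nat.card autV ≤ 1782 * 503193600 := by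
  rw [← Nat.card_congr (orbitProdStabilizerEquivGroup autV (none : Vtx)), Nat.card_prod, ← card_Vtx]
  exact Nat.mul_le_mul (Nat.card_le_card_of_injective _ Subtype.val_injective) card_stab_none

end Cfsg.Agent.SuzRankThree
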